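import Groth.Agent.DCohLib.PullKFlat
import Groth.Prelude.Def_FlatMod2
import Mathlib.RingTheory.Flat.CategoryTheory

/-!
# Tensoring an exact inverse image with a module flat over the base
-/

set_option autoImplicit false
set_option linter.style.haveILetI false
set_option linter.unusedSectionVars false

universe u

open CategoryTheory CategoryTheory.Limits AlgebraicGeometry MonoidalCategory

noncomputable section

namespace Groth.Agent.DCohMore

open Groth.Agent.DCohLib

variable {X S : Scheme.{u}} (f : X ⟶ S)

/-- If `G` is flat over `S` and a complex on `S` is exact in a degree then so is its inverse image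
tensored with `G`. -/
theorem exact_tensor_pullback (G : X.Modules) (hG : FlatMod.IsFlatOver f G) (T : ShortComplex S.Modules)
    (hT : T.Exact) : (T.map (Scheme.Modules.pullback f ⋙ (DCoh.tensorBi (X := X)).obj G)).Exact := by
  refine (exact_iff_stkF _).2 fun x => ?_
  letI := (f.stalkMap x).hom.toAlgebra
  let A := S.presheaf.stalk (f x)
  let B := X.presheaf.stalk x
  let Gx := (stkF x).obj G
  haveI : Module.Flat A ((resF' A B).obj Gx) := hG x
  haveI : PreservesColimitsOfSize.{0, 0} (stkF (f x)) := (stalkSkyAdj (f x)).leftAdjoint_preservesColimits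
  refine (ShortComplex.exact_map_iff_of_faithful _ (resF' A B)).1 ?_
  let e : (Scheme.Modules.pullback f ⋙ (DCoh.tensorBi (X := X)).obj G) ⋙ stkF x ⋙ resF' A B ≅
      stkF (f x) ⋙ tensorLeft ((resF' A B).obj Gx) :=
    NatIso.ofComponents
      (fun M => (resF' A B).mapIso (((stalkTensorNatIso x).app G).app ((Scheme.Modules.pullback f).obj M) ≪≫
          ((curriedTensor (ModuleCat.{u} B)).obj Gx).mapIso ((pullStalkNatIso f x).app M)) ≪≫
        cancelIso A B Gx ((stkF (f x)).obj M))
      fun {M N} φ => by
        have h1 := ((stalkTensorNatIso x).hom.app G).naturality ((Scheme.Modules.pullback f).map φ)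
        have h2 := (pullStalkNatIso f x).hom.naturality φ
        have h3 := cancelIso_natural_right A B Gx ((stkF (f x)).map φ)
        dsimp only [Functor.comp_map, Functor.mapIso_hom, Iso.trans_hom, Iso.app_hom] at h1 h2 ⊢
        refine (Category.assoc _ _ _).symm.trans ?_
        refine Eq.trans ?_ ((congrArg (_ ≫ ·) h3).trans (Category.assoc _ _ _).symm)
        refine Eq.trans (congrArg (· ≫ _) ?_) (Category.assoc _ _ _)
        refine ((resF' A B).map_comp _ _).symm.trans ((congrArg (resF' A B).map ?_).trans ((resF' A B).map_comp _ _))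
        refine (Category.assoc _ _ _).symm.trans ?_
        refine ((congrArg (· ≫ _) h1).trans (Category.assoc _ _ _)).trans ?_
        refine Eq.trans ?_ (Category.assoc _ _ _).symm
        refine congrArg (_ ≫ ·) ?_
        exact (((curriedTensor (ModuleCat.{u} B)).obj Gx).map_comp _ _).symm.trans
          ((congrArg ((curriedTensor (ModuleCat.{u} B)).obj Gx).map h2).trans
            (((curriedTensor (ModuleCat.{u} B)).obj Gx).map_comp _ _))
  refine (ShortComplex.exact_iff_of_iso (T.mapNatIso e)).2 ?_
  exact Module.Flat.lTensor_shortComplex_exact ((resF' A B).obj Gx) (T.map (stkF (f x))) ((exact_iff_stkF T).1 hT (f x))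

/-- The complex version. -/
theorem exactAt_tensor_pullback (G : X.Modules) (hG : FlatMod.IsFlatOver f G) (P : CochainComplex S.Modules ℤ)
    (i : ℤ) (h : P.ExactAt i) :
    ((((DCoh.tensorBi (X := X)).obj G).mapHomologicalComplex (ComplexShape.up ℤ)).obj
      (((Scheme.Modules.pullback f).mapHomologicalComplex (ComplexShape.up ℤ)).obj P)).ExactAt i := by
  rw [HomologicalComplex.exactAt_iff] at h ⊢
  exact exact_tensor_pullback f G hG (P.sc i) h

end Groth.Agent.DCohMore
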