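import Groth.Agent.DCohMore.ProjGen

/-!
# The projection formula for objects with quasi-coherent cohomology
-/

set_option autoImplicit false
set_option linter.style.haveILetI false
set_option linter.unusedSectionVars false

universe u

open CategoryTheory CategoryTheory.Limits AlgebraicGeometry
open CategoryTheory.Pretriangulated

attribute [local instance] HasDerivedCategory.standard

noncomputable section

namespace Groth.Agent.DCohMore

open Groth.Agent.DCohLib

variable {X Y : Scheme.{u}} (f : X ⟶ Y) [DCoh.HasRpush f] (I : CochainComplex X.Modules ℤ) (V : Y.Opens)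
  (hV : IsAffineOpen V)

/-- Modules over the ring of an affine open as modules on the open. -/
abbrev tilV : ModuleCat.{u} Γ(Y, V) ⥤ (V : Scheme.{u}).Modules :=
  tilde.functor Γ(Y, V) ⋙ Scheme.Modules.restrictFunctor hV.isoSpec.hom

instance additive_tilde_functor (R : CommRingCat.{u}) : (tilde.functor R).Additive :=
  ⟨fun {_ _ _ _} => tilde.map_add _ _⟩

instance preservesFiniteLimits_tilde_functor (R : CommRingCat.{u}) : PreservesFiniteLimits (tilde.functor R) :=
  TildeD.preservesFiniteLimits_tilde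

theorem preservesFiniteLimits_tilV : PreservesFiniteLimits (tilV V hV) :=
  haveI : PreservesFiniteLimits (tilde.functor Γ(Y, V)) := TildeD.preservesFiniteLimits_tilde
  comp_preservesFiniteLimits _ _

theorem preservesColimitsOfSize_restrictFunctor {U Z : Scheme.{u}} (j : U ⟶ Z) [IsOpenImmersion j] :
    PreservesColimitsOfSize.{u, u} (Scheme.Modules.restrictFunctor j) :=
  haveI : PreservesColimitsOfSize.{u, u} (Scheme.Modules.pullback j) :=
    (Scheme.Modules.pullbackPushforwardAdjunction j).leftAdjoint_preservesColimits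
  preservesColimits_of_natIso (Scheme.Modules.restrictFunctorIsoPullback j).symm

theorem preservesColimitsOfSize_tilV : PreservesColimitsOfSize.{u, u} (tilV V hV) :=
  haveI : PreservesColimitsOfSize.{u, u} (tilde.functor Γ(Y, V)) := tilde.adjunction.leftAdjoint_preservesColimits
  haveI := preservesColimitsOfSize_restrictFunctor hV.isoSpec.hom
  comp_preservesColimits _ _

theorem preservesFiniteColimits_tilV : PreservesFiniteColimits (tilV V hV) :=
  haveI := preservesColimitsOfSize_tilV V hV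
  haveI : PreservesColimitsOfSize.{0, 0} (tilV V hV) := preservesColimitsOfSize_shrink.{0, u, 0, u} _
  PreservesColimitsOfSize.preservesFiniteColimits _

/-- Complexes of modules over the ring as objects of the derived category of the open. -/
abbrev tilVQ : CochainComplex (ModuleCat.{u} Γ(Y, V)) ℤ ⥤ DCoh.D (V : Scheme.{u}) :=
  (tilV V hV).mapHomologicalComplex (ComplexShape.up ℤ) ⋙ DerivedCategory.Q

theorem inverts_tilVQ :
    (HomologicalComplex.quasiIso (ModuleCat.{u} Γ(Y, V)) (ComplexShape.up ℤ)).IsInvertedBy (tilVQ V hV) := by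
  haveI := preservesFiniteLimits_tilV V hV
  haveI := preservesFiniteColimits_tilV V hV
  intro A B α hα
  haveI : QuasiIso α := (HomologicalComplex.mem_quasiIso_iff _).1 hα
  exact inferInstanceAs (IsIso (DerivedCategory.Q.map
    (((tilV V hV).mapHomologicalComplex (ComplexShape.up ℤ)).map α)))

/-- The restriction of the tilde functor to standard derived categories. -/
def tilVStd (K : CochainComplex (ModuleCat.{u} Γ(Y, V)) ℤ) :
    (DCoh.restrictD hV.isoSpec.hom).obj ((DCoh.tildeD Γ(Y, V)).obj (DerivedCategory.Q.obj K)) ≅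
      (tilVQ V hV).obj K :=
  (DCoh.restrictD hV.isoSpec.hom).mapIso ((TildeLpull.tildeDFactors Γ(Y, V)).app K) ≪≫
    restrictDQ hV.isoSpec.hom _

theorem isQCohD_tilVQ (K : CochainComplex (ModuleCat.{u} Γ(Y, V)) ℤ) : DCoh.IsQCohD ((tilVQ V hV).obj K) :=
  TildeD.isQCohD_of_iso (tilVStd V hV K)
    (TildeD.isQCohD_restrict _ _ (TildeD.isQCohD_tildeD _ (DerivedCategory.Q.obj K)))

theorem exists_tilVQ_iso (W : DCoh.D (V : Scheme.{u})) (hW : DCoh.IsQCohD W) :
    ∃ K : CochainComplex (ModuleCat.{u} Γ(Y, V)) ℤ, Nonempty ((tilVQ V hV).obj K ≅ W) := by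
  let ψ := hV.isoSpec
  obtain ⟨M, ⟨e⟩⟩ := ((TildeD.main Γ(Y, V)).2.2 _).1 (TildeD.isQCohD_restrict ψ.inv W hW)
  refine ⟨DerivedCategory.Q.objPreimage M, ⟨(tilVStd V hV _).symm ≪≫ (DCoh.restrictD ψ.hom).mapIso
    ((DCoh.tildeD Γ(Y, V)).mapIso (DerivedCategory.Q.objObjPreimageIso M) ≪≫ e) ≪≫ ?_⟩⟩
  exact ((restrictDComp ψ.hom ψ.inv).app W).symm ≪≫ eqToIso (by simp [ψ]) ≪≫ (restrictDId (V : Scheme.{u})).app W

theorem nonempty_tilV_unit (n : ℤ) :
    Nonempty ((tilVQ V hV).obj
        (((HomologicalComplex.single (ModuleCat.{u} Γ(Y, V)) (ComplexShape.up ℤ) 0).obj (ModuleCat.of Γ(Y, V) Γ(Y, V)))⟦n⟧) ≅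
      DerivedCategory.Q.obj (shiftUnitCx (V : Scheme.{u}) (-n))) :=
  ⟨DerivedCategory.Q.mapIso
    (((tilV V hV).mapHomologicalComplex (ComplexShape.up ℤ)).mapIso
      (((CochainComplex.singleFunctors (ModuleCat.{u} Γ(Y, V))).shiftIso n (-n) 0 (by omega)).app _) ≪≫
    (HomologicalComplex.singleMapHomologicalComplex (tilV V hV) (ComplexShape.up ℤ) (-n)).app _ ≪≫
    (HomologicalComplex.single (V : Scheme.{u}).Modules (ComplexShape.up ℤ) (-n)).mapIso
      ((Scheme.Modules.restrictFunctor hV.isoSpec.hom).mapIso tildeSelf ≪≫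
        Scheme.Modules.restrictUnitIso hV.isoSpec.hom))⟩

/-- The projection map on the unit. -/
theorem isIso_tauV_unit [I.IsKInjective] (a : ℤ) : IsIso ((tauV f I V).app (shiftUnitCx (V : Scheme.{u}) a)) := by
  obtain ⟨J, φ, hJ, hφ⟩ := hres_modules X
    ((DCoh.tensorCx.obj I).obj ((pullCx f).obj ((extCx V).obj (shiftUnitCx (V : Scheme.{u}) a))))
  haveI := hJ
  haveI := hφ
  refine isIso_projTau_iff f I _ φ V (quasiIso_res_projPhi f V _
    (isKFlat_extCx V (isKFlat_of_strictlyPerfect (isStrictlyPerfect_shiftUnitCx a))) φ hφ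
    (shiftUnitCx (V : Scheme.{u}) a) (extUnit V _).hom inferInstance (isStrictlyPerfect_shiftUnitCx a) fun i => ?_)
  rcases eq_or_ne i a with rfl | hi
  · exact ⟨1, ⟨HomologicalComplex.singleObjXSelf (ComplexShape.up ℤ) i _ ≪≫
      { hom := Sigma.ι (fun _ : Fin 1 => Coh.structureModule (V : Scheme.{u})) 0
        inv := Limits.Sigma.desc fun _ => 𝟙 _
        hom_inv_id := by simp
        inv_hom_id := Sigma.hom_ext _ _ fun j => by
          obtain rfl : j = 0 := Subsingleton.elim _ _
          simp }⟩⟩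
  · exact ⟨0, ⟨(HomologicalComplex.isZero_single_obj_X _ _ _ _ hi).iso ((IsZero.iff_id_eq_zero _).2
      (Limits.Sigma.hom_ext _ _ fun j => j.elim0))⟩⟩

variable [QuasiCompact f] [QuasiSeparated f] [I.IsKInjective]

include hV in
theorem isIso_derKMap_qcoh (hI : DCoh.IsQCohD (DerivedCategory.Q.obj I)) [HasDerivedCategory.{u} (ModuleCat.{u} Γ(Y, V))]
    (K : CochainComplex (ModuleCat.{u} Γ(Y, V)) ℤ) :
    IsIso ((derKMap (invKFlat_srcV f I V) (invKFlat_tgtV f I V) (tauV f I V)).app ((tilVQ V hV).obj K)) := by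
  let τ := derKMap (invKFlat_srcV f I V) (invKFlat_tgtV f I V) (tauV f I V)
  let Θ : DerivedCategory (ModuleCat.{u} Γ(Y, V)) ⥤ DCoh.D (V : Scheme.{u}) :=
    Localization.lift (tilVQ V hV) (inverts_tilVQ V hV) DerivedCategory.Q
  let θ : DerivedCategory.Q ⋙ Θ ≅ tilVQ V hV := Localization.fac (tilVQ V hV) (inverts_tilVQ V hV) DerivedCategory.Q
  have hΘq : ∀ M, DCoh.IsQCohD (Θ.obj M) := fun M =>
    TildeD.isQCohD_of_iso ((θ.app _).symm ≪≫ Θ.mapIso (DerivedCategory.Q.objObjPreimageIso M))
      (isQCohD_tilVQ V hV _)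
  have hΘ : ExTri Θ := by
    haveI := preservesFiniteLimits_tilV V hV
    haveI := preservesFiniteColimits_tilV V hV
    refine exTri_of_split Θ fun S hS => exists_triangle_of_iso (θ.app S.X₁) (θ.app S.X₂) (θ.app S.X₃)
      (θ.hom.naturality S.f) (θ.hom.naturality S.g) ?_
    exact exists_triangle_of_shortExact
      (S := S.map ((tilV V hV).mapHomologicalComplex (ComplexShape.up ℤ)))
      (HomologicalComplex.shortExact_of_degreewise_shortExact _
      fun n => ((hS n).some.map (tilV V hV)).shortExact)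
  have hΘc : ∀ {κ : Type u} (M : κ → DerivedCategory (ModuleCat.{u} Γ(Y, V))),
      PreservesColimit (Discrete.functor M) Θ := by
    intro κ M
    let F := fun k => DerivedCategory.Q.objPreimage (M k)
    let eM := fun k => (DerivedCategory.Q.objObjPreimageIso (M k)).symm
    obtain ⟨hQ⟩ := nonempty_isColimit_Q_gen M (c₀ := Cofan.mk (∐ F) (Sigma.ι F)) (coproductIsCoproduct F) eM
    haveI := preservesColimitsOfSize_tilV V hV
    haveI := preservesCoproduct_mapCx (κ := κ) (tilV V hV)
    obtain ⟨hV'⟩ := nonempty_isColimit_comp_Q ((tilV V hV).mapHomologicalComplex (ComplexShape.up ℤ)) F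
    let e := fun k => Θ.mapIso (eM k) ≪≫ θ.app (F k)
    refine preservesColimit_of_preserves_colimit_cocone hQ
      ((isColimitMapCoconeCofanMkEquiv Θ _ _).symm (IsColimit.ofIsoColimit
        ((IsColimit.precomposeHomEquiv (Discrete.natIso fun ⟨k⟩ => e k) _).symm hV') ?_))
    refine Cofan.ext (θ.app (∐ F)).symm fun k => ?_
    show ((e k).hom ≫ (tilVQ V hV).map (Sigma.ι F k)) ≫ (θ.app (∐ F)).inv =
      Θ.map ((eM k).hom ≫ DerivedCategory.Q.map (Sigma.ι F k))
    refine (Iso.comp_inv_eq (θ.app (∐ F))).2 ?_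
    rw [Functor.map_comp, Category.assoc]
    refine Eq.trans ?_ (congrArg (_ ≫ ·) (θ.hom.naturality (Sigma.ι F k))).symm
    exact Category.assoc _ _ _
  let τ' := Functor.whiskerLeft Θ τ
  have invar : ∀ {M N : DerivedCategory (ModuleCat.{u} Γ(Y, V))}, (M ≅ N) → IsIso (τ'.app M) → IsIso (τ'.app N) :=
    fun e h => (NatTrans.isIso_app_iff_of_iso τ' e).1 h
  let P : DerivedCategory (ModuleCat.{u} Γ(Y, V)) → Prop := fun M => ∀ n : ℤ, IsIso (τ'.app (M⟦n⟧))
  have hP : ∀ M, P M := by
    refine derived_module_induction _ P (fun e h n => invar ((shiftFunctor _ n).mapIso e) (h n)) ?_ ?_ ?_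
    · intro m n
      let R₀ := (HomologicalComplex.single (ModuleCat.{u} Γ(Y, V)) (ComplexShape.up ℤ) 0).obj
        (ModuleCat.of Γ(Y, V) Γ(Y, V))
      let e : DerivedCategory.Q.obj (R₀⟦m + n⟧) ≅ ((BrownRep.ringObj Γ(Y, V))⟦m⟧)⟦n⟧ :=
        ((DerivedCategory.Q).commShiftIso (m + n)).app R₀ ≪≫
          (shiftFunctor _ (m + n)).mapIso ((DerivedCategory.quotientCompQhIso _).symm.app R₀) ≪≫
          (shiftFunctorAdd _ m n).app _
      refine invar e ?_
      show IsIso (τ.app (Θ.obj (DerivedCategory.Q.obj (R₀⟦m + n⟧))))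
      obtain ⟨e'⟩ := nonempty_tilV_unit V hV (m + n)
      refine (NatTrans.isIso_app_iff_of_iso τ (θ.app _ ≪≫ e').symm).1 ?_
      exact (isIso_derKMap_iff _ _ _ _ (isKFlat_of_strictlyPerfect (isStrictlyPerfect_shiftUnitCx _))).2
        (isIso_tauV_unit f I V _)
    · intro κ M _ hM n
      haveI := BrownRep.hasCoproducts_derivedCategory (A := ModuleCat.{u} Γ(Y, V))
      let M' := fun k => (M k)⟦n⟧
      refine invar (PreservesCoproduct.iso (shiftFunctor _ n) M).symm ?_
      haveI := hΘc M'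
      haveI := hasCoproduct_D' fun k => Θ.obj (M' k)
      haveI := preservesCoproduct_srcV f I V fun k => Θ.obj (M' k)
      haveI := preservesCoproduct_tgtV f I V hV hI (fun k => Θ.obj (M' k)) fun k => hΘq _
      haveI : ∀ k, IsIso (τ.app (Θ.obj (M' k))) := fun k => hM k n
      show IsIso (τ.app (Θ.obj (∐ M')))
      refine (NatTrans.isIso_app_iff_of_iso τ (PreservesCoproduct.iso Θ M').symm).1 ?_
      haveI : HasCoproductsOfShape κ (DCoh.D (V : Scheme.{u})) := ⟨fun F =>
        haveI := hasCoproduct_D' (F.obj ∘ Discrete.mk)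
        hasColimit_of_iso (F := Discrete.functor (F.obj ∘ Discrete.mk)) Discrete.natIsoFunctor⟩
      let G₁ := derK (invKFlat_srcV f I V)
      let G₂ := derK (invKFlat_tgtV f I V)
      let W := fun k => Θ.obj (M' k)
      haveI := hasCoproduct_D' fun k => G₁.obj (W k)
      haveI := hasCoproduct_D' fun k => G₂.obj (W k)
      have e : (PreservesCoproduct.iso G₁ W).inv ≫ τ.app (∐ W) =
          (Limits.Sigma.mapIso fun k => asIso (τ.app (W k))).hom ≫ (PreservesCoproduct.iso G₂ W).inv := by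
        rw [PreservesCoproduct.inv_hom, PreservesCoproduct.inv_hom]
        refine Sigma.hom_ext _ _ fun k => ?_
        rw [ι_comp_sigmaComparison_assoc, Limits.Sigma.ι_mapIso_hom_assoc, ι_comp_sigmaComparison]
        exact τ.naturality _
      haveI : IsIso ((PreservesCoproduct.iso G₁ W).inv ≫ τ.app (∐ W)) := by rw [e]; infer_instance
      exact IsIso.of_isIso_comp_left (PreservesCoproduct.iso G₁ W).inv _
    · intro T hT h₁ h₂ n
      let S := (shiftFunctor (Triangle _) n).obj T
      have hS : S ∈ distTriang _ := Triangle.shift_distinguished _ hT n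
      refine isIso_app₃ (hΘ.comp (exTri_srcV f I V)) (hΘ.comp (exTri_tgtV f I V)) τ' S hS (h₁ n) (h₂ n) ?_ ?_
      · exact invar ((shiftFunctorAdd' _ n 1 (n + 1) rfl).app T.obj₁) (h₁ (n + 1))
      · exact invar ((shiftFunctorAdd' _ n 1 (n + 1) rfl).app T.obj₂) (h₂ (n + 1))
  refine (NatTrans.isIso_app_iff_of_iso τ (θ.app K)).1 ?_
  exact invar ((shiftFunctorZero _ ℤ).app (DerivedCategory.Q.obj K)) (hP _ 0)

include hV in
/-- The projection map is an isomorphism over an affine open. -/
theorem isIso_restrict_projTau (hI : DCoh.IsQCohD (DerivedCategory.Q.obj I)) (P : CochainComplex Y.Modules ℤ)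
    (hP : DCoh.IsKFlat P) (hPq : DCoh.IsQCohD (DerivedCategory.Q.obj P)) :
    IsIso ((DCoh.restrictD V.ι).map ((projTau f I).app P)) := by
  let E₀ := (resX (V : Scheme.{u})).obj ((resCx V.ι).obj P)
  let β := (resXπ (V : Scheme.{u})).app ((resCx V.ι).obj P)
  have hE₀ : DCoh.IsKFlat E₀ := isKFlat_resX _
  let β' := extAdjunct V β
  have hβ' := quasiIso_res_extAdjunct V β (quasiIso_resXπ _)
  haveI := isIso_restrict_src_map f I V β' (isKFlat_extCx V hE₀) hP hβ'
  haveI := isIso_restrict_tgt_map f I V β' (isKFlat_extCx V hE₀) hP hβ'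
  have hW : DCoh.IsQCohD (DerivedCategory.Q.obj E₀) :=
    TildeD.isQCohD_of_iso (restrictDQ V.ι P ≪≫
      (@asIso _ _ _ _ _ (isIso_Q_resXπ ((resCx V.ι).obj P))).symm) (TildeD.isQCohD_restrict _ _ hPq)
  obtain ⟨K, ⟨e⟩⟩ := exists_tilVQ_iso V hV _ hW
  letI := BrownRep.smallDerivedCategory (ModuleCat.{u} Γ(Y, V))
  have h : IsIso ((tauV f I V).app E₀) := (isIso_derKMap_iff _ _ _ E₀ hE₀).1
    ((NatTrans.isIso_app_iff_of_iso _ e).1 (isIso_derKMap_qcoh f I V hV hI K))
  haveI : IsIso ((DCoh.restrictD V.ι).map ((projTau f I).app ((extCx V).obj E₀))) := h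
  have n := congrArg (DCoh.restrictD V.ι).map ((projTau f I).naturality β')
  rw [Functor.map_comp, Functor.map_comp] at n
  exact IsIso.of_isIso_fac_left n

omit V hV in
/-- The projection map is an isomorphism on objects with quasi-coherent cohomology. -/
theorem isIso_projTau (hI : DCoh.IsQCohD (DerivedCategory.Q.obj I)) (P : CochainComplex Y.Modules ℤ)
    (hP : DCoh.IsKFlat P) (hPq : DCoh.IsQCohD (DerivedCategory.Q.obj P)) : IsIso ((projTau f I).app P) := by
  refine isIso_of_restrictD _ fun y => ?_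
  obtain ⟨_, ⟨V : Y.Opens, hV, rfl⟩, hy, -⟩ :=
    Y.isBasis_affineOpens.exists_subset_of_mem_open (a := y) (Set.mem_univ y) isOpen_univ
  exact ⟨V, hy, isIso_restrict_projTau f I V hV hI P hP hPq⟩

end Groth.Agent.DCohMore
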