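import Groth.Agent.DCohMore.PerfHom
import Groth.Agent.DCohLib.ProjFlf
import Groth.Agent.DCohLib.SPerf
import Groth.Agent.SpSeqLib.Acyclic
import Groth.Agent.S0028

/-!
# Acyclic quasi-coherent complexes compute derived direct images
-/

set_option autoImplicit false
set_option linter.style.haveILetI false
set_option linter.unusedSectionVars false
set_option maxHeartbeats 1000000

universe u

open CategoryTheory CategoryTheory.Limits AlgebraicGeometry TopologicalSpace
open CategoryTheory.Pretriangulated

attribute [local instance] HasDerivedCategory.standard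

noncomputable section

namespace Groth.Agent.DCohMore

open Groth.Agent.DCohLib Groth.Agent.SiteCmpLib

variable {X S : Scheme.{u}} (f : X ⟶ S)

theorem isIso_rpushUnit_app_bdd [DCoh.HasRpush f] (G : CochainComplex X.Modules ℤ) (a : ℤ)
    [G.IsStrictlyGE a] (hac : ∀ n, SpSeqLib.IsAcyclicFor (Scheme.Modules.pushforward f) (G.X n)) :
    IsIso ((rpushUnit f).app ((quotM X).obj G)) := by
  obtain ⟨J, i, hi, hJ, hJa⟩ := CochainComplex.Plus.modelCategoryQuillen.exists_quasiIso_injective G a
  haveI := hi
  haveI := hJa
  haveI : ∀ n, Injective (J.X n) := hJ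
  haveI := CochainComplex.isKInjective_of_injective J a
  haveI h1 : QuasiIso (((Scheme.Modules.pushforward f).mapHomologicalComplex (ComplexShape.up ℤ)).map i) :=
    SpSeqLib.quasiIso_map _ i a hac fun n => SpSeqLib.isAcyclicFor_of_injective _ _
  have h2 : IsIso ((DCoh.pushKh f).map ((quotM X).map i)) := by
    show IsIso (DerivedCategory.Qh.map (((Scheme.Modules.pushforward f).mapHomotopyCategory _).map ((quotM X).map i)))
    rw [DerivedCategory.isIso_Qh_map_iff]
    exact (HomotopyCategory.quotient_map_mem_quasiIso_iff (((Scheme.Modules.pushforward f).mapHomologicalComplex _).map i)).2 h1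
  have h3 := isIso_rpushUnit_app f J
  have h4 : IsIso ((DerivedCategory.Qh ⋙ DCoh.Rpush f).map ((quotM X).map i)) := by
    haveI : IsIso (DerivedCategory.Qh.map ((quotM X).map i)) := by
      rw [DerivedCategory.isIso_Qh_map_iff]
      exact (HomotopyCategory.quotient_map_mem_quasiIso_iff i).2 hi
    exact @Functor.map_isIso _ _ _ _ _ _ (DCoh.Rpush f) _ ‹_›
  have nat := (rpushUnit f).naturality ((quotM X).map i)
  haveI : IsIso ((rpushUnit f).app ((quotM X).obj G) ≫ (DerivedCategory.Qh ⋙ DCoh.Rpush f).map ((quotM X).map i)) := by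
    rw [← nat]
    exact @IsIso.comp_isIso _ _ _ _ _ _ _ h2 h3
  exact @IsIso.of_isIso_comp_right _ _ _ _ _ _ _ h4 this

theorem isIso_rpushUnit_app_acyclic [QuasiCompact f] [QuasiSeparated f] [DCoh.HasRpush f]
    (F : CochainComplex X.Modules ℤ) (hq : ∀ n, Coh.IsQCoh (F.X n))
    (hac : ∀ n, SpSeqLib.IsAcyclicFor (Scheme.Modules.pushforward f) (F.X n)) :
    IsIso ((rpushUnit f).app ((quotM X).obj F)) := by
  rw [DerivedCategory.isIso_iff]
  intro j
  refine DCohLib.isIso_of_local _ fun y => ?_
  obtain ⟨_, ⟨V : S.Opens, hV, rfl⟩, hy, -⟩ :=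
    S.isBasis_affineOpens.exists_subset_of_mem_open (a := y) (Set.mem_univ y) isOpen_univ
  haveI : IsAffine (V : Scheme.{u}) := hV
  haveI : DCoh.HasRpush (f ∣_ V) := Groth.Agent.KInj.hasRightDerivedFunctor (hres_modules _) _
  obtain ⟨N, hN⟩ := exists_isLE_rpush_qcoh (f ∣_ V)
  obtain ⟨eV⟩ := Groth.Agent.S6508.result f V
  refine ⟨V, V.ι, inferInstance, ⟨y, hy⟩, rfl, ?_⟩
  haveI : HasInjectiveResolutions X.Modules := inferInstance
  let m : ℤ := j - N - 3
  let G := brutalGE F m
  let ι : G ⟶ F := brutalGEι F m
  haveI : G.IsStrictlyGE m := (CochainComplex.isStrictlyGE_iff _ _).2 fun i hi => isZero_brutalGE_X F m i hi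
  have hGac : ∀ n, SpSeqLib.IsAcyclicFor (Scheme.Modules.pushforward f) (G.X n) := fun n p => by
    rcases lt_or_ge n m with hn | hn
    · haveI : Injective (G.X n) := ⟨fun g h _ => ⟨0, (isZero_brutalGE_X F m n hn).eq_of_tgt _ _⟩⟩
      exact SpSeqLib.isAcyclicFor_of_injective _ _ p
    · haveI := isIso_brutalGEι_f F m n hn
      exact (hac n p).of_iso (((Scheme.Modules.pushforward f).rightDerived (p + 1)).mapIso (asIso (ι.f n)))
  have hGq : ∀ n, Coh.IsQCoh (G.X n) := fun n => by
    rcases lt_or_ge n m with hn | hn
    · exact (PullbackMod.isQCoh_and_isFP_of_isFinLocFree _ (isFinLocFree_of_isZero (isZero_brutalGE_X F m n hn))).1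
    · haveI := isIso_brutalGEι_f F m n hn
      exact isQCoh_of_iso' (asIso (ι.f n)).symm (hq n)
  haveI hu := isIso_rpushUnit_app_bdd f G m hGac
  let H := DerivedCategory.homologyFunctor S.Modules j
  let R := Scheme.Modules.restrictFunctor V.ι
  -- the map induced on direct images
  have h1 : IsIso (R.map (H.map ((DCoh.pushKh f).map ((quotM X).map ι)))) := by
    have hz : IsIso (HomologicalComplex.homologyMap
        (((Scheme.Modules.pushforward f).mapHomologicalComplex (ComplexShape.up ℤ)).map ι) j) := by
      have hall : ∀ i, m ≤ i → IsIso ((((Scheme.Modules.pushforward f).mapHomologicalComplex (ComplexShape.up ℤ)).map ι).f i) :=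
        fun i hi => by
          haveI := isIso_brutalGEι_f F m i hi
          exact inferInstanceAs (IsIso ((Scheme.Modules.pushforward f).map (ι.f i)))
      rw [← quasiIsoAt_iff_isIso_homologyMap, quasiIsoAt_iff' _ (j - 1) j (j + 1) (by simp) (by simp)]
      let φ := (HomologicalComplex.shortComplexFunctor' S.Modules (ComplexShape.up ℤ) (j - 1) j (j + 1)).map
        (((Scheme.Modules.pushforward f).mapHomologicalComplex (ComplexShape.up ℤ)).map ι)
      haveI : IsIso φ.τ₁ := hall (j - 1) (by omega)
      haveI : IsIso φ.τ₂ := hall j (by omega)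
      haveI : IsIso φ.τ₃ := hall (j + 1) (by omega)
      exact ShortComplex.quasiIso_of_epi_of_isIso_of_mono φ
    haveI : IsIso (H.map (DerivedCategory.Q.map
        (((Scheme.Modules.pushforward f).mapHomologicalComplex (ComplexShape.up ℤ)).map ι))) :=
      (map_homologyFunctor_Q _ j).1.2 hz
    haveI : IsIso (H.map ((DCoh.pushKh f).map ((quotM X).map ι))) := by
      have e : Arrow.mk ((DCoh.pushKh f).map ((quotM X).map ι)) ≅ Arrow.mk (DerivedCategory.Q.map
          (((Scheme.Modules.pushforward f).mapHomologicalComplex (ComplexShape.up ℤ)).map ι)) :=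
        (Functor.mapArrowFunctor _ _ ).mapIso
          (NatIso.ofComponents (F := quotM X ⋙ DCoh.pushKh f)
            (G := (Scheme.Modules.pushforward f).mapHomologicalComplex (ComplexShape.up ℤ) ⋙ DerivedCategory.Q)
            (fun K => DerivedCategory.Qh.mapIso (((Scheme.Modules.pushforward f).mapHomotopyCategoryFactors _).app K) ≪≫
              (DerivedCategory.quotientCompQhIso S.Modules).app _)
            (fun {K L} g => by
              have n1 := ((Scheme.Modules.pushforward f).mapHomotopyCategoryFactors (ComplexShape.up ℤ)).hom.naturality g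
              have n1' := congrArg DerivedCategory.Qh.map n1
              have n2 := (DerivedCategory.quotientCompQhIso S.Modules).hom.naturality
                (((Scheme.Modules.pushforward f).mapHomologicalComplex (ComplexShape.up ℤ)).map g)
              simp only [Functor.map_comp] at n1'
              dsimp only [Functor.comp_map] at n1' n2 ⊢
              simp only [Iso.trans_hom, Functor.mapIso_hom, Iso.app_hom]
              rw [reassoc_of% n1', n2, Category.assoc])) |>.app (Arrow.mk ι)
      exact ((MorphismProperty.isomorphisms _).arrow_mk_iso_iff (H.mapArrow.mapIso e)).2 ‹_›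
    infer_instance
  -- the map induced on derived direct images
  have h2 : IsIso (R.map (H.map ((DerivedCategory.Qh ⋙ DCoh.Rpush f).map ((quotM X).map ι)))) := by
    let a := DerivedCategory.Qh.map ((quotM X).map ι)
    obtain ⟨C, b, c, hT⟩ := distinguished_cocone_triangle a
    have hG' : DCoh.IsQCohD (DerivedCategory.Qh.obj ((quotM X).obj G)) := fun i =>
      isQCoh_of_iso' ((DerivedCategory.homologyFunctor X.Modules i).mapIso
          ((DerivedCategory.quotientCompQhIso X.Modules).app G) ≪≫
        (DerivedCategory.homologyFunctorFactors X.Modules i).app G).symm (isQCoh_homology_of_terms hGq i)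
    have hF' : DCoh.IsQCohD (DerivedCategory.Qh.obj ((quotM X).obj F)) := fun i =>
      isQCoh_of_iso' ((DerivedCategory.homologyFunctor X.Modules i).mapIso
          ((DerivedCategory.quotientCompQhIso X.Modules).app F) ≪≫
        (DerivedCategory.homologyFunctorFactors X.Modules i).app F).symm (isQCoh_homology_of_terms hq i)
    have hC : DCoh.IsQCohD C := isQCohD_obj₂ _ (rot_of_distTriang _ hT) hF'
      (fun i => isQCoh_of_iso' (((DerivedCategory.homologyFunctor X.Modules 0).shiftIso 1 i (1 + i) rfl).app _).symm
        (hG' (1 + i)))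
    have hiso : ∀ i, m < i → IsIso ((DerivedCategory.homologyFunctor X.Modules i).map a) := fun i hi => by
      have hQ := (map_homologyFunctor_Q ι i).1.2 (isIso_homologyMap_brutalGEι F m i hi)
      let e : Arrow.mk a ≅ Arrow.mk (DerivedCategory.Q.map ι) :=
        Arrow.isoMk ((DerivedCategory.quotientCompQhIso X.Modules).app G)
          ((DerivedCategory.quotientCompQhIso X.Modules).app F)
          ((DerivedCategory.quotientCompQhIso X.Modules).hom.naturality ι).symm
      exact ((MorphismProperty.isomorphisms X.Modules).arrow_mk_iso_iff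
        ((DerivedCategory.homologyFunctor X.Modules i).mapArrow.mapIso e)).2 hQ
    have hCle : C.IsLE m := (DerivedCategory.isLE_iff _ _).2 fun i hi => by
      haveI := hiso i hi
      haveI := hiso (i + 1) (by omega)
      have hb : (DerivedCategory.homologyFunctor X.Modules i).map b = 0 := by
        rw [← cancel_epi ((DerivedCategory.homologyFunctor X.Modules i).map a), comp_zero, ← Functor.map_comp,
          show a ≫ b = 0 from comp_distTriang_mor_zero₁₂ _ hT, Functor.map_zero]
      have hd : DerivedCategory.HomologySequence.δ (Triangle.mk a b c) i (i + 1) rfl ≫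
          (DerivedCategory.homologyFunctor X.Modules (i + 1)).map a = 0 :=
        DerivedCategory.HomologySequence.δ_comp _ hT i (i + 1) rfl
      have hd0 : DerivedCategory.HomologySequence.δ (Triangle.mk a b c) i (i + 1) rfl = 0 :=
        (cancel_mono ((DerivedCategory.homologyFunctor X.Modules (i + 1)).map a)).1 (hd.trans zero_comp.symm)
      exact (DerivedCategory.HomologySequence.exact₃ _ hT i (i + 1) rfl).isZero_of_both_zeros hb hd0
    have hle : ((DCoh.Rpush (f ∣_ V)).obj ((DCoh.restrictD (f ⁻¹ᵁ V).ι).obj C)).IsLE (m + N) :=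
      hN _ m (TildeD.isQCohD_restrict _ _ hC) ((DerivedCategory.isLE_iff _ _).2 fun i hi =>
        ((Scheme.Modules.restrictFunctor (f ⁻¹ᵁ V).ι).map_isZero ((DerivedCategory.isLE_iff C m).1 hCle i hi)).of_iso
          (restrictHDIso (f ⁻¹ᵁ V).ι C i))
    have hz : ∀ i, m + N < i → IsZero (R.obj ((DerivedCategory.homologyFunctor S.Modules i).obj ((DCoh.Rpush f).obj C))) :=
      fun i hi => ((DerivedCategory.isLE_iff _ _).1 hle i hi).of_iso
        ((restrictHDIso V.ι _ i).symm ≪≫ (DerivedCategory.homologyFunctor _ i).mapIso (eV.app C))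
    obtain ⟨c', hT'⟩ := exists_rpush_triangle f a b c hT
    have e1 := (DerivedCategory.HomologySequence.exact₁ _ hT' (j - 1) j (by omega)).map (Scheme.Modules.restrictFunctor V.ι)
    have e2 := (DerivedCategory.HomologySequence.exact₂ _ hT' j).map (Scheme.Modules.restrictFunctor V.ι)
    haveI : Mono (R.map (H.map ((DCoh.Rpush f).map a))) := e1.mono_g ((hz (j - 1) (by omega)).eq_of_src _ _)
    haveI : Epi (R.map (H.map ((DCoh.Rpush f).map a))) := e2.epi_f ((hz j (by omega)).eq_of_tgt _ _)
    exact isIso_of_mono_of_epi (R.map (H.map ((DCoh.Rpush f).map a)))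
  have nat := congrArg (fun k => R.map (H.map k)) ((rpushUnit f).naturality ((quotM X).map ι))
  simp only [Functor.map_comp] at nat
  haveI h3 : IsIso (R.map (H.map ((DCoh.pushKh f).map ((quotM X).map ι))) ≫ R.map (H.map ((rpushUnit f).app ((quotM X).obj F)))) := by
    rw [nat]
    infer_instance
  exact @IsIso.of_isIso_comp_left _ _ _ _ _ _ _ h1 h3

theorem isAcyclicFor_affine [IsAffineHom f] (M : X.Modules) [Coh.IsQCoh M] :
    SpSeqLib.IsAcyclicFor (Scheme.Modules.pushforward f) M := fun p => by
  haveI : HasInjectiveResolutions X.Modules := inferInstance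
  haveI : (QCohLib.toAbF S).Faithful := inferInstanceAs (SheafOfModules.toSheaf.{u} S.ringCatSheaf).Faithful
  have h := (Groth.Agent.S0028.result f M (p + 1) (by omega)).of_iso ((RpushLib.toAbRpushIso f (p + 1)).app M)
  rw [IsZero.iff_id_eq_zero]
  exact (QCohLib.toAbF S).map_injective (h.eq_of_src _ _)

end Groth.Agent.DCohMore
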