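import Groth.Agent.DCohMore.RpushBdd
import Groth.Agent.DCohLib.CompactB
import Groth.Agent.DCohLib.LpullTensor
import Groth.Agent.DCohLib.ProjMap
import Groth.Agent.DCohLib.Adjoint
import Groth.Agent.TildeD.Main

/-!
# Maps out of perfect objects into objects with quasi-coherent cohomology
-/

set_option autoImplicit false
set_option linter.style.haveILetI false
set_option linter.unusedSectionVars false
set_option maxHeartbeats 1000000

universe u

open CategoryTheory CategoryTheory.Limits AlgebraicGeometry TopologicalSpace Opposite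

attribute [local instance] HasDerivedCategory.standard

noncomputable section

namespace Groth.Agent.DCohMore

open Groth.Agent.DCohLib

variable {X Y : Scheme.{u}}

/-- An object which is `≤ c` has derived direct image `≤ c + N`. -/
theorem exists_isLE_rpush_qcoh (f : X ⟶ Y) [QuasiCompact f] [QuasiSeparated f] [CompactSpace Y]
    [DCoh.HasRpush f] : ∃ N : ℕ, ∀ (Z : DCoh.D X) (c : ℤ), DCoh.IsQCohD Z → Z.IsLE c →
      ((DCoh.Rpush f).obj Z).IsLE (c + N) := by
  haveI : EnoughInjectives X.Modules := inferInstance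
  haveI : HasInjectiveResolutions X.Modules := inferInstance
  haveI : HasInjectiveResolutions (ModSite.Mod X.sheaf) := ‹HasInjectiveResolutions X.Modules›
  haveI : SiteCmp.HasRpushD (ModSite.RMor.ofScheme f) := ‹DCoh.HasRpush f›
  let g := ModSite.RMor.ofScheme f
  obtain ⟨_, _⟩ := SiteCmpLib.exists_triangulated_rpushD g
  obtain ⟨N₀, hN₀⟩ := exists_bound_rpush f
  refine ⟨N₀, fun Z c hZ hc => (DerivedCategory.isLE_iff _ _).2 fun j hj => ?_⟩
  -- move `c` far to the left
  let k : ℤ := c + 1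
  let Z' := Z⟦k⟧
  have hZ' : DCoh.IsQCohD Z' := fun i =>
    isQCoh_of_iso' (((DerivedCategory.homologyFunctor X.Modules 0).shiftIso k i (k + i) rfl).app Z).symm (hZ (k + i))
  have hc' : ∀ i, -1 < i → IsZero ((DerivedCategory.homologyFunctor X.Modules i).obj Z') := fun i hi =>
    ((DerivedCategory.isLE_iff Z c).1 hc (k + i) (by omega)).of_iso
      (((DerivedCategory.homologyFunctor X.Modules 0).shiftIso k i (k + i) rfl).app Z)
  obtain ⟨-, hst⟩ := SiteCmpLib.cohIn_and_isIso_truncGEπ g (qcP X) X.affineOpens Y.affineOpens (affine_hB X)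
    (affine_hA X) (affine_hB Y) (N₀ : ℤ) (fun F hF p hp => hN₀ F hF p (by omega)) Z' hZ' (qcP Y)
    (fun F hF p => by
      haveI : Coh.IsQCoh (X := X) F := hF
      exact RpushLib.isQCoh_rpush f p) (affine_hA Y)
  have hiso := hst 0 (j - k) (by omega)
  let t : CategoryTheory.Triangulated.TStructure (DCoh.D X) := DerivedCategory.TStructure.t
  have hL : IsZero ((t.truncGE (-((0 : ℕ) : ℤ))).obj Z') := isZero_of_isZero_HD fun i => by
    rcases lt_or_ge i 0 with h | h
    · haveI : ((t.truncGE (-((0 : ℕ) : ℤ))).obj Z').IsGE 0 :=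
        inferInstanceAs (t.IsGE ((t.truncGE (-((0 : ℕ) : ℤ))).obj Z') (-((0 : ℕ) : ℤ)))
      exact DerivedCategory.isZero_of_isGE _ 0 i h
    · haveI := DCohLib.isIso_homology_truncGEπ Z' (-((0 : ℕ) : ℤ)) i (by omega)
      exact (hc' i (by omega)).of_iso
        (asIso ((DerivedCategory.homologyFunctor X.Modules i).map ((t.truncGEπ (-((0 : ℕ) : ℤ))).app Z'))).symm
  have hz : IsZero ((DerivedCategory.homologyFunctor Y.Modules (j - k)).obj ((SiteCmp.RpushD g).obj Z')) :=
    ((DerivedCategory.homologyFunctor Y.Modules (j - k)).map_isZero ((SiteCmp.RpushD g).map_isZero hL)).of_iso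
      (@asIso _ _ _ _ _ hiso)
  exact hz.of_iso ((((DerivedCategory.homologyFunctor Y.Modules 0).shiftIso k (j - k) j (by omega)).app _).symm ≪≫
    (DerivedCategory.homologyFunctor Y.Modules (j - k)).mapIso (((SiteCmp.RpushD g).commShiftIso k).app Z).symm)

/-- On an affine scheme the structure sheaf has no maps to objects in negative degrees. -/
theorem eq_zero_of_isLE_affine [IsAffine Y] (W : DCoh.D Y) (hW : DCoh.IsQCohD W) (hle : W.IsLE (-1))
    (f : RlimCrit.sgl 0 (Coh.structureModule Y) ⟶ W) : f = 0 := by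
  haveI : HasExt.{u} Y.Modules := inferInstance
  haveI := TildeD.hasProductsOfShape_derived (hres_modules Y) ℕ
  haveI hp : HasProduct (CohCx.truncTower W) := inferInstance
  have hb := RlimCrit.cl_bijective.{u} (Coh.structureModule Y) 0 W (Groth.Agent.S1007.result Y W hW)
    fun i k hk => by
      obtain ⟨k, rfl⟩ : ∃ k', k = k' + 1 := ⟨k - 1, by omega⟩
      haveI : Coh.IsQCoh ((DerivedCategory.homologyFunctor Y.Modules i).obj W) := hW i
      exact subsingleton_ext_unit _ _ (Groth.Agent.CohBase.subsingleton_HH _ (k + 1)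
        (Groth.Agent.CohBase.affine_vanishing _ (isAffineOpen_top Y) k))
  exact hb.1 (((DerivedCategory.isLE_iff W (-1)).1 hle 0 (by omega)).eq_of_tgt _ _)

/-- Maps from the structure sheaf into quasi-coherent objects far to the left vanish. -/
theorem exists_unit_vanishing (X : Scheme.{u}) [CompactSpace X] [QuasiSeparatedSpace X] :
    ∃ d : ℤ, ∀ Z : DCoh.D X, DCoh.IsQCohD Z → Z.IsLE d →
      ∀ f : DerivedCategory.Q.obj (unitAt X 0) ⟶ Z, f = 0 := by
  let S : Scheme.{u} := Spec (CommRingCat.of (ULift.{u} ℤ))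
  let π : X ⟶ S := specULiftZIsTerminal.from X
  haveI : QuasiCompact π := (quasiCompact_iff_compactSpace π).2 inferInstance
  haveI : QuasiSeparated π := (quasiSeparated_iff_quasiSeparatedSpace π).2 inferInstance
  haveI : DCoh.HasRpush π := Groth.Agent.KInj.hasRightDerivedFunctor (hres_modules _) _
  haveI := hasLpull π
  obtain ⟨N, hN⟩ := exists_isLE_rpush_qcoh π
  refine ⟨-(N : ℤ) - 1, fun Z hZq hZ f => ?_⟩
  have hle : ((DCoh.Rpush π).obj Z).IsLE (-1) := by
    have := hN Z _ hZq hZ
    rwa [show -(N : ℤ) - 1 + N = -1 by omega] at this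
  let e : (DCoh.Lpull π).obj (DerivedCategory.Q.obj (unitAt S 0)) ≅ DerivedCategory.Q.obj (unitAt X 0) :=
    lpullIsoK π _ (isKFlat_unitAt 0) ≪≫ DerivedCategory.Q.mapIso
      ((HomologicalComplex.singleMapHomologicalComplex (Scheme.Modules.pullback π) (ComplexShape.up ℤ) 0).app _ ≪≫
        (HomologicalComplex.single X.Modules (ComplexShape.up ℤ) 0).mapIso (pullStructureIso π))
  have h0 : (lpullRpushAdj π).homEquiv _ _ (e.hom ≫ f) = 0 :=
    eq_zero_of_isLE_affine _ (isQCohD_rpush π Z hZq) hle _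
  haveI : (DCoh.Rpush π).IsRightAdjoint := (lpullRpushAdj π).isRightAdjoint
  rw [← cancel_epi e.hom, comp_zero]
  apply ((lpullRpushAdj π).homEquiv _ _).injective
  rw [h0, Adjunction.homEquiv_unit, Functor.map_zero, comp_zero]

/-- Maps out of a perfect object into quasi-coherent objects far to the left vanish. -/
theorem exists_vanishing_qcoh [CompactSpace X] [QuasiSeparatedSpace X] {K : DCoh.D X} (hK : DCoh.IsPerfect K) :
    ∃ b : ℤ, ∀ Z : DCoh.D X, DCoh.IsQCohD Z → Z.IsLE b → ∀ f : K ⟶ Z, f = 0 := by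
  obtain ⟨d, hd⟩ := exists_unit_vanishing X
  let K' := (resX X).obj (DerivedCategory.Q.objPreimage K)
  let eK : DerivedCategory.Q.obj K' ≅ K := resXIso K
  have hK' : DCoh.IsKFlat K' := isKFlat_resX _
  have hKp : DCoh.IsPerfect (DerivedCategory.Q.obj K') := isPerfect_iso eK.symm hK
  haveI := hasRSheafHom_of_isKFlat K' hK'
  let O := (DerivedCategory.singleFunctor X.Modules 0).obj (Coh.structureModule X)
  let D₀ := (resX X).obj (DerivedCategory.Q.objPreimage ((DCoh.RSheafHom K').obj O))
  let eD : DerivedCategory.Q.obj D₀ ≅ (DCoh.RSheafHom K').obj O := resXIso _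
  have hD₀ : DCoh.IsKFlat D₀ := isKFlat_resX _
  have hDp := isPerfect_iso eD.symm (isPerfect_rSheafHom_unit K' hK' hKp)
  obtain ⟨B, hB⟩ := exists_isLE_lTensor D₀ hD₀ hDp
  refine ⟨d - B, fun Z hZq hZ f => ?_⟩
  obtain ⟨t⟩ := nonempty_lTensor_dual K' hK' hKp D₀ hD₀ eD Z
  have hle : ((DCoh.LTensorCx D₀).obj Z).IsLE d := by
    have := hB _ Z hZ
    rwa [sub_add_cancel] at this
  have hqc : DCoh.IsQCohD ((DCoh.LTensorCx D₀).obj Z) :=
    TildeD.isQCohD_lTensorCx D₀ (isQCohD_of_isPerfect hDp) Z hZq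
  let u : (DCoh.LTensorCx K').obj (DerivedCategory.Q.obj (unitCx X)) ≅ K :=
    lTensorIso K' (unitCx X) isKFlat_unitCx ≪≫
      DerivedCategory.Q.mapIso (symS (unitCx X) K' ≪≫ tensorUnitCxIso.app K') ≪≫ eK
  let adj := DCoh.RSheafHomAdj K'
  have h0 : adj.homEquiv _ _ (u.hom ≫ f) = 0 := by
    rw [← cancel_mono t.inv, zero_comp]
    exact hd _ hqc hle _
  haveI : (DCoh.RSheafHom K').IsRightAdjoint := adj.isRightAdjoint
  rw [← cancel_epi u.hom, comp_zero]
  apply (adj.homEquiv _ _).injective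
  rw [h0, Adjunction.homEquiv_unit, Functor.map_zero, comp_zero]

end Groth.Agent.DCohMore
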