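import Groth.Agent.DCohMore.RHomQC
import Groth.Agent.DCohLib.PerfCoh
import Groth.Agent.TildePerf.Noeth
import Groth.Agent.ProjBundleLib.FTQuot

/-!
# Derived internal Hom between complexes with coherent cohomology
-/

set_option autoImplicit false
set_option linter.style.haveILetI false
set_option linter.unusedSectionVars false
set_option maxHeartbeats 1000000

universe u

open CategoryTheory CategoryTheory.Limits AlgebraicGeometry TopologicalSpace
open CategoryTheory.Pretriangulated
open Groth.Agent.KFlat (tot)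

attribute [local instance] HasDerivedCategory.standard

noncomputable section

namespace Groth.Agent.DCohMore

open Groth.Agent.DCohLib

variable {X : Scheme.{u}} [IsLocallyNoetherian X]

theorem isCoh_restrict' {M : X.Modules} (h : Coh.IsCoh M) (V : X.Opens) :
    Coh.IsCoh ((Scheme.Modules.restrictFunctor V.ι).obj M) :=
  ProjBundleLib.isCoh_restrict_open h.1 h.2 V

theorem isCohD_of_iso' {K L : DCoh.D X} (e : K ≅ L) (h : DCoh.IsCohD K) : DCoh.IsCohD L := fun i =>
  isCoh_iso ((DerivedCategory.homologyFunctor X.Modules i).mapIso e) (h i)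

theorem isCohD_restrict' {K : DCoh.D X} (h : DCoh.IsCohD K) (V : X.Opens) :
    DCoh.IsCohD ((DCoh.restrictD V.ι).obj K) := fun i =>
  isCoh_iso (DCohLib.restrictHDIso V.ι K i).symm (isCoh_restrict' (h i) V)

theorem isCoh_middle {A B C D E : X.Modules} (a : A ⟶ B) (b : B ⟶ C) (c : C ⟶ D) (d : D ⟶ E)
    (hab : a ≫ b = 0) (hbc : b ≫ c = 0) (hcd : c ≫ d = 0)
    (exB : (ShortComplex.mk a b hab).Exact) (exC : (ShortComplex.mk b c hbc).Exact)
    (exD : (ShortComplex.mk c d hcd).Exact)
    (hA : Coh.IsCoh A) (hB : Coh.IsCoh B) (hD : Coh.IsCoh D) (hE : Coh.IsCoh E) : Coh.IsCoh C := by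
  let T : ShortComplex X.Modules := ShortComplex.mk (cokernel.desc a b hab) (kernel.lift d c hcd) (by
    rw [← cancel_epi (cokernel.π a), ← cancel_mono (kernel.ι d)]
    simp [hbc])
  have hT : T.ShortExact :=
    { exact := by
        rw [ShortComplex.exact_iff_exact_up_to_refinements]
        intro W x hx
        have hx' : x ≫ c = 0 := by
          rw [← kernel.lift_ι d c hcd, ← Category.assoc]
          exact (congrArg (· ≫ kernel.ι d) hx).trans zero_comp
        obtain ⟨W', p, hp, y, hy⟩ := exC.exact_up_to_refinements x hx'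
        exact ⟨W', p, hp, y ≫ cokernel.π a, hy.trans ((congrArg (y ≫ ·) (cokernel.π_desc a b hab).symm).trans
          (Category.assoc _ _ _).symm)⟩
      mono_f := exB.mono_cokernelDesc
      epi_g := exD.epi_kernelLift }
  exact QCohLib.isCoh_X₂ hT (QCohLib.isCoh_kernel_cokernel a hA hB).2
    (QCohLib.isCoh_kernel_cokernel d hD hE).1

theorem isCohD_obj₂ (T : Triangle (DCoh.D X)) (hT : T ∈ distTriang _)
    (h₁ : DCoh.IsCohD T.obj₁) (h₃ : DCoh.IsCohD T.obj₃) : DCoh.IsCohD T.obj₂ := fun i =>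
  isCoh_middle _ _ _ _ _ _ _
    (DerivedCategory.HomologySequence.exact₁ T hT (i - 1) i (by omega))
    (DerivedCategory.HomologySequence.exact₂ T hT i)
    (DerivedCategory.HomologySequence.exact₃ T hT i (i + 1) rfl)
    (h₃ (i - 1)) (h₁ i) (h₃ i) (h₁ (i + 1))

theorem isCohD_of_isZero {K : DCoh.D X} (h : IsZero K) : DCoh.IsCohD K := fun i => by
  have hz := (DerivedCategory.homologyFunctor X.Modules i).map_isZero h
  exact isCoh_of_isFinLocFree (isFinLocFree_of_isZero hz)

/-- Tensoring with a shifted unit shifts. -/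
theorem isCohD_of_lTensor_shiftUnit (a : ℤ) [DCoh.HasLTensorCx (shiftUnitCx X a)] (Y : DCoh.D X)
    (h : DCoh.IsCohD ((DCoh.LTensorCx (shiftUnitCx X a)).obj Y)) : DCoh.IsCohD Y := by
  let P := DerivedCategory.Q.objPreimage Y
  let t : (DCoh.tensorCx.obj P).obj (shiftUnitCx X a) ≅ P⟦-a⟧ :=
    (tot (DCoh.tensorBi (X := X)) P).mapIso
        (((CochainComplex.singleFunctors X.Modules).shiftIso (-a) a 0 (by omega)).app (Coh.structureModule X)).symm ≪≫
      CochainComplex.mapBifunctorShift₂Iso P _ (DCoh.tensorBi (X := X)) (-a) ≪≫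
      (shiftFunctor (CochainComplex X.Modules ℤ) (-a)).mapIso (tensorUnitCxIso.app P)
  let e : (DCoh.LTensorCx (shiftUnitCx X a)).obj Y ≅ (DerivedCategory.Q.obj P)⟦-a⟧ :=
    (DCoh.LTensorCx (shiftUnitCx X a)).mapIso (DerivedCategory.Q.objObjPreimageIso Y).symm ≪≫
      (lTensorQIso (shiftUnitCx X a) (isKFlat_of_strictlyPerfect (isStrictlyPerfect_shiftUnitCx a))).app P ≪≫
      DerivedCategory.Q.mapIso t ≪≫ (DerivedCategory.Q.commShiftIso (-a)).app P
  intro i
  have h2 := isCohD_of_iso' e h (i + a)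
  exact isCoh_iso ((((DerivedCategory.homologyFunctor X.Modules 0).shiftIso (-a) (i + a) i (by omega)).app _) ≪≫
    (DerivedCategory.homologyFunctor X.Modules i).mapIso (DerivedCategory.Q.objObjPreimageIso Y)) h2

section Base

variable (V : X.Opens) (R : CochainComplex X.Modules ℤ) [R.IsKInjective]

/-- Coherence of the internal Hom out of an extension by zero, over the open. -/
def CGood (E : CochainComplex (V : Scheme.{u}).Modules ℤ) : Prop :=
  DCoh.IsCohD (DerivedCategory.Q.obj ((resCx V.ι).obj ((hCx ((extCx V).obj E)).obj R)))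

theorem cGood_unit (hR : DCoh.IsCohD (DerivedCategory.Q.obj R)) (a : ℤ) :
    CGood V R (shiftUnitCx (V : Scheme.{u}) a) := by
  let N := extShiftUnit V a
  have hN := isKFlat_extShiftUnit (V := V) a
  haveI := isEquivalence_res_extShiftUnit (V := V) a
  haveI := quasiIso_res_eps N hN R (V := V)
  haveI : IsIso (DerivedCategory.Q.map ((resCx V.ι).map ((hAdj N).counit.app R))) :=
    (DerivedCategory.isIso_Q_map_iff_quasiIso (C := (V : Scheme.{u}).Modules) _).2 ‹_›
  let e : (DCoh.LTensorCx ((resCx V.ι).obj N)).obj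
      (DerivedCategory.Q.obj ((resCx V.ι).obj ((hCx N).obj R))) ≅ DerivedCategory.Q.obj ((resCx V.ι).obj R) :=
    (lTensorQIso ((resCx V.ι).obj N) (isKFlat_resCx V.ι hN)).app ((resCx V.ι).obj ((hCx N).obj R)) ≪≫
      DerivedCategory.Q.mapIso ((restrictTensorNat V.ι N).app ((hCx N).obj R)).symm ≪≫
      asIso (DerivedCategory.Q.map ((resCx V.ι).map ((hAdj N).counit.app R)))
  let c := lTensorCongr (shiftUnitCx (V : Scheme.{u}) a) ((resCx V.ι).obj N)
    (isKFlat_of_strictlyPerfect (isStrictlyPerfect_shiftUnitCx a)) (isKFlat_resCx V.ι hN)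
    (Functor.isoWhiskerRight ((DCoh.tensorCx (X := (V : Scheme.{u}))).flip.mapIso
      (extUnit V (shiftUnitCx (V : Scheme.{u}) a))) DerivedCategory.Q)
  exact isCohD_of_lTensor_shiftUnit a _ (isCohD_of_iso' (c.app _ ≪≫ e).symm
    (isCohD_of_iso' (restrictDQ V.ι R) (isCohD_restrict' hR V)))

theorem cGood_freeClosed (hR : DCoh.IsCohD (DerivedCategory.Q.obj R)) : FreeClosed (CGood V R) where
  iso {E E'} e h := by
    let β := ((extCx V).mapIso e.symm)
    haveI := isIso_hMap β R
    exact isCohD_of_iso' (DerivedCategory.Q.mapIso ((resCx V.ι).mapIso (asIso ((hMap β.hom).app R)))) h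
  zero E hE := isCohD_of_isZero
    (DerivedCategory.Q.map_isZero ((resCx V.ι).map_isZero (isZero_hCx ((extCx V).map_isZero (isZero_of_X hE)) R)))
  unit a := cGood_unit V R hR a
  split S σ h1 h3 := by
    let S' := S.map (extCx V)
    have σ' : ∀ q, (S'.map (HomologicalComplex.eval X.Modules (ComplexShape.up ℤ) q)).Splitting :=
      fun q => (σ q).map (CxOX.extZero V.ι)
    exact isCohD_obj₂ _
      (DerivedCategory.triangleOfSES_distinguished (shortExact_res (V := V) (shortExact_hSeq σ' R))) h3 h1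

end Base

theorem isCoh_homology_hCx (K : CochainComplex X.Modules ℤ) (hK : DCoh.IsKFlat K) (m a : ℤ)
    (hpc : DCoh.IsPseudoCoherentD m (DerivedCategory.Q.obj K)) (R : CochainComplex X.Modules ℤ) [R.IsKInjective]
    (hR : ∀ n, n < a → IsZero (R.X n)) (hRc : DCoh.IsCohD (DerivedCategory.Q.obj R)) (j : ℤ)
    (hj : j < a - m) : Coh.IsCoh (((hCx K).obj R).homology j) := by
  refine isCoh_of_local fun x => ?_
  obtain ⟨V, hx, E, c, d, hcd, hfree, ⟨e⟩⟩ := exists_local_homology_iso K hK m a hpc R hR j hj x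
  exact ⟨V, hx, isCoh_iso e.symm (isCoh_iso ((DerivedCategory.homologyFunctorFactors _ (j + 1)).app _)
    ((cGood_freeClosed V R hRc).of_free (E := E) hcd hfree (j + 1)))⟩

/-- Bounded above complexes with coherent cohomology are pseudo-coherent. -/
theorem isPseudoCoherentD_of_coh (K : DCoh.D X) (b : ℤ) [K.IsLE b] (hK : DCoh.IsCohD K) (m : ℤ) :
    DCoh.IsPseudoCoherentD m K := by
  refine isPseudoCoherentD_of_local fun x => ?_
  obtain ⟨_, ⟨W : X.Opens, hW, rfl⟩, hx, -⟩ :=
    X.isBasis_affineOpens.exists_subset_of_mem_open (a := x) (Set.mem_univ x) isOpen_univ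
  haveI : IsAffine (W : Scheme.{u}) := hW
  haveI : IsNoetherian (W : Scheme.{u}) := {}
  refine ⟨W, W.ι, inferInstance, ⟨x, hx⟩, rfl,
    (TildePerf.pc_iff_noetherian _ (fun i => (isCohD_restrict' hK W i).1) m).2
      ⟨fun i _ => isCohD_restrict' hK W i, b, (DerivedCategory.isLE_iff _ b).2 fun i hi => ?_⟩⟩
  exact (AboveZero.restrict W.ι (m := b + 1)
    (fun k hk => (DerivedCategory.isLE_iff K b).1 ‹_› k (by omega))) i (by omega)

/-- Derived internal Hom between bounded above and bounded below objects with coherent cohomology. -/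
theorem isCohD_rSheafHom (K : CochainComplex X.Modules ℤ) (b : ℤ) [(DCoh.toD X K).IsLE b]
    (hK : DCoh.IsCohD (DCoh.toD X K)) [DCoh.HasLTensorCx K] [DCoh.HasRSheafHom K] (L : DCoh.D X) (a : ℤ)
    [L.IsGE a] (hL : DCoh.IsCohD L) :
    DCoh.IsCohD ((DCoh.RSheafHom K).obj L) ∧ ∃ a' : ℤ, ((DCoh.RSheafHom K).obj L).IsGE a' := by
  let F := DerivedCategory.Q.objPreimage L
  let eF : DerivedCategory.Q.obj F ≅ L := DerivedCategory.Q.objObjPreimageIso L
  haveI : F.IsGE a := by
    rw [← DerivedCategory.isGE_Q_obj_iff]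
    exact DerivedCategory.TStructure.t.isGE_of_iso eF.symm a
  haveI : QuasiIso (F.πTruncGE a) := (F.quasiIso_πTruncGE_iff a).mpr inferInstance
  obtain ⟨R, ι, hι, hRi, hRge⟩ := CochainComplex.Plus.modelCategoryQuillen.exists_quasiIso_injective
    (F.truncGE a) a
  haveI := hι
  haveI := hRge
  haveI : ∀ n, Injective (R.X n) := hRi
  haveI : R.IsKInjective := CochainComplex.isKInjective_of_injective R a
  haveI : IsIso (DerivedCategory.Q.map (F.πTruncGE a ≫ ι)) :=
    (DerivedCategory.isIso_Q_map_iff_quasiIso (C := X.Modules) _).2 inferInstance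
  let eR : DerivedCategory.Q.obj R ≅ L := (asIso (DerivedCategory.Q.map (F.πTruncGE a ≫ ι))).symm ≪≫ eF
  -- a flat model in degrees `≤ b`
  haveI : K.IsLE b := (DerivedCategory.isLE_Q_obj_iff K b).1 ‹_›
  obtain ⟨N, c, hc, hN, hNb⟩ : ∃ (N : CochainComplex X.Modules ℤ) (c : N ⟶ K.truncLE b), QuasiIso c ∧
      (∀ n, ModSite.IsFlat (O := X.sheaf) (N.X n)) ∧ ∀ n, b < n → IsZero (N.X n) :=
    exists_bdd_flat_resolution X.sheaf (K.truncLE b) b
      (fun n hn => CochainComplex.isZero_of_isStrictlyLE (K.truncLE b) b n hn)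
  haveI := hc
  have hNK : DCoh.IsKFlat N := isKFlat_of_flat_bddAbove N b hNb fun n => (isFlat_iff _).2 (hN n)
  have hq : QuasiIso (c ≫ K.ιTruncLE b) := inferInstance
  haveI : IsIso (DerivedCategory.Q.map (c ≫ K.ιTruncLE b)) :=
    (DerivedCategory.isIso_Q_map_iff_quasiIso (C := X.Modules) _).2 hq
  haveI := hasRSheafHom_of_isKFlat N hNK
  obtain ⟨t⟩ := nonempty_lTensor_of_qis (c ≫ K.ιTruncLE b) hq
  let u : DCoh.RSheafHom N ≅ DCoh.RSheafHom K :=
    (DCoh.RSheafHomAdj N).rightAdjointUniq ((DCoh.RSheafHomAdj K).ofNatIsoLeft t.symm)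
  obtain ⟨e⟩ := nonempty_rSheafHom_hCx N hNK R
  let e' : ∀ j, ((hCx N).obj R).homology j ≅ DCoh.HD ((DCoh.RSheafHom K).obj L) j := fun j =>
    ((DerivedCategory.homologyFunctorFactors _ j).app _).symm ≪≫
      (DerivedCategory.homologyFunctor X.Modules j).mapIso (e ≪≫ (DCoh.RSheafHom N).mapIso eR ≪≫ u.app L)
  have hpc : ∀ m, DCoh.IsPseudoCoherentD m (DerivedCategory.Q.obj N) := fun m =>
    (isPseudoCoherentD_iff m _).2 fun x =>
      let ⟨V, hx, hV⟩ := (isPseudoCoherentD_iff m _).1 (isPseudoCoherentD_of_coh (DCoh.toD X K) b hK m) x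
      ⟨V, hx, hV.of_iso ((DCoh.restrictD V.ι).mapIso (asIso (DerivedCategory.Q.map (c ≫ K.ιTruncLE b))).symm)⟩
  have hR : ∀ n, n < a → IsZero (R.X n) := fun n hn => CochainComplex.isZero_of_isStrictlyGE R a n hn
  refine ⟨fun j => isCoh_iso (e' j) (isCoh_homology_hCx N hNK (a - j - 1) a (hpc _) R hR
      (isCohD_of_iso' eR.symm hL) j (by omega)), a - b, (DerivedCategory.isGE_iff _ _).2 fun i hi => ?_⟩
  exact (isZero_homology_hCx N R b a hNb hR i hi).of_iso (e' i).symm

end Groth.Agent.DCohMore
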