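import Groth.Agent.DCohMore.TensorCoh
import Groth.Agent.DCohMore.FlatOverTensor
import Groth.Agent.DCohMore.ProjQC
import Groth.Agent.DCohMore.PerfHom
import Groth.Agent.DCohMore.RHomCoh
import Groth.Agent.DCohLib.TorTest
import Groth.Agent.DCohLib.TensorComp
import Groth.Agent.DCohLib.SuppOpen
import Groth.Agent.ClSubLib.ProperOver
import Groth.Agent.PullbackMod.Flat
import Groth.Agent.PullbackMod.FibreLocus
import Groth.Agent.PullbackMod.SuppClosed

/-!
# Perfectness of derived direct images of modules flat over the base with proper support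
-/

set_option autoImplicit false
set_option linter.style.haveILetI false
set_option linter.unusedSectionVars false

universe u

open CategoryTheory CategoryTheory.Limits AlgebraicGeometry
open CategoryTheory.Pretriangulated

attribute [local instance] HasDerivedCategory.standard

noncomputable section

namespace Groth.Agent.DCohMore

open Groth.Agent.DCohLib

variable {X S : Scheme.{u}}

/-- A module as a complex in degree `0`. -/
abbrev sgl₀ (F : X.Modules) : CochainComplex X.Modules ℤ :=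
  (HomologicalComplex.single X.Modules (ComplexShape.up ℤ) 0).obj F

theorem isQCohD_sgl₀ (F : X.Modules) (hF : Coh.IsQCoh F) : DCoh.IsQCohD (DerivedCategory.Q.obj (sgl₀ F)) :=
  TildeD.isQCohD_of_terms _ fun n => by
    rcases eq_or_ne n 0 with rfl | hn
    · exact (SheafOfModules.isQuasicoherent X.ringCatSheaf).prop_of_iso
        (HomologicalComplex.singleObjXSelf (ComplexShape.up ℤ) 0 F).symm hF
    · exact (PullbackMod.isQCoh_and_isFP_of_isFinLocFree _
        (isFinLocFree_of_isZero (HomologicalComplex.isZero_single_obj_X _ _ _ _ hn))).1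

/-- Tensoring with a module is tensoring with the module in degree `0`. -/
theorem nonempty_lTensorMod_single (F : X.Modules) [DCoh.HasLTensorMod F] (K : DCoh.D X) :
    Nonempty ((DCoh.LTensorMod F).obj K ≅ (DCoh.LTensorCx (sgl₀ F)).obj K) := by
  let P := (resX X).obj (DerivedCategory.Q.objPreimage K)
  have hP : DCoh.IsKFlat P := isKFlat_resX _
  exact ⟨(DCoh.LTensorMod F).mapIso (resXIso K).symm ≪≫ lTensorModIso F P hP ≪≫
    DerivedCategory.Q.mapIso (totSingleIso P F) ≪≫ (lTensorIso (sgl₀ F) P hP).symm ≪≫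
    (DCoh.LTensorCx (sgl₀ F)).mapIso (resXIso K)⟩

/-- An object bounded on both sides by the same degree. -/
theorem nonempty_iso_inD (K : DCoh.D X) [K.IsGE 0] [K.IsLE 0] :
    ∃ M : X.Modules, Nonempty (K ≅ DerivedCategory.Q.obj (sgl₀ M)) := by
  obtain ⟨M, ⟨e⟩⟩ := DerivedCategory.exists_iso_singleFunctor_obj_of_isGE_of_isLE K 0
  exact ⟨M, ⟨e ≪≫ (DerivedCategory.singleFunctorIsoCompQ X.Modules 0).app M⟩⟩

/-- Objects stable under tensoring with inverse images of modules have direct images of finite tor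
amplitude. -/
theorem exists_torAmplitude_rpush [CompactSpace S] [QuasiSeparatedSpace S] (f : X ⟶ S) [QuasiCompact f]
    [QuasiSeparated f] [DCoh.HasRpush f] (K : DCoh.D X) (hK : DCoh.IsQCohD K) (a b : ℤ) (hab : a ≤ b)
    (h : ∀ (F : S.Modules), Coh.IsQCoh F → ∀ (P : CochainComplex S.Modules ℤ), DCoh.IsKFlat P →
      Nonempty (DerivedCategory.Q.obj P ≅ DerivedCategory.Q.obj (sgl₀ F)) →
      ((DCoh.LTensorCx ((pullCx f).obj P)).obj K).IsGE a ∧ ((DCoh.LTensorCx ((pullCx f).obj P)).obj K).IsLE b) :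
    ∃ b' : ℤ, a ≤ b' ∧ DCoh.HasTorAmplitudeIn a b' ((DCoh.Rpush f).obj K) := by
  haveI := hasLpull f
  obtain ⟨N, hN⟩ := exists_isLE_rpush_qcoh f
  obtain ⟨I, hI, -, ⟨eI⟩⟩ := exists_injective_resolution X K
  haveI := hI
  refine ⟨b + N, by omega, hasTorAmplitudeIn_of_qcoh _ a (b + N) fun F hF _ i hi => ?_⟩
  let P := (resX S).obj (sgl₀ F)
  have hP : DCoh.IsKFlat P := isKFlat_resX _
  let eP : DerivedCategory.Q.obj P ≅ DerivedCategory.Q.obj (sgl₀ F) := @asIso _ _ _ _ _ (isIso_Q_resXπ (sgl₀ F))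
  obtain ⟨hGE, hLE⟩ := h F hF P hP ⟨eP⟩
  have hPq : DCoh.IsQCohD (DerivedCategory.Q.obj P) := TildeD.isQCohD_of_iso eP.symm (isQCohD_sgl₀ F hF)
  haveI := isIso_projTau f I (TildeD.isQCohD_of_iso eI hK) P hP hPq
  obtain ⟨r⟩ := nonempty_projection_of_isIso f I (sgl₀ F) P eP hP ((pullCx f).obj P) (Iso.refl _)
  obtain ⟨e₁⟩ := nonempty_lTensorMod_single F ((DCoh.Rpush f).obj K)
  let M := (DCoh.LTensorCx ((pullCx f).obj P)).obj K
  have hMq : DCoh.IsQCohD M := TildeD.isQCohD_lTensorCx _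
    (TildeD.isQCohD_of_iso (lpullIsoK f P hP) (TildeD.isQCohD_lpull f _ hPq)) K hK
  let e : (DCoh.LTensorMod F).obj ((DCoh.Rpush f).obj K) ≅ (DCoh.Rpush f).obj M :=
    e₁ ≪≫ (DCoh.LTensorCx (sgl₀ F)).mapIso ((DCoh.Rpush f).mapIso eI) ≪≫ r ≪≫
      ((DCoh.LTensorCx ((pullCx f).obj P)) ⋙ DCoh.Rpush f).mapIso eI.symm
  haveI : M.IsGE a := hGE
  haveI := hN M b hMq hLE
  haveI := isGE_rpush f M a
  refine IsZero.of_iso ?_ ((DerivedCategory.homologyFunctor S.Modules i).mapIso e)
  rcases hi with hi | hi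
  · exact (DerivedCategory.isGE_iff _ a).1 ‹_› i hi
  · exact (DerivedCategory.isLE_iff _ (b + N)).1 ‹_› i hi

/-- A pseudo-coherent object of finite tor amplitude is perfect. -/
theorem isPerfect_of_torAmplitude {K : DCoh.D X} (hpc : ∀ m : ℤ, DCoh.IsPseudoCoherentD m K) (a b : ℤ)
    (hab : a ≤ b) (h : DCoh.HasTorAmplitudeIn a b K) : DCoh.IsPerfect K :=
  (isPerfect_iff_pc K).2 ⟨hpc, (locHasFiniteTorDim_iff K).2 fun _ =>
    ⟨⊤, a, b, trivial, hasFlatAmplitudeIn_restrict _ (hasFlatAmplitudeIn_of_hasTorAmplitudeIn hab h)⟩⟩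

theorem isIso_tensorCx_map_left {E E' : CochainComplex X.Modules ℤ} (α : E ⟶ E') [QuasiIso α]
    (L : CochainComplex X.Modules ℤ) (hL : DCoh.IsKFlat L) :
    IsIso (DerivedCategory.Q.map ((DCoh.tensorCx.map α).app L)) := by
  haveI : IsIso ((DerivedCategory.Q ⋙ DCoh.LTensorCx L).map α) :=
    inferInstanceAs (IsIso ((DCoh.LTensorCx L).map (DerivedCategory.Q.map α)))
  exact (NatIso.isIso_map_iff (lTensorQIso L hL) α).1 inferInstance

/-- The inverse image of a module tensored with a module flat over the base sits in degree `0`. -/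
theorem isGE_isLE_tensor_pullback (f : X ⟶ S) (G : X.Modules) (hG : FlatMod.IsFlatOver f G) (F : S.Modules)
    (P : CochainComplex S.Modules ℤ) (e : DerivedCategory.Q.obj P ≅ DerivedCategory.Q.obj (sgl₀ F)) :
    (DerivedCategory.Q.obj ((DCoh.tensorCx.obj (sgl₀ G)).obj ((pullCx f).obj P))).IsGE 0 ∧
      (DerivedCategory.Q.obj ((DCoh.tensorCx.obj (sgl₀ G)).obj ((pullCx f).obj P))).IsLE 0 := by
  obtain ⟨s⟩ := nonempty_symCxSch (sgl₀ G) ((pullCx f).obj P)
  have hz : ∀ i : ℤ, i ≠ 0 →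
      IsZero (DCoh.HD (DerivedCategory.Q.obj ((DCoh.tensorCx.obj (sgl₀ G)).obj ((pullCx f).obj P))) i) := by
    intro i hi
    have hP : P.ExactAt i := by
      rw [HomologicalComplex.exactAt_iff_isZero_homology]
      exact ((HomologicalComplex.exactAt_iff_isZero_homology _ _).1
        (HomologicalComplex.exactAt_single_obj (ComplexShape.up ℤ) 0 F i hi)).of_iso
        (((DerivedCategory.homologyFunctorFactors S.Modules i).app P).symm ≪≫
          (DerivedCategory.homologyFunctor S.Modules i).mapIso e ≪≫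
          (DerivedCategory.homologyFunctorFactors S.Modules i).app (sgl₀ F))
    have h := exactAt_tensor_pullback f G hG P i hP
    let τ : ((DCoh.tensorBi (X := X)).flip.obj G) ≅ (DCoh.tensorBi (X := X)).obj G :=
      (Groth.Agent.ModTensor.tensorSymm X.sheaf G)
    exact ((HomologicalComplex.exactAt_iff_isZero_homology _ _).1 h).of_iso
      ((DerivedCategory.homologyFunctorFactors X.Modules i).app _ ≪≫
        (HomologicalComplex.homologyFunctor _ _ i).mapIso (s ≪≫ (totSingleIso ((pullCx f).obj P) G).symm ≪≫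
          (NatIso.mapHomologicalComplex τ (ComplexShape.up ℤ)).app _))
  exact ⟨(DerivedCategory.isGE_iff _ 0).2 fun i hi => hz i (by omega),
    (DerivedCategory.isLE_iff _ 0).2 fun i hi => hz i (by omega)⟩

/-- The Noetherian quasi-compact case. -/
theorem isPerfect_rpush_lTensorMod [IsNoetherian S] (f : X ⟶ S) [LocallyOfFiniteType f] [QuasiCompact f]
    [DCoh.HasRpush f] (E : DCoh.D X) (hE : DCoh.IsPerfect E) (G : X.Modules) (hG : Coh.IsCoh G)
    (hflat : FlatMod.IsFlatOver f G) (hsupp : ClSub.IsProperOver f (CohB1.support G)) [DCoh.HasLTensorMod G] :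
    DCoh.IsPerfect ((DCoh.Rpush f).obj ((DCoh.LTensorMod G).obj E)) := by
  haveI : IsLocallyNoetherian X := LocallyOfFiniteType.isLocallyNoetherian f
  haveI : CompactSpace X := QuasiCompact.compactSpace_of_compactSpace f
  haveI : QuasiSeparated f := inferInstance
  haveI := hG.1
  let K := (DCoh.LTensorMod G).obj E
  obtain ⟨a, b, hab, hamp⟩ := exists_torAmplitude_of_perfect E hE
  haveI hKGE : K.IsGE a := (DerivedCategory.isGE_iff _ _).2 fun i hi => hamp G i (Or.inl hi)
  haveI hKLE : K.IsLE b := (DerivedCategory.isLE_iff _ _).2 fun i hi => hamp G i (Or.inr hi)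
  have hKc : DCoh.IsCohD K := isCohD_lTensorMod E hE G hG
  have hKs : ∀ i : ℤ, ClSub.IsProperOver f (CohB1.support (DCoh.HD K i)) := fun i =>
    Groth.Agent.ClSubLib.isProperOver_subset f hsupp
      (PullbackMod.isClosed_support_of_isFT (hKc i).2) (support_lTensorMod_subset E G i)
  obtain ⟨b₀, hb₀⟩ := exists_isLE_rpush f K a b hKc hKs
  haveI := hb₀
  haveI := isGE_rpush f K a
  have hpc := isPseudoCoherentD_of_coh ((DCoh.Rpush f).obj K) b₀ (isCohD_rpush f K a hKc hKs)
  obtain ⟨b', hb', hamp'⟩ := exists_torAmplitude_rpush f K (fun i => (hKc i).1) a b hab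
    fun F hF P hP hPe => by
      obtain ⟨eP⟩ := hPe
      let L := (pullCx f).obj P
      have hL : DCoh.IsKFlat L := isKFlat_pullback f hP
      let R := (resX X).obj (sgl₀ G)
      obtain ⟨e₁⟩ := nonempty_lTensorMod_single G E
      obtain ⟨e₂⟩ := nonempty_lTensor_of_qis (E := sgl₀ G) ((resXπ X).app (sgl₀ G)) (quasiIso_resXπ _)
      obtain ⟨e₃⟩ := nonempty_lTensorCompIso R L hL
      haveI := quasiIso_resXπ (sgl₀ G)
      haveI := isIso_tensorCx_map_left ((resXπ X).app (sgl₀ G)) L hL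
      obtain ⟨hN₀, hN₁⟩ := isGE_isLE_tensor_pullback f G hflat F P eP
      haveI := hN₀
      haveI := hN₁
      obtain ⟨M, ⟨eM⟩⟩ := nonempty_iso_inD (DerivedCategory.Q.obj ((DCoh.tensorCx.obj (sgl₀ G)).obj L))
      obtain ⟨e₄⟩ := nonempty_lTensor_of_iso (E := sgl₀ M) (E' := (DCoh.tensorCx.obj R).obj L)
        (asIso (DerivedCategory.Q.map ((DCoh.tensorCx.map ((resXπ X).app (sgl₀ G))).app L)) ≪≫ eM)
      obtain ⟨e₅⟩ := nonempty_lTensorMod_single M E
      let e : (DCoh.LTensorCx L).obj K ≅ (DCoh.LTensorMod M).obj E :=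
        (DCoh.LTensorCx L).mapIso (e₁ ≪≫ (e₂.app E).symm) ≪≫ e₃.app E ≪≫ e₄.app E ≪≫ e₅.symm
      exact ⟨(DerivedCategory.isGE_iff _ _).2 fun i hi => (hamp M i (Or.inl hi)).of_iso
          ((DerivedCategory.homologyFunctor X.Modules i).mapIso e),
        (DerivedCategory.isLE_iff _ _).2 fun i hi => (hamp M i (Or.inr hi)).of_iso
          ((DerivedCategory.homologyFunctor X.Modules i).mapIso e)⟩
  exact isPerfect_of_torAmplitude hpc a b' hb' hamp'

/-- Restriction of a tensor product with a module. -/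
theorem nonempty_restrict_lTensorMod (U : X.Opens) (E : DCoh.D X) (G : X.Modules) [DCoh.HasLTensorMod G]
    [DCoh.HasLTensorMod ((Scheme.Modules.restrictFunctor U.ι).obj G)] :
    Nonempty ((DCoh.restrictD U.ι).obj ((DCoh.LTensorMod G).obj E) ≅
      (DCoh.LTensorMod ((Scheme.Modules.restrictFunctor U.ι).obj G)).obj ((DCoh.restrictD U.ι).obj E)) := by
  let P := (resX X).obj (DerivedCategory.Q.objPreimage E)
  have hP : DCoh.IsKFlat P := isKFlat_resX _
  exact ⟨(DCoh.restrictD U.ι).mapIso ((DCoh.LTensorMod G).mapIso (resXIso E).symm ≪≫ lTensorModIso G P hP) ≪≫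
    restrictDQ U.ι _ ≪≫
    DerivedCategory.Q.mapIso ((NatIso.mapHomologicalComplex (restrictTensorRightIso U G) (ComplexShape.up ℤ)).app P) ≪≫
    (lTensorModIso _ _ (isKFlat_resCx U.ι hP)).symm ≪≫
    (DCoh.LTensorMod _).mapIso ((restrictDQ U.ι P).symm ≪≫ (DCoh.restrictD U.ι).mapIso (resXIso E))⟩

/-- The general Noetherian case. -/
theorem isPerfect_rpush_lTensorMod' [IsNoetherian S] (f : X ⟶ S) [LocallyOfFiniteType f]
    [DCoh.HasRpush f] (E : DCoh.D X) (hE : DCoh.IsPerfect E) (G : X.Modules) (hG : Coh.IsCoh G)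
    (hflat : FlatMod.IsFlatOver f G) (hsupp : ClSub.IsProperOver f (CohB1.support G)) [DCoh.HasLTensorMod G] :
    DCoh.IsPerfect ((DCoh.Rpush f).obj ((DCoh.LTensorMod G).obj E)) := by
  haveI : IsLocallyNoetherian X := LocallyOfFiniteType.isLocallyNoetherian f
  haveI := hG.1
  obtain ⟨T, i, hi, -, hr, hp⟩ := Groth.Agent.ClSubLib.exists_model f hsupp
  haveI := hi
  haveI := hp
  haveI : CompactSpace T := QuasiCompact.compactSpace_of_compactSpace (i ≫ f)
  have hZc : IsCompact (CohB1.support G) := hr ▸ isCompact_range i.continuous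
  obtain ⟨s, hs⟩ := hZc.elim_finite_subcover (fun V : X.affineOpens => ((V.1 : X.Opens) : Set X))
    (fun V => V.1.2) (fun x _ => by
      obtain ⟨_, ⟨V : X.Opens, hV, rfl⟩, hx, -⟩ :=
        X.isBasis_affineOpens.exists_subset_of_mem_open (a := x) (Set.mem_univ x) isOpen_univ
      exact Set.mem_iUnion.2 ⟨⟨V, hV⟩, hx⟩)
  let U : X.Opens := ⟨⋃ V ∈ s, ((V.1 : X.Opens) : Set X), isOpen_biUnion fun V _ => V.1.2⟩
  have hUc : IsCompact (U : Set X) := s.isCompact_biUnion fun V _ => V.2.isCompact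
  haveI : CompactSpace (U : Scheme.{u}) := isCompact_iff_compactSpace.1 hUc
  haveI : QuasiCompact (U.ι ≫ f) :=
    haveI : QuasiSeparatedSpace S := inferInstance
    QuasiCompact.of_comp (U.ι ≫ f) (Limits.terminal.from S)
  haveI : DCoh.HasRpush U.ι := Groth.Agent.KInj.hasRightDerivedFunctor (hres_modules _) _
  haveI : DCoh.HasRpush (U.ι ≫ f) := Groth.Agent.KInj.hasRightDerivedFunctor (hres_modules _) _
  let Gu := (Scheme.Modules.restrictFunctor U.ι).obj G
  obtain ⟨r⟩ := nonempty_iso_rpush_restrict U (CohB1.support G) hsupp.1 hs ((DCoh.LTensorMod G).obj E)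
    (support_lTensorMod_subset E G)
  obtain ⟨c⟩ := nonempty_rpushCompIso U.ι f
  obtain ⟨t⟩ := nonempty_restrict_lTensorMod U E G
  have hflatU : FlatMod.IsFlatOver (U.ι ≫ f) Gu := fun x =>
    PullbackMod.isFlatOverAt_of_iso ((Scheme.Modules.restrictFunctorIsoPullback U.ι).app G).symm _ x
      ((PullbackMod.isFlatOverAt_pullback_comp_iff U.ι f G x
        (RingHom.Flat.of_bijective (ConcreteCategory.bijective_of_isIso (U.ι.stalkMap x)))).2 (hflat _))
  let j : T ⟶ (U : Scheme.{u}) := IsOpenImmersion.lift U.ι i (by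
    rw [hr]
    exact hs.trans_eq (Scheme.Opens.range_ι U).symm)
  have hj : j ≫ U.ι = i := IsOpenImmersion.lift_fac _ _ _
  haveI : IsClosedImmersion (j ≫ U.ι) := by rw [hj]; infer_instance
  haveI : IsClosedImmersion j := IsClosedImmersion.of_comp j U.ι
  have hsuppU : ClSub.IsProperOver (U.ι ≫ f) (CohB1.support Gu) := by
    have hZ : CohB1.support Gu = U.ι.base ⁻¹' CohB1.support G := Set.ext fun x =>
      not_congr ((Scheme.Modules.restrictStalkNatIso U.ι x).app G).addCommGroupIsoToAddEquiv.toEquiv.subsingleton_congr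
    rw [hZ]
    refine (Groth.Agent.ClSubLib.isProperOver_iff (U.ι ≫ f) j ?_).2 (by rw [← Category.assoc, hj]; exact hp)
    ext x
    rw [Set.mem_preimage, ← hr]
    constructor
    · rintro ⟨t, rfl⟩
      exact ⟨t, by rw [← hj]; rfl⟩
    · rintro ⟨t, ht⟩
      exact ⟨t, U.ι.isOpenEmbedding.injective (by rw [← ht, ← hj]; rfl)⟩
  exact isPerfect_iso ((DCoh.Rpush f).mapIso r ≪≫ (c.app _) ≪≫ (DCoh.Rpush (U.ι ≫ f)).mapIso t).symm
    (isPerfect_rpush_lTensorMod (U.ι ≫ f) _ (isPerfect_restrict U.ι hE) Gu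
      (ProjBundleLib.isCoh_restrict_open hG.1 hG.2 U) hflatU hsuppU)

end Groth.Agent.DCohMore
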