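import Groth.Agent.DCohMore.DualFlf
import Groth.Agent.DCohMore.ProjQC
import Groth.Agent.DCohMore.FlatOverTensor
import Groth.Agent.DCohMore.RpushPerf
import Groth.Agent.ParaFLib.Stalk
import Groth.Agent.CohBase.Affine
import Groth.Agent.FinLocFreeLib.Basic
import Groth.Agent.QCohLib.Exact
import Groth.Agent.PullbackMod.Props
import Groth.Agent.FactorOne.Basic
import Groth.Agent.DCohMore.RpushAcyc
import Groth.Prelude.Def_PerfAux

/-!
# The resolution property descends along finite locally free surjections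
-/

set_option autoImplicit false
set_option linter.style.haveILetI false
set_option linter.unusedSectionVars false

universe u

open CategoryTheory CategoryTheory.Limits AlgebraicGeometry TopologicalSpace

attribute [local instance] HasDerivedCategory.standard

noncomputable section

namespace Groth.Agent.DCohMore

open Groth.Agent.DCohLib

variable {X Y : Scheme.{u}} (f : X ⟶ Y)

set_option backward.isDefEq.respectTransparency false in
theorem isFT_of_flf {M : X.Modules} (h : FlatMod.IsFinLocFree M) : CohB1.IsFT M :=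
  haveI : SheafOfModules.IsFinitePresentation (R := X.ringCatSheaf) M :=
    (PullbackMod.isQCoh_and_isFP_of_isFinLocFree M h).2
  inferInstanceAs (SheafOfModules.IsFiniteType (R := X.ringCatSheaf) M)

/-- `O ⊗ - ≅ id`. -/
def isoTensorUnit (X : Scheme.{u}) : (DCoh.tensorBi (X := X)).obj (Coh.structureModule X) ≅ 𝟭 X.Modules :=
  (Groth.Agent.ModTensor.tensorSymm X.sheaf (Coh.structureModule X)).symm ≪≫
    Groth.Agent.ModTensor.tensorUnitRight X.sheaf

theorem isFlatOver_unit [Flat f] : FlatMod.IsFlatOver f (Coh.structureModule X) := fun x => by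
  letI := (f.stalkMap x).hom.toAlgebra
  letI := FlatMod.moduleStalkOver f (Coh.structureModule X) x
  haveI : Module.Flat (Y.presheaf.stalk (f x)) (X.presheaf.stalk x) := Flat.stalkMap f x
  let one := ParaFLib.oneG x
  let e₀ : X.presheaf.stalk x ≃+ (Coh.structureModule X).presheaf.stalk x :=
    AddEquiv.ofBijective (AddMonoidHom.mk' (fun r => r • one) fun a b => add_smul a b _) (ParaFLib.bijective_oneG x)
  exact Module.Flat.of_linearEquiv (e₀.toLinearEquiv fun a b => mul_smul (f.stalkMap x a) b one).symm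

/-- Tensoring keeps epimorphisms, on the other side. -/
theorem epi_tmod_right {M M' : X.Modules} (π : M ⟶ M') [Epi π] (N : X.Modules) :
    Epi (((DCoh.tensorBi (X := X)).obj N).map π) := by
  refine (PullbackMod.epi_iff_stalk _).2 fun x w => ?_
  obtain ⟨w, rfl⟩ := (stalkTensor x N M').surjective w
  obtain ⟨z, rfl⟩ := LinearMap.lTensor_surjective _ ((PullbackMod.epi_iff_stalk π).1 inferInstance x) w
  exact ⟨stalkTensor x N M z, stalkTensor_natural_right x π z⟩

/-- Tensoring keeps epimorphisms. -/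
theorem epi_tmod_left {M M' : X.Modules} (π : M ⟶ M') [Epi π] (N : X.Modules) :
    Epi (((DCoh.tensorBi (X := X)).map π).app N) := by
  refine (PullbackMod.epi_iff_stalk _).2 fun x w => ?_
  obtain ⟨w, rfl⟩ := (stalkTensor x M' N).surjective w
  obtain ⟨z, rfl⟩ := LinearMap.rTensor_surjective _ ((PullbackMod.epi_iff_stalk π).1 inferInstance x) w
  exact ⟨stalkTensor x M N z, stalkTensor_natural_left x π z⟩

/-- An epimorphism of quasi-coherent modules is surjective over affine opens. -/
theorem surjective_app_epi {E E' : X.Modules} (hE : Coh.IsQCoh E) (hE' : Coh.IsQCoh E') (π : E ⟶ E') [Epi π]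
    {U : X.Opens} (hU : IsAffineOpen U) : Function.Surjective (π.app U) := by
  have hS : (ShortComplex.mk (kernel.ι π) π (kernel.condition π)).ShortExact :=
    { exact := ShortComplex.exact_kernel π }
  exact QCohLib.app_surjective hS (QCohLib.isQCoh_X₁ hS hE hE') hU

theorem isFinLocFree_single {M : X.Modules} (h : FlatMod.IsFinLocFree M) (n : ℤ) :
    FlatMod.IsFinLocFree ((sgl₀ M).X n) := by
  rcases eq_or_ne n 0 with rfl | hn
  · exact isFinLocFree_iso (HomologicalComplex.singleObjXSelf (ComplexShape.up ℤ) 0 M).symm h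
  · exact isFinLocFree_of_isZero (HomologicalComplex.isZero_single_obj_X _ _ _ _ hn)

/-- Direct images of finite locally free modules along finite locally free morphisms. -/
theorem isFinLocFree_push_of_flf (hf : Mor2.IsFinLocFree f) {E : X.Modules} (hE : FlatMod.IsFinLocFree E) :
    FlatMod.IsFinLocFree ((Scheme.Modules.pushforward f).obj E) := by
  obtain ⟨hfi, hfl, hfp⟩ := hf
  haveI := hfi
  haveI := hfl
  haveI := hfp
  haveI := (PullbackMod.isQCoh_and_isFP_of_isFinLocFree E hE).1
  haveI : Coh.IsQCoh ((Scheme.Modules.pushforward f).obj E) := QCohLib.isQCoh_pushforward E f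
  refine PullbackMod.isFinLocFree_of_forall_affine _ fun {V} hV => ?_
  have hA : IsAffineOpen (f ⁻¹ᵁ V) := hV.preimage f
  have h1 : (f.app V).hom.Finite := IsFinite.finite_app (f := f) V hV
  have h2 : (f.app V).hom.Flat := by
    rw [Scheme.Hom.app_eq_appLE]; exact HasRingHomProperty.appLE @Flat f inferInstance ⟨V, hV⟩ ⟨f ⁻¹ᵁ V, hA⟩ le_rfl
  have h3 : (f.app V).hom.FinitePresentation := by
    rw [Scheme.Hom.app_eq_appLE]; exact HasRingHomProperty.appLE @LocallyOfFinitePresentation f inferInstance ⟨V, hV⟩ ⟨f ⁻¹ᵁ V, hA⟩ le_rfl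
  algebraize [(f.app V).hom]
  haveI : Module.FinitePresentation Γ(Y, V) Γ(X, f ⁻¹ᵁ V) :=
    Module.FinitePresentation.of_finite_of_finitePresentation _ _
  haveI : Module.Projective Γ(Y, V) Γ(X, f ⁻¹ᵁ V) := Module.Flat.projective_of_finitePresentation
  haveI := FactorOne.projective_sections E hE hA
  haveI : Module.Finite Γ(X, f ⁻¹ᵁ V) Γ(E, f ⁻¹ᵁ V) :=
    QCohLib.finite_sections E (isFT_of_flf hE) hA
  letI := Module.compHom Γ(E, f ⁻¹ᵁ V) (f.app V).hom
  haveI : IsScalarTower Γ(Y, V) Γ(X, f ⁻¹ᵁ V) Γ(E, f ⁻¹ᵁ V) := .of_algebraMap_smul fun _ _ => rfl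
  let e : Γ(E, f ⁻¹ᵁ V) ≃ₗ[Γ(Y, V)] Γ((Scheme.Modules.pushforward f).obj E, V) :=
    { AddEquiv.refl _ with map_smul' := fun r s => rfl }
  haveI : Module.Finite Γ(Y, V) Γ(E, f ⁻¹ᵁ V) := Module.Finite.trans Γ(X, f ⁻¹ᵁ V) _
  haveI : Module.Projective Γ(Y, V) Γ(E, f ⁻¹ᵁ V) := by
    obtain ⟨s, hs⟩ := Module.projective_def'.1 (inferInstance : Module.Projective Γ(X, f ⁻¹ᵁ V) Γ(E, f ⁻¹ᵁ V))
    classical
    haveI : Module.Projective Γ(Y, V) (Γ(E, f ⁻¹ᵁ V) →₀ Γ(X, f ⁻¹ᵁ V)) :=
      Module.Projective.of_equiv (finsuppLequivDFinsupp Γ(Y, V)).symm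
    exact Module.Projective.of_split (s.restrictScalars Γ(Y, V))
      ((Finsupp.linearCombination Γ(X, f ⁻¹ᵁ V) id).restrictScalars Γ(Y, V))
      (LinearMap.ext fun z => LinearMap.congr_fun hs z)
  exact ⟨Module.Finite.equiv e, Module.Projective.of_equiv e⟩

theorem nontrivial_stalk_push' [Surjective f] (y : Y) :
    Nontrivial (((Scheme.Modules.pushforward f).obj (Coh.structureModule X)).presheaf.stalk y) := by
  obtain ⟨x, rfl⟩ := f.surjective y
  let P := (Scheme.Modules.pushforward f).obj (Coh.structureModule X)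
  refine nontrivial_of_ne (P.presheaf.germ ⊤ (f x) (Set.mem_univ _) (1 : Γ(X, f ⁻¹ᵁ ⊤))) 0 fun h => ?_
  obtain ⟨W, hW, i, j, hi⟩ := TopCat.Presheaf.germ_eq P.presheaf (U := ⊤) (V := ⊤) (f x) (Set.mem_univ _) (Set.mem_univ _)
    (1 : Γ(X, f ⁻¹ᵁ ⊤)) 0 (h.trans (map_zero _).symm)
  have h' : (1 : X.presheaf.stalk x) = 0 := by
    have h2 := congrArg (X.presheaf.germ (f ⁻¹ᵁ W) x hW) hi
    refine (map_one (X.presheaf.germ (f ⁻¹ᵁ W) x hW).hom).symm.trans ?_
    refine Eq.trans ?_ (h2.trans ((congrArg _ (map_zero _)).trans (map_zero _)))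
    exact congrArg _ (map_one (X.presheaf.map ((Opens.map f.base).map i).op).hom).symm
  exact one_ne_zero h'

theorem preservesHomology_pullback [Flat f] : (Scheme.Modules.pullback f).PreservesHomology := by
  haveI : (Scheme.Modules.pullback f).Additive := inferInstance
  refine (Scheme.Modules.pullback f).preservesHomology_of_map_exact fun T hT => ?_
  refine ShortComplex.exact_of_iso (T.mapNatIso
    (Functor.isoWhiskerLeft (Scheme.Modules.pullback f) (isoTensorUnit X) ≪≫ Functor.rightUnitor _)) ?_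
  exact exact_tensor_pullback f (Coh.structureModule X) (isFlatOver_unit f) T hT

/-- The derived direct image of a quasi-coherent module along an affine morphism. -/
theorem nonempty_rpush_single [IsAffineHom f] [DCoh.HasRpush f] (M : X.Modules) [Coh.IsQCoh M] :
    Nonempty ((DCoh.Rpush f).obj (DerivedCategory.Q.obj (sgl₀ M)) ≅
      DerivedCategory.Q.obj (sgl₀ ((Scheme.Modules.pushforward f).obj M))) := by
  haveI : (sgl₀ M).IsStrictlyGE 0 := inferInstance
  haveI := isIso_rpushUnit_app_bdd f (sgl₀ M) 0 fun n => by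
    rcases eq_or_ne n 0 with rfl | hn
    · haveI : Coh.IsQCoh ((sgl₀ M).X 0) := (SheafOfModules.isQuasicoherent X.ringCatSheaf).prop_of_iso
        (HomologicalComplex.singleObjXSelf (ComplexShape.up ℤ) 0 M).symm inferInstance
      exact isAcyclicFor_affine f _
    · exact SpSeqLib.isAcyclicFor_of_isZero _ (HomologicalComplex.isZero_single_obj_X _ _ _ _ hn)
  exact ⟨(DCoh.Rpush f).mapIso ((DerivedCategory.quotientCompQhIso X.Modules).app (sgl₀ M)).symm ≪≫
    (asIso ((rpushUnit f).app ((quotM X).obj (sgl₀ M)))).symm ≪≫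
    DerivedCategory.Qh.mapIso (((Scheme.Modules.pushforward f).mapHomotopyCategoryFactors _).app (sgl₀ M)) ≪≫
    (DerivedCategory.quotientCompQhIso Y.Modules).app _ ≪≫
    DerivedCategory.Q.mapIso ((HomologicalComplex.singleMapHomologicalComplex (Scheme.Modules.pushforward f) _ 0).app M)⟩

/-- The projection formula for quasi-coherent modules along finite locally free morphisms. -/
theorem nonempty_push_pullback (hf : Mor2.IsFinLocFree f) (M : Y.Modules) [Coh.IsQCoh M] :
    Nonempty (tmod ((Scheme.Modules.pushforward f).obj (Coh.structureModule X)) M ≅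
      (Scheme.Modules.pushforward f).obj ((Scheme.Modules.pullback f).obj M)) := by
  have hfl := Groth.Agent.FinLocFreeLib.isFinLocFree_push f hf
  obtain ⟨h₁, h₂, -⟩ := hf
  haveI := h₁
  haveI := h₂
  haveI := preservesHomology_pullback f
  haveI : DCoh.HasRpush f := Groth.Agent.KInj.hasRightDerivedFunctor (hres_modules _) _
  let A := (Scheme.Modules.pushforward f).obj (Coh.structureModule X)
  haveI hXq : Coh.IsQCoh (Coh.structureModule X) :=
    CohBase.isQCoh_structureModule
  obtain ⟨I, hI, -, ⟨eI⟩⟩ := exists_injective_resolution X (DerivedCategory.Q.obj (sgl₀ (Coh.structureModule X)))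
  haveI := hI
  let P := (resX Y).obj (sgl₀ M)
  have hP : DCoh.IsKFlat P := isKFlat_resX _
  haveI hπ := quasiIso_resXπ (sgl₀ M)
  let eP : DerivedCategory.Q.obj P ≅ DerivedCategory.Q.obj (sgl₀ M) := @asIso _ _ _ _ _ (isIso_Q_resXπ (sgl₀ M))
  haveI := isIso_projTau f I (TildeD.isQCohD_of_iso eI (isQCohD_sgl₀ _ hXq)) P hP
    (TildeD.isQCohD_of_iso eP.symm (isQCohD_sgl₀ M ‹_›))
  obtain ⟨r⟩ := nonempty_projection_of_isIso f I (sgl₀ M) P eP hP ((pullCx f).obj P) (Iso.refl _)
  obtain ⟨a⟩ := nonempty_rpush_single f (Coh.structureModule X)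
  have hA : DCoh.IsKFlat (sgl₀ A) := isKFlat_of_flat_bddAbove _ 0
    (fun n hn => HomologicalComplex.isZero_single_obj_X _ _ _ _ (by omega))
    fun n => fun y => PullbackMod.isFlat_of_isFinLocFree _ (isFinLocFree_single hfl n) y
  let lhs : (DCoh.LTensorCx (sgl₀ M)).obj ((DCoh.Rpush f).obj (DerivedCategory.Q.obj I)) ≅
      DerivedCategory.Q.obj (sgl₀ (tmod A M)) :=
    (DCoh.LTensorCx (sgl₀ M)).mapIso ((DCoh.Rpush f).mapIso eI.symm ≪≫ a) ≪≫ lTensorIso (sgl₀ M) (sgl₀ A) hA ≪≫
      DerivedCategory.Q.mapIso ((totSingleIso (sgl₀ A) M).symm ≪≫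
        (HomologicalComplex.singleMapHomologicalComplex ((DCoh.tensorBi (X := Y)).flip.obj M) _ 0).app A)
  obtain ⟨s⟩ := nonempty_symCxSch (unitCx X) ((pullCx f).obj P)
  let π' := (pullCx f).map ((resXπ Y).app (sgl₀ M))
  haveI : QuasiIso π' := inferInstanceAs (QuasiIso (((Scheme.Modules.pullback f).mapHomologicalComplex _).map _))
  let b : (DCoh.LTensorCx ((pullCx f).obj P)).obj (DerivedCategory.Q.obj I) ≅
      DerivedCategory.Q.obj (sgl₀ ((Scheme.Modules.pullback f).obj M)) :=
    (DCoh.LTensorCx ((pullCx f).obj P)).mapIso eI.symm ≪≫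
      (lTensorQIso _ (isKFlat_pullback f hP)).app _ ≪≫
      DerivedCategory.Q.mapIso (s ≪≫ tensorUnitCxIso.app _) ≪≫ asIso (DerivedCategory.Q.map π') ≪≫
      DerivedCategory.Q.mapIso ((HomologicalComplex.singleMapHomologicalComplex (Scheme.Modules.pullback f) _ 0).app M)
  haveI := PullbackMod.isQCoh_pullback f M
  obtain ⟨c⟩ := nonempty_rpush_single f ((Scheme.Modules.pullback f).obj M)
  let e := lhs.symm ≪≫ r ≪≫ (DCoh.Rpush f).mapIso b ≪≫ c
  let H : ∀ {Z : Y.Modules}, DCoh.HD (DerivedCategory.Q.obj (sgl₀ Z)) 0 ≅ Z := fun {Z} =>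
    (DerivedCategory.homologyFunctorFactors Y.Modules 0).app _ ≪≫
      (HomologicalComplex.homologyFunctorSingleIso Y.Modules (ComplexShape.up ℤ) 0).app Z
  exact ⟨H.symm ≪≫ (DerivedCategory.homologyFunctor Y.Modules 0).mapIso e ≪≫ H⟩

/-- Pushing forward along an affine morphism keeps epimorphisms of quasi-coherent modules. -/
theorem epi_push_of_qcoh [IsAffineHom f] {M N : X.Modules} (hM : Coh.IsQCoh M) (hN : Coh.IsQCoh N)
    (g : M ⟶ N) [Epi g] : Epi ((Scheme.Modules.pushforward f).map g) := by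
  refine (PullbackMod.epi_iff_stalk _).2 fun y z => ?_
  obtain ⟨U, hy, t, rfl⟩ := TopCat.Presheaf.exists_germ_eq ((Scheme.Modules.pushforward f).obj N).presheaf z
  obtain ⟨_, ⟨V : Y.Opens, (hV : IsAffineOpen V), rfl⟩, hyV, hVU⟩ :=
    Y.isBasis_affineOpens.exists_subset_of_mem_open (a := y) hy U.2
  obtain ⟨w, hw⟩ := surjective_app_epi hM hN g (hV.preimage f)
    (((Scheme.Modules.pushforward f).obj N).presheaf.map (homOfLE hVU).op t)
  refine ⟨((Scheme.Modules.pushforward f).obj M).presheaf.germ V y hyV w, ?_⟩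
  refine (PullbackMod.stalkLin_germ _ _ _ _).trans ?_
  refine (congrArg _ hw).trans ?_
  exact TopCat.Presheaf.germ_res_apply ((Scheme.Modules.pushforward f).obj N).presheaf (homOfLE hVU) y hyV t

/-- The resolution property descends along finite locally free surjections. -/
theorem hasResolutionProperty_descend (hf : Mor2.IsFinLocFree f) [Surjective f]
    (hX : PerfAux.HasResolutionProperty X) : PerfAux.HasResolutionProperty Y := by
  intro M hM hMft
  obtain ⟨h₁, h₂, -⟩ := id hf
  haveI := h₁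
  haveI := h₂
  haveI := hM
  haveI hq := PullbackMod.isQCoh_pullback f M
  obtain ⟨E, π, hE, hπ⟩ := hX _ hq (PullbackMod.isFiniteType_pullback f M hMft)
  haveI := hπ
  let A := (Scheme.Modules.pushforward f).obj (Coh.structureModule X)
  have hA := Groth.Agent.FinLocFreeLib.isFinLocFree_push f hf
  haveI : ModSite.HasSheafHom (O := Y.sheaf) A := Groth.Agent.ModTensor.hasSheafHom (O := Y.sheaf) _
  let D := (StalkHomLib.hF A).obj (Coh.structureModule Y)
  obtain ⟨p⟩ := nonempty_push_pullback f hf M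
  haveI := epi_push_of_qcoh f (PullbackMod.isQCoh_and_isFP_of_isFinLocFree E hE).1 hq π
  let T := DCoh.tensorBi (X := Y)
  haveI := epi_ev A hA (nontrivial_stalk_push' f)
  haveI h₁ : Epi ((T.obj D).map ((Scheme.Modules.pushforward f).map π ≫ p.inv)) := epi_tmod_right _ _
  haveI h₂ : Epi ((T.map (StalkHomLib.ev A (Coh.structureModule Y))).app M) :=
    epi_tmod_left _ M
  exact ⟨tmod D ((Scheme.Modules.pushforward f).obj E),
    (T.obj D).map ((Scheme.Modules.pushforward f).map π ≫ p.inv) ≫ ((Groth.Agent.ModTensor.tensorAssoc Y.sheaf A M).app D).inv ≫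
      (T.map (StalkHomLib.ev A (Coh.structureModule Y))).app M ≫ ((isoTensorUnit Y).app M).hom,
    isFinLocFree_tensor (isFinLocFree_dual A hA) (isFinLocFree_push_of_flf f hf hE),
    @epi_comp _ _ _ _ _ _ h₁ _ (@epi_comp _ _ _ _ _ _ (@IsIso.epi_of_iso _ _ _ _ _ (Iso.isIso_inv _)) _
      (@epi_comp _ _ _ _ _ _ h₂ _ (@IsIso.epi_of_iso _ _ _ _ _ (Iso.isIso_hom _))))⟩

end Groth.Agent.DCohMore
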