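import Groth.Agent.DCohMore.ProjTau
import Groth.Agent.DCohMore.FinPushRes
import Groth.Agent.DCohLib.PullQis
import Groth.Agent.DCohLib.TensorMod
import Groth.Agent.DCohLib.FlatAmp
import Groth.Agent.ModTensor.FlatAcyclic
import Mathlib.Algebra.Homology.DerivedCategory.FullyFaithful

/-!
# Derived direct and inverse images of modules placed in one degree, naturally
-/

set_option autoImplicit false
set_option linter.style.haveILetI false
set_option linter.unusedSectionVars false
set_option backward.isDefEq.respectTransparency false

universe u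

open CategoryTheory Limits AlgebraicGeometry TopologicalSpace
attribute [local instance] HasDerivedCategory.standard

noncomputable section

namespace Groth.Agent.DCohMore.BC

open Groth.Agent.DCohLib

/-- Modules placed in degree `k`. -/
abbrev TT (X : Scheme.{u}) (k : ℤ) : X.Modules ⥤ DCoh.D X :=
  CochainComplex.singleFunctor X.Modules k ⋙ DerivedCategory.Q

instance (X : Scheme.{u}) (k : ℤ) : (TT X k).Full :=
  Functor.Full.of_iso (DerivedCategory.singleFunctorIsoCompQ X.Modules k)

instance (X : Scheme.{u}) (k : ℤ) : (TT X k).Faithful :=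
  Functor.Faithful.of_iso (DerivedCategory.singleFunctorIsoCompQ X.Modules k)

variable {X Y : Scheme.{u}} (f : X ⟶ Y)

/-- The natural map from the derived inverse image of a complex to its inverse image. -/
def lpullNat [DCoh.HasLpull f] : DerivedCategory.Q ⋙ DCoh.Lpull f ⟶
    (Scheme.Modules.pullback f).mapHomologicalComplex (ComplexShape.up ℤ) ⋙ DerivedCategory.Q :=
  Functor.whiskerRight (DerivedCategory.quotientCompQhIso Y.Modules).inv (DCoh.Lpull f) ≫
    (Functor.associator _ _ _).hom ≫
    Functor.whiskerLeft (HomotopyCategory.quotient Y.Modules (ComplexShape.up ℤ)) (lpullCounit f) ≫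
    (Functor.associator _ _ _).inv ≫
    Functor.whiskerRight ((Scheme.Modules.pullback f).mapHomotopyCategoryFactors (ComplexShape.up ℤ)).hom
      DerivedCategory.Qh ≫
    (Functor.associator _ _ _).hom ≫
    Functor.whiskerLeft ((Scheme.Modules.pullback f).mapHomologicalComplex (ComplexShape.up ℤ))
      (DerivedCategory.quotientCompQhIso X.Modules).hom

theorem isIso_lpullNat_app [DCoh.HasLpull f] (C : CochainComplex Y.Modules ℤ)
    (h : IsIso ((lpullCounit f).app ((HomotopyCategory.quotient Y.Modules (ComplexShape.up ℤ)).obj C))) :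
    IsIso ((lpullNat f).app C) := by
  simp only [lpullNat, NatTrans.comp_app, Functor.whiskerLeft_app, Functor.whiskerRight_app,
    Functor.associator_hom_app, Functor.associator_inv_app]
  infer_instance

theorem isIso_rpushNat_app [DCoh.HasRpush f] (C : CochainComplex X.Modules ℤ)
    (h : IsIso ((rpushUnit f).app ((HomotopyCategory.quotient X.Modules (ComplexShape.up ℤ)).obj C))) :
    IsIso ((rpushNat f).app C) := by
  simp only [rpushNat, NatTrans.comp_app, Functor.whiskerLeft_app, Functor.whiskerRight_app,
    Functor.associator_hom_app, Functor.associator_inv_app]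
  infer_instance

/-- `f_* M` maps to the derived direct image. -/
def rhoN [DCoh.HasRpush f] (k : ℤ) : Scheme.Modules.pushforward f ⋙ TT Y k ⟶ TT X k ⋙ DCoh.Rpush f :=
  (Functor.associator _ _ _).inv ≫
    Functor.whiskerRight
      (HomologicalComplex.singleMapHomologicalComplex (Scheme.Modules.pushforward f) (ComplexShape.up ℤ) k).inv
      DerivedCategory.Q ≫
    (Functor.associator _ _ _).hom ≫
    Functor.whiskerLeft (CochainComplex.singleFunctor X.Modules k) (rpushNat f) ≫ (Functor.associator _ _ _).inv

/-- The derived inverse image maps to `f^* M`. -/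
def lamN [DCoh.HasLpull f] (k : ℤ) : TT Y k ⋙ DCoh.Lpull f ⟶ Scheme.Modules.pullback f ⋙ TT X k :=
  (Functor.associator _ _ _).hom ≫
    Functor.whiskerLeft (CochainComplex.singleFunctor Y.Modules k) (lpullNat f) ≫
    (Functor.associator _ _ _).inv ≫
    Functor.whiskerRight
      (HomologicalComplex.singleMapHomologicalComplex (Scheme.Modules.pullback f) (ComplexShape.up ℤ) k).hom
      DerivedCategory.Q ≫
    (Functor.associator _ _ _).hom

theorem isIso_lamN_app [DCoh.HasLpull f] (k : ℤ) (M : Y.Modules)
    (h : IsIso ((lpullCounit f).app ((HomotopyCategory.quotient Y.Modules (ComplexShape.up ℤ)).obj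
      ((CochainComplex.singleFunctor Y.Modules k).obj M)))) : IsIso ((lamN f k).app M) := by
  haveI : IsIso ((lpullNat f).app ((CochainComplex.singleFunctor Y.Modules k).obj M)) := isIso_lpullNat_app f _ h
  simp only [lamN, NatTrans.comp_app, Functor.whiskerLeft_app, Functor.whiskerRight_app,
    Functor.associator_hom_app, Functor.associator_inv_app]
  infer_instance

theorem isIso_lamN_app_flat [DCoh.HasLpull f] (k : ℤ) (M : Y.Modules) (hM : FlatMod.IsFlat M) :
    IsIso ((lamN f k).app M) :=
  isIso_lamN_app f k M (isIso_lpullCounit_app_of_isKFlat f _ (isKFlat_of_flat_bddAbove _ k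
    (fun n hn => HomologicalComplex.isZero_single_obj_X _ _ _ _ (by lia)) fun n => by
      rcases eq_or_ne n k with rfl | hn
      · exact isFlat_congr (HomologicalComplex.singleObjXSelf _ _ M).symm hM
      · exact (isFlat_iff _).2 (ModTensor.isFlat_of_isZero Y.sheaf (HomologicalComplex.isZero_single_obj_X _ _ _ _ hn))))

theorem isIso_rhoN_app [IsAffineHom f] [DCoh.HasRpush f] (k : ℤ) (M : X.Modules) [Coh.IsQCoh M] :
    IsIso ((rhoN f k).app M) := by
  have h : IsIso ((rpushUnit f).app ((HomotopyCategory.quotient X.Modules (ComplexShape.up ℤ)).obj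
      ((CochainComplex.singleFunctor X.Modules k).obj M))) :=
    isIso_rpushUnit_app_bdd f _ k fun n => by
      rcases eq_or_ne n k with rfl | hn
      · haveI : Coh.IsQCoh (((CochainComplex.singleFunctor X.Modules n).obj M).X n) :=
          (SheafOfModules.isQuasicoherent X.ringCatSheaf).prop_of_iso
            (HomologicalComplex.singleObjXSelf (ComplexShape.up ℤ) n M).symm ‹_›
        exact isAcyclicFor_affine f _
      · exact SpSeqLib.isAcyclicFor_of_isZero _ (HomologicalComplex.isZero_single_obj_X _ _ _ _ hn)
  haveI : IsIso ((rpushNat f).app ((CochainComplex.singleFunctor X.Modules k).obj M)) := isIso_rpushNat_app f _ h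
  simp only [rhoN, NatTrans.comp_app, Functor.whiskerLeft_app, Functor.whiskerRight_app,
    Functor.associator_hom_app, Functor.associator_inv_app]
  infer_instance

end Groth.Agent.DCohMore.BC
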