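import Groth.Agent.DCohMore.PerfVanish
import Groth.Agent.DCohLib.CompactB
import Groth.Agent.DCohLib.HDCoprod
import Groth.Agent.DCohLib.ProjFlf
import Groth.Agent.TildeD.Homology
import Groth.Agent.FactorOne.Basic

/-!
# Derived direct images commute with direct sums of objects with quasi-coherent cohomology
-/

set_option autoImplicit false
set_option linter.style.haveILetI false
set_option linter.unusedSectionVars false
set_option maxHeartbeats 1000000

universe u

open CategoryTheory CategoryTheory.Limits AlgebraicGeometry TopologicalSpace Opposite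
open CategoryTheory.Pretriangulated

attribute [local instance] HasDerivedCategory.standard

noncomputable section

namespace Groth.Agent.DCohMore

open Groth.Agent.DCohLib

variable {X S : Scheme.{u}}

/-- Reindexing a coproduct along `ULift`. -/
def uliftSigmaIso {I : Type u} (K : I → DCoh.D X) [HasCoproduct K] [HasCoproduct fun i : ULift.{u + 1} I => K i.down] :
    (∐ fun i : ULift.{u + 1} I => K i.down) ≅ ∐ K where
  hom := Sigma.desc fun i => Sigma.ι K i.down
  inv := Sigma.desc fun i => Sigma.ι (fun i : ULift.{u + 1} I => K i.down) ⟨i⟩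
  hom_inv_id := Sigma.hom_ext _ _ fun i => by simp
  inv_hom_id := Sigma.hom_ext _ _ fun i => by simp

theorem hasCoproduct_D' {I : Type u} (K : I → DCoh.D X) : HasCoproduct K := by
  haveI := hasCoproduct_D fun i : ULift.{u + 1} I => K i.down
  exact hasCoproduct_of_equiv_of_iso (fun i : ULift.{u + 1} I => K i.down) K Equiv.ulift.symm fun _ => Iso.refl _

theorem isQCohD_sigmaU {I : Type u} (M : ULift.{u + 1} I → DCoh.D X) [HasCoproduct M]
    (h : ∀ i, DCoh.IsQCohD (M i)) : DCoh.IsQCohD (∐ M) := by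
  haveI := hasCoproduct_D' fun i : I => M ⟨i⟩
  haveI : HasCoproduct fun i : ULift.{u + 1} I => M ⟨i.down⟩ := inferInstanceAs (HasCoproduct M)
  exact TildeD.isQCohD_of_iso (uliftSigmaIso fun i : I => M ⟨i⟩).symm
    (isQCohD_coproduct (fun i : I => M ⟨i⟩) fun i => h ⟨i⟩)

/-- Perfect objects commute with direct sums of objects with quasi-coherent cohomology. -/
theorem absorbs_qcoh [CompactSpace X] [QuasiSeparatedSpace X] {K : DCoh.D X} (hK : DCoh.IsPerfect K)
    {I : Type u} (M : ULift.{u + 1} I → DCoh.D X) (hM : ∀ i, DCoh.IsQCohD (M i)) [HasCoproduct M] :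
    Absorbs (sigmaTrunc (coproductIsCoproduct M)) K := by
  classical
  obtain ⟨b₀, hb₀⟩ := exists_vanishing_qcoh hK
  let t : CategoryTheory.Triangulated.TStructure (DCoh.D X) := DerivedCategory.TStructure.t
  let A := fun i => (t.truncLT (b₀ + 1)).obj (M i)
  let B := fun i => (t.truncGE (b₀ + 1)).obj (M i)
  let T := fun i => (t.triangleLTGE (b₀ + 1)).obj (M i)
  have hT : ∀ i, T i ∈ distTriang _ := fun i => t.triangleLTGE_distinguished (b₀ + 1) (M i)
  haveI := hasCoproduct_D A
  haveI := hasCoproduct_D B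
  haveI : HasCoproduct fun i => (T i).obj₁ := inferInstanceAs (HasCoproduct A)
  haveI : HasCoproduct fun i => (T i).obj₂ := inferInstanceAs (HasCoproduct M)
  haveI : HasCoproduct fun i => (T i).obj₃ := inferInstanceAs (HasCoproduct B)
  have hd' := Groth.Agent.BrownRep.coproductTriangle_distinguished T hT
  let π : (∐ M) ⟶ ∐ B := Limits.Sigma.map fun i => (t.truncGEπ (b₀ + 1)).app (M i)
  intro f
  obtain ⟨s, hS⟩ := absorbs_of_family_isGE hK B (b₀ + 1)
    (fun i => inferInstanceAs (t.IsGE ((t.truncGE (b₀ + 1)).obj (M i)) (b₀ + 1))) (f ≫ π)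
  refine ⟨s, ?_⟩
  have hπ : sigmaTrunc (coproductIsCoproduct M) s ≫ π = π ≫ sigmaTrunc (coproductIsCoproduct B) s := by
    refine Sigma.hom_ext _ _ fun i => ?_
    have h1 := inj_sigmaTrunc (coproductIsCoproduct M) s i
    have h2 := inj_sigmaTrunc (coproductIsCoproduct B) s i
    simp only [cofan_mk_inj] at h1 h2
    rw [← Category.assoc, h1, Limits.Sigma.ι_map_assoc, h2]
    split_ifs with h
    · exact Limits.Sigma.ι_map _ _
    · rw [zero_comp, comp_zero]
  have h0 : (f - f ≫ sigmaTrunc (coproductIsCoproduct M) s) ≫ π = 0 := by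
    rw [Preadditive.sub_comp, Category.assoc, hπ, ← Category.assoc, hS, sub_self]
  obtain ⟨g, hg⟩ := Triangle.coyoneda_exact₂ _ hd' (f - f ≫ sigmaTrunc (coproductIsCoproduct M) s) h0
  have hg0 : g = 0 := hb₀ _ (isQCohD_sigmaU A fun i => isQCohD_truncLT (hM i) _)
    (isLE_coproduct A b₀ fun i => t.isLE_truncLT_obj (M i) (b₀ + 1) _ (by omega)) g
  exact (sub_eq_zero.1 (hg.trans ((congrArg (· ≫ _) hg0).trans zero_comp))).symm

/-- A quasi-coherent module on an affine scheme without global sections is zero. -/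
theorem isZero_of_sections_zero [IsAffine S] (M : S.Modules) [Coh.IsQCoh M]
    (h : ∀ s : Γ(M, ⊤), s = 0) : IsZero M := by
  rw [IsZero.iff_id_eq_zero]
  refine Scheme.Modules.hom_ext _ _ fun W => ConcreteCategory.hom_ext _ _ fun x => ?_
  have hloc : ∀ y : W, ∃ D : S.Opens, ∃ _ : D ≤ W, y.1 ∈ D ∧ ∀ t : Γ(M, D), t = 0 := fun y => by
    obtain ⟨r, hr, hyr⟩ := (isAffineOpen_top S).exists_basicOpen_le (V := W) ⟨y.1, y.2⟩ (Set.mem_univ _)
    refine ⟨S.basicOpen r, hr, hyr, fun t => ?_⟩
    obtain ⟨n, s, hs⟩ := (QCohLib.locAt M (isAffineOpen_top S)).extend r t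
    rw [h s, map_zero, CohBase.sc_apply] at hs
    have hu : IsUnit (S.presheaf.map (homOfLE (S.basicOpen_le r)).op r) :=
      RingedSpace.isUnit_res_basicOpen _ r
    refine (IsUnit.smul_eq_zero (x := t) (hu.pow n)).1 ?_
    rw [← map_pow]
    exact hs.symm
  choose D hD hyD hD0 using hloc
  refine TopCat.Sheaf.eq_of_locally_eq' (⟨M.presheaf, M.isSheaf⟩ : TopCat.Sheaf Ab.{u} S.carrier)
    D W (fun y => homOfLE (hD y)) (fun y hy => Opens.mem_iSup.2 ⟨⟨y, hy⟩, hyD _⟩) _ _ fun y => ?_
  exact (hD0 y _).trans (hD0 y _).symm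

theorem cl_bijective_affine [IsAffine S] (q : ℤ) (W : DCoh.D S) (hW : DCoh.IsQCohD W) :
    Function.Bijective (RlimCrit.cl : (RlimCrit.sgl q (Coh.structureModule S) ⟶ W) → _) := by
  haveI : HasExt.{u} S.Modules := inferInstance
  haveI := TildeD.hasProductsOfShape_derived (hres_modules S) ℕ
  haveI hp : HasProduct (CohCx.truncTower W) := inferInstance
  exact RlimCrit.cl_bijective.{u} (Coh.structureModule S) q W (Groth.Agent.S1007.result S W hW)
    fun i k hk => by
      obtain ⟨k, rfl⟩ : ∃ k', k = k' + 1 := ⟨k - 1, by omega⟩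
      haveI : Coh.IsQCoh ((DerivedCategory.homologyFunctor S.Modules i).obj W) := hW i
      exact subsingleton_ext_unit _ _ (Groth.Agent.CohBase.subsingleton_HH _ (k + 1)
        (Groth.Agent.CohBase.affine_vanishing _ (isAffineOpen_top S) k))

theorem isPerfect_sgl_unit (Y : Scheme.{u}) (q : ℤ) :
    DCoh.IsPerfect (RlimCrit.sgl q (Coh.structureModule Y)) :=
  isPerfect_of_perfOn ⟨_, isStrictlyPerfect_shiftUnitCx q, ⟨Iso.refl _⟩⟩

theorem absorbs_qcoh' [CompactSpace X] [QuasiSeparatedSpace X] {P : DCoh.D X} (hP : DCoh.IsPerfect P)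
    {I : Type u} (K : I → DCoh.D X) (hK : ∀ i, DCoh.IsQCohD (K i)) [HasCoproduct K] (g : P ⟶ ∐ K) :
    ∃ T : Finset I, g ≫ sigmaTrunc (coproductIsCoproduct K) T = g := by
  classical
  haveI := hasCoproduct_D fun i : ULift.{u + 1} I => K i.down
  let e := uliftSigmaIso K
  obtain ⟨T, hT⟩ := absorbs_qcoh hP (fun i : ULift.{u + 1} I => K i.down) (fun i => hK i.down) (g ≫ e.inv)
  refine ⟨T.image ULift.down, ?_⟩
  have he : sigmaTrunc (coproductIsCoproduct (fun i : ULift.{u + 1} I => K i.down)) T ≫ e.hom =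
      e.hom ≫ sigmaTrunc (coproductIsCoproduct K) (T.image ULift.down) := by
    refine Sigma.hom_ext _ _ fun i => ?_
    have h1 := inj_sigmaTrunc (coproductIsCoproduct (fun i : ULift.{u + 1} I => K i.down)) T i
    have h2 := inj_sigmaTrunc (coproductIsCoproduct K) (T.image ULift.down) i.down
    simp only [cofan_mk_inj] at h1 h2
    have hi : Sigma.ι (fun i : ULift.{u + 1} I => K i.down) i ≫ e.hom = Sigma.ι K i.down :=
      Sigma.ι_desc (f := fun i : ULift.{u + 1} I => K i.down) _ i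
    have hmem : i.down ∈ T.image ULift.down ↔ i ∈ T := by
      simp only [Finset.mem_image]
      exact ⟨fun ⟨j, hj, hji⟩ => (ULift.ext j i hji) ▸ hj, fun h => ⟨i, h, rfl⟩⟩
    rw [← Category.assoc, h1, ← Category.assoc, hi, h2]
    by_cases h : i ∈ T
    · rw [if_pos h, if_pos (hmem.2 h), hi]
    · rw [if_neg h, if_neg (fun h' => h (hmem.1 h')), zero_comp]
  calc g ≫ sigmaTrunc (coproductIsCoproduct K) (T.image ULift.down)
      = (g ≫ e.inv) ≫ e.hom ≫ sigmaTrunc (coproductIsCoproduct K) (T.image ULift.down) := by simp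
    _ = ((g ≫ e.inv) ≫ sigmaTrunc (coproductIsCoproduct fun i : ULift.{u + 1} I => K i.down) T) ≫ e.hom := by
        rw [← he]; simp
    _ = g := by rw [hT]; simp

theorem isIso_sigmaComparison_rpush_affine [IsAffine S] (f : X ⟶ S) [QuasiCompact f] [QuasiSeparated f]
    [DCoh.HasRpush f] {I : Type u} (K : I → DCoh.D X) (hK : ∀ i, DCoh.IsQCohD (K i)) [HasCoproduct K]
    [HasCoproduct fun i => (DCoh.Rpush f).obj (K i)] :
    IsIso (sigmaComparison (DCoh.Rpush f) K) := by
  classical
  haveI : CompactSpace X := QuasiCompact.compactSpace_of_compactSpace f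
  haveI : QuasiSeparatedSpace X := (quasiSeparated_iff_quasiSeparatedSpace f).1 inferInstance
  haveI := hasLpull f
  let adj := lpullRpushAdj f
  haveI : PreservesLimitsOfSize.{0, 0} (DCoh.Rpush f) := adj.rightAdjoint_preservesLimits
  haveI : (DCoh.Rpush f).Additive := CategoryTheory.Functor.additive_of_preserves_binary_products _
  let RK := fun i => (DCoh.Rpush f).obj (K i)
  let a : (∐ RK) ⟶ (DCoh.Rpush f).obj (∐ K) := sigmaComparison (DCoh.Rpush f) K
  let O := fun q : ℤ => RlimCrit.sgl q (Coh.structureModule S)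
  let OX := fun q : ℤ => RlimCrit.sgl q (Coh.structureModule X)
  let eO : ∀ q, (DCoh.Lpull f).obj (O q) ≅ OX q := fun q =>
    lpullIsoK f _ (isKFlat_unitAt q) ≪≫ DerivedCategory.Q.mapIso
      ((HomologicalComplex.singleMapHomologicalComplex (Scheme.Modules.pullback f) (ComplexShape.up ℤ) q).app _ ≪≫
        (HomologicalComplex.single X.Modules (ComplexShape.up ℤ) q).mapIso (pullStructureIso f))
  have hι : ∀ i, Sigma.ι RK i ≫ a = (DCoh.Rpush f).map (Sigma.ι K i) := fun i =>
    ι_comp_sigmaComparison (DCoh.Rpush f) K i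
  have surj : ∀ q (g : O q ⟶ (DCoh.Rpush f).obj (∐ K)), ∃ h, h ≫ a = g := fun q g => by
    let g' : (DCoh.Lpull f).obj (O q) ⟶ ∐ K := (adj.homEquiv _ _).symm g
    obtain ⟨T, hT⟩ := absorbs_qcoh' (isPerfect_iso (eO q).symm (isPerfect_sgl_unit X q)) K hK g'
    refine ⟨∑ i ∈ T, adj.homEquiv _ _ (g' ≫ sigmaProj (coproductIsCoproduct K) i) ≫ Sigma.ι RK i, ?_⟩
    rw [Preadditive.sum_comp]
    simp only [Category.assoc, hι, ← adj.homEquiv_naturality_right]
    have : g = adj.homEquiv _ _ g' := ((adj.homEquiv _ _).apply_symm_apply g).symm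
    rw [this]
    conv_rhs => rw [← hT]
    rw [sigmaTrunc, Preadditive.comp_sum, Adjunction.homEquiv_unit, Functor.map_sum,
      Preadditive.comp_sum]
    refine Finset.sum_congr rfl fun i _ => ?_
    rw [Adjunction.homEquiv_unit]
    rfl
  have inj : ∀ q (h : O q ⟶ ∐ RK), h ≫ a = 0 → h = 0 := fun q h hh => by
    obtain ⟨T, hT⟩ := absorbs_qcoh' (isPerfect_sgl_unit S q) RK (fun i => isQCohD_rpush f _ (hK i)) h
    rw [← hT, sigmaTrunc, Preadditive.comp_sum]
    refine Finset.sum_eq_zero fun i _ => ?_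
    have e : a ≫ (DCoh.Rpush f).map (sigmaProj (coproductIsCoproduct K) i) =
        sigmaProj (coproductIsCoproduct RK) i := by
      refine Sigma.hom_ext _ _ fun j => ?_
      rw [← Category.assoc, hι, ← Functor.map_comp]
      by_cases hji : j = i
      · subst hji
        have h1 := inj_sigmaProj_self (coproductIsCoproduct K) j
        have h2 := inj_sigmaProj_self (coproductIsCoproduct RK) j
        simp only [cofan_mk_inj] at h1 h2
        rw [h1, h2]
        exact CategoryTheory.Functor.map_id _ _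
      · have h1 := inj_sigmaProj_ne (coproductIsCoproduct K) hji
        have h2 := inj_sigmaProj_ne (coproductIsCoproduct RK) hji
        simp only [cofan_mk_inj] at h1 h2
        rw [h1, h2, Functor.map_zero]
    rw [← Category.assoc, ← e, ← Category.assoc, hh, zero_comp, zero_comp]
  obtain ⟨C, b, c, hT⟩ := distinguished_cocone_triangle a
  have hC : DCoh.IsQCohD C := isQCohD_obj₂ _ (rot_of_distTriang _ hT)
    (isQCohD_rpush f _ (isQCohD_coproduct K hK))
    (isQCohD_shift' (isQCohD_coproduct RK fun i => isQCohD_rpush f _ (hK i)) 1)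
  refine (Triangle.isZero₃_iff_isIso₁ _ hT).1 (isZero_of_isZero_HD fun q => ?_)
  show IsZero (DCoh.HD C q)
  haveI : Coh.IsQCoh (DCoh.HD C q) := hC q
  have hvan : ∀ g : O q ⟶ C, g = 0 := fun g => by
    let e := RlimCrit.sglShiftIso (Coh.structureModule S) q (q + 1) (by omega)
    have h0 : g ≫ c = 0 := by
      obtain ⟨h, hh⟩ := (shiftFunctor (DCoh.D S) (1 : ℤ)).map_surjective (e.hom ≫ g ≫ c)
      have : h ≫ a = 0 := (shiftFunctor (DCoh.D S) (1 : ℤ)).map_injective (by
        rw [Functor.map_comp, hh, Functor.map_zero, Category.assoc, Category.assoc,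
          show c ≫ a⟦(1 : ℤ)⟧' = 0 from comp_distTriang_mor_zero₃₁ _ hT, comp_zero, comp_zero])
      rw [inj _ h this, Functor.map_zero] at hh
      exact (cancel_epi e.hom).1 (hh.symm.trans comp_zero.symm)
    obtain ⟨g₁, hg₁⟩ := Triangle.coyoneda_exact₃ _ hT g h0
    obtain ⟨h, rfl⟩ := surj q g₁
    rw [hg₁]
    exact (Category.assoc _ _ _).trans ((congrArg (h ≫ ·) (comp_distTriang_mor_zero₁₂ _ hT)).trans comp_zero)
  refine isZero_of_sections_zero _ fun s => ?_
  obtain ⟨φ, rfl⟩ : ∃ φ : Coh.structureModule S ⟶ DCoh.HD C q, φ.app ⊤ (1 : Γ(S, ⊤)) = s :=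
    ⟨FactorOne.ofSection _ s, by
      rw [FactorOne.ofSection_app, one_smul]
      exact CohBase.restr_self _ _ s⟩
  obtain ⟨ξ, hξ⟩ := (cl_bijective_affine q C hC).2 φ
  have h0 : φ = 0 := by
    rw [← hξ, hvan ξ, RlimCrit.cl, Functor.map_zero, comp_zero, comp_zero]
  rw [h0]
  rfl

/-- Restriction to an open subscheme commutes with direct sums in the derived category. -/
theorem preservesCoproduct_restrictD (V : X.Opens) {I : Type u} (M : I → DCoh.D X) [HasCoproduct M] :
    PreservesColimit (Discrete.functor M) (DCoh.restrictD V.ι) := by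
  let F := fun i => DerivedCategory.Q.objPreimage (M i)
  let c₀ : Cofan F := Cofan.mk (∐ F) (Sigma.ι F)
  let eM := fun i => (DerivedCategory.Q.objObjPreimageIso (M i)).symm
  obtain ⟨hQ⟩ := nonempty_isColimit_Q M (coproductIsCoproduct F : IsColimit c₀) eM
  haveI : PreservesColimitsOfSize.{u, u} (Scheme.Modules.restrictFunctor V.ι) := by
    haveI : PreservesColimitsOfSize.{u, u} (Scheme.Modules.pullback V.ι) :=
      (Scheme.Modules.pullbackPushforwardAdjunction V.ι).leftAdjoint_preservesColimits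
    exact preservesColimits_of_natIso (Scheme.Modules.restrictFunctorIsoPullback V.ι).symm
  let c₁ : Cofan fun i => (resCx V.ι).obj (F i) := Cofan.mk ((resCx V.ι).obj (∐ F))
    fun i => (resCx V.ι).map (Sigma.ι F i)
  have hc₁ : IsColimit c₁ := isColimitCofanMkObjOfIsColimit (resCx V.ι) _ _ (coproductIsCoproduct F)
  let eV := fun i => (DCoh.restrictD V.ι).mapIso (eM i) ≪≫ restrictDQ V.ι (F i)
  obtain ⟨hV⟩ := nonempty_isColimit_Q (fun i => (DCoh.restrictD V.ι).obj (M i)) hc₁ eV
  refine preservesColimit_of_preserves_colimit_cocone hQ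
    ((isColimitMapCoconeCofanMkEquiv (DCoh.restrictD V.ι) _ _).symm (IsColimit.ofIsoColimit hV ?_))
  refine Cofan.ext (restrictDQ V.ι (∐ F)).symm fun i => ?_
  show ((eV i).hom ≫ DerivedCategory.Q.map ((resCx V.ι).map (Sigma.ι F i))) ≫ (restrictDQ V.ι (∐ F)).inv =
    (DCoh.restrictD V.ι).map ((eM i).hom ≫ DerivedCategory.Q.map (Sigma.ι F i))
  have n := (Scheme.Modules.restrictFunctor V.ι).mapDerivedCategoryFactors.hom.naturality (Sigma.ι F i)
  simp only [eV, restrictDQ, Iso.trans_hom, Functor.mapIso_hom, Iso.app_hom, Iso.app_inv, Category.assoc]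
  dsimp only [Functor.comp_map] at n
  erw [← reassoc_of% n]
  simp [c₀, ← Functor.map_comp]

theorem isIso_of_restrictD {A B : DCoh.D S} (a : A ⟶ B)
    (h : ∀ y : S, ∃ V : S.Opens, y ∈ V ∧ IsIso ((DCoh.restrictD V.ι).map a)) : IsIso a := by
  rw [DerivedCategory.isIso_iff]
  intro q
  refine DCohLib.isIso_of_local _ fun y => ?_
  obtain ⟨V, hy, hV⟩ := h y
  refine ⟨V, V.ι, inferInstance, ⟨y, hy⟩, rfl, ?_⟩
  haveI := hV
  exact (NatIso.isIso_map_iff (TildeD.nu (Scheme.Modules.restrictFunctor V.ι) q) a).1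
    (inferInstanceAs (IsIso ((DerivedCategory.homologyFunctor _ q).map ((DCoh.restrictD V.ι).map a))))

/-- Derived direct images commute with direct sums of objects with quasi-coherent cohomology. -/
theorem isIso_sigmaComparison_rpush (f : X ⟶ S) [QuasiCompact f] [QuasiSeparated f]
    [DCoh.HasRpush f] {I : Type u} (K : I → DCoh.D X) (hK : ∀ i, DCoh.IsQCohD (K i)) [HasCoproduct K]
    [HasCoproduct fun i => (DCoh.Rpush f).obj (K i)] :
    IsIso (sigmaComparison (DCoh.Rpush f) K) := by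
  refine isIso_of_restrictD _ fun y => ?_
  obtain ⟨_, ⟨V : S.Opens, hV, rfl⟩, hy, -⟩ :=
    S.isBasis_affineOpens.exists_subset_of_mem_open (a := y) (Set.mem_univ y) isOpen_univ
  refine ⟨V, hy, ?_⟩
  haveI : IsAffine (V : Scheme.{u}) := hV
  haveI : DCoh.HasRpush (f ∣_ V) := Groth.Agent.KInj.hasRightDerivedFunctor (hres_modules _) _
  obtain ⟨eV⟩ := Groth.Agent.S6508.result f V
  haveI := preservesCoproduct_restrictD (f ⁻¹ᵁ V) K
  haveI := preservesCoproduct_restrictD V fun i => (DCoh.Rpush f).obj (K i)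
  haveI := hasCoproduct_D' fun i => (DCoh.restrictD (f ⁻¹ᵁ V).ι).obj (K i)
  haveI := hasCoproduct_D' fun i => (DCoh.Rpush (f ∣_ V)).obj ((DCoh.restrictD (f ⁻¹ᵁ V).ι).obj (K i))
  haveI := isIso_sigmaComparison_rpush_affine (f ∣_ V) (fun i => (DCoh.restrictD (f ⁻¹ᵁ V).ι).obj (K i))
    fun i => TildeD.isQCohD_restrict _ _ (hK i)
  haveI : PreservesColimit (Discrete.functor fun i => (DCoh.restrictD (f ⁻¹ᵁ V).ι).obj (K i))
      (DCoh.Rpush (f ∣_ V)) := PreservesCoproduct.of_iso_comparison _ _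
  haveI : PreservesColimit (Discrete.functor ((DCoh.restrictD (f ⁻¹ᵁ V).ι).obj ∘ K)) (DCoh.Rpush (f ∣_ V)) :=
    inferInstanceAs (PreservesColimit (Discrete.functor fun i => (DCoh.restrictD (f ⁻¹ᵁ V).ι).obj (K i))
      (DCoh.Rpush (f ∣_ V)))
  haveI : PreservesColimit (Discrete.functor K ⋙ DCoh.restrictD (f ⁻¹ᵁ V).ι) (DCoh.Rpush (f ∣_ V)) :=
    preservesColimit_of_iso_diagram _ (Discrete.compNatIsoDiscrete K (DCoh.restrictD (f ⁻¹ᵁ V).ι)).symm
  haveI : PreservesColimit (Discrete.functor K) (DCoh.Rpush f ⋙ DCoh.restrictD V.ι) :=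
    preservesColimit_of_natIso _ eV.symm
  haveI := hasCoproduct_D' fun i => (DCoh.restrictD V.ι).obj ((DCoh.Rpush f).obj (K i))
  haveI : HasCoproduct fun i => (DCoh.Rpush f ⋙ DCoh.restrictD V.ι).obj (K i) :=
    inferInstanceAs (HasCoproduct fun i => (DCoh.restrictD V.ι).obj ((DCoh.Rpush f).obj (K i)))
  have e : sigmaComparison (DCoh.restrictD V.ι) (fun i => (DCoh.Rpush f).obj (K i)) ≫
      (DCoh.restrictD V.ι).map (sigmaComparison (DCoh.Rpush f) K) =
      sigmaComparison (DCoh.Rpush f ⋙ DCoh.restrictD V.ι) K := by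
    refine Sigma.hom_ext _ _ fun i => ?_
    rw [ι_comp_sigmaComparison_assoc, ← Functor.map_comp, ι_comp_sigmaComparison]
    exact (ι_comp_sigmaComparison (DCoh.Rpush f ⋙ DCoh.restrictD V.ι) K i).symm
  haveI : IsIso (sigmaComparison (DCoh.restrictD V.ι) fun i => (DCoh.Rpush f).obj (K i)) := inferInstance
  haveI : IsIso (sigmaComparison (DCoh.restrictD V.ι) (fun i => (DCoh.Rpush f).obj (K i)) ≫
      (DCoh.restrictD V.ι).map (sigmaComparison (DCoh.Rpush f) K)) := by
    rw [e]
    infer_instance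
  exact IsIso.of_isIso_comp_left (sigmaComparison (DCoh.restrictD V.ι) fun i => (DCoh.Rpush f).obj (K i)) _

end Groth.Agent.DCohMore
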