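import Groth.Agent.DCohMore.ProjQC
import Groth.Agent.DCohMore.RpushSum
import Groth.Agent.DCohMore.BCNat

/-!
# Quasi-coherent objects on an affine scheme are generated by the structure sheaf
-/

set_option autoImplicit false
set_option linter.style.haveILetI false
set_option linter.unusedSectionVars false
set_option backward.isDefEq.respectTransparency false
set_option maxHeartbeats 1000000

universe u

open CategoryTheory Limits AlgebraicGeometry TopologicalSpace Pretriangulated
attribute [local instance] HasDerivedCategory.standard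

noncomputable section

namespace Groth.Agent.DCohMore.BC

open Groth.Agent.DCohLib

variable (A : Type u) [CommRing A]

/-- The structure sheaf generates the quasi-coherent objects under shifts, cones and sums. -/
theorem qcoh_affine_induction (P : DCoh.D (Spec (CommRingCat.of A)) → Prop)
    (iso : ∀ {K L : DCoh.D (Spec (CommRingCat.of A))}, (K ≅ L) → P K → P L)
    (gen : ∀ n : ℤ, P ((TT _ n).obj (Coh.structureModule _)))
    (sigma : ∀ {κ : Type u} (K : κ → DCoh.D (Spec (CommRingCat.of A))) [HasCoproduct K],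
      (∀ k, DCoh.IsQCohD (K k)) → (∀ k, P (K k)) → P (∐ K))
    (cone : ∀ T ∈ distTriang (DCoh.D (Spec (CommRingCat.of A))),
      DCoh.IsQCohD T.obj₁ → DCoh.IsQCohD T.obj₂ → P T.obj₁ → P T.obj₂ → P T.obj₃)
    (K : DCoh.D (Spec (CommRingCat.of A))) (hK : DCoh.IsQCohD K) : P K := by
  haveI := TildeD.preservesFiniteLimits_tilde (R := CommRingCat.of A)
  haveI : (tilde.functor (CommRingCat.of A)).Additive := TildeKFlat.additive_til (CommRingCat.of A)
  haveI := TildeLpull.preservesHomology_tilde (CommRingCat.of A)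
  obtain ⟨M, ⟨e⟩⟩ := ((TildeD.main (CommRingCat.of A)).2.2 _).1 hK
  let C := DerivedCategory.Q.objPreimage M
  let eC : DerivedCategory.Q.obj ((TildeLpull.tilCx (CommRingCat.of A)).obj C) ≅ K :=
    ((TildeLpull.tildeDFactors (CommRingCat.of A)).app C).symm ≪≫
      (DCoh.tildeD (CommRingCat.of A)).mapIso (DerivedCategory.Q.objObjPreimageIso M) ≪≫ e
  have hq : ∀ C : CochainComplex (ModuleCat.{u} A) ℤ,
      DCoh.IsQCohD (DerivedCategory.Q.obj ((TildeLpull.tilCx (CommRingCat.of A)).obj C)) := fun C =>
    TildeD.isQCohD_of_iso ((TildeLpull.tildeDFactors (CommRingCat.of A)).app C) (TildeD.isQCohD_tildeD _ _)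
  refine iso eC ?_
  clear e eC
  clear_value C
  clear M hK
  letI := BrownRep.smallDerivedCategory (ModuleCat.{u} A)
  let L := TildeLpull.tilCx (CommRingCat.of A) ⋙ DerivedCategory.Q
  have hL : (HomologicalComplex.quasiIso (ModuleCat.{u} A) (ComplexShape.up ℤ)).IsInvertedBy L := fun _ _ α hα => by
    haveI : QuasiIso α := (HomologicalComplex.mem_quasiIso_iff _).1 hα
    haveI : QuasiIso ((TildeLpull.tilCx (CommRingCat.of A)).map α) :=
      HomologicalComplex.quasiIso_map_of_preservesHomology α (tilde.functor (CommRingCat.of A))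
    exact inferInstanceAs (IsIso (DerivedCategory.Q.map ((TildeLpull.tilCx (CommRingCat.of A)).map α)))
  let Θ : DerivedCategory (ModuleCat.{u} A) ⥤ DCoh.D (Spec (CommRingCat.of A)) :=
    Localization.lift L hL DerivedCategory.Q
  let θ : DerivedCategory.Q ⋙ Θ ≅ L := Localization.fac L hL DerivedCategory.Q
  have hΘq : ∀ M, DCoh.IsQCohD (Θ.obj M) := fun M =>
    TildeD.isQCohD_of_iso ((θ.app _).symm ≪≫ Θ.mapIso (DerivedCategory.Q.objObjPreimageIso M)) (hq _)
  have hΘ : ExTri Θ := by
    refine exTri_of_split Θ fun S hS => exists_triangle_of_iso (θ.app S.X₁) (θ.app S.X₂) (θ.app S.X₃)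
      (θ.hom.naturality S.f) (θ.hom.naturality S.g) ?_
    exact exists_triangle_of_shortExact
      (S := S.map ((tilde.functor (CommRingCat.of A)).mapHomologicalComplex (ComplexShape.up ℤ)))
      (HomologicalComplex.shortExact_of_degreewise_shortExact _
      fun n => ((hS n).some.map (tilde.functor (CommRingCat.of A))).shortExact)
  have hΘc : ∀ {κ : Type u} (M : κ → DerivedCategory (ModuleCat.{u} A)),
      PreservesColimit (Discrete.functor M) Θ := by
    intro κ M
    let F := fun k => DerivedCategory.Q.objPreimage (M k)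
    let eM := fun k => (DerivedCategory.Q.objObjPreimageIso (M k)).symm
    obtain ⟨hQ⟩ := nonempty_isColimit_Q_gen M (c₀ := Cofan.mk (∐ F) (Sigma.ι F)) (coproductIsCoproduct F) eM
    haveI : PreservesColimitsOfSize.{u, u} (tilde.functor (CommRingCat.of A)) :=
      tilde.adjunction.leftAdjoint_preservesColimits
    haveI := preservesCoproduct_mapCx (κ := κ) (tilde.functor (CommRingCat.of A))
    obtain ⟨hV'⟩ := nonempty_isColimit_comp_Q (TildeLpull.tilCx (CommRingCat.of A)) F
    let e := fun k => Θ.mapIso (eM k) ≪≫ θ.app (F k)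
    refine preservesColimit_of_preserves_colimit_cocone hQ
      ((isColimitMapCoconeCofanMkEquiv Θ _ _).symm (IsColimit.ofIsoColimit
        ((IsColimit.precomposeHomEquiv (Discrete.natIso fun ⟨k⟩ => e k) _).symm hV') ?_))
    refine Cofan.ext (θ.app (∐ F)).symm fun k => ?_
    show ((e k).hom ≫ L.map (Sigma.ι F k)) ≫ (θ.app (∐ F)).inv =
      Θ.map ((eM k).hom ≫ DerivedCategory.Q.map (Sigma.ι F k))
    refine (Iso.comp_inv_eq (θ.app (∐ F))).2 ?_
    rw [Functor.map_comp, Category.assoc]
    refine Eq.trans ?_ (congrArg (_ ≫ ·) (θ.hom.naturality (Sigma.ι F k))).symm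
    exact Category.assoc _ _ _
  suffices h : ∀ W, P (Θ.obj W) from iso (θ.app C) (h _)
  refine derived_module_induction _ (fun W => P (Θ.obj W)) (fun e h => iso (Θ.mapIso e) h) (fun m => ?_) ?_ ?_
  · let R₀ := (HomologicalComplex.single (ModuleCat.{u} A) (ComplexShape.up ℤ) 0).obj (ModuleCat.of A A)
    let e : DerivedCategory.Q.obj (R₀⟦m⟧) ≅ (BrownRep.ringObj A)⟦m⟧ :=
      ((DerivedCategory.Q).commShiftIso m).app R₀ ≪≫
        (shiftFunctor _ m).mapIso ((DerivedCategory.quotientCompQhIso _).symm.app R₀)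
    refine iso (Θ.mapIso e) (iso (θ.app _).symm ?_)
    refine iso (DerivedCategory.Q.mapIso
      ((TildeLpull.tilCx (CommRingCat.of A)).mapIso
        (((CochainComplex.singleFunctors (ModuleCat.{u} A)).shiftIso m (-m) 0 (by omega)).app _) ≪≫
      (HomologicalComplex.singleMapHomologicalComplex (tilde.functor (CommRingCat.of A)) (ComplexShape.up ℤ) (-m)).app _ ≪≫
      (HomologicalComplex.single (Spec (CommRingCat.of A)).Modules (ComplexShape.up ℤ) (-m)).mapIso tildeSelf)).symm
      (gen (-m))
  · intro κ M _ hM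
    haveI := hΘc M
    haveI := hasCoproduct_D' fun k => Θ.obj (M k)
    exact iso (PreservesCoproduct.iso Θ M).symm (sigma _ (fun k => hΘq _) hM)
  · intro T hT h₁ h₂
    obtain ⟨c, hc⟩ := hΘ T hT
    exact cone _ hc (hΘq _) (hΘq _) h₁ h₂

end Groth.Agent.DCohMore.BC
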