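import Groth.Agent.DCohMore.BCAffine
import Groth.Agent.DCohMore.QCGen
import Groth.Agent.TildeD.QCohPull
import Groth.Agent.SiteCmpLib.Rpush
import Mathlib.CategoryTheory.Triangulated.Adjunction

/-!
# The base change transform of affine schemes at quasi-coherent objects
-/

set_option autoImplicit false
set_option linter.style.haveILetI false
set_option linter.unusedSectionVars false
set_option backward.isDefEq.respectTransparency false
set_option maxHeartbeats 1000000

universe u

open CategoryTheory Limits AlgebraicGeometry TopologicalSpace Pretriangulated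
attribute [local instance] HasDerivedCategory.standard

noncomputable section

namespace Groth.Agent.DCohMore.BC

open Groth.Agent.DCohLib

variable {X Y : Scheme.{u}}

theorem exTri_rpush (f : X ⟶ Y) [DCoh.HasRpush f] : ExTri (DCoh.Rpush f) := by
  haveI : SiteCmp.HasRpushD (ModSite.RMor.ofScheme f) := ‹DCoh.HasRpush f›
  obtain ⟨h₁, h₂⟩ := SiteCmpLib.exists_triangulated_rpushD (ModSite.RMor.ofScheme f)
  letI : (DCoh.Rpush f).CommShift ℤ := h₁
  haveI : (DCoh.Rpush f).IsTriangulated := h₂
  exact exTri_of_isTriangulated _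

theorem exTri_lpull (f : X ⟶ Y) [DCoh.HasLpull f] : ExTri (DCoh.Lpull f) := by
  haveI : DCoh.HasRpush f := Groth.Agent.KInj.hasRightDerivedFunctor (hres_modules _) _
  haveI : SiteCmp.HasRpushD (ModSite.RMor.ofScheme f) := ‹DCoh.HasRpush f›
  obtain ⟨h₁, h₂⟩ := SiteCmpLib.exists_triangulated_rpushD (ModSite.RMor.ofScheme f)
  letI : (DCoh.Rpush f).CommShift ℤ := h₁
  haveI : (DCoh.Rpush f).IsTriangulated := h₂
  letI := (lpullRpushAdj f).leftAdjointCommShift ℤ
  haveI := (lpullRpushAdj f).commShift_of_rightAdjoint ℤ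
  haveI := (lpullRpushAdj f).isTriangulated_leftAdjoint
  exact exTri_of_isTriangulated _

variable {R A B : Type u} [CommRing R] [CommRing A] [CommRing B] (φ : R →+* A) (ψ : R →+* B)
variable {X' : Scheme.{u}} {g' : X' ⟶ Spec (CommRingCat.of A)} {f' : X' ⟶ Spec (CommRingCat.of B)}

/-- Base change for affine schemes, for any identification. -/
theorem isIso_bc_affine (hsq : IsPullback g' f' (TildeLpull.specMap φ) (TildeLpull.specMap ψ))
    (htor : ∀ i : ℕ, 0 < i → Subsingleton (@DRing.Tor R _ i B A _ ψ.toModule _ φ.toModule))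
    [DCoh.HasRpush (TildeLpull.specMap φ)] [DCoh.HasRpush (TildeLpull.specMap ψ)]
    [DCoh.HasLpull (TildeLpull.specMap ψ)] [DCoh.HasRpush f'] [DCoh.HasRpush g'] [DCoh.HasLpull g']
    (adjg : DCoh.Lpull (TildeLpull.specMap ψ) ⊣ DCoh.Rpush (TildeLpull.specMap ψ))
    (adjg' : DCoh.Lpull g' ⊣ DCoh.Rpush g')
    (e : DCoh.Rpush g' ⋙ DCoh.Rpush (TildeLpull.specMap φ) ≅ DCoh.Rpush f' ⋙ DCoh.Rpush (TildeLpull.specMap ψ))
    (K : DCoh.D (Spec (CommRingCat.of A))) (hK : DCoh.IsQCohD K) :
    IsIso ((bc adjg adjg' e).app K) := by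
  let f := TildeLpull.specMap φ
  let g := TildeLpull.specMap ψ
  haveI : IsAffineHom f := isAffineHom_of_isAffine _
  haveI : IsAffineHom f' := MorphismProperty.of_isPullback (P := @IsAffineHom) hsq inferInstance
  let F₁ := DCoh.Rpush f ⋙ DCoh.Lpull g
  let F₂ := DCoh.Lpull g' ⋙ DCoh.Rpush f'
  let τ : F₁ ⟶ F₂ := bc adjg adjg' e
  have invar : ∀ {K L : DCoh.D (Spec (CommRingCat.of A))}, (K ≅ L) → IsIso (τ.app K) → IsIso (τ.app L) :=
    fun e h => (NatTrans.isIso_app_iff_of_iso τ e).1 h
  have hq : ∀ (K : DCoh.D (Spec (CommRingCat.of A))) (n : ℤ), DCoh.IsQCohD K → DCoh.IsQCohD (K⟦n⟧) :=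
    fun K n hK i => isQCoh_of_iso'
      (((DerivedCategory.homologyFunctor (Spec (CommRingCat.of A)).Modules 0).shiftIso n i (n + i) rfl).app K).symm
      (hK (n + i))
  suffices h : ∀ n : ℤ, IsIso (τ.app (K⟦n⟧)) from invar ((shiftFunctorZero _ ℤ).app K) (h 0)
  refine qcoh_affine_induction A (fun K => ∀ n : ℤ, IsIso (τ.app (K⟦n⟧)))
    (fun e h n => invar ((shiftFunctor _ n).mapIso e) (h n)) (fun m n => ?_) ?_ ?_ K hK
  · refine invar ?_ (isIso_bc_affine_generator φ ψ hsq htor adjg adjg' e (m - n))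
    exact DerivedCategory.Q.mapIso
        (((CochainComplex.singleFunctors (Spec (CommRingCat.of A)).Modules).shiftIso n (m - n) m (by omega)).app
          (Coh.structureModule _)).symm ≪≫
      ((DerivedCategory.Q).commShiftIso n).app _
  · intro κ M _ hMq hM n
    haveI := hasCoproduct_D' fun k => (M k)⟦n⟧
    refine invar (PreservesCoproduct.iso (shiftFunctor _ n) M).symm ?_
    let W := fun k => (M k)⟦n⟧
    have hWq : ∀ k, DCoh.IsQCohD (W k) := fun k => hq _ n (hMq k)
    haveI : (DCoh.Lpull g).IsLeftAdjoint := adjg.isLeftAdjoint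
    haveI : (DCoh.Lpull g').IsLeftAdjoint := adjg'.isLeftAdjoint
    haveI := hasCoproduct_D' fun k => (DCoh.Rpush f).obj (W k)
    haveI := hasCoproduct_D' fun k => (DCoh.Lpull g').obj (W k)
    haveI := hasCoproduct_D' fun k => F₁.obj (W k)
    haveI := hasCoproduct_D' fun k => F₂.obj (W k)
    haveI := hasCoproduct_D' fun k => (DCoh.Rpush f').obj ((DCoh.Lpull g').obj (W k))
    haveI := isIso_sigmaComparison_rpush f W hWq
    haveI := isIso_sigmaComparison_rpush f' (fun k => (DCoh.Lpull g').obj (W k))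
      fun k => TildeD.isQCohD_lpull g' _ (hWq k)
    haveI : PreservesColimit (Discrete.functor W) (DCoh.Rpush f) := PreservesCoproduct.of_iso_comparison _ _
    haveI : PreservesColimit (Discrete.functor fun k => (DCoh.Lpull g').obj (W k)) (DCoh.Rpush f') :=
      PreservesCoproduct.of_iso_comparison _ _
    haveI : PreservesColimit (Discrete.functor ((DCoh.Lpull g').obj ∘ W)) (DCoh.Rpush f') :=
      inferInstanceAs (PreservesColimit (Discrete.functor fun k => (DCoh.Lpull g').obj (W k)) (DCoh.Rpush f'))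
    haveI : PreservesColimit (Discrete.functor W ⋙ DCoh.Lpull g') (DCoh.Rpush f') :=
      preservesColimit_of_iso_diagram _ (Discrete.compNatIsoDiscrete W (DCoh.Lpull g')).symm
    haveI : PreservesColimit (Discrete.functor W) F₁ := inferInstance
    haveI : PreservesColimit (Discrete.functor W) F₂ := inferInstance
    haveI : ∀ k, IsIso (τ.app (W k)) := fun k => hM k n
    haveI : HasCoproductsOfShape κ (DCoh.D (Spec (CommRingCat.of B))) := ⟨fun F =>
      haveI := hasCoproduct_D' (F.obj ∘ Discrete.mk)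
      hasColimit_of_iso (F := Discrete.functor (F.obj ∘ Discrete.mk)) Discrete.natIsoFunctor⟩
    have he : (PreservesCoproduct.iso F₁ W).inv ≫ τ.app (∐ W) =
        (Limits.Sigma.mapIso fun k => asIso (τ.app (W k))).hom ≫ (PreservesCoproduct.iso F₂ W).inv := by
      rw [PreservesCoproduct.inv_hom, PreservesCoproduct.inv_hom]
      refine Sigma.hom_ext _ _ fun k => ?_
      rw [ι_comp_sigmaComparison_assoc, Limits.Sigma.ι_mapIso_hom_assoc, ι_comp_sigmaComparison]
      exact τ.naturality _
    haveI : IsIso ((PreservesCoproduct.iso F₁ W).inv ≫ τ.app (∐ W)) := by rw [he]; infer_instance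
    exact IsIso.of_isIso_comp_left (PreservesCoproduct.iso F₁ W).inv _
  · intro T hT _ _ h₁ h₂ n
    refine isIso_app₃ ((exTri_rpush f).comp (exTri_lpull g)) ((exTri_lpull g').comp (exTri_rpush f')) τ
      ((shiftFunctor (Triangle _) n).obj T) (Triangle.shift_distinguished _ hT n) (h₁ n) (h₂ n) ?_ ?_
    · exact invar ((shiftFunctorAdd' _ n 1 (n + 1) rfl).app T.obj₁) (h₁ (n + 1))
    · exact invar ((shiftFunctorAdd' _ n 1 (n + 1) rfl).app T.obj₂) (h₂ (n + 1))

end Groth.Agent.DCohMore.BC
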