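import Groth.Agent.DCohMore.RpushQC
import Groth.Agent.DCohMore.FinPushRes
import Groth.Agent.DCohMore.RpushPerf
import Groth.Agent.DCohLib.Adjoint
import Groth.Agent.DCohLib.PullComp
import Groth.Agent.DCohLib.TensorPerf
import Groth.Agent.DCohLib.CompactD
import Groth.Agent.DCohLib.OpenD
import Groth.Agent.DRingLib.BaseChangeAdj
import Groth.Agent.DRingLib.RestrictPC
import Groth.Agent.TildeLpull.Main
import Groth.Agent.TildePerf.PC
import Groth.Agent.TildeD.QCohPull
import Groth.Agent.TildeD.Main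
import Mathlib.CategoryTheory.Functor.Derived.PointwiseLeftDerived

/-! Derived direct images along morphisms with affine source and target. -/

set_option autoImplicit false
set_option linter.style.haveILetI false
set_option backward.isDefEq.respectTransparency false

universe u

open CategoryTheory Limits AlgebraicGeometry
attribute [local instance] HasDerivedCategory.standard

noncomputable section

namespace Groth.Agent.DCohMore

open Groth.Agent.DRingLib Groth.Agent.DCohLib

variable {X Y : Scheme.{u}}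

/-- The derived pullback along an open immersion is restriction. -/
def lpullRestrictNatIso (j : X ⟶ Y) [IsOpenImmersion j] [DCoh.HasLpull j] :
    DCoh.Lpull j ≅ DCoh.restrictD j :=
  let W := HomotopyCategory.quasiIso Y.Modules (ComplexShape.up ℤ)
  let m : (Scheme.Modules.restrictFunctor j).mapHomotopyCategory (ComplexShape.up ℤ) ≅
      (Scheme.Modules.pullback j).mapHomotopyCategory (ComplexShape.up ℤ) :=
    NatIso.ofComponents (fun K => (HomotopyCategory.quotient _ _).mapIso
        ((NatIso.mapHomologicalComplex (Scheme.Modules.restrictFunctorIsoPullback j) (ComplexShape.up ℤ)).app K.as))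
      fun {K L} φ => by
        obtain ⟨φ, rfl⟩ := (HomotopyCategory.quotient Y.Modules (ComplexShape.up ℤ)).map_surjective φ
        refine ((HomotopyCategory.quotient X.Modules (ComplexShape.up ℤ)).map_comp _ _).symm.trans
          (Eq.trans ?_ ((HomotopyCategory.quotient X.Modules (ComplexShape.up ℤ)).map_comp _ _))
        congr 1
        exact HomologicalComplex.hom_ext _ _ fun n =>
          (Scheme.Modules.restrictFunctorIsoPullback j).hom.naturality (φ.f n)
  let e : DerivedCategory.Qh ⋙ DCoh.restrictD j ≅ DCoh.pullKh j :=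
    (Scheme.Modules.restrictFunctor j).mapDerivedCategoryFactorsh ≪≫
      Functor.isoWhiskerRight m DerivedCategory.Qh
  haveI : (DCoh.restrictD j).IsLeftDerivedFunctor e.hom W :=
    Functor.isLeftDerivedFunctor_of_inverts W (DCoh.restrictD j) e
  Functor.leftDerivedUnique (DCoh.restrictD j) (DCoh.Lpull j)
    ((DCoh.pullKh j).totalLeftDerivedCounit DerivedCategory.Qh W) e.hom W

/-- Restriction along an isomorphism is an equivalence. -/
def restrictDEquiv (e : X ≅ Y) : DCoh.D Y ≌ DCoh.D X :=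
  CategoryTheory.Equivalence.mk (DCoh.restrictD e.hom) (DCoh.restrictD e.inv)
    ((restrictDId Y).symm ≪≫ restrictDCongr e.inv_hom_id.symm ≪≫ restrictDComp e.inv e.hom)
    ((restrictDComp e.hom e.inv).symm ≪≫ restrictDCongr e.hom_inv_id ≪≫ restrictDId X)

/-- The derived direct image along an isomorphism is restriction along its inverse. -/
def rpushIsoRestrict (e : X ≅ Y) [DCoh.HasRpush e.hom] [DCoh.HasLpull e.hom] :
    DCoh.Rpush e.hom ≅ DCoh.restrictD e.inv :=
  (lpullRpushAdj e.hom).rightAdjointUniq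
    ((restrictDEquiv e).toAdjunction.ofNatIsoLeft (lpullRestrictNatIso e.hom).symm)

variable {A B : Type u} [CommRing A] [CommRing B]

/-- The derived direct image to an affine scheme from an affine scheme is restriction of scalars. -/
theorem nonempty_rpush_affine (f : X ⟶ Spec (CommRingCat.of B)) [QuasiCompact f] [QuasiSeparated f]
    [DCoh.HasRpush f] (a : Spec (CommRingCat.of A) ≅ X) (φ : B →+* A)
    (h : a.hom ≫ f = Spec.map (CommRingCat.ofHom φ))
    [PreservesFiniteLimits (tilde.functor (CommRingCat.of A))]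
    [PreservesFiniteLimits (tilde.functor (CommRingCat.of B))]
    (L : DCoh.D X) (hL : DCoh.IsQCohD L) (N : Dual.D A)
    (e : (DCoh.restrictD a.hom).obj L ≅ (DCoh.tildeD (CommRingCat.of A)).obj N) :
    Nonempty ((DCoh.Rpush f).obj L ≅ (DCoh.tildeD (CommRingCat.of B)).obj ((DRing.restrictD φ).obj N)) := by
  haveI := hasLpull f
  haveI := hasLpull a.hom
  haveI := hasLpull (a.hom ≫ f)
  haveI := hasLpull (Spec.map (CommRingCat.ofHom φ))
  haveI := hasLBaseChange φ
  let tA := DCoh.tildeD (CommRingCat.of A)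
  let tB := DCoh.tildeD (CommRingCat.of B)
  haveI : tA.Full := (TildeD.main (CommRingCat.of A)).1
  haveI : tA.Faithful := (TildeD.main (CommRingCat.of A)).2.1
  haveI : tB.Full := (TildeD.main (CommRingCat.of B)).1
  haveI : tB.Faithful := (TildeD.main (CommRingCat.of B)).2.1
  obtain ⟨M', ⟨e'⟩⟩ := ((TildeD.main (CommRingCat.of B)).2.2 _).1 (isQCohD_rpush f L hL)
  obtain ⟨c⟩ := nonempty_lpullCompIso a.hom f
  have hc : ∀ {u v : Spec (CommRingCat.of A) ⟶ Spec (CommRingCat.of B)} (_ : u = v)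
      [DCoh.HasLpull u] [DCoh.HasLpull v], Nonempty (DCoh.Lpull u ≅ DCoh.Lpull v) := by
    intro u v huv _ _
    subst huv
    exact ⟨Iso.refl _⟩
  obtain ⟨c'⟩ := hc h
  let F := tB ⋙ DCoh.Lpull f ⋙ DCoh.restrictD a.hom
  obtain ⟨σ⟩ : Nonempty (F ≅ DRing.LBaseChange φ ⋙ tA) :=
    ⟨Functor.isoWhiskerLeft tB (Functor.isoWhiskerLeft (DCoh.Lpull f) (lpullRestrictNatIso a.hom).symm ≪≫ c ≪≫ c') ≪≫
      (TildeLpull.lbcLpullIso φ).symm⟩
  haveI : (DCoh.restrictD a.hom).Full := inferInstanceAs (restrictDEquiv a).functor.Full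
  haveI : (DCoh.restrictD a.hom).Faithful := inferInstanceAs (restrictDEquiv a).functor.Faithful
  let R₁ : ((DRing.LBaseChange φ).op ⋙ yoneda.obj N).RepresentableBy M' :=
    { homEquiv := fun {M} => (Functor.FullyFaithful.ofFullyFaithful tB).homEquiv.trans
        (e'.homToEquiv.trans (((lpullRpushAdj f).homEquiv (tB.obj M) L).symm.trans
          ((Functor.FullyFaithful.ofFullyFaithful (DCoh.restrictD a.hom)).homEquiv.trans
            ((σ.app M).homCongr e |>.trans (Functor.FullyFaithful.ofFullyFaithful tA).homEquiv.symm))))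
      homEquiv_comp := fun {M₁ M₂} g k => by
        apply tA.map_injective
        simp [F, Adjunction.homEquiv_counit, Functor.FullyFaithful.homEquiv, Iso.homToEquiv, Iso.homCongr]
        exact (σ.inv.naturality_assoc g _).symm }
  let R₂ : ((DRing.LBaseChange φ).op ⋙ yoneda.obj N).RepresentableBy ((DRing.restrictD φ).obj N) :=
    { homEquiv := fun {M} => ((lbcAdj φ).homEquiv M N).symm
      homEquiv_comp := fun g k => (lbcAdj φ).homEquiv_naturality_left_symm g k }
  exact ⟨e'.symm ≪≫ tB.mapIso (R₁.uniqueUpToIso R₂)⟩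

section PC

theorem isPseudoCoherentD_restrict_iso_iff (e : X ≅ Y) (m : ℤ) (K : DCoh.D Y) :
    DCoh.IsPseudoCoherentD m ((DCoh.restrictD e.hom).obj K) ↔ DCoh.IsPseudoCoherentD m K :=
  ⟨fun h => isPseudoCoherentD_iso ((restrictDEquiv e).unitIso.app K).symm
    (isPseudoCoherentD_restrict e.inv h), fun h => isPseudoCoherentD_restrict e.hom h⟩

theorem nonempty_restrictD_inD_unit {A : CommRingCat.{u}} [PreservesFiniteLimits (tilde.functor A)]
    (j : Spec A ⟶ X) [IsOpenImmersion j] :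
    Nonempty ((DCoh.restrictD j).obj (DCoh.inD X (Coh.structureModule X)) ≅
      (DCoh.tildeD A).obj (Dual.inD A A)) :=
  ⟨((Scheme.Modules.restrictFunctor j).mapDerivedCategorySingleFunctor 0).app _ ≪≫
    (DerivedCategory.singleFunctor (Spec A).Modules 0).mapIso
      (Scheme.Modules.restrictUnitIso j ≪≫ tildeSelf.symm) ≪≫
    (((tilde.functor A).mapDerivedCategorySingleFunctor 0).app _).symm⟩

/-- A finite morphism with pseudo-coherent structure sheaf detects pseudo-coherence. -/
theorem isPseudoCoherentD_rpush_iff (f : X ⟶ Y) [IsFinite f] [DCoh.HasRpush f]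
    (hO : ∀ m : ℤ, DCoh.IsPseudoCoherentD m
      (DCoh.inD Y ((Scheme.Modules.pushforward f).obj (Coh.structureModule X))))
    (E : DCoh.D X) (hE : DCoh.IsQCohD E) (m : ℤ) :
    DCoh.IsPseudoCoherentD m E ↔ DCoh.IsPseudoCoherentD m ((DCoh.Rpush f).obj E) := by
  haveI : Coh.IsQCoh (Coh.structureModule X) := inferInstance
  obtain ⟨eO⟩ := nonempty_rpush_single f (Coh.structureModule X)
  have chart : ∀ y : Y, ∃ (V : Y.Opens) (A B : Type u) (_ : CommRing A) (_ : CommRing B)
      (a : Spec (CommRingCat.of A) ≅ ((f ⁻¹ᵁ V : X.Opens) : Scheme.{u})) (φ : B →+* A), y ∈ V ∧ PCMap φ ∧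
      ∀ m : ℤ, DCoh.IsPseudoCoherentD m ((DCoh.restrictD (f ⁻¹ᵁ V).ι).obj E) ↔
        DCoh.IsPseudoCoherentD m ((DCoh.restrictD V.ι).obj ((DCoh.Rpush f).obj E)) := by
    intro y
    obtain ⟨_, ⟨V : Y.Opens, (hV : IsAffineOpen V), rfl⟩, hyV, -⟩ :=
      Y.isBasis_affineOpens.exists_subset_of_mem_open (a := y) (Set.mem_univ _) isOpen_univ
    have hW : IsAffineOpen (f ⁻¹ᵁ V) := hV.preimage f
    haveI : DCoh.HasRpush (f ∣_ V) := Groth.Agent.KInj.hasRightDerivedFunctor (hres_modules _) _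
    haveI : DCoh.HasRpush hV.isoSpec.hom := Groth.Agent.KInj.hasRightDerivedFunctor (hres_modules _) _
    haveI : DCoh.HasRpush (f ∣_ V ≫ hV.isoSpec.hom) := Groth.Agent.KInj.hasRightDerivedFunctor (hres_modules _) _
    haveI := hasLpull hV.isoSpec.hom
    let a := hW.isoSpec.symm
    let φ := (Spec.preimage (a.hom ≫ f ∣_ V ≫ hV.isoSpec.hom)).hom
    have hφ : a.hom ≫ (f ∣_ V ≫ hV.isoSpec.hom) = Spec.map (CommRingCat.ofHom φ) :=
      (Spec.map_preimage _).symm
    haveI := TildeD.preservesFiniteLimits_tilde (R := Γ(X, f ⁻¹ᵁ V))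
    haveI := TildeD.preservesFiniteLimits_tilde (R := Γ(Y, V))
    obtain ⟨r⟩ := nonempty_restrictD_rpush f V
    obtain ⟨c⟩ := nonempty_rpushCompIso (f ∣_ V) hV.isoSpec.hom
    -- the direct image over the chart is restriction of scalars
    have key : ∀ (K : DCoh.D X) (N : Dual.D Γ(X, f ⁻¹ᵁ V)), DCoh.IsQCohD K →
        ((DCoh.restrictD a.hom).obj ((DCoh.restrictD (f ⁻¹ᵁ V).ι).obj K) ≅
          (DCoh.tildeD Γ(X, f ⁻¹ᵁ V)).obj N) → ∀ m : ℤ,
        (DCoh.IsPseudoCoherentD m ((DCoh.restrictD V.ι).obj ((DCoh.Rpush f).obj K)) ↔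
          PC FFree m ((DRing.restrictD φ).obj N)) := by
      intro K N hK e m
      obtain ⟨t⟩ := nonempty_rpush_affine (f ∣_ V ≫ hV.isoSpec.hom) a φ hφ _
        (TildeD.isQCohD_restrict (f ⁻¹ᵁ V).ι K hK) N e
      let z : (DCoh.restrictD hV.isoSpec.inv).obj ((DCoh.restrictD V.ι).obj ((DCoh.Rpush f).obj K)) ≅
          (DCoh.tildeD Γ(Y, V)).obj ((DRing.restrictD φ).obj N) :=
        (DCoh.restrictD hV.isoSpec.inv).mapIso (r.app K) ≪≫
          ((rpushIsoRestrict hV.isoSpec).app _).symm ≪≫ c.app _ ≪≫ t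
      rw [← TildePerf.isPseudoCoherentD_tilde_iff,
        ← isPseudoCoherentD_restrict_iso_iff hV.isoSpec.symm]
      exact ⟨isPseudoCoherentD_iso z, isPseudoCoherentD_iso z.symm⟩
    obtain ⟨i₁⟩ := nonempty_restrictD_inD_unit (A := Γ(X, f ⁻¹ᵁ V)) (a.hom ≫ (f ⁻¹ᵁ V).ι)
    have hpc : PCMap φ := fun m => (key _ _ (TildeD.isQCohD_of_iso (((DerivedCategory.singleFunctorIsoCompQ X.Modules 0).app (Coh.structureModule X)).symm) (isQCohD_sgl₀ _ inferInstance))
      (((restrictDComp a.hom (f ⁻¹ᵁ V).ι).app _).symm ≪≫ i₁) m).1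
      (isPseudoCoherentD_restrict V.ι (isPseudoCoherentD_iso eO.symm (hO m)))
    obtain ⟨N, ⟨e⟩⟩ := ((TildeD.main Γ(X, f ⁻¹ᵁ V)).2.2 _).1
      (TildeD.isQCohD_restrict a.hom _ (TildeD.isQCohD_restrict (f ⁻¹ᵁ V).ι E hE))
    refine ⟨V, Γ(X, f ⁻¹ᵁ V), Γ(Y, V), inferInstance, inferInstance, a, φ, hyV, hpc, fun m => ?_⟩
    rw [key E N hE e.symm m, ← isPseudoCoherentD_restrict_iso_iff a, ← hpc.pc_iff,
      ← TildePerf.isPseudoCoherentD_tilde_iff]
    exact ⟨isPseudoCoherentD_iso e.symm, isPseudoCoherentD_iso e⟩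
  constructor
  · intro h
    refine isPseudoCoherentD_of_local fun y => ?_
    obtain ⟨V, _, _, _, _, _, _, hy, -, hiff⟩ := chart y
    exact ⟨_, V.ι, inferInstance, ⟨y, hy⟩, rfl, (hiff m).1 (isPseudoCoherentD_restrict _ h)⟩
  · intro h
    refine isPseudoCoherentD_of_local fun x => ?_
    obtain ⟨V, _, _, _, _, _, _, hy, -, hiff⟩ := chart (f.base x)
    exact ⟨_, (f ⁻¹ᵁ V).ι, inferInstance, ⟨x, hy⟩, rfl, (hiff m).2 (isPseudoCoherentD_restrict _ h)⟩

end PC

end Groth.Agent.DCohMore
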