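import Groth.Agent.DCohLib.FlatAmp
import Groth.Agent.DCohLib.TorTest
import Groth.Agent.DCohLib.TensorPull
import Groth.Agent.DCohLib.PullKFlat

/-!
# Tor amplitude descends along flat surjective morphisms
-/

set_option autoImplicit false
set_option linter.style.haveILetI false
set_option maxHeartbeats 800000

universe u

open CategoryTheory Limits AlgebraicGeometry MonoidalCategory ZeroObject

attribute [local instance] HasDerivedCategory.standard

noncomputable section

namespace Groth.Agent.DCohMore

open Groth.Agent.DCohLib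

variable {X Y : Scheme.{u}} (f : X ⟶ Y)

/-- Exactness is detected after pulling back along a flat surjective morphism. -/
theorem exact_of_exact_pullback [Flat f] [Surjective f] (S : ShortComplex Y.Modules)
    (h : (S.map (Scheme.Modules.pullback f)).Exact) : S.Exact := by
  rw [exact_iff_stkF]
  intro y
  obtain ⟨x, rfl⟩ := f.surjective y
  letI := (f.stalkMap x).hom.toAlgebra
  haveI : Module.FaithfullyFlat (Y.presheaf.stalk (f x)) (X.presheaf.stalk x) :=
    @Module.FaithfullyFlat.of_flat_of_isLocalHom _ _ _ _ _ _ _ (Flat.stalkMap f x) (f.toLRSHom.prop x)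
  have h1 : ((S.map (stkF (f x))).map (bcF (Y.presheaf.stalk (f x)) (X.presheaf.stalk x))).Exact :=
    ShortComplex.exact_of_iso
      (ShortComplex.isoMk ((pullStalkNatIso f x).app S.X₁) ((pullStalkNatIso f x).app S.X₂)
        ((pullStalkNatIso f x).app S.X₃) ((pullStalkNatIso f x).hom.naturality S.f).symm
        ((pullStalkNatIso f x).hom.naturality S.g).symm)
      ((exact_iff_stkF _).1 h x)
  rw [ShortComplex.ShortExact.moduleCat_exact_iff_function_exact] at h1 ⊢
  exact Module.FaithfullyFlat.lTensor_reflects_exact (Y.presheaf.stalk (f x)) (X.presheaf.stalk x)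
    _ _ h1

theorem isZero_homology_of_pullback [Flat f] [Surjective f] (K : CochainComplex Y.Modules ℤ) (i : ℤ)
    (h : IsZero ((((Scheme.Modules.pullback f).mapHomologicalComplex (ComplexShape.up ℤ)).obj K).homology i)) :
    IsZero (K.homology i) := by
  rw [← HomologicalComplex.exactAt_iff_isZero_homology, HomologicalComplex.exactAt_iff] at h ⊢
  exact exact_of_exact_pullback f (K.sc i) h

/-- The inverse image of a complex tensored with a module. -/
def pullTensorRightModIso (P : CochainComplex Y.Modules ℤ) (G : Y.Modules) :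
    ((Scheme.Modules.pullback f).mapHomologicalComplex (ComplexShape.up ℤ)).obj
        (((DCoh.tensorRightMod G).mapHomologicalComplex (ComplexShape.up ℤ)).obj P) ≅
      ((DCoh.tensorRightMod ((Scheme.Modules.pullback f).obj G)).mapHomologicalComplex
          (ComplexShape.up ℤ)).obj
        (((Scheme.Modules.pullback f).mapHomologicalComplex (ComplexShape.up ℤ)).obj P) :=
  HomologicalComplex.Hom.isoOfComponents (fun n => ((pullTensorBiIsoSch f).app (P.X n)).app G)
    fun i j _ => (NatTrans.congr_app ((pullTensorBiIsoSch f).hom.naturality (P.d i j)) G).symm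

/-- Tor amplitude descends. -/
theorem hasTorAmplitudeIn_of_lpull [Flat f] [Surjective f] [DCoh.HasLpull f] {a b : ℤ} (E : DCoh.D Y)
    (h : DCoh.HasTorAmplitudeIn a b ((DCoh.Lpull f).obj E)) : DCoh.HasTorAmplitudeIn a b E := by
  let P := (resX Y).obj (DerivedCategory.Q.objPreimage E)
  have hP : DCoh.IsKFlat P := isKFlat_resX _
  have h' := hasTorAmplitudeIn_congr ((DCoh.Lpull f).mapIso (resXIso E).symm ≪≫
    lpullIso f P hP (isFlat_resX _)) h
  intro G _ i hi
  refine IsZero.of_iso ?_ ((DerivedCategory.homologyFunctor Y.Modules i).mapIso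
    ((DCoh.LTensorMod G).mapIso (resXIso E).symm ≪≫ lTensorModIso G P hP))
  refine isZero_HD_toD (isZero_homology_of_pullback f _ i ?_)
  have hz := (exactAt_tensor_of_torAmplitude (isKFlat_pullback f hP) h' ((Scheme.Modules.pullback f).obj G)
    i hi).isZero_homology
  exact hz.of_iso ((HomologicalComplex.homologyFunctor _ _ i).mapIso (pullTensorRightModIso f P G))

/-- Flat amplitude descends. -/
theorem hasFlatAmplitudeIn_of_lpull [Flat f] [Surjective f] [DCoh.HasLpull f] {a b : ℤ} (E : DCoh.D Y)
    (h : DCoh.HasFlatAmplitudeIn a b ((DCoh.Lpull f).obj E)) : DCoh.HasFlatAmplitudeIn a b E := by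
  rcases le_or_gt a b with hab | hab
  · exact hasFlatAmplitudeIn_of_hasTorAmplitudeIn hab
      (hasTorAmplitudeIn_of_lpull f E (hasTorAmplitudeIn_of_hasFlatAmplitudeIn h))
  · obtain ⟨C, hC, hfl, ⟨e⟩⟩ := h
    let P := (resX Y).obj (DerivedCategory.Q.objPreimage E)
    let e' := (e ≪≫ (DCoh.Lpull f).mapIso (resXIso E).symm ≪≫ lpullIso f P (isKFlat_resX _) (isFlat_resX _))
    have hz : ∀ i, IsZero (P.homology i) := fun i => by
      refine isZero_homology_of_pullback f _ i ?_
      have hCi : IsZero (DCoh.HD (DCoh.toD X C) i) :=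
        isZero_HD_toD (ShortComplex.isZero_homology_of_isZero_X₂ _ (hC i (by omega)))
      exact (hCi.of_iso ((DerivedCategory.homologyFunctor X.Modules i).mapIso e'.symm)).of_iso
        ((DerivedCategory.homologyFunctorFactors X.Modules i).app _).symm
    let O : CochainComplex Y.Modules ℤ := 0
    have hO : ∀ n, IsZero (O.X n) := fun n =>
      (HomologicalComplex.eval Y.Modules (ComplexShape.up ℤ) n).map_isZero (isZero_zero _)
    refine ⟨O, fun i _ => hO i, fun i y => ?_, ⟨?_ ≪≫ resXIso E⟩⟩
    · haveI : Subsingleton ↥((O.X i).presheaf.stalk y) :=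
        ModuleCat.subsingleton_of_isZero (((stkF y).map_isZero (hO i)))
      show Module.Flat _ _
      infer_instance
    · haveI : IsIso (DerivedCategory.Q.map (0 : O ⟶ P)) :=
        (DerivedCategory.isIso_Q_map_iff_quasiIso (C := Y.Modules) _).2
          (quasiIso_of_isZero_homology _ (fun n => ShortComplex.isZero_homology_of_isZero_X₂ _ (hO n)) hz)
      exact asIso (DerivedCategory.Q.map (0 : O ⟶ P))
where
  quasiIso_of_isZero_homology {K L : CochainComplex Y.Modules ℤ} (φ : K ⟶ L)
      (hK : ∀ n, IsZero (K.homology n)) (hL : ∀ n, IsZero (L.homology n)) : QuasiIso φ :=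
    ⟨fun n => (quasiIsoAt_iff_isIso_homologyMap φ n).2
      ⟨0, (hK n).eq_of_src _ _, (hL n).eq_of_src _ _⟩⟩

end Groth.Agent.DCohMore
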