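import Groth.Agent.DCohLib.PullPerf
import Groth.Agent.DCohLib.TwoThree
import Groth.Agent.DCohLib.PCTop
import Groth.Agent.DCohLib.Summand
import Groth.Agent.DCohMore.AffinePushPC
import Groth.Agent.DCohMore.BCAffineQC
import Groth.Agent.DCohMore.FlatDescent
import Groth.Agent.PullbackMod.Hom
import Groth.Agent.PullbackMod.OpenLocus
import Groth.Agent.TildePerf.PC
import Groth.Agent.PullbackMod.Descent

/-!
# Descent of pseudo-coherence along open flat surjective morphisms
-/

set_option autoImplicit false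
set_option linter.style.haveILetI false
set_option maxHeartbeats 800000
set_option backward.isDefEq.respectTransparency false

universe u

open CategoryTheory CategoryTheory.Limits AlgebraicGeometry TopologicalSpace
open CategoryTheory.Pretriangulated
open scoped TensorProduct

attribute [local instance] HasDerivedCategory.standard

noncomputable section

namespace Groth.Agent.DCohMore

open Groth.Agent.DCohLib

variable {X Y : Scheme.{u}}

/-- Derived inverse image commutes with restriction along open immersions. -/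
theorem nonempty_lpull_chart {U V : Scheme.{u}} (f : X ⟶ Y) [DCoh.HasLpull f] (i : U ⟶ X)
    (j : V ⟶ Y) [IsOpenImmersion i] [IsOpenImmersion j] (g : U ⟶ V) [DCoh.HasLpull g]
    (h : g ≫ j = i ≫ f) (K : DCoh.D Y) :
    Nonempty ((DCoh.Lpull g).obj ((DCoh.restrictD j).obj K) ≅
      (DCoh.restrictD i).obj ((DCoh.Lpull f).obj K)) := by
  have key : ∀ (a b : U ⟶ Y) (h₁ : DCoh.HasLpull a) (h₂ : DCoh.HasLpull b), a = b →
      Nonempty (DCoh.Lpull a ≅ DCoh.Lpull b) := by
    rintro a _ h₁ h₂ rfl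
    exact ⟨Iso.refl _⟩
  obtain ⟨c₁⟩ := nonempty_lpullCompIso g j
  obtain ⟨c₂⟩ := nonempty_lpullCompIso i f
  obtain ⟨c₀⟩ := key (g ≫ j) (i ≫ f) inferInstance inferInstance h
  exact ⟨(DCoh.Lpull g).mapIso ((lpullRestrictNatIso j).app K).symm ≪≫ c₁.app K ≪≫ c₀.app K ≪≫
    (c₂.app K).symm ≪≫ (lpullRestrictNatIso i).app _⟩

theorem preservesFiniteLimits_pullback_of_flat (g : X ⟶ Y) [Flat g] :
    PreservesFiniteLimits (Scheme.Modules.pullback g) := by
  haveI : (Scheme.Modules.pullback g).Additive := inferInstance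
  have h1 : ∀ S : ShortComplex Y.Modules, S.ShortExact → (S.map (Scheme.Modules.pullback g)).ShortExact := by
    intro S hS
    haveI := hS.epi_g
    haveI := hS.mono_f
    haveI : Mono ((Scheme.Modules.pullback g).map S.f) := PullbackMod.mono_map_pullback g S.f
    exact { exact := hS.exact.map_of_epi_of_preservesCokernel (Scheme.Modules.pullback g) hS.epi_g inferInstance
            mono_f := inferInstanceAs (Mono ((Scheme.Modules.pullback g).map S.f))
            epi_g := inferInstanceAs (Epi ((Scheme.Modules.pullback g).map S.g)) }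
  have h3 : PreservesFiniteLimits (Scheme.Modules.pullback g) ∧ PreservesFiniteColimits (Scheme.Modules.pullback g) :=
    ((Functor.exact_tfae (Scheme.Modules.pullback g)).out 0 3).1 h1
  exact h3.1

/-- Along a flat morphism cohomology commutes with derived inverse image. -/
theorem nonempty_HD_lpull_flat (f : X ⟶ Y) [Flat f] [DCoh.HasLpull f] (K : DCoh.D Y) (i : ℤ) :
    Nonempty ((Scheme.Modules.pullback f).obj (DCoh.HD K i) ≅
      DCoh.HD ((DCoh.Lpull f).obj K) i) := by
  haveI : PreservesFiniteLimits (Scheme.Modules.pullback f) :=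
    preservesFiniteLimits_pullback_of_flat f
  haveI : PreservesColimitsOfSize.{u, u} (Scheme.Modules.pullback f) :=
    (Scheme.Modules.pullbackPushforwardAdjunction f).leftAdjoint_preservesColimits
  haveI : PreservesColimitsOfSize.{0, 0} (Scheme.Modules.pullback f) :=
    preservesColimitsOfSize_shrink.{0, u, 0, u} _
  haveI : PreservesFiniteColimits (Scheme.Modules.pullback f) :=
    PreservesColimitsOfSize.preservesFiniteColimits _
  let P := (resX Y).obj (DerivedCategory.Q.objPreimage K)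
  have hP : DCoh.IsKFlat P := isKFlat_resX _
  exact ⟨(Scheme.Modules.pullback f).mapIso
      ((DerivedCategory.homologyFunctor Y.Modules i).mapIso (resXIso K).symm ≪≫
        (DerivedCategory.homologyFunctorFactors Y.Modules i).app P) ≪≫
    (show (Scheme.Modules.pullback f).obj (P.homology i) ≅ ((pullCx f).obj P).homology i from
      ((P.sc i).mapHomologyIso (Scheme.Modules.pullback f)).symm) ≪≫
    ((DerivedCategory.homologyFunctorFactors X.Modules i).app ((pullCx f).obj P)).symm ≪≫
    (DerivedCategory.homologyFunctor X.Modules i).mapIso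
      ((lpullIso f P hP (isFlat_resX _)).symm ≪≫ (DCoh.Lpull f).mapIso (resXIso K))⟩

/-- Vanishing of cohomology descends. -/
theorem aboveZero_of_lpull (f : X ⟶ Y) [Flat f] [Surjective f] [DCoh.HasLpull f] {m : ℤ}
    (K : DCoh.D Y) (h : AboveZero m ((DCoh.Lpull f).obj K)) : AboveZero m K := fun i hi => by
  let P := (resX Y).obj (DerivedCategory.Q.objPreimage K)
  have hP : DCoh.IsKFlat P := isKFlat_resX _
  exact ((isZero_homology_of_pullback f P i (((h i hi).of_iso
      ((DerivedCategory.homologyFunctor X.Modules i).mapIso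
        ((lpullIso f P hP (isFlat_resX _)).symm ≪≫ (DCoh.Lpull f).mapIso (resXIso K)))).of_iso
      ((DerivedCategory.homologyFunctorFactors X.Modules i).app _).symm)).of_iso
    ((DerivedCategory.homologyFunctorFactors Y.Modules i).app P)).of_iso
    ((DerivedCategory.homologyFunctor Y.Modules i).mapIso (resXIso K).symm)

/-- Surjectivity on stalks is compatible with restriction. -/
theorem surjective_stalkLin_restrict {U : Scheme.{u}} (j : U ⟶ X) [IsOpenImmersion j] {A B : X.Modules}
    (u : A ⟶ B) (z : U) :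
    Function.Surjective (PullbackMod.stalkLin ((Scheme.Modules.restrictFunctor j).map u) z) ↔
      Function.Surjective (PullbackMod.stalkLin u (j z)) := by
  let eA := ((Scheme.Modules.restrictStalkNatIso j z).app A).addCommGroupIsoToAddEquiv
  let eB := ((Scheme.Modules.restrictStalkNatIso j z).app B).addCommGroupIsoToAddEquiv
  have hc : ∀ w, eB (PullbackMod.stalkLin ((Scheme.Modules.restrictFunctor j).map u) z w) =
      PullbackMod.stalkLin u (j z) (eA w) := fun w =>
    ConcreteCategory.congr_hom ((Scheme.Modules.restrictStalkNatIso j z).hom.naturality u) w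
  constructor
  · intro h w
    obtain ⟨v, hv⟩ := h (eB.symm w)
    exact ⟨eA v, by rw [← hc, hv, eB.apply_symm_apply]⟩
  · intro h w
    obtain ⟨v, hv⟩ := h (eB w)
    exact ⟨eA.symm v, eB.injective (by rw [hc, eA.apply_symm_apply, hv])⟩

/-- Restriction preserves modules of finite type. -/
theorem isFT_restrictFunctor {U : Scheme.{u}} (j : U ⟶ X) [IsOpenImmersion j] {M : X.Modules}
    (h : CohB1.IsFT M) : CohB1.IsFT ((Scheme.Modules.restrictFunctor j).obj M) := by
  refine isFT_of_local_epi fun z => ?_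
  obtain ⟨V, n, p, hx, hp⟩ := exists_free_epi h (j z)
  haveI := hp
  refine ⟨_, (j ⁻¹ᵁ V).ι, inferInstance, ⟨z, hx⟩, n,
    (restrictFreeMod (j ∣_ V) n).inv ≫ (Scheme.Modules.restrictFunctor (j ∣_ V)).map p ≫
      (((Scheme.Modules.restrictFunctorComp (j ∣_ V) V.ι).symm ≪≫
        Scheme.Modules.restrictFunctorCongr (morphismRestrict_ι j V) ≪≫
        Scheme.Modules.restrictFunctorComp (j ⁻¹ᵁ V).ι j).app M).hom, rfl, ?_⟩
  exact epi_comp' inferInstance (epi_comp' inferInstance inferInstance)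

/-- The stalks of a module of finite type are finite. -/
theorem finite_stalk_of_isFT' {M : X.Modules} (h : CohB1.IsFT M) (x : X) :
    Module.Finite (X.presheaf.stalk x) (M.presheaf.stalk x) := by
  obtain ⟨V, r, p, hx, hp⟩ := exists_free_epi h x
  let z : (V : Scheme.{u}) := ⟨x, hx⟩
  have hfree := PullbackMod.isQCoh_and_isFP_of_isFinLocFree _
    (isFinLocFree_freeMod (Y := (V : Scheme.{u})) r)
  haveI := hfree.1
  haveI := hfree.2
  haveI := PullbackMod.finite_stalk_of_isFT (M := FlatMod.freeMod (V : Scheme.{u}) r)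
    (inferInstanceAs (SheafOfModules.IsFiniteType (R := (V : Scheme.{u}).ringCatSheaf)
      (FlatMod.freeMod (V : Scheme.{u}) r))) z
  let q := p ≫ (Scheme.Modules.restrictFunctorIsoPullback V.ι).hom.app M
  haveI : Epi q := epi_comp' hp inferInstance
  haveI : Module.Finite ((V : Scheme.{u}).presheaf.stalk z)
      (((Scheme.Modules.pullback V.ι).obj M).presheaf.stalk z) :=
    Module.Finite.of_surjective _ ((PullbackMod.epi_iff_stalk q).1 inferInstance z)
  letI := (V.ι.stalkMap z).hom.toAlgebra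
  haveI : Module.FaithfullyFlat (X.presheaf.stalk (V.ι z)) ((V : Scheme.{u}).presheaf.stalk z) :=
    @Module.FaithfullyFlat.of_flat_of_isLocalHom _ _ _ _ _ _ _ (Flat.stalkMap V.ι z) (V.ι.toLRSHom.prop z)
  obtain ⟨a, -, -⟩ := PullbackMod.exists_stalk_square V.ι (𝟙 M) z
  haveI : Module.Finite ((V : Scheme.{u}).presheaf.stalk z)
      ((V : Scheme.{u}).presheaf.stalk z ⊗[X.presheaf.stalk (V.ι z)] M.presheaf.stalk (V.ι z)) :=
    Module.Finite.equiv a.symm
  exact (Module.Finite.of_finite_tensorProduct_of_faithfullyFlat ((V : Scheme.{u}).presheaf.stalk z) :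
    Module.Finite (X.presheaf.stalk (V.ι z)) (M.presheaf.stalk (V.ι z)))

/-- An object above-bounded with top cohomology of finite type is locally killed in top degree. -/
theorem exists_kill_top_sheaf (K : DCoh.D X) {n : ℤ} (hK : AboveZero (n + 1) K)
    (hFT : CohB1.IsFT (DCoh.HD K n)) (x : X) :
    ∃ W : X.Opens, x ∈ W ∧ ∃ T ∈ distTriang (DCoh.D (W : Scheme.{u})),
      Nonempty (T.obj₂ ≅ (DCoh.restrictD W.ι).obj K) ∧ DCoh.IsPerfect T.obj₁ ∧ AboveZero n T.obj₃ := by
  let C := DerivedCategory.Q.objPreimage K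
  let eC : DerivedCategory.Q.obj C ≅ K := DerivedCategory.Q.objObjPreimageIso K
  obtain ⟨V, r, p, hxV, hp⟩ := exists_free_epi (Groth.Agent.TildePerf.isFT_of_iso
    ((DerivedCategory.homologyFunctor X.Modules n).mapIso eC.symm ≪≫
      (DerivedCategory.homologyFunctorFactors X.Modules n).app C) hFT) x
  let C₁ := (resCx V.ι).obj C
  let h₁ := (C₁.sc n).leftHomologyData
  let p₁ : FlatMod.freeMod ↑V r ⟶ C₁.homology n :=
    p ≫ ((C.sc n).mapHomologyIso (Scheme.Modules.restrictFunctor V.ι)).inv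
  haveI : Epi p₁ := epi_comp' hp (IsIso.epi_of_iso _)
  obtain ⟨W₁, hW₁, ψ, hψ⟩ := exists_lift_free h₁.π (p₁ ≫ h₁.homologyIso.hom) ⟨x, hxV⟩
  let R := Scheme.Modules.restrictFunctor W₁.ι
  let C₂ := (resCx W₁.ι).obj C₁
  let h₂ : (C₂.sc n).LeftHomologyData := h₁.map R
  let F₀ : (W₁ : Scheme.{u}).Modules := R.obj (FlatMod.freeMod ↑V r)
  let S : CochainComplex (W₁ : Scheme.{u}).Modules ℤ :=
    (HomologicalComplex.single _ (ComplexShape.up ℤ) n).obj F₀
  let φ : S ⟶ C₂ := HomologicalComplex.mkHomFromSingle (show F₀ ⟶ C₂.X n from ψ ≫ R.map h₁.i)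
    (fun k hk => by
      have hk' : n + 1 = k := hk
      subst hk'
      rw [Category.assoc]
      show ψ ≫ R.map h₁.i ≫ R.map (C₁.d n (n + 1)) = 0
      have h0 : h₁.i ≫ C₁.d n (n + 1) = 0 := by
        have := h₁.wi
        simpa using (C₁.iCycles_d n (n + 1)) ▸ (by
          rw [← h₁.cyclesIso_inv_comp_iCycles, Category.assoc]
          erw [C₁.iCycles_d n (n + 1)]
          rw [comp_zero] : h₁.i ≫ C₁.d n (n + 1) = 0)
      rw [← R.map_comp, h0, R.map_zero, comp_zero])
  have hc : (HomologicalComplex.singleObjCyclesSelfIso (ComplexShape.up ℤ) n F₀).inv ≫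
      HomologicalComplex.cyclesMap φ n ≫ h₂.cyclesIso.hom = ψ := by
    rw [← cancel_mono h₂.i, Category.assoc, Category.assoc, h₂.cyclesIso_hom_comp_i]
    erw [HomologicalComplex.cyclesMap_i]
    simp [φ, S]
    rfl
  have hπ : Epi (HomologicalComplex.homologyMap φ n) := by
    have h3 : (HomologicalComplex.singleObjHomologySelfIso (ComplexShape.up ℤ) n F₀).inv ≫
        HomologicalComplex.homologyMap φ n ≫ h₂.homologyIso.hom =
        R.map (p₁ ≫ h₁.homologyIso.hom) := by
      rw [← HomologicalComplex.singleObjCyclesSelfIso_inv_homologyπ, Category.assoc,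
        HomologicalComplex.homologyπ_naturality_assoc]
      erw [ShortComplex.LeftHomologyData.homologyπ_comp_homologyIso_hom]
      rw [← hψ, ← hc]
      simp only [Category.assoc]
      rfl
    have h4 : HomologicalComplex.homologyMap φ n =
        (HomologicalComplex.singleObjHomologySelfIso (ComplexShape.up ℤ) n F₀).hom ≫
          R.map (p₁ ≫ h₁.homologyIso.hom) ≫ h₂.homologyIso.inv := by
      rw [← h3]
      simp
    rw [h4]
    infer_instance
  let W : X.Opens := (W₁.ι ≫ V.ι).opensRange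
  let a : (W : Scheme.{u}) ⟶ W₁ := (W₁.ι ≫ V.ι).isoOpensRange.inv
  let e₂ : DerivedCategory.Q.obj C₂ ≅ (DCoh.restrictD (W₁.ι ≫ V.ι)).obj K :=
    (restrictDQ W₁.ι C₁).symm ≪≫ (DCoh.restrictD W₁.ι).mapIso ((restrictDQ V.ι C).symm ≪≫
      (DCoh.restrictD V.ι).mapIso eC) ≪≫ ((restrictDComp W₁.ι V.ι).app K).symm
  obtain ⟨D, g, k, hT⟩ := distinguished_cocone_triangle (DerivedCategory.Q.map φ ≫ e₂.hom)
  have hS : DCoh.IsPerfect (DerivedCategory.Q.obj S) :=
    isPerfect_of_perfOn ⟨S, ⟨⟨n, n, fun i hi => HomologicalComplex.isZero_single_obj_X _ _ _ _ (by omega)⟩,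
      fun i => by
        by_cases hi : i = n
        · subst hi
          exact isFinLocFree_iso (HomologicalComplex.singleObjXSelf _ _ _).symm
            (isFinLocFree_restrict W₁.ι (isFinLocFree_freeMod r))
        · exact isFinLocFree_of_isZero (HomologicalComplex.isZero_single_obj_X _ _ _ _ hi)⟩,
      ⟨Iso.refl _⟩⟩
  have hK₂ : AboveZero (n + 1) ((DCoh.restrictD (W₁.ι ≫ V.ι)).obj K) := hK.restrict _
  have hD : AboveZero n D := by
    refine MIso.cone _ hT ((mIso_iff n _).2 ⟨fun i hi => ?_, ?_⟩)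
    · exact IsZero.isIso (((HomologicalComplex.exactAt_iff_isZero_homology _ _).1
        (HomologicalComplex.ExactAt.of_isZero
          (HomologicalComplex.isZero_single_obj_X _ _ _ _ (by omega)))).of_iso
        ((DerivedCategory.homologyFunctorFactors _ i).app S)) (hK₂ i (by omega)) _
    · show Epi ((DerivedCategory.homologyFunctor _ n).map (DerivedCategory.Q.map φ ≫ e₂.hom))
      rw [Functor.map_comp]
      refine epi_comp' ?_ inferInstance
      exact ((MorphismProperty.epimorphisms _).arrow_mk_iso_iff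
        (((Functor.mapArrowFunctor _ _).mapIso (DerivedCategory.homologyFunctorFactors _ n)).app
          (Arrow.mk φ))).2 hπ
  exact ⟨W, ⟨⟨⟨x, hxV⟩, hW₁⟩, rfl⟩, _, (DCoh.restrictD a).map_distinguished _ hT,
    ⟨((restrictDComp a (W₁.ι ≫ V.ι)).app K).symm ≪≫
      (restrictDCongr (W₁.ι ≫ V.ι).isoOpensRange_inv_comp).app K⟩,
    isPerfect_restrict a hS, hD.restrict a⟩

/-- Sections of a finite family lift near a point at which a morphism is surjective on stalks. -/
theorem exists_lift_sections_at {A B : X.Modules} (q : A ⟶ B) (y : X)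
    (hq : Function.Surjective (PullbackMod.stalkLin q y)) {n : ℕ} (c : Fin n → Γ(B, ⊤)) :
    ∃ W : X.Opens, y ∈ W ∧
      ∀ i, ∃ t : Γ(A, W), q.app W t = B.presheaf.map (homOfLE (le_top : W ≤ ⊤)).op (c i) := by
  have h : ∀ i, ∃ V : X.Opens, y ∈ V ∧
      ∃ t : Γ(A, V), q.app V t = B.presheaf.map (homOfLE (le_top : V ≤ ⊤)).op (c i) := by
    intro i
    obtain ⟨z, hz⟩ := hq (B.presheaf.germ ⊤ y (show y ∈ (⊤ : X.Opens) from trivial) (c i))
    obtain ⟨U, hx, m, rfl⟩ := TopCat.Presheaf.exists_germ_eq A.presheaf z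
    rw [PullbackMod.stalkLin_germ] at hz
    obtain ⟨V, hyV, iU, iT, he⟩ :=
      TopCat.Presheaf.germ_eq B.presheaf y hx (show y ∈ (⊤ : X.Opens) from trivial) _ _ hz
    refine ⟨V, hyV, A.presheaf.map (homOfLE (leOfHom iU)).op m, ?_⟩
    rw [app_natural q (leOfHom iU)]
    exact he
  choose V hV t ht using h
  refine ⟨⟨⋂ i, (V i : Set X), isOpen_iInter_of_finite fun i => (V i).2⟩, Set.mem_iInter.2 hV,
    fun i => ?_⟩
  have hle : (⟨⋂ i, (V i : Set X), isOpen_iInter_of_finite fun i => (V i).2⟩ : X.Opens) ≤ V i :=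
    Set.iInter_subset (fun j => (V j : Set X)) i
  refine ⟨A.presheaf.map (homOfLE hle).op (t i), ?_⟩
  rw [app_natural q hle, ht i, ← ConcreteCategory.comp_apply, ← B.presheaf.map_comp]
  rfl

/-- A morphism into a locally finitely generated module that is surjective on the stalk at a point
is an epimorphism near it. -/
theorem exists_open_epi_of_stalk {A B : X.Modules} (u : A ⟶ B) (hB : CohB1.IsFT B) (x : X)
    (hu : Function.Surjective (PullbackMod.stalkLin u x)) :
    ∃ O : X.Opens, x ∈ O ∧ Epi ((Scheme.Modules.restrictFunctor O.ι).map u) := by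
  obtain ⟨V, r, p, hxV, hp⟩ := exists_free_epi hB x
  let u₁ := (Scheme.Modules.restrictFunctor V.ι).map u
  have hu₁ : Function.Surjective (PullbackMod.stalkLin u₁ ⟨x, hxV⟩) :=
    (surjective_stalkLin_restrict V.ι u ⟨x, hxV⟩).2 hu
  let ci : ∀ i : Fin r, Coh.structureModule ↑V ⟶ (Scheme.Modules.restrictFunctor V.ι).obj B :=
    fun i => Sigma.ι (fun _ : Fin r => Coh.structureModule (V : Scheme.{u})) i ≫ p
  obtain ⟨W, hW, h⟩ := exists_lift_sections_at u₁ ⟨x, hxV⟩ hu₁
    fun i => (ci i).app ⊤ (1 : Γ(↑V, ⊤))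
  choose t ht using h
  let R := Scheme.Modules.restrictFunctor W.ι
  haveI : PreservesColimitsOfSize.{0, 0} R :=
    (Scheme.Modules.restrictAdjunction W.ι).leftAdjoint_preservesColimits
  let ψ : R.obj (FlatMod.freeMod ↑V r) ⟶ R.obj ((Scheme.Modules.restrictFunctor V.ι).obj A) :=
    (PreservesCoproduct.iso R (fun _ : Fin r => Coh.structureModule (V : Scheme.{u}))).hom ≫
      Sigma.desc (fun i => (restrictUnit W.ι).hom ≫ secHom _
        (((Scheme.Modules.restrictFunctor V.ι).obj A).presheaf.map (homOfLE W.ι_image_top.le).op (t i)))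
  have hψ : ψ ≫ R.map u₁ = R.map p := by
    rw [Category.assoc, ← cancel_epi (PreservesCoproduct.iso R _).inv, Iso.inv_hom_id_assoc,
      PreservesCoproduct.inv_hom]
    refine Sigma.hom_ext _ _ fun i => ?_
    rw [Sigma.ι_desc_assoc, ι_comp_sigmaComparison_assoc, Category.assoc,
      restrict_key u₁ (ci i) (t i) (ht i)]
    exact R.map_comp _ _
  haveI : Epi (R.map u₁) := by
    haveI : Epi (ψ ≫ R.map u₁) := by rw [hψ]; exact inferInstance
    exact epi_of_epi ψ _
  refine ⟨(W.ι ≫ V.ι).opensRange, ⟨⟨⟨x, hxV⟩, hW⟩, rfl⟩, (PullbackMod.epi_iff_stalk _).2 fun z => ?_⟩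
  obtain ⟨z', hz'⟩ := z.2
  refine (surjective_stalkLin_restrict _ u z).2 ?_
  have h2 := (surjective_stalkLin_restrict V.ι u (W.ι z')).1
    ((surjective_stalkLin_restrict W.ι u₁ z').1 ((PullbackMod.epi_iff_stalk _).1 inferInstance z'))
  have h3 : (W.ι ≫ V.ι).opensRange.ι z = V.ι (W.ι z') := hz'.symm
  rw [h3]
  exact h2

/-- Finite type descends along open flat surjective morphisms, for arbitrary modules. -/
theorem isFT_of_pullback (f : X ⟶ Y) [Flat f] [Surjective f] (hf : IsOpenMap f.base) (M : Y.Modules)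
    (h : CohB1.IsFT ((Scheme.Modules.pullback f).obj M)) : CohB1.IsFT M := by
  classical
  refine isFT_of_local_epi fun y => ?_
  obtain ⟨x, rfl⟩ := f.surjective y
  letI := (f.stalkMap x).hom.toAlgebra
  haveI : Module.FaithfullyFlat (Y.presheaf.stalk (f x)) (X.presheaf.stalk x) :=
    @Module.FaithfullyFlat.of_flat_of_isLocalHom _ _ _ _ _ _ _ (Flat.stalkMap f x) (f.toLRSHom.prop x)
  haveI := finite_stalk_of_isFT' h x
  obtain ⟨a, -, -⟩ := PullbackMod.exists_stalk_square f (𝟙 M) x
  haveI : Module.Finite (X.presheaf.stalk x)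
      (X.presheaf.stalk x ⊗[Y.presheaf.stalk (f x)] M.presheaf.stalk (f x)) := Module.Finite.equiv a.symm
  haveI : Module.Finite (Y.presheaf.stalk (f x)) (M.presheaf.stalk (f x)) :=
    Module.Finite.of_finite_tensorProduct_of_faithfullyFlat (X.presheaf.stalk x)
  obtain ⟨n, t, ht⟩ := Module.Finite.exists_fin (R := Y.presheaf.stalk (f x)) (M := M.presheaf.stalk (f x))
  choose U₀ hy₀ m₀ hm₀ using fun k => TopCat.Presheaf.exists_germ_eq M.presheaf (t k)
  obtain ⟨U, hy, hU⟩ : ∃ U : Y.Opens, f x ∈ U ∧ ∀ k, U ≤ U₀ k :=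
    ⟨⟨⋂ k, (U₀ k : Set Y), isOpen_iInter_of_finite fun k => (U₀ k).2⟩, Set.mem_iInter.2 hy₀,
      fun k => Set.iInter_subset (fun j => (U₀ j : Set Y)) k⟩
  let N := (Scheme.Modules.pullback U.ι).obj M
  let y₀ : (U : Scheme.{u}) := ⟨f x, hy⟩
  let sk : Fin n → Γ(N, ⊤) := fun k =>
    PullbackMod.pullMap U.ι M (W' := ⊤) (W := U₀ k) (fun z _ => hU k z.2) (m₀ k)
  let u : FlatMod.freeMod (U : Scheme.{u}) n ⟶ N := Sigma.desc fun k => secHom N (sk k)
  have hu : Function.Surjective (PullbackMod.stalkLin u y₀) := by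
    have hr : ∀ k, PullbackMod.pullStalk U.ι M y₀ (t k) ∈ LinearMap.range (PullbackMod.stalkLin u y₀) := by
      intro k
      refine ⟨(FlatMod.freeMod (U : Scheme.{u}) n).presheaf.germ ⊤ y₀ trivial
        ((Sigma.ι (fun _ : Fin n => Coh.structureModule (U : Scheme.{u})) k).app ⊤
          (1 : Γ(↑U, ⊤))), ?_⟩
      rw [PullbackMod.stalkLin_germ]
      have h1 : u.app ⊤ ((Sigma.ι (fun _ : Fin n => Coh.structureModule (U : Scheme.{u})) k).app ⊤
          (1 : Γ(↑U, ⊤))) = sk k := by
        have h2 : Sigma.ι (fun _ : Fin n => Coh.structureModule (U : Scheme.{u})) k ≫ u =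
            secHom N (sk k) := Sigma.ι_desc _ _
        refine ((congrArg (fun g : Coh.structureModule (U : Scheme.{u}) ⟶ N =>
          g.app ⊤ (1 : Γ(↑U, ⊤))) h2).trans (secHom_app_one N (sk k) ⊤)).trans ?_
        exact ConcreteCategory.congr_hom (N.presheaf.map_id _) _
      rw [h1, ← hm₀ k]
      exact (PullbackMod.pullStalk_germ' U.ι M y₀ _ (W' := ⊤) trivial _ (m₀ k)).symm
    letI := (U.ι.stalkMap y₀).hom.toAlgebra
    letI := Module.compHom (N.presheaf.stalk y₀) (U.ι.stalkMap y₀).hom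
    haveI : IsScalarTower (Y.presheaf.stalk (U.ι y₀)) ((U : Scheme.{u}).presheaf.stalk y₀)
      (N.presheaf.stalk y₀) := .of_algebraMap_smul fun _ _ => rfl
    rw [← LinearMap.range_eq_top]
    refine eq_top_iff.2 fun z hz => ?_
    clear hz
    let t' : Fin n → M.presheaf.stalk (U.ι y₀) := t
    have ht' : Submodule.span (Y.presheaf.stalk (U.ι y₀)) (Set.range t') = ⊤ := ht
    induction z using (PullbackMod.isBaseChange_pullStalkL' U.ι M y₀).inductionOn with
    | zero => exact zero_mem _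
    | tmul m =>
      have hm : m ∈ Submodule.span (Y.presheaf.stalk (U.ι y₀)) (Set.range t') := ht'.ge Submodule.mem_top
      induction hm using Submodule.span_induction with
      | mem m hm =>
        obtain ⟨k, rfl⟩ := hm
        exact hr k
      | zero => rw [map_zero]; exact zero_mem _
      | add a b _ _ ha hb => rw [map_add]; exact add_mem ha hb
      | smul r a _ ha =>
        show PullbackMod.pullStalk U.ι M y₀ (r • a) ∈ _
        erw [PullbackMod.pullStalk_smul]
        exact Submodule.smul_mem _ _ ha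
    | smul r a ha => exact Submodule.smul_mem _ r ha
    | add a b ha hb => exact add_mem ha hb
  have hx : x ∈ f ⁻¹ᵁ U := hy
  let f' := f ∣_ U
  haveI : Flat f' := MorphismProperty.of_isPullback (isPullback_morphismRestrict f U).flip ‹Flat f›
  let u' := (Scheme.Modules.pullback f').map u
  let eP : (Scheme.Modules.pullback f').obj N ≅
      (Scheme.Modules.restrictFunctor (f ⁻¹ᵁ U).ι).obj ((Scheme.Modules.pullback f).obj M) :=
    (Scheme.Modules.pullbackComp f' U.ι).app M ≪≫
      (Scheme.Modules.pullbackCongr (morphismRestrict_ι f U)).app M ≪≫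
      ((Scheme.Modules.pullbackComp (f ⁻¹ᵁ U).ι f).app M).symm ≪≫
      ((Scheme.Modules.restrictFunctorIsoPullback (f ⁻¹ᵁ U).ι).app _).symm
  have hfx : f' ⟨x, hx⟩ = ⟨f x, hy⟩ := Subtype.ext (morphismRestrict_base_coe f U ⟨x, hx⟩)
  have hFT : CohB1.IsFT ((Scheme.Modules.pullback f').obj N) :=
    Groth.Agent.TildePerf.isFT_of_iso eP.symm (isFT_restrictFunctor _ h)
  obtain ⟨O, hO, hepi⟩ := exists_open_epi_of_stalk u' hFT ⟨x, hx⟩ (by
    obtain ⟨a', b', hab⟩ := PullbackMod.exists_stalk_square f' u ⟨x, hx⟩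
    letI := (f'.stalkMap ⟨x, hx⟩).hom.toAlgebra
    intro z
    obtain ⟨w, hw⟩ := LinearMap.lTensor_surjective ((f ⁻¹ᵁ U : Scheme.{u}).presheaf.stalk ⟨x, hx⟩)
      (g := PullbackMod.stalkLin u (f' ⟨x, hx⟩)) (hfx ▸ hu) (b'.symm z)
    exact ⟨a' w, by rw [hab, hw, b'.apply_symm_apply]⟩)
  have hf' : IsOpenMap f'.base := by
    exact (morphismRestrict_base f U) ▸ hf.restrictPreimage _
  let Q : (U : Scheme.{u}).Opens := ⟨f'.base '' (O : Set (f ⁻¹ᵁ U : Scheme.{u})), hf' _ O.2⟩
  refine ⟨Q, Q.ι ≫ U.ι, inferInstance, ⟨⟨f x, hy⟩, ⟨⟨x, hx⟩, hO, hfx⟩⟩, n,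
    (restrictFreeMod Q.ι n).inv ≫ (Scheme.Modules.restrictFunctor Q.ι).map u ≫
      (Scheme.Modules.restrictFunctor Q.ι).map ((Scheme.Modules.restrictFunctorIsoPullback U.ι).inv.app M) ≫
      ((Scheme.Modules.restrictFunctorComp Q.ι U.ι).app M).inv, rfl, ?_⟩
  haveI : Epi ((Scheme.Modules.restrictFunctor Q.ι).map u) := by
    refine (PullbackMod.epi_iff_stalk _).2 fun q => (surjective_stalkLin_restrict _ u q).2 ?_
    obtain ⟨z, hz, hzq⟩ := q.2
    have hs := (surjective_stalkLin_restrict O.ι u' ⟨z, hz⟩).1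
      ((PullbackMod.epi_iff_stalk _).1 hepi ⟨z, hz⟩)
    obtain ⟨a', b', hab⟩ := PullbackMod.exists_stalk_square f' u z
    letI := (f'.stalkMap z).hom.toAlgebra
    haveI : Module.FaithfullyFlat ((U : Scheme.{u}).presheaf.stalk (f' z))
        ((f ⁻¹ᵁ U : Scheme.{u}).presheaf.stalk z) :=
      @Module.FaithfullyFlat.of_flat_of_isLocalHom _ _ _ _ _ _ _ (Flat.stalkMap f' z) (f'.toLRSHom.prop z)
    have hl : Function.Surjective ((PullbackMod.stalkLin u (f' z)).lTensor
        ((f ⁻¹ᵁ U : Scheme.{u}).presheaf.stalk z)) := fun w => by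
      obtain ⟨v, hv⟩ := hs (b' w)
      refine ⟨a'.symm v, b'.injective ?_⟩
      rw [← hab, a'.apply_symm_apply]
      exact hv
    have h4 : Q.ι q = f' z := hzq.symm
    rw [h4]
    exact (Module.FaithfullyFlat.lTensor_surjective_iff_surjective _ _ _).1 hl
  exact epi_comp' inferInstance (epi_comp' inferInstance (epi_comp' inferInstance inferInstance))

theorem pc_descent_aux (m : ℤ) : ∀ (d : ℕ) {X Y : Scheme.{u}} (f : X ⟶ Y) [Flat f] [Surjective f]
    [DCoh.HasLpull f], UniversallyOpen f → ∀ (K : DCoh.D Y), AboveZero (m + d) K →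
    DCoh.IsPseudoCoherentD m ((DCoh.Lpull f).obj K) → DCoh.IsPseudoCoherentD m K := by
  intro d
  induction d with
  | zero =>
    intro X Y f _ _ _ _ K hK _
    exact (isPseudoCoherentD_iff m K).2 fun y => ⟨⊤, trivial, pcOn_of_aboveZero ((AboveZero.restrict _ (by simpa using hK : AboveZero m K)))⟩
  | succ d ih =>
    intro X Y f _ _ _ hf K hK h
    have hK' : AboveZero (m + d + 1) K := hK.mono (by push_cast; omega)
    have hFT : CohB1.IsFT (DCoh.HD K (m + d)) := by
      obtain ⟨e⟩ := nonempty_HD_lpull_flat f K (m + d)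
      refine isFT_of_pullback f f.isOpenMap _ (Groth.Agent.TildePerf.isFT_of_iso e.symm ?_)
      refine isFT_top (isPseudoCoherentD_mono (by omega) h) fun i hi => ?_
      obtain ⟨e'⟩ := nonempty_HD_lpull_flat f K i
      exact ((Scheme.Modules.pullback f).map_isZero (hK' i (by omega))).of_iso e'.symm
    refine isPseudoCoherentD_of_local fun y => ?_
    obtain ⟨W, hy, T, hT, h2, h1, h3⟩ := exists_kill_top_sheaf K hK' hFT y
    obtain ⟨e₂⟩ := h2
    refine ⟨W, W.ι, inferInstance, ⟨y, hy⟩, rfl, isPseudoCoherentD_iso e₂ ?_⟩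
    let f' := f ∣_ W
    haveI : Flat f' := MorphismProperty.of_isPullback (isPullback_morphismRestrict f W).flip ‹Flat f›
    haveI : Surjective f' :=
      MorphismProperty.of_isPullback (isPullback_morphismRestrict f W).flip ‹Surjective f›
    have hf' : UniversallyOpen f' :=
      MorphismProperty.of_isPullback (isPullback_morphismRestrict f W).flip hf
    have hl : DCoh.IsPseudoCoherentD m ((DCoh.Lpull f').obj T.obj₂) := by
      obtain ⟨e⟩ := nonempty_lpull_chart f (f ⁻¹ᵁ W).ι W.ι f' (morphismRestrict_ι f W) K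
      exact isPseudoCoherentD_iso (e.symm ≪≫ (DCoh.Lpull f').mapIso e₂.symm)
        (isPseudoCoherentD_restrict _ h)
    refine isPseudoCoherentD_obj₂ T hT (((isPerfect_iff_pc _).1 h1).1 m)
      (ih f' hf' T.obj₃ h3 ?_)
    obtain ⟨c, hc⟩ := BC.exTri_lpull f' T hT
    exact isPseudoCoherentD_obj₃ _ hc
      (((isPerfect_iff_pc _).1 (isPerfect_lpull f' _ h1)).1 (m + 1)) hl

end Groth.Agent.DCohMore
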