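import Groth.Agent.DCohMore.RpushBdd
import Groth.Agent.DCohMore.RpushAcyc
import Groth.Agent.CohDerAcyc.UnitIff
import Groth.Agent.RpushLib.ToAb

/-!
# Long exact sequences of higher direct images, through the derived direct image
-/

set_option autoImplicit false
set_option linter.style.haveILetI false
set_option maxHeartbeats 1000000
set_option backward.isDefEq.respectTransparency false

universe u

open CategoryTheory CategoryTheory.Limits AlgebraicGeometry TopologicalSpace Opposite
open CategoryTheory.Pretriangulated

attribute [local instance] HasDerivedCategory.standard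

noncomputable section

namespace Groth.Agent.DCohMore.PushZero

open Groth.Agent.DCohLib Groth.Agent.SiteCmpLib

variable {X Y : Scheme.{u}} (f : X ⟶ Y) [DCoh.HasRpush f]

/-- A direct image of a module, as an object of the derived category, is computed by the single complex. -/
def preIso : Scheme.Modules.pushforward f ⋙ DerivedCategory.singleFunctor Y.Modules 0 ≅
    (CochainComplex.singleFunctor X.Modules 0 ⋙ quotM X) ⋙ DCoh.pushKh f :=
  Functor.isoWhiskerLeft (Scheme.Modules.pushforward f) (DerivedCategory.singleFunctorIsoCompQ Y.Modules 0) ≪≫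
    (Functor.associator _ _ _).symm ≪≫
    Functor.isoWhiskerRight ((Scheme.Modules.pushforward f).mapCochainComplexSingleFunctor 0).symm _ ≪≫
    Functor.associator _ _ _ ≪≫
    Functor.isoWhiskerLeft (CochainComplex.singleFunctor X.Modules 0)
      (Functor.isoWhiskerLeft _ (DerivedCategory.quotientCompQhIso Y.Modules).symm ≪≫
        (Functor.associator _ _ _).symm ≪≫
        Functor.isoWhiskerRight ((Scheme.Modules.pushforward f).mapHomotopyCategoryFactors (ComplexShape.up ℤ)).symm _ ≪≫
        Functor.associator _ _ _) ≪≫ (Functor.associator _ _ _).symm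

/-- The single module as an object of the derived category. -/
def postIso : (CochainComplex.singleFunctor X.Modules 0 ⋙ quotM X) ⋙ DerivedCategory.Qh ⋙ DCoh.Rpush f ≅
    DerivedCategory.singleFunctor X.Modules 0 ⋙ DCoh.Rpush f :=
  (Functor.associator _ _ _).symm ≪≫ Functor.isoWhiskerRight
    (Functor.associator _ _ _ ≪≫ Functor.isoWhiskerLeft _ (DerivedCategory.quotientCompQhIso X.Modules) ≪≫
      (DerivedCategory.singleFunctorIsoCompQ X.Modules 0).symm) _

/-- The comparison of the direct image with the derived direct image. -/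
def eta : Scheme.Modules.pushforward f ⋙ DerivedCategory.singleFunctor Y.Modules 0 ⟶
    DerivedCategory.singleFunctor X.Modules 0 ⋙ DCoh.Rpush f :=
  (preIso f).hom ≫ Functor.whiskerLeft _ (rpushUnit f) ≫ (postIso f).hom

theorem isIso_homology_unit [HasInjectiveResolutions X.Modules] (M : X.Modules) :
    IsIso ((DerivedCategory.homologyFunctor Y.Modules 0).map
      ((rpushUnit f).app ((quotM X).obj ((CochainComplex.singleFunctor X.Modules 0).obj M)))) := by
  let R := injectiveResolution M
  let F := Scheme.Modules.pushforward f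
  haveI : R.cochainComplex.IsKInjective := CochainComplex.isKInjective_of_injective _ 0
  haveI h3 := isIso_rpushUnit_app f R.cochainComplex
  let H := DerivedCategory.homologyFunctor Y.Modules 0
  haveI h4 : IsIso ((DerivedCategory.Qh ⋙ DCoh.Rpush f).map ((quotM X).map R.ι')) := by
    haveI : IsIso (DerivedCategory.Qh.map ((quotM X).map R.ι')) := by
      rw [DerivedCategory.isIso_Qh_map_iff]
      exact (HomotopyCategory.quotient_map_mem_quasiIso_iff R.ι').2 (inferInstanceAs (QuasiIso R.ι'))
    exact @Functor.map_isIso _ _ _ _ _ _ (DCoh.Rpush f) _ ‹_›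
  haveI h2 : IsIso (H.map ((DCoh.pushKh f).map ((quotM X).map R.ι'))) := by
    haveI : IsIso (R.toRightDerivedZero' F) := inferInstance
    have hq := (quasiIsoAt_iff_isIso_homologyMap _ (0 : ℤ)).1
      ((Groth.Agent.CohDerAcyc.quasiIsoAt_zero_iff F M R).2 ‹_›)
    let e : quotM X ⋙ DCoh.pushKh f ⋙ H ≅
        F.mapHomologicalComplex (ComplexShape.up ℤ) ⋙ HomologicalComplex.homologyFunctor Y.Modules _ 0 :=
      (Functor.associator _ _ _).symm ≪≫
      Functor.isoWhiskerRight ((Functor.associator _ _ _).symm ≪≫
        Functor.isoWhiskerRight (F.mapHomotopyCategoryFactors (ComplexShape.up ℤ)) _ ≪≫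
        Functor.associator _ _ _ ≪≫ Functor.isoWhiskerLeft _ (DerivedCategory.quotientCompQhIso Y.Modules)) H ≪≫
      Functor.associator _ _ _ ≪≫ Functor.isoWhiskerLeft _ (DerivedCategory.homologyFunctorFactors Y.Modules 0)
    exact (NatIso.isIso_map_iff e R.ι').2 hq
  have nat := congrArg (H.map ·) ((rpushUnit f).naturality ((quotM X).map R.ι'))
  simp only [Functor.map_comp] at nat
  haveI : IsIso (H.map ((rpushUnit f).app ((quotM X).obj ((CochainComplex.singleFunctor X.Modules 0).obj M))) ≫
      H.map ((DerivedCategory.Qh ⋙ DCoh.Rpush f).map ((quotM X).map R.ι'))) := by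
    rw [← nat]
    infer_instance
  exact IsIso.of_isIso_comp_right _ (H.map ((DerivedCategory.Qh ⋙ DCoh.Rpush f).map ((quotM X).map R.ι')))

instance isIso_homology_eta (M : X.Modules) :
    IsIso ((DerivedCategory.homologyFunctor Y.Modules 0).map ((eta f).app M)) := by
  haveI : EnoughInjectives X.Modules := inferInstance
  haveI : HasInjectiveResolutions X.Modules := inferInstance
  haveI := isIso_homology_unit f M
  simp only [eta, NatTrans.comp_app, Functor.whiskerLeft_app, Functor.map_comp]
  exact @IsIso.comp_isIso _ _ _ _ _ _ _ inferInstance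
    (@IsIso.comp_isIso _ _ _ _ _ _ _ (isIso_homology_unit f M) inferInstance)

/-- The direct image in degree zero, naturally. -/
def zeroIso : Scheme.Modules.pushforward f ≅
    DerivedCategory.singleFunctor X.Modules 0 ⋙ DCoh.Rpush f ⋙ DerivedCategory.homologyFunctor Y.Modules 0 :=
  (Functor.rightUnitor _).symm ≪≫
    Functor.isoWhiskerLeft _ (DerivedCategory.singleFunctorCompHomologyFunctorIso Y.Modules 0).symm ≪≫
    (Functor.associator _ _ _).symm ≪≫
    (@asIso _ _ _ _ (Functor.whiskerRight (eta f) (DerivedCategory.homologyFunctor Y.Modules 0))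
      (@NatIso.isIso_of_isIso_app _ _ _ _ _ _ _ fun M => isIso_homology_eta f M)) ≪≫ Functor.associator _ _ _

end Groth.Agent.DCohMore.PushZero
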