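import Groth.Agent.DCohMore.RHomQC
import Groth.Agent.SiteCmpLib.Unbounded
import Groth.Agent.RpushLib.ToAb
import Groth.Agent.RpushLib.Vanish
import Groth.Agent.RpushLib.Main
import Groth.Agent.DCohLib.RpushTri
import Groth.Agent.S6508
import Groth.Agent.CohBase.Affine
import Groth.Prelude.Def_WeakSerre

/-!
# Derived direct images of objects with quasi-coherent cohomology
-/

set_option autoImplicit false
set_option linter.style.haveILetI false
set_option linter.unusedSectionVars false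
set_option maxHeartbeats 1000000

universe u

open CategoryTheory CategoryTheory.Limits AlgebraicGeometry TopologicalSpace

attribute [local instance] HasDerivedCategory.standard

noncomputable section

namespace Groth.Agent.DCohMore

open Groth.Agent.DCohLib

variable {X Y : Scheme.{u}}

/-- Quasi-coherent modules. -/
abbrev qcP (X : Scheme.{u}) : ObjectProperty (ModSite.Mod X.sheaf) := fun M => Coh.IsQCoh (X := X) M

instance isWeakSerre_qcP (X : Scheme.{u}) : WSerre.IsWeakSerre (qcP X) where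
  exists_zero := by
    obtain ⟨Z, hZ⟩ := HasZeroObject.zero (C := X.Modules)
    exact ⟨Z, hZ, (PullbackMod.isQCoh_and_isFP_of_isFinLocFree _ (isFinLocFree_of_isZero hZ)).1⟩
  kernels_le := by
    rintro _ ⟨f, k, hk, hf⟩
    exact isQCoh_of_iso' (X := X) ((kernelIsKernel f).conePointUniqueUpToIso hk)
      (QCohLib.isQCoh_image (X := X) f hf.1 hf.2).1
  cokernels_le := by
    rintro _ ⟨f, k, hk, hf⟩
    exact isQCoh_of_iso' (X := X) ((cokernelIsCokernel f).coconePointUniqueUpToIso hk)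
      (QCohLib.isQCoh_image (X := X) f hf.1 hf.2).2
  prop_X₂_of_shortExact hS h₁ h₃ := QCohLib.isQCoh_X₂ (X := X) hS h₁ h₃

theorem affine_hB (X : Scheme.{u}) : ∀ U : X.Opens, ∃ (ι : Type u) (W : ι → X.Opens) (g : ∀ i, W i ⟶ U),
    Sieve.ofArrows W g ∈ Opens.grothendieckTopology X U ∧ ∀ i, W i ∈ X.affineOpens := by
  intro U
  refine ⟨{W : X.Opens // IsAffineOpen W ∧ W ≤ U}, fun W => W.1, fun W => homOfLE W.2.2, ?_,
    fun W => W.2.1⟩
  intro x hx
  obtain ⟨W, hW, hxW, hWU⟩ := TopologicalSpace.Opens.isBasis_iff_nbhd.1 X.isBasis_affineOpens hx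
  exact ⟨W, homOfLE hWU, Sieve.ofArrows_mk (fun W : {W : X.Opens // IsAffineOpen W ∧ W ≤ U} => W.1)
    (fun W => homOfLE W.2.2) ⟨W, hW, hWU⟩, hxW⟩

theorem affine_hA (X : Scheme.{u}) : ∀ V ∈ X.affineOpens, ∃ d : ℕ,
    ∀ T ∈ Opens.grothendieckTopology X V, ∃ (ι : Type u) (W : ι → X.Opens) (g : ∀ i, W i ⟶ V),
      (∀ i, T.arrows (g i)) ∧ Sieve.ofArrows W g ∈ Opens.grothendieckTopology X V ∧
      ∀ (i : ι) (F : ModSite.Mod X.sheaf), qcP X F → ∀ k : ℕ, d < k →
        Subsingleton (ModSite.HU X.sheaf F k (W i)) := by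
  intro V _
  refine ⟨0, fun T hT => ?_⟩
  let I := {W : X.Opens // IsAffineOpen W ∧ ∃ g : W ⟶ V, T.arrows g}
  refine ⟨I, fun W => W.1, fun W => W.2.2.choose, fun W => W.2.2.choose_spec, fun x hx => ?_, fun W F hF k hk => ?_⟩
  · obtain ⟨U, i, hi, hxU⟩ := hT x hx
    obtain ⟨W, hW, hxW, hWU⟩ := TopologicalSpace.Opens.isBasis_iff_nbhd.1 X.isBasis_affineOpens hxU
    let w : I := ⟨W, hW, homOfLE hWU ≫ i, T.downward_closed hi _⟩
    exact ⟨W, w.2.2.choose, Sieve.ofArrows_mk (fun W : I => W.1) (fun W => W.2.2.choose) w, hxW⟩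
  · obtain ⟨k, rfl⟩ : ∃ k', k = k' + 1 := ⟨k - 1, by omega⟩
    haveI : Coh.IsQCoh (X := X) F := hF
    exact Groth.Agent.CohBase.affine_vanishing (X := X) F W.2.1 k

/-- Higher direct images vanish above a bound on quasi-coherent modules. -/
theorem exists_bound_rpush (f : X ⟶ Y) [QuasiCompact f] [QuasiSeparated f] [CompactSpace Y]
    [HasInjectiveResolutions X.Modules] :
    ∃ n : ℕ, ∀ M : X.Modules, Coh.IsQCoh M → ∀ p : ℕ, n ≤ p → IsZero ((Coh.Rpush f p).obj M) := by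
  obtain ⟨n, hn⟩ := RpushLib.exists_bound_rpushAb f
  refine ⟨n, fun M hM p hp => ?_⟩
  have h : IsZero ((QCohLib.toAbF Y).obj ((Coh.Rpush f p).obj M)) :=
    (hn M hM p hp).of_iso ((RpushLib.toAbRpushIso f p).app M)
  haveI : (QCohLib.toAbF Y).Faithful := inferInstanceAs (SheafOfModules.toSheaf.{u} Y.ringCatSheaf).Faithful
  rw [IsZero.iff_id_eq_zero]
  exact (QCohLib.toAbF Y).map_injective (h.eq_of_src _ _)

theorem rpush_qcohD_stab (f : X ⟶ Y) [QuasiCompact f] [QuasiSeparated f] [CompactSpace Y] [DCoh.HasRpush f]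
    (K : DCoh.D X) (hK : DCoh.IsQCohD K) :
    DCoh.IsQCohD ((DCoh.Rpush f).obj K) ∧ ∃ N : ℕ, ∀ (n : ℕ) (j : ℤ), (N : ℤ) - (n : ℤ) ≤ j →
      IsIso ((DerivedCategory.homologyFunctor Y.Modules j).map
        ((DCoh.Rpush f).map (((DerivedCategory.TStructure.t :
          CategoryTheory.Triangulated.TStructure (DCoh.D X)).truncGEπ (-(n : ℤ))).app K))) := by
  haveI : EnoughInjectives X.Modules := inferInstance
  haveI : HasInjectiveResolutions X.Modules := inferInstance
  haveI : HasInjectiveResolutions (ModSite.Mod X.sheaf) := ‹HasInjectiveResolutions X.Modules›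
  haveI : SiteCmp.HasRpushD (ModSite.RMor.ofScheme f) := ‹DCoh.HasRpush f›
  obtain ⟨N, hN⟩ := exists_bound_rpush f
  have h := Groth.Agent.SiteCmpLib.cohIn_and_isIso_truncGEπ (ModSite.RMor.ofScheme f) (qcP X)
    X.affineOpens Y.affineOpens (affine_hB X) (affine_hA X) (affine_hB Y) (N : ℤ)
    (fun F hF p hp => hN F hF p (by omega)) K hK (qcP Y)
    (fun F hF p => by
      haveI : Coh.IsQCoh (X := X) F := hF
      exact RpushLib.isQCoh_rpush f p) (affine_hA Y)
  exact ⟨h.1, N, h.2⟩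

theorem isQCohD_rpush (f : X ⟶ Y) [QuasiCompact f] [QuasiSeparated f] [DCoh.HasRpush f]
    (K : DCoh.D X) (hK : DCoh.IsQCohD K) : DCoh.IsQCohD ((DCoh.Rpush f).obj K) := fun i => by
  refine isQCoh_of_local fun y => ?_
  obtain ⟨_, ⟨V : Y.Opens, hV, rfl⟩, hy, -⟩ :=
    Y.isBasis_affineOpens.exists_subset_of_mem_open (a := y) (Set.mem_univ y) isOpen_univ
  haveI : IsAffine (V : Scheme.{u}) := hV
  haveI : DCoh.HasRpush (f ∣_ V) := Groth.Agent.KInj.hasRightDerivedFunctor (hres_modules _) _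
  obtain ⟨e⟩ := Groth.Agent.S6508.result f V
  exact ⟨V, hy, isQCoh_of_iso' ((DerivedCategory.homologyFunctor _ i).mapIso (e.app K).symm ≪≫
    restrictHDIso V.ι _ i) ((rpush_qcohD_stab (f ∣_ V) _ (TildeD.isQCohD_restrict (f ⁻¹ᵁ V).ι _ hK)).1 i)⟩

end Groth.Agent.DCohMore
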