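import Groth.Agent.DCohMore.RpushBdd
import Groth.Agent.S0028
import Groth.Agent.DCohLib.SuppOpen

/-!
# Derived direct images along affine morphisms reflect isomorphisms
-/

set_option autoImplicit false
set_option linter.style.haveILetI false
set_option linter.unusedSectionVars false
set_option maxHeartbeats 1000000

universe u

open CategoryTheory CategoryTheory.Limits AlgebraicGeometry TopologicalSpace
open CategoryTheory.Pretriangulated

attribute [local instance] HasDerivedCategory.standard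

noncomputable section

namespace Groth.Agent.DCohMore

open Groth.Agent.DCohLib Groth.Agent.SiteCmpLib

variable {X S : Scheme.{u}}

theorem isZero_of_isZero_push (f : X ⟶ S) [IsAffineHom f] (M : X.Modules) [Coh.IsQCoh M]
    (h : IsZero ((Scheme.Modules.pushforward f).obj M)) : IsZero M := by
  rw [IsZero.iff_id_eq_zero]
  refine Scheme.Modules.hom_ext _ _ fun W => ConcreteCategory.hom_ext _ _ fun x => ?_
  have hloc : ∀ y : W, ∃ D : X.Opens, ∃ _ : D ≤ W, y.1 ∈ D ∧ ∀ t : Γ(M, D), t = 0 := fun y => by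
    obtain ⟨_, ⟨V : S.Opens, hV, rfl⟩, hy, -⟩ :=
      S.isBasis_affineOpens.exists_subset_of_mem_open (a := f y.1) (Set.mem_univ _) isOpen_univ
    have hP : IsAffineOpen (f ⁻¹ᵁ V) := hV.preimage f
    obtain ⟨r, hr, hyr⟩ := hP.exists_basicOpen_le (V := W) ⟨y.1, y.2⟩ hy
    refine ⟨X.basicOpen r, hr, hyr, fun t => ?_⟩
    have hz : ∀ s : Γ(M, f ⁻¹ᵁ V), s = 0 := fun s =>
      congr(($(h.eq_of_src (𝟙 ((Scheme.Modules.pushforward f).obj M)) 0)).app V s)
    obtain ⟨n, s, hs⟩ := (QCohLib.locAt M hP).extend r t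
    rw [hz s, map_zero] at hs
    have hu : IsUnit (X.presheaf.map (homOfLE (X.basicOpen_le r)).op r) :=
      RingedSpace.isUnit_res_basicOpen _ r
    have hp := hu.pow n
    rw [CohBase.sc_apply] at hs
    refine (IsUnit.smul_eq_zero (x := t) hp).1 ?_
    rw [← map_pow]
    exact hs.symm
  choose D hD hyD hD0 using hloc
  refine TopCat.Sheaf.eq_of_locally_eq' (⟨M.presheaf, M.isSheaf⟩ : TopCat.Sheaf Ab.{u} X.carrier)
    D W (fun y => homOfLE (hD y)) (fun y hy => Opens.mem_iSup.2 ⟨⟨y, hy⟩, hyD _⟩) _ _ fun y => ?_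
  exact (hD0 y _).trans (hD0 y _).symm

theorem isIso_of_isIso_rpush (f : X ⟶ S) [IsAffineHom f] [DCoh.HasRpush f]
    {E F : DCoh.D X} (hE : DCoh.IsQCohD E) (hF : DCoh.IsQCohD F) (α : E ⟶ F)
    (hα : IsIso ((DCoh.Rpush f).map α)) : IsIso α := by
  haveI : EnoughInjectives X.Modules := inferInstance
  haveI : HasInjectiveResolutions X.Modules := inferInstance
  haveI : HasInjectiveResolutions (ModSite.Mod X.sheaf) := ‹HasInjectiveResolutions X.Modules›
  haveI : SiteCmp.HasRpushD (ModSite.RMor.ofScheme f) := ‹DCoh.HasRpush f›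
  let g := ModSite.RMor.ofScheme f
  obtain ⟨_, _⟩ := exists_triangulated_rpushD g
  obtain ⟨C, b, c, hT⟩ := distinguished_cocone_triangle α
  have hC : DCoh.IsQCohD C := isQCohD_obj₂ _ (rot_of_distTriang _ hT) hF
    (fun i => isQCoh_of_iso' (((DerivedCategory.homologyFunctor X.Modules 0).shiftIso 1 i (1 + i) rfl).app E).symm
      (hE (1 + i)))
  have hz : IsZero ((SiteCmp.RpushD g).obj C) :=
    Triangle.isZero₃_of_isIso₁ _ ((SiteCmp.RpushD g).map_distinguished _ hT) hα
  suffices IsZero C from (Triangle.isZero₃_iff_isIso₁ _ hT).1 this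
  refine isZero_of_isZero_HD fun j => ?_
  let t : CategoryTheory.Triangulated.TStructure (DCoh.D X) := DerivedCategory.TStructure.t
  let C' := C⟦j⟧
  have hC' : DCoh.IsQCohD C' := fun i =>
    isQCoh_of_iso' (((DerivedCategory.homologyFunctor X.Modules 0).shiftIso j i (j + i) rfl).app C).symm (hC (j + i))
  let eC : DCoh.HD C' 0 ≅ DCoh.HD C j :=
    ((DerivedCategory.homologyFunctor X.Modules 0).shiftIso j 0 j (add_zero j)).app C
  have h3 : ∀ M : ModSite.Mod X.sheaf, qcP X M → ∀ p : ℕ, (0 : ℤ) < (p : ℤ) → IsZero ((g.Rpush p).obj M) := by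
    intro M hM p hp
    haveI : Coh.IsQCoh (X := X) M := hM
    haveI : (QCohLib.toAbF S).Faithful := inferInstanceAs (SheafOfModules.toSheaf.{u} S.ringCatSheaf).Faithful
    have h := (Groth.Agent.S0028.result f M p (by omega)).of_iso ((RpushLib.toAbRpushIso f p).app M)
    rw [IsZero.iff_id_eq_zero]
    exact (QCohLib.toAbF S).map_injective (h.eq_of_src _ _)
  obtain ⟨-, hst⟩ := cohIn_and_isIso_truncGEπ g (qcP X) X.affineOpens S.affineOpens (affine_hB X) (affine_hA X)
    (affine_hB S) 0 h3 C' hC' (qcP S) (fun M hM p => by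
      haveI : Coh.IsQCoh (X := X) M := hM
      exact RpushLib.isQCoh_rpush f p) (affine_hA S)
  have hiso := hst 0 0 (by omega)
  let L := (t.truncGE (-((0 : ℕ) : ℤ))).obj C'
  haveI hL : L.IsGE 0 := inferInstanceAs (t.IsGE ((t.truncGE (-((0 : ℕ) : ℤ))).obj C') (-((0 : ℕ) : ℤ)))
  obtain ⟨e⟩ := nonempty_HD_zero_rpush f L
  have hz' : IsZero ((Scheme.Modules.pushforward f).obj (DCoh.HD L 0)) := by
    refine IsZero.of_iso ?_ e.symm
    refine IsZero.of_iso ?_ (@asIso _ _ _ _ _ hiso).symm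
    exact ((DerivedCategory.homologyFunctor S.Modules 0).map_isZero
      (((SiteCmp.RpushD g).commShiftIso j).app C |> fun i =>
        ((shiftFunctor (DCoh.D S) j).map_isZero hz).of_iso i))
  let eL : DCoh.HD C' 0 ≅ DCoh.HD L 0 :=
    haveI := DCohLib.isIso_homology_truncGEπ C' (-((0 : ℕ) : ℤ)) 0 (by omega)
    asIso ((DerivedCategory.homologyFunctor X.Modules 0).map ((t.truncGEπ (-((0 : ℕ) : ℤ))).app C'))
  haveI : Coh.IsQCoh (DCoh.HD L 0) := isQCoh_of_iso' eL (hC' 0)
  exact (isZero_of_isZero_push f _ hz').of_iso (eC.symm ≪≫ eL)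

end Groth.Agent.DCohMore
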