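import Groth.Agent.DCohLib.PullKFlat
import Groth.Agent.DCohLib.StalkRestrictFree
import Groth.Agent.DCohLib.Restrict
import Groth.Agent.DRingLib.TensorAmp
import Groth.Agent.DTenLib.Res
import Groth.Prelude.Def_DerSch

/-!
# Tensoring complexes of finite relative tor amplitude with inverse images
-/

set_option autoImplicit false
set_option linter.style.haveILetI false
set_option linter.unusedSectionVars false

universe u

open CategoryTheory CategoryTheory.Limits AlgebraicGeometry MonoidalCategory

attribute [local instance] HasDerivedCategory.standard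

noncomputable section

namespace Groth.Agent.DCohMore

open Groth.Agent.DCohLib Groth.Agent.DTenLib Groth.Agent.DRingLib

/-- A complex of finite tor amplitude tensored with a K-flat resolution of a module lives in the
same interval. -/
theorem exactAt_tensor_of_amplitude {A : Type u} [CommRing A] (C P : DRing.Cx A) (M : ModuleCat.{u} A)
    {a b : ℤ} (hC : DRing.HasTorAmplitudeIn A a b (DRing.toD C)) (hP : DRing.IsKFlat A P)
    (e : DRing.toD P ≅ DRing.toD ((HomologicalComplex.single (ModuleCat.{u} A) (ComplexShape.up ℤ) 0).obj M))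
    (i : ℤ) (hi : i < a ∨ b < i) : (C ⊗ P).ExactAt i := by
  obtain ⟨E, hE, hflat, ⟨eE⟩⟩ := hC
  haveI := hasLTen A
  haveI := isIso_ε_left P C hP
  obtain ⟨e₂⟩ := nonempty_tensorLeft_iso M
    (isKFlat_of_vanishesAbove (b := b) (fun j hj => hE j (Or.inr hj)) hflat)
  refine exactAt_of_toD_iso (N := ((tensorLeft M).mapHomologicalComplex (ComplexShape.up ℤ)).obj E) ?_ i
    (ShortComplex.exact_of_isZero_X₂ _ ((tensorLeft M).map_isZero (hE i hi)))
  exact e₂ ≪≫ (DTen.LTen₂ A).mapIso (Iso.prod e.symm eE) ≪≫ asIso ((DTen.ε A).app (P, C)) ≪≫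
    DerivedCategory.Q.mapIso (DTen.braidCx P C)

variable {X S : Scheme.{u}} (f : X ⟶ S)

/-- An isomorphism in the derived category gives one on stalks. -/
def stalkToDIso (s : S) {P Q : CochainComplex S.Modules ℤ}
    (e : DerivedCategory.Q.obj P ≅ DerivedCategory.Q.obj Q) :
    DRing.toD (((stkF s).mapHomologicalComplex (ComplexShape.up ℤ)).obj P) ≅
      DRing.toD (((stkF s).mapHomologicalComplex (ComplexShape.up ℤ)).obj Q) :=
  ((stkF s).mapDerivedCategoryFactors.app P).symm ≪≫ (stkF s).mapDerivedCategory.mapIso e ≪≫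
    (stkF s).mapDerivedCategoryFactors.app Q

/-- The inverse image of a module tensored with a complex of tor amplitude in an interval over the base
lives in that interval. -/
theorem exactAt_tensor_pullback_of_amplitude (F : CochainComplex X.Modules ℤ) {a b : ℤ}
    (hF : DerSch.HasTorAmplitude f a b F) (N : S.Modules) (P : CochainComplex S.Modules ℤ) (hP : DCoh.IsKFlat P)
    (e : DerivedCategory.Q.obj P ≅
      DerivedCategory.Q.obj ((HomologicalComplex.single S.Modules (ComplexShape.up ℤ) 0).obj N))
    (i : ℤ) (hi : i < a ∨ b < i) :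
    ((DCoh.tensorCx.obj F).obj
      (((Scheme.Modules.pullback f).mapHomologicalComplex (ComplexShape.up ℤ)).obj P)).ExactAt i := by
  rw [HomologicalComplex.exactAt_iff_isZero_homology, isZero_homology_iff_stkF]
  intro x
  letI := (f.stalkMap x).hom.toAlgebra
  let A := S.presheaf.stalk (f x)
  let B := X.presheaf.stalk x
  let R := resF' A B
  let Fx : DRing.Cx B := ((stkF x).mapHomologicalComplex (ComplexShape.up ℤ)).obj F
  let Ps : DRing.Cx A := ((stkF (f x)).mapHomologicalComplex (ComplexShape.up ℤ)).obj P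
  let T : DRing.Cx B := Fx ⊗ ((bcF A B).mapHomologicalComplex (ComplexShape.up ℤ)).obj Ps
  let e' : DRing.toD Ps ≅ DRing.toD
      ((HomologicalComplex.single (ModuleCat.{u} A) (ComplexShape.up ℤ) 0).obj ((stkF (f x)).obj N)) :=
    stalkToDIso (f x) e ≪≫
      DerivedCategory.Q.mapIso ((HomologicalComplex.singleMapHomologicalComplex (stkF (f x)) _ 0).app N)
  have h := exactAt_tensor_of_amplitude ((R.mapHomologicalComplex (ComplexShape.up ℤ)).obj Fx) Ps _ (hF x)
    ((isKFlat_iff_stalk P).1 hP (f x)) e' i hi
  let c : (R.mapHomologicalComplex (ComplexShape.up ℤ)).obj T ≅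
      (R.mapHomologicalComplex (ComplexShape.up ℤ)).obj Fx ⊗ Ps :=
    Groth.Agent.KFlat.mapTotIso
      (F := curriedTensor (ModuleCat.{u} B) ⋙ (Functor.whiskeringLeft _ _ _).obj (bcF A B))
      (F' := R ⋙ curriedTensor (ModuleCat.{u} A)) (G := R) (cancelNatIso A B) Fx Ps
  have hR : ((R.mapHomologicalComplex (ComplexShape.up ℤ)).obj T).ExactAt i := h.of_iso c.symm
  have hT : T.ExactAt i :=
    (HomologicalComplex.exactAt_iff _ _).2
      ((ShortComplex.exact_map_iff_of_faithful _ R).1 ((HomologicalComplex.exactAt_iff _ _).1 hR))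
  exact ((HomologicalComplex.exactAt_iff_isZero_homology _ _).1 hT).of_iso
    ((HomologicalComplex.homologyFunctor _ _ i).mapIso (stalkTensorCxIso x F _ ≪≫
      (tensorLeft Fx).mapIso (mapCxSquareIso (Scheme.Modules.pullback f) (stkF x) (stkF (f x)) (bcF A B)
        (pullStalkNatIso f x) P)))

/-- An additive equivalence respecting scalars, as an isomorphism of modules. -/
def modIsoOfAdd {A : Type u} [CommRing A] (M N : ModuleCat.{u} A) (e : ↥M ≃+ ↥N)
    (h : ∀ (a : A) (m : M), e (a • m) = a • e m) : M ≅ N :=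
  (e.toLinearEquiv h).toModuleIso

/-- Stalks of restrictions over the base. -/
def stalkOverRestrictObjIso {U : Scheme.{u}} (j : U ⟶ X) [IsOpenImmersion j] (x : U) (M : X.Modules) :
    (DerSch.stalkOver (j ≫ f) x).obj ((Scheme.Modules.restrictFunctor j).obj M) ≅
      (DerSch.stalkOver f (j x)).obj M :=
  modIsoOfAdd (A := S.presheaf.stalk (f (j x)))
    ((DerSch.stalkOver (j ≫ f) x).obj ((Scheme.Modules.restrictFunctor j).obj M))
    ((DerSch.stalkOver f (j x)).obj M)
    ((Scheme.Modules.restrictStalkNatIso j x).app M).addCommGroupIsoToAddEquiv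
    fun a m => by
      refine Eq.trans (restrictStalk_smul j M x ((j ≫ f).stalkMap x a) m) ?_
      refine congrArg (· • (id ((Scheme.Modules.restrictStalkNatIso j x).hom.app M m) : ↑(M.presheaf.stalk (j x)))) ?_
      apply (asIso (j.stalkMap x)).commRingCatIsoToRingEquiv.injective
      rw [RingEquiv.apply_symm_apply, Scheme.Hom.stalkMap_comp]
      rfl

/-- Stalks of restrictions over the base, naturally. -/
def stalkOverRestrictIso {U : Scheme.{u}} (j : U ⟶ X) [IsOpenImmersion j] (x : U) :
    Scheme.Modules.restrictFunctor j ⋙ DerSch.stalkOver (j ≫ f) x ≅ DerSch.stalkOver f (j x) :=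
  NatIso.ofComponents (fun M => stalkOverRestrictObjIso f j x M) fun φ =>
    ModuleCat.hom_ext (LinearMap.ext fun m => by
      exact ConcreteCategory.congr_hom ((Scheme.Modules.restrictStalkNatIso j x).hom.naturality φ) m)

/-- Relative tor amplitude passes to open subschemes. -/
theorem hasTorAmplitude_restrict {U : Scheme.{u}} (j : U ⟶ X) [IsOpenImmersion j]
    (F : CochainComplex X.Modules ℤ) {a b : ℤ} (hF : DerSch.HasTorAmplitude f a b F) :
    DerSch.HasTorAmplitude (j ≫ f) a b ((resCx j).obj F) := fun x =>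
  amp_of_iso (DerivedCategory.Q.mapIso
    (HomologicalComplex.Hom.isoOfComponents (fun n => (stalkOverRestrictIso f j x).app (F.X n))
      fun i k _ => ((stalkOverRestrictIso f j x).hom.naturality (F.d i k)).symm)).symm (hF (j x))

end Groth.Agent.DCohMore
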