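import Groth.Agent.DCohMore.RpushPerf
import Groth.Agent.DCohMore.RelTorTensor

/-!
# Perfectness of derived direct images of complexes of finite tor amplitude over the base
-/

set_option autoImplicit false
set_option linter.style.haveILetI false
set_option linter.unusedSectionVars false

universe u

open CategoryTheory CategoryTheory.Limits AlgebraicGeometry

attribute [local instance] HasDerivedCategory.standard

noncomputable section

namespace Groth.Agent.DCohMore

open Groth.Agent.DCohLib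

variable {X S : Scheme.{u}}

/-- The quasi-compact case. -/
theorem isPerfect_rpush_relTor [IsNoetherian S] (f : X ⟶ S) [LocallyOfFiniteType f] [QuasiCompact f]
    [DCoh.HasRpush f] (F : CochainComplex X.Modules ℤ) (a b : ℤ) (hab : a ≤ b)
    (hGE : (DerivedCategory.Q.obj F).IsGE a) (hLE : (DerivedCategory.Q.obj F).IsLE b)
    (hF : DCoh.IsCohD (DerivedCategory.Q.obj F))
    (hs : ∀ i : ℤ, ClSub.IsProperOver f (CohB1.support (DCoh.HD (DerivedCategory.Q.obj F) i)))
    (htor : DerSch.HasFiniteTorAmplitude f F) :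
    DCoh.IsPerfect ((DCoh.Rpush f).obj (DerivedCategory.Q.obj F)) := by
  haveI : IsLocallyNoetherian X := LocallyOfFiniteType.isLocallyNoetherian f
  haveI : QuasiSeparated f := inferInstance
  haveI := hGE
  haveI := hLE
  obtain ⟨a', b', htor⟩ := htor
  obtain ⟨b₀, hb₀⟩ := exists_isLE_rpush f (DerivedCategory.Q.obj F) a b hF hs
  haveI := hb₀
  haveI := isGE_rpush f (DerivedCategory.Q.obj F) a
  have hpc := isPseudoCoherentD_of_coh ((DCoh.Rpush f).obj (DerivedCategory.Q.obj F)) b₀
    (isCohD_rpush f (DerivedCategory.Q.obj F) a hF hs)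
  obtain ⟨c, hc, hamp⟩ := exists_torAmplitude_rpush f (DerivedCategory.Q.obj F) (fun i => (hF i).1) a'
    (max a' b') (le_max_left _ _) fun N _ P hP hPe => by
      obtain ⟨eP⟩ := hPe
      let e : (DCoh.LTensorCx ((pullCx f).obj P)).obj (DerivedCategory.Q.obj F) ≅
          DerivedCategory.Q.obj ((DCoh.tensorCx.obj F).obj ((pullCx f).obj P)) :=
        (lTensorQIso _ (isKFlat_pullback f hP)).app F
      have hz : ∀ i : ℤ, i < a' ∨ max a' b' < i →
          IsZero (DCoh.HD ((DCoh.LTensorCx ((pullCx f).obj P)).obj (DerivedCategory.Q.obj F)) i) :=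
        fun i hi => ((HomologicalComplex.exactAt_iff_isZero_homology _ _).1
          (exactAt_tensor_pullback_of_amplitude f F htor N P hP eP i (hi.imp_right fun h => by omega))).of_iso
          ((DerivedCategory.homologyFunctor X.Modules i).mapIso e ≪≫
            (DerivedCategory.homologyFunctorFactors X.Modules i).app _)
      exact ⟨(DerivedCategory.isGE_iff _ _).2 fun i hi => hz i (Or.inl hi),
        (DerivedCategory.isLE_iff _ _).2 fun i hi => hz i (Or.inr hi)⟩
  exact isPerfect_of_torAmplitude hpc a' c hc hamp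

/-- The general Noetherian case. -/
theorem isPerfect_rpush_relTor' [IsNoetherian S] (f : X ⟶ S) [LocallyOfFiniteType f] [DCoh.HasRpush f]
    (F : CochainComplex X.Modules ℤ) (a b : ℤ) (hab : a ≤ b) (hF : DCoh.IsCohD (DerivedCategory.Q.obj F))
    (hb : ∀ i : ℤ, (i < a ∨ b < i) → IsZero (DCoh.HD (DerivedCategory.Q.obj F) i))
    (hs : ∀ i : ℤ, ClSub.IsProperOver f (CohB1.support (DCoh.HD (DerivedCategory.Q.obj F) i)))
    (htor : DerSch.HasFiniteTorAmplitude f F) :
    DCoh.IsPerfect ((DCoh.Rpush f).obj (DerivedCategory.Q.obj F)) := by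
  haveI : IsLocallyNoetherian X := LocallyOfFiniteType.isLocallyNoetherian f
  let K := DerivedCategory.Q.obj F
  let Z : Set X := ⋃ i ∈ Set.Icc a b, CohB1.support (DCoh.HD K i)
  have hzero : ∀ i, (i < a ∨ b < i) → CohB1.support (DCoh.HD K i) = ∅ := fun i hi =>
    Set.eq_empty_iff_forall_notMem.2 fun x hx => hx (AddCommGrpCat.subsingleton_of_isZero
      ((Scheme.Modules.toPresheaf X ⋙ TopCat.Presheaf.stalkFunctor _ x).map_isZero (hb i hi)))
  have hZs : ∀ i, CohB1.support (DCoh.HD K i) ⊆ Z := fun i => by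
    by_cases hi : i < a ∨ b < i
    · rw [hzero i hi]
      exact Set.empty_subset _
    · exact Set.subset_biUnion_of_mem (u := fun j => CohB1.support (DCoh.HD K j))
        (show i ∈ Set.Icc a b from ⟨by omega, by omega⟩)
  have hmodel : ∀ i, IsCompact (CohB1.support (DCoh.HD K i)) := fun i => by
    obtain ⟨T, k, hk, -, hr, hp⟩ := Groth.Agent.ClSubLib.exists_model f (hs i)
    haveI := hp
    haveI : CompactSpace T := QuasiCompact.compactSpace_of_compactSpace (k ≫ f)
    exact hr ▸ isCompact_range k.continuous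
  have hZc : IsCompact Z := (Set.finite_Icc a b).isCompact_biUnion fun i _ => hmodel i
  have hZcl : IsClosed Z := (Set.finite_Icc a b).isClosed_biUnion fun i _ => (hs i).1
  obtain ⟨s, hsub⟩ := hZc.elim_finite_subcover (fun V : X.affineOpens => ((V.1 : X.Opens) : Set X))
    (fun V => V.1.2) (fun x _ => by
      obtain ⟨_, ⟨V : X.Opens, hV, rfl⟩, hx, -⟩ :=
        X.isBasis_affineOpens.exists_subset_of_mem_open (a := x) (Set.mem_univ x) isOpen_univ
      exact Set.mem_iUnion.2 ⟨⟨V, hV⟩, hx⟩)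
  let U : X.Opens := ⟨⋃ V ∈ s, ((V.1 : X.Opens) : Set X), isOpen_biUnion fun V _ => V.1.2⟩
  have hUc : IsCompact (U : Set X) := s.isCompact_biUnion fun V _ => V.2.isCompact
  haveI : CompactSpace (U : Scheme.{u}) := isCompact_iff_compactSpace.1 hUc
  haveI : QuasiCompact (U.ι ≫ f) :=
    haveI : QuasiSeparatedSpace S := inferInstance
    QuasiCompact.of_comp (U.ι ≫ f) (Limits.terminal.from S)
  haveI : DCoh.HasRpush U.ι := Groth.Agent.KInj.hasRightDerivedFunctor (hres_modules _) _
  haveI : DCoh.HasRpush (U.ι ≫ f) := Groth.Agent.KInj.hasRightDerivedFunctor (hres_modules _) _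
  obtain ⟨r⟩ := nonempty_iso_rpush_restrict U Z hZcl hsub K hZs
  obtain ⟨c⟩ := nonempty_rpushCompIso U.ι f
  let F' := (resCx U.ι).obj F
  let eK : (DCoh.restrictD U.ι).obj K ≅ DerivedCategory.Q.obj F' := restrictDQ U.ι F
  let eH : ∀ i, DCoh.HD (DerivedCategory.Q.obj F') i ≅
      (Scheme.Modules.restrictFunctor U.ι).obj (DCoh.HD K i) := fun i =>
    (DerivedCategory.homologyFunctor _ i).mapIso eK.symm ≪≫ restrictHDIso U.ι K i
  have hcoh : DCoh.IsCohD (DerivedCategory.Q.obj F') := isCohD_of_iso' eK (isCohD_restrict' hF U)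
  have hs' : ∀ i, ClSub.IsProperOver (U.ι ≫ f) (CohB1.support (DCoh.HD (DerivedCategory.Q.obj F') i)) := fun i => by
    obtain ⟨T, k, hk, -, hr, hp⟩ := Groth.Agent.ClSubLib.exists_model f (hs i)
    haveI := hk
    let j : T ⟶ (U : Scheme.{u}) := IsOpenImmersion.lift U.ι k (by
      rw [hr]
      exact ((hZs i).trans hsub).trans_eq (Scheme.Opens.range_ι U).symm)
    have hj : j ≫ U.ι = k := IsOpenImmersion.lift_fac _ _ _
    haveI : IsClosedImmersion (j ≫ U.ι) := by rw [hj]; infer_instance
    haveI : IsClosedImmersion j := IsClosedImmersion.of_comp j U.ι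
    have hZ : CohB1.support (DCoh.HD (DerivedCategory.Q.obj F') i) = U.ι.base ⁻¹' CohB1.support (DCoh.HD K i) := by
      exact Set.ext fun x => not_congr
        (((Scheme.Modules.toPresheaf _ ⋙ TopCat.Presheaf.stalkFunctor _ x).mapIso (eH i)) ≪≫
          (Scheme.Modules.restrictStalkNatIso U.ι x).app _).addCommGroupIsoToAddEquiv.toEquiv.subsingleton_congr
    rw [hZ]
    refine (Groth.Agent.ClSubLib.isProperOver_iff (U.ι ≫ f) j ?_).2 (by rw [← Category.assoc, hj]; exact hp)
    ext x
    rw [Set.mem_preimage, ← hr]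
    constructor
    · rintro ⟨t, rfl⟩
      exact ⟨t, by rw [← hj]; rfl⟩
    · rintro ⟨t, ht⟩
      exact ⟨t, U.ι.isOpenEmbedding.injective (by rw [← ht, ← hj]; rfl)⟩
  have hb' : ∀ i, (i < a ∨ b < i) → IsZero (DCoh.HD (DerivedCategory.Q.obj F') i) := fun i hi =>
    ((Scheme.Modules.restrictFunctor U.ι).map_isZero (hb i hi)).of_iso (eH i)
  obtain ⟨a', b', htor⟩ := htor
  exact isPerfect_iso ((DCoh.Rpush f).mapIso r ≪≫ c.app _ ≪≫ (DCoh.Rpush (U.ι ≫ f)).mapIso eK).symm
    (isPerfect_rpush_relTor (U.ι ≫ f) F' a b hab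
      ((DerivedCategory.isGE_iff _ _).2 fun i hi => hb' i (Or.inl hi))
      ((DerivedCategory.isLE_iff _ _).2 fun i hi => hb' i (Or.inr hi))
      hcoh hs' ⟨a', b', hasTorAmplitude_restrict f U.ι F htor⟩)

end Groth.Agent.DCohMore
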