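import Groth.Agent.DCohMore.GenBounded

/-!
# A perfect generator builds every perfect object in finitely many steps
-/

set_option autoImplicit false
set_option linter.style.haveILetI false
set_option backward.isDefEq.respectTransparency false

universe u

open CategoryTheory Limits AlgebraicGeometry Pretriangulated ZeroObject
attribute [local instance] HasDerivedCategory.standard

noncomputable section

namespace Groth.Agent.DCohMore

open Groth.Agent.DRingLib Groth.Agent.DCohLib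

variable {X : Scheme.{u}} {G : DCoh.D X}

/-- The objects built in finitely many steps from the shifts of `G`. -/
inductive Built (G : DCoh.D X) : DCoh.D X → Prop
  | shift (n : ℤ) : Built G (G⟦n⟧)
  | zero (Z : DCoh.D X) : IsZero Z → Built G Z
  | iso {K L : DCoh.D X} : (K ≅ L) → Built G K → Built G L
  | ext (T : Triangle (DCoh.D X)) : T ∈ distTriang (DCoh.D X) → Built G T.obj₁ → Built G T.obj₃ → Built G T.obj₂

theorem Built.shift' {K : DCoh.D X} (h : Built G K) : ∀ n : ℤ, Built G (K⟦n⟧) := by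
  induction h with
  | shift m => exact fun n => .iso ((shiftFunctorAdd _ m n).app G) (.shift (m + n))
  | zero Z hZ => exact fun n => .zero _ ((shiftFunctor _ n).map_isZero hZ)
  | iso e _ ih => exact fun n => .iso ((shiftFunctor _ n).mapIso e) (ih n)
  | ext T hT _ _ ih₁ ih₃ => exact fun n => .ext _ (Triangle.shift_distinguished T hT n) (ih₁ n) (ih₃ n)

theorem Built.obj₁ (T : Triangle (DCoh.D X)) (hT : T ∈ distTriang _) (h₂ : Built G T.obj₂)
    (h₃ : Built G T.obj₃) : Built G T.obj₁ :=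
  .ext T.invRotate (inv_rot_of_distTriang T hT) (h₃.shift' (-1)) h₂

theorem Built.biprod {K L : DCoh.D X} (hK : Built G K) (hL : Built G L) : Built G (K ⊞ L) :=
  .ext _ (binaryBiproductTriangle_distinguished K L) hK hL

theorem Built.perfect (hG : DCoh.IsPerfect G) {K : DCoh.D X} (h : Built G K) : DCoh.IsPerfect K := by
  induction h with
  | shift m => exact isPerfect_shift hG m
  | zero Z hZ => exact isPerfect_of_perfOn (perfOn_of_isZero hZ)
  | iso e _ ih => exact isPerfect_iso e ih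
  | ext T hT _ _ ih₁ ih₃ => exact isPerfect_obj₂ T hT ih₁ ih₃

/-- A map factoring through a built object. -/
def Thru (G : DCoh.D X) {C W : DCoh.D X} (φ : C ⟶ W) : Prop :=
  ∃ (E : DCoh.D X) (g : C ⟶ E) (h : E ⟶ W), Built G E ∧ g ≫ h = φ

theorem Thru.zero {C W : DCoh.D X} : Thru G (0 : C ⟶ W) :=
  ⟨0, 0, 0, .zero _ (isZero_zero _), by simp⟩

theorem Thru.comp {C W W' : DCoh.D X} {φ : C ⟶ W} (h : Thru G φ) (f : W ⟶ W') : Thru G (φ ≫ f) := by
  obtain ⟨E, g, k, hE, rfl⟩ := h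
  exact ⟨E, g, k ≫ f, hE, by simp⟩

theorem Thru.add {C W : DCoh.D X} {φ ψ : C ⟶ W} (h : Thru G φ) (h' : Thru G ψ) : Thru G (φ + ψ) := by
  obtain ⟨A, g, k, hA, rfl⟩ := h
  obtain ⟨B, g', k', hB, rfl⟩ := h'
  exact ⟨A ⊞ B, biprod.lift g g', biprod.desc k k', hA.biprod hB, by simp⟩

theorem Thru.sum {C W : DCoh.D X} {ι : Type*} (s : Finset ι) (φ : ι → (C ⟶ W)) (h : ∀ i ∈ s, Thru G (φ i)) :
    Thru G (∑ i ∈ s, φ i) := by
  classical
  induction s using Finset.induction_on with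
  | empty => rw [Finset.sum_empty]; exact Thru.zero
  | insert a s ha ih =>
    rw [Finset.sum_insert ha]
    exact (h a (Finset.mem_insert_self a s)).add (ih fun i hi => h i (Finset.mem_insert_of_mem hi))

/-- Maps from perfect objects into sums of shifts of `G` factor through built objects. -/
theorem thru_coproduct [CompactSpace X] [QuasiSeparatedSpace X] (hG : DCoh.IsPerfect G) {I : Type u}
    (m : I → ℤ) [HasCoproduct fun k => G⟦m k⟧] {C : DCoh.D X} (hC : DCoh.IsPerfect C)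
    (φ : C ⟶ ∐ fun k => G⟦m k⟧) : Thru G φ := by
  obtain ⟨T, hT⟩ := absorbs_of_isPerfect hC (fun k => G⟦m k⟧)
    (fun k => isQCohD_shift' (isQCohD_of_isPerfect hG) (m k)) φ
  rw [← hT, sigmaTrunc, Preadditive.comp_sum]
  refine Thru.sum T _ fun k _ => ⟨G⟦m k⟧, φ ≫ sigmaProj (coproductIsCoproduct fun k => G⟦m k⟧) k,
    Sigma.ι (fun k => G⟦m k⟧) k, .shift (m k), ?_⟩
  exact Category.assoc _ _ _

theorem exists_thick_step [CompactSpace X] [QuasiSeparatedSpace X] (hG : DCoh.IsPerfect G) (Y : DCoh.D X)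
    (hY : DCoh.IsQCohD Y) :
    ∃ (I : Type u) (m : I → ℤ) (_ : HasCoproduct fun k => G⟦m k⟧) (Y' : DCoh.D X)
      (y : (∐ fun k => G⟦m k⟧) ⟶ Y) (f : Y ⟶ Y') (z : Y' ⟶ (∐ fun k => G⟦m k⟧)⟦(1 : ℤ)⟧),
      Triangle.mk y f z ∈ distTriang _ ∧ DCoh.IsQCohD Y' ∧ ∀ (j : ℤ) (a : G⟦j⟧ ⟶ Y), a ≫ f = 0 := by
  choose κ s hs using fun j : ℤ => exists_small_homs (G⟦j⟧) Y
  let I : Type u := Σ j : ULift.{u} ℤ, κ j.down
  let m : I → ℤ := fun k => k.1.down
  haveI := hasCoproduct_D' (fun k => G⟦m k⟧)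
  let y : (∐ fun k => G⟦m k⟧) ⟶ Y := Sigma.desc fun k => s k.1.down k.2
  obtain ⟨Y', f, z, hT⟩ := distinguished_cocone_triangle y
  refine ⟨I, m, inferInstance, Y', y, f, z, hT, isQCohD_obj₃' _ hT
    (isQCohD_coproduct _ fun k => isQCohD_shift' (isQCohD_of_isPerfect hG) (m k)) hY, fun j a => ?_⟩
  obtain ⟨k, rfl⟩ := hs j a
  have h1 : s j k = Sigma.ι (fun k => G⟦m k⟧) ⟨⟨j⟩, k⟩ ≫ y :=
    (Sigma.ι_desc (f := fun k => G⟦m k⟧) (fun k : I => s k.1.down k.2) ⟨⟨j⟩, k⟩).symm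
  rw [h1, Category.assoc]
  exact (congrArg (Sigma.ι (fun k => G⟦m k⟧) ⟨⟨j⟩, k⟩ ≫ ·) (comp_distTriang_mor_zero₁₂ _ hT)).trans comp_zero

/-- One step of the induction along the tower. -/
theorem thru_of_step [CompactSpace X] [QuasiSeparatedSpace X] (hG : DCoh.IsPerfect G) {I : Type u}
    (m : I → ℤ) [HasCoproduct fun k => G⟦m k⟧] {Y Y' : DCoh.D X} (y : (∐ fun k => G⟦m k⟧) ⟶ Y) (f : Y ⟶ Y')
    (z : Y' ⟶ (∐ fun k => G⟦m k⟧)⟦(1 : ℤ)⟧) (hT : Triangle.mk y f z ∈ distTriang _) {C : DCoh.D X}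
    (hC : DCoh.IsPerfect C) (φ : C ⟶ Y) (h : Thru G (φ ≫ f)) : Thru G φ := by
  obtain ⟨E, g, k, hE, hgk⟩ := h
  obtain ⟨W, p, q, hW⟩ := distinguished_cocone_triangle g
  have hkz : g ≫ k ≫ z = 0 := by
    rw [← Category.assoc, hgk, Category.assoc]
    exact (congrArg (φ ≫ ·) (comp_distTriang_mor_zero₂₃ _ hT)).trans comp_zero
  obtain ⟨b, hb⟩ : ∃ b : W ⟶ (∐ fun k => G⟦m k⟧)⟦(1 : ℤ)⟧, k ≫ z = p ≫ b :=
    Triangle.yoneda_exact₂ _ hW (k ≫ z) hkz
  have hWp : DCoh.IsPerfect W := isPerfect_obj₃ _ hW hC (hE.perfect hG)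
  -- factor through a built object
  obtain ⟨E₂, g₂, h₂, hE₂, hgh⟩ : Thru G b := by
    let η := (shiftEquiv (DCoh.D X) (1 : ℤ)).counitIso
    obtain ⟨b₀, hb₀⟩ := (shiftFunctor (DCoh.D X) (1 : ℤ)).map_surjective (η.hom.app W ≫ b)
    obtain ⟨E₀, g₀, h₀, hE₀, hgh₀⟩ := thru_coproduct hG m (isPerfect_shift hWp (-1)) b₀
    refine ⟨E₀⟦(1 : ℤ)⟧, η.inv.app W ≫ g₀⟦(1 : ℤ)⟧', h₀⟦(1 : ℤ)⟧', hE₀.shift' 1, ?_⟩
    rw [Category.assoc, ← Functor.map_comp, hgh₀, hb₀]
    simp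
  obtain ⟨E₃, i, hi, hT₃⟩ := distinguished_cocone_triangle₁ (p ≫ g₂)
  have hE₃ : Built G E₃ := Built.obj₁ _ hT₃ hE hE₂
  obtain ⟨c, hc⟩ : ∃ c : E₃ ⟶ Y, i ≫ k = c ≫ f := Triangle.coyoneda_exact₃ _ hT (i ≫ k) (by
    show (i ≫ k) ≫ z = 0
    rw [Category.assoc, hb, ← hgh, ← Category.assoc p, ← Category.assoc i]
    exact (congrArg (· ≫ h₂) (comp_distTriang_mor_zero₁₂ _ hT₃)).trans zero_comp)
  obtain ⟨g₃, hg₃⟩ : ∃ g₃ : C ⟶ E₃, g = g₃ ≫ i := Triangle.coyoneda_exact₂ _ hT₃ g (by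
    show g ≫ p ≫ g₂ = 0
    rw [← Category.assoc]
    exact (congrArg (· ≫ g₂) (comp_distTriang_mor_zero₁₂ _ hW)).trans zero_comp)
  obtain ⟨ψ, hψ⟩ : ∃ ψ, φ - g₃ ≫ c = ψ ≫ y := Triangle.coyoneda_exact₂ _ hT _ (by
    show (φ - g₃ ≫ c) ≫ f = 0
    rw [Preadditive.sub_comp, Category.assoc, ← hc, ← Category.assoc g₃, ← hg₃, hgk, sub_self])
  rw [← sub_add_cancel φ (g₃ ≫ c), hψ]
  exact ((thru_coproduct hG m hC ψ).comp y).add ⟨E₃, g₃, c, hE₃, rfl⟩

set_option maxHeartbeats 1000000 in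
/-- A perfect generator builds every perfect object up to a direct summand. -/
theorem exists_built_retract [CompactSpace X] [QuasiSeparatedSpace X] (hG : DCoh.IsPerfect G)
    (hgen : ∀ E : DCoh.D X, DCoh.IsQCohD E → (∀ (n : ℤ) (φ : G⟦n⟧ ⟶ E), φ = 0) → IsZero E)
    {P : DCoh.D X} (hP : DCoh.IsPerfect P) :
    ∃ E : DCoh.D X, Built G E ∧ Nonempty (Retract P E) := by
  classical
  let St := {Y : DCoh.D X // DCoh.IsQCohD Y}
  choose nI nm ni nY ny nf nz hnT hnq hkill using fun s : St => exists_thick_step hG s.1 s.2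
  let st : ℕ → St := fun n => Nat.rec ⟨P, isQCohD_of_isPerfect hP⟩ (fun _ s => ⟨nY s, hnq s⟩) n
  let Y : ULift.{u} ℕ → DCoh.D X := fun n => (st n.down).1
  let f : ∀ n : ℕ, Y ⟨n⟩ ⟶ Y ⟨n + 1⟩ := fun n => nf (st n)
  haveI := hasCoproduct_D' Y
  have hYq : ∀ n, DCoh.IsQCohD (Y n) := fun n => (st n.down).2
  let sh : (∐ Y) ⟶ ∐ Y := Sigma.desc fun n => f n.down ≫ Sigma.ι Y ⟨n.down + 1⟩
  let d : (∐ Y) ⟶ ∐ Y := 𝟙 _ - sh
  obtain ⟨L, g, c, hT⟩ := distinguished_cocone_triangle d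
  let π : ∀ n, (∐ Y) ⟶ Y n := fun n => sigmaProj (coproductIsCoproduct Y) n
  have hπs : ∀ n, Sigma.ι Y n ≫ π n = 𝟙 _ := fun n => inj_sigmaProj_self (coproductIsCoproduct Y) n
  have hπn : ∀ {i j : ULift.{u} ℕ}, j ≠ i → Sigma.ι Y j ≫ π i = 0 := fun h =>
    inj_sigmaProj_ne (coproductIsCoproduct Y) h
  have hd0 : d ≫ π ⟨0⟩ = π ⟨0⟩ := by
    have : sh ≫ π ⟨0⟩ = 0 := Sigma.hom_ext _ _ fun n => by
      rw [Sigma.ι_desc_assoc, Category.assoc, hπn (fun h => absurd (congrArg ULift.down h) (Nat.succ_ne_zero _)),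
        comp_zero, comp_zero]
    rw [Preadditive.sub_comp, this, Category.id_comp, sub_zero]
  have hd1 : ∀ n : ℕ, d ≫ π ⟨n + 1⟩ = π ⟨n + 1⟩ - π ⟨n⟩ ≫ f n := fun n => by
    have : sh ≫ π ⟨n + 1⟩ = π ⟨n⟩ ≫ f n := Sigma.hom_ext _ _ fun k => by
      rw [Sigma.ι_desc_assoc, Category.assoc]
      by_cases hk : k = ⟨n⟩
      · subst hk
        rw [hπs, Category.comp_id, ← Category.assoc, hπs, Category.id_comp]
      · rw [hπn (fun h => hk (ULift.ext _ _ (Nat.succ_injective (congrArg ULift.down h)))), comp_zero,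
          ← Category.assoc, hπn hk, zero_comp]
    rw [Preadditive.sub_comp, this, Category.id_comp]
  have habs : ∀ {Q : DCoh.D X}, DCoh.IsPerfect Q → ∀ α : Q ⟶ ∐ Y,
      ∃ T : Finset (ULift.{u} ℕ), α ≫ sigmaTrunc (coproductIsCoproduct Y) T = α := fun hQ α =>
    absorbs_of_isPerfect hQ Y hYq α
  -- the homotopy colimit vanishes
  have hL : IsZero L := by
    refine hgen L (isQCohD_obj₃' _ hT (isQCohD_coproduct Y hYq) (isQCohD_coproduct Y hYq)) fun n φ => ?_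
    have hc : φ ≫ c = 0 := by
      obtain ⟨η, hη⟩ : ∃ η : G⟦-(1 : ℤ) + n⟧ ⟶ ∐ Y, (shiftFunctor (DCoh.D X) (1 : ℤ)).map η =
          ((shiftFunctorAdd' (DCoh.D X) (-(1 : ℤ) + n) 1 n (by omega)).app G).inv ≫ φ ≫ c :=
        (shiftFunctor (DCoh.D X) (1 : ℤ)).map_surjective _
      have hη0 : η = 0 := by
        have hηd : η ≫ d = 0 := by
          apply (shiftFunctor (DCoh.D X) (1 : ℤ)).map_injective
          rw [Functor.map_comp, hη, Functor.map_zero, Category.assoc, Category.assoc]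
          exact (congrArg (fun t => _ ≫ φ ≫ t) (comp_distTriang_mor_zero₃₁ _ hT)).trans (by simp)
        obtain ⟨T, hTη⟩ := habs (isPerfect_shift hG _) η
        rw [← hTη]
        have hk : ∀ k : ℕ, η ≫ π ⟨k⟩ = 0 := fun k => by
          induction k with
          | zero => rw [← hd0, ← Category.assoc, hηd, zero_comp]
          | succ k ih =>
            have h2 : η ≫ d ≫ π ⟨k + 1⟩ = 0 := by rw [← Category.assoc, hηd, zero_comp]
            rw [hd1, Preadditive.comp_sub, ← Category.assoc η (π ⟨k⟩), ih, zero_comp, sub_zero] at h2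
            exact h2
        rw [sigmaTrunc, Preadditive.comp_sum]
        refine Finset.sum_eq_zero fun k _ => ?_
        rw [← Category.assoc]
        exact (congrArg (· ≫ _) (hk k.down)).trans zero_comp
      rw [hη0, Functor.map_zero] at hη
      rw [← cancel_epi ((shiftFunctorAdd' (DCoh.D X) (-(1 : ℤ) + n) 1 n (by omega)).app G).inv, comp_zero]
      exact hη.symm
    obtain ⟨α, hα⟩ := Triangle.coyoneda_exact₃ _ hT φ hc
    obtain ⟨T, hTα⟩ := habs (isPerfect_shift hG n) α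
    rw [hα]
    show α ≫ g = 0
    rw [← hTα, sigmaTrunc, Preadditive.comp_sum, Preadditive.sum_comp]
    refine Finset.sum_eq_zero fun k _ => ?_
    have hg : Sigma.ι Y k ≫ g = f k.down ≫ Sigma.ι Y ⟨k.down + 1⟩ ≫ g := by
      have h0 : Sigma.ι Y k ≫ d ≫ g = 0 :=
        (congrArg (Sigma.ι Y k ≫ ·) (comp_distTriang_mor_zero₁₂ _ hT)).trans comp_zero
      simpa [d, sh, Preadditive.sub_comp, Preadditive.comp_sub, sub_eq_zero] using h0
    have hk : (α ≫ π k) ≫ f k.down = 0 := hkill (st k.down) n (α ≫ π k)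
    show (α ≫ π k ≫ Sigma.ι Y k) ≫ g = 0
    rw [Category.assoc, Category.assoc, hg, ← Category.assoc (π k), ← Category.assoc α, ← Category.assoc α, hk,
      zero_comp]
  haveI : IsIso d := (Triangle.isZero₃_iff_isIso₁ _ hT).1 hL
  let a : P ⟶ ∐ Y := Sigma.ι Y ⟨0⟩ ≫ inv d
  obtain ⟨T, hTa⟩ := habs hP a
  obtain ⟨n, hn⟩ : ∃ n : ℕ, (⟨n⟩ : ULift.{u} ℕ) ∉ T :=
    (Infinite.exists_notMem_finset (T.image ULift.down)).imp fun n hn h => hn (Finset.mem_image_of_mem ULift.down h)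
  let F : ∀ n : ℕ, P ⟶ Y ⟨n⟩ := fun n => Nat.rec (𝟙 P) (fun k g => g ≫ f k) n
  have hF : ∀ k, a ≫ π ⟨k⟩ = F k := fun k => by
    induction k with
    | zero => rw [← hd0, Category.assoc, IsIso.inv_hom_id_assoc]; exact hπs _
    | succ k ih =>
      have h2 : a ≫ d ≫ π ⟨k + 1⟩ = 0 := by
        rw [Category.assoc, IsIso.inv_hom_id_assoc]
        exact hπn (fun h => absurd (congrArg ULift.down h).symm (Nat.succ_ne_zero _))
      rw [hd1, Preadditive.comp_sub, sub_eq_zero, ← Category.assoc, ih] at h2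
      exact h2
  have hFn : F n = 0 := by
    rw [← hF, ← hTa, sigmaTrunc, Preadditive.comp_sum, Preadditive.sum_comp]
    refine Finset.sum_eq_zero fun k hk => ?_
    show (a ≫ π k ≫ Sigma.ι Y k) ≫ π ⟨n⟩ = 0
    simp only [Category.assoc]
    rw [@hπn ⟨n⟩ k (fun h => hn (h ▸ hk))]
    simp
  -- descend along the tower
  have key : ∀ k : ℕ, Thru G (F k) → Thru G (𝟙 P) := fun k => by
    induction k with
    | zero => exact id
    | succ k ih =>
      intro h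
      haveI := ni (st k)
      exact ih (thru_of_step hG (nm (st k)) (ny (st k)) (nf (st k)) (nz (st k)) (hnT (st k)) hP (F k) h)
  obtain ⟨E, g', h', hE, hgh⟩ := key n (by rw [hFn]; exact Thru.zero)
  exact ⟨E, hE, ⟨⟨g', h', hgh⟩⟩⟩

theorem isPerfect_of_retract {K L : DCoh.D X} (r : Retract K L) (hL : DCoh.IsPerfect L) : DCoh.IsPerfect K := by
  obtain ⟨C, p, q, hT⟩ := distinguished_cocone_triangle r.i
  haveI : Mono (Triangle.mk r.i p q).mor₁ := inferInstanceAs (Mono r.i)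
  obtain ⟨e, -, -⟩ := exists_iso_binaryBiproduct_of_distTriang _ hT (Triangle.mor₃_eq_zero_of_mono₁ _ hT ‹_›)
  exact (isPerfect_summands (isPerfect_iso e hL)).1

/-- Perfectness of the image propagates from a generator to every perfect object. -/
theorem isPerfect_rpush_of_generator [CompactSpace X] [QuasiSeparatedSpace X] {S : Scheme.{u}} (f : X ⟶ S)
    [DCoh.HasRpush f] (hG : DCoh.IsPerfect G)
    (hgen : ∀ E : DCoh.D X, DCoh.IsQCohD E → (∀ (n : ℤ) (φ : G⟦n⟧ ⟶ E), φ = 0) → IsZero E)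
    (h : DCoh.IsPerfect ((DCoh.Rpush f).obj G)) {P : DCoh.D X} (hP : DCoh.IsPerfect P) :
    DCoh.IsPerfect ((DCoh.Rpush f).obj P) := by
  obtain ⟨E, hE, ⟨r⟩⟩ := exists_built_retract hG hgen hP
  refine isPerfect_of_retract (r.map (DCoh.Rpush f)) ?_
  clear r
  haveI := hasLpull f
  haveI : (DCoh.Rpush f).IsRightAdjoint := (lpullRpushAdj f).isRightAdjoint
  have hstep : ∀ K : DCoh.D X, DCoh.IsPerfect ((DCoh.Rpush f).obj K) ↔
      DCoh.IsPerfect ((DCoh.Rpush f).obj (K⟦(1 : ℤ)⟧)) := fun K => by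
    have h0 : DCoh.IsPerfect ((DCoh.Rpush f).obj (0 : DCoh.D X)) :=
      isPerfect_of_perfOn (perfOn_of_isZero ((DCoh.Rpush f).map_isZero (isZero_zero _)))
    obtain ⟨c', hT'⟩ := exists_rpush_triangle f _ _ _ (contractible_distinguished₂ K)
    exact ⟨fun hK => isPerfect_obj₃ _ hT' hK h0, fun hK => isPerfect_obj₁ _ hT' h0 hK⟩
  have hsh : ∀ n : ℤ, DCoh.IsPerfect ((DCoh.Rpush f).obj (G⟦n⟧)) := fun n => by
    induction n with
    | zero => exact isPerfect_iso ((DCoh.Rpush f).mapIso ((shiftFunctorZero _ ℤ).app G).symm) h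
    | succ i ih =>
      exact isPerfect_iso ((DCoh.Rpush f).mapIso ((shiftFunctorAdd' _ (i : ℤ) 1 ((i : ℤ) + 1) rfl).app G).symm)
        ((hstep _).1 ih)
    | pred i ih =>
      exact (hstep _).2 (isPerfect_iso ((DCoh.Rpush f).mapIso
        ((shiftFunctorAdd' _ (-(i : ℤ) - 1) 1 (-(i : ℤ)) (by omega)).app G)) ih)
  induction hE with
  | shift m => exact hsh m
  | zero Z hZ => exact isPerfect_of_perfOn (perfOn_of_isZero ((DCoh.Rpush f).map_isZero hZ))
  | iso e _ ih => exact isPerfect_iso ((DCoh.Rpush f).mapIso e) ih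
  | ext T hT _ _ ih₁ ih₃ =>
    obtain ⟨c', hT'⟩ := exists_rpush_triangle f T.mor₁ T.mor₂ T.mor₃ hT
    exact isPerfect_obj₂ _ hT' ih₁ ih₃

end Groth.Agent.DCohMore
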