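import Groth.Agent.DCohMore.GoodGen
import Groth.Agent.DCohMore.ThickGen
import Groth.Agent.DCohMore.RpushRelTor
import Groth.Agent.DCohMore.RpushAffine
import Groth.Agent.DCohLib.PerfCoh
import Groth.Agent.FPModelLib.ProperModel

/-!
# Derived direct images of perfect objects along flat proper morphisms of finite presentation
-/

set_option autoImplicit false
set_option linter.style.haveILetI false
set_option linter.unusedSectionVars false
set_option backward.isDefEq.respectTransparency false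

universe u

open CategoryTheory Limits AlgebraicGeometry Pretriangulated ZeroObject TopologicalSpace
attribute [local instance] HasDerivedCategory.standard

noncomputable section

namespace Groth.Agent.DCohMore

open Groth.Agent.DRingLib Groth.Agent.DCohLib

variable {X S : Scheme.{u}}

theorem goodGen_main [IsAffine S] [X.IsSeparated] [CompactSpace X] (f : X ⟶ S) [Flat f] : GoodGen f := by
  suffices H : ∀ T : X.Opens, IsCompact (T : Set X) → GoodGen (T.ι ≫ f) by
    refine GoodGen.of_iso X.topIso f ?_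
    exact H ⊤ isCompact_univ
  intro T hT
  refine compact_open_induction_on T hT ?_ ?_
  · haveI : IsEmpty ((⊥ : X.Opens) : Scheme.{u}) := ⟨fun x => x.2⟩
    exact GoodGen.of_isEmpty _
  · intro T hT U hTgen
    let Y : X.Opens := T ⊔ U.1
    have hY : IsCompact (Y : Set X) := hT.union U.2.isCompact
    haveI : CompactSpace (Y : Scheme.{u}) := isCompact_iff_compactSpace.1 hY
    haveI : (Y : Scheme.{u}).IsSeparated := ⟨by
      have h : IsSeparated (Y.ι ≫ terminal.from X) := inferInstance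
      rwa [Subsingleton.elim (Y.ι ≫ terminal.from X) (terminal.from _)] at h⟩
    have hr : Set.range U.2.fromSpec ⊆ Set.range Y.ι := by
      rw [IsAffineOpen.range_fromSpec, Scheme.Opens.range_ι]
      exact fun x hx => Or.inr hx
    let j : Spec (CommRingCat.of Γ(X, U.1)) ⟶ (Y : Scheme.{u}) := IsOpenImmersion.lift Y.ι U.2.fromSpec hr
    have hj : j ≫ Y.ι = U.2.fromSpec := IsOpenImmersion.lift_fac _ _ _
    haveI : IsOpenImmersion (j ≫ Y.ι) := by rw [hj]; infer_instance
    haveI : IsOpenImmersion j := IsOpenImmersion.of_comp j Y.ι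
    let T' : Y.toScheme.Opens := Y.ι ⁻¹ᵁ T
    have hT' : IsCompact (T' : Set (Y : Scheme.{u})) := by
      rw [Y.ι.isOpenEmbedding.isEmbedding.isCompact_iff]
      refine (congrArg IsCompact ?_).mpr hT
      exact (Set.image_preimage_eq_inter_range).trans
        (Set.inter_eq_left.2 (by rw [Scheme.Opens.range_ι]; exact le_sup_left))
    refine goodGen_step (Y.ι ≫ f) T' hT' j ?_ ?_
    · refine eq_top_iff.2 fun y _ => ?_
      rcases (y.2 : y.1 ∈ T ⊔ U.1) with h | h
      · exact Or.inl h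
      · refine Or.inr ?_
        obtain ⟨z, hz⟩ : y.1 ∈ Set.range U.2.fromSpec := by rw [IsAffineOpen.range_fromSpec]; exact h
        refine ⟨z, Y.ι.isOpenEmbedding.injective ?_⟩
        rw [← Scheme.Hom.comp_apply, hj]
        exact hz
    · haveI : IsIso (Y.ι ∣_ T) := by
        haveI : Surjective (Y.ι ∣_ T) := ⟨fun x => ⟨⟨⟨x.1, Or.inl x.2⟩, x.2⟩, T.ι.isOpenEmbedding.injective (by
          simpa using congrArg (fun g : (Y.ι ⁻¹ᵁ T : Scheme.{u}) ⟶ X => g ⟨⟨x.1, Or.inl x.2⟩, x.2⟩)
            (morphismRestrict_ι Y.ι T))⟩⟩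
        haveI : Epi (Y.ι ∣_ T).base := (TopCat.epi_iff_surjective _).2 (Y.ι ∣_ T).surjective
        exact IsOpenImmersion.isIso _
      haveI : (T' : Scheme.{u}).IsSeparated := ⟨by
        have h : IsSeparated (T'.ι ≫ terminal.from (Y : Scheme.{u})) := inferInstance
        rwa [Subsingleton.elim (T'.ι ≫ terminal.from (Y : Scheme.{u})) (terminal.from _)] at h⟩
      refine GoodGen.of_iso (asIso (Y.ι ∣_ T)).symm (T'.ι ≫ Y.ι ≫ f) ?_
      have he : (asIso (Y.ι ∣_ T)).symm.hom ≫ T'.ι ≫ Y.ι ≫ f = T.ι ≫ f := by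
        show inv (Y.ι ∣_ T) ≫ _ = _
        rw [IsIso.inv_comp_eq, ← Category.assoc, ← Category.assoc, morphismRestrict_ι]
      rw [he]
      exact hTgen

/-- Bounded complexes of good modules have finite tor amplitude over the base. -/
theorem hasFiniteTorAmplitude_good {f : X ⟶ S} [X.IsSeparated] {C : CochainComplex X.Modules ℤ} (hC : GoodCx f C) :
    DerSch.HasFiniteTorAmplitude f C := by
  obtain ⟨⟨a, b, hab⟩, hg⟩ := hC
  exact ⟨a, b, fun x => ⟨(DerSch.stalkCxOver f x).obj C, fun i hi => (DerSch.stalkOver f x).map_isZero (hab i hi),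
    fun i => (isFlatOverAt_iff_stalkOver f _ x).1 ((hg i).isFlatOver x), ⟨Iso.refl _⟩⟩⟩

/-- A perfect generator with perfect direct image, over an affine base. -/
theorem exists_generator_perfect_rpush [IsAffine S] (f : X ⟶ S) [IsProper f] [Flat f]
    [LocallyOfFinitePresentation f] [DCoh.HasRpush f] :
    ∃ G : DCoh.D X, DCoh.IsPerfect G ∧
      (∀ E : DCoh.D X, DCoh.IsQCohD E → (∀ (n : ℤ) (φ : G⟦n⟧ ⟶ E), φ = 0) → IsZero E) ∧
      DCoh.IsPerfect ((DCoh.Rpush f).obj G) := by
  obtain ⟨i, X₀, f₀, q, h1, h2, h3, hsq⟩ := FPModelLib.exists_proper_flat_zmodel f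
  haveI := h1
  haveI := h2
  haveI := h3
  let S₀ := (FPModelLib.zSys Γ(S, ⊤)).obj i
  let g := FPModelLib.zπ S i
  haveI : IsAffine S₀ := FPModelLib.isAffine_zSys _ i
  haveI : IsNoetherianRing Γ(S₀, ⊤) := by
    haveI := FPModelLib.finiteType_Γ_zSys Γ(S, ⊤) i
    exact Algebra.FiniteType.isNoetherianRing ℤ Γ(S₀, ⊤)
  haveI : IsLocallyNoetherian S₀ := isLocallyNoetherian_of_affine_cover
    (S := fun _ : Unit => (⟨⊤, isAffineOpen_top S₀⟩ : S₀.affineOpens)) (by simp) fun _ => ‹_›
  haveI : IsNoetherian S₀ := AlgebraicGeometry.IsNoetherian.mk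
  haveI : X₀.IsSeparated := ⟨by
    have h : IsSeparated (f₀ ≫ terminal.from S₀) := inferInstance
    rwa [Subsingleton.elim (f₀ ≫ terminal.from S₀) (terminal.from _)] at h⟩
  haveI : CompactSpace X₀ := QuasiCompact.compactSpace_of_compactSpace f₀
  haveI : IsLocallyNoetherian X₀ := LocallyOfFiniteType.isLocallyNoetherian f₀
  haveI : IsNoetherian X₀ := AlgebraicGeometry.IsNoetherian.mk
  haveI : DCoh.HasRpush f₀ := Groth.Agent.KInj.hasRightDerivedFunctor (hres_modules _) _
  haveI : DCoh.HasRpush q := Groth.Agent.KInj.hasRightDerivedFunctor (hres_modules _) _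
  haveI := hasLpull g
  haveI := hasLpull q
  obtain ⟨C, hC, hP, hgen⟩ := goodGen_main f₀
  obtain ⟨a, b, hab⟩ := hC.1
  obtain ⟨hcoh, -⟩ := isCohD_bounded_of_isPerfect _ hP
  have huniv : ClSub.IsProperOver f₀ (Set.univ : Set X₀) :=
    (ClSubLib.isProperOver_iff f₀ (𝟙 X₀) (Set.range_id)).2 (by rwa [Category.id_comp])
  have h0 : DCoh.IsPerfect ((DCoh.Rpush f₀).obj (DerivedCategory.Q.obj C)) :=
    isPerfect_rpush_relTor' f₀ C (min a b) (max a b) (le_trans (min_le_left a b) (le_max_left a b)) hcoh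
      (fun k hk => (ShortComplex.isZero_homology_of_isZero_X₂ _ (hab k (hk.imp (fun h => by omega) fun h => by omega))).of_iso
        ((DerivedCategory.homologyFunctorFactors X₀.Modules k).app C))
      (fun k => ClSubLib.isProperOver_subset f₀ huniv
        (PullbackMod.isClosed_support_of_isFT (hcoh k).2) (Set.subset_univ _))
      (hasFiniteTorAmplitude_good hC)
  haveI : IsAffineHom g := isAffineHom_of_isAffine _
  haveI : IsAffineHom q := MorphismProperty.of_isPullback (P := @IsAffineHom) hsq.flip inferInstance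
  refine ⟨(DCoh.Lpull q).obj (DerivedCategory.Q.obj C), isPerfect_lpull q _ hP, fun E hE h => ?_, ?_⟩
  · have hR : DCoh.IsQCohD ((DCoh.Rpush q).obj E) := isQCohD_rpush q E hE
    have hz : IsZero ((DCoh.Rpush q).obj E) := hgen _ hR fun n => by
      intro φ
      haveI : EnoughInjectives X.Modules := inferInstance
      haveI : SiteCmp.HasRpushD (ModSite.RMor.ofScheme q) := ‹DCoh.HasRpush q›
      obtain ⟨_, _⟩ := SiteCmpLib.exists_triangulated_rpushD (ModSite.RMor.ofScheme q)
      let eS : (DCoh.Rpush q).obj (E⟦n⟧) ≅ ((DCoh.Rpush q).obj E)⟦n⟧ :=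
        ((SiteCmp.RpushD (ModSite.RMor.ofScheme q)).commShiftIso n).app E
      suffices h1 : ∀ ψ : DerivedCategory.Q.obj C ⟶ ((DCoh.Rpush q).obj E)⟦n⟧, ψ = 0 from h1 φ
      intro ψ
      haveI : (DCoh.Rpush q).IsRightAdjoint := (lpullRpushAdj q).isRightAdjoint
      rw [← cancel_mono eS.inv, zero_comp]
      apply ((lpullRpushAdj q).homEquiv _ _).symm.injective
      have h2 : ∀ χ : (DCoh.Lpull q).obj (DerivedCategory.Q.obj C) ⟶ E⟦n⟧, χ = 0 :=
        fun χ => hom_shift_zero n (fun u => h _ u) χ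
      exact (h2 _).trans (h2 _).symm
    rw [IsZero.iff_id_eq_zero]
    have h0' : DCoh.IsQCohD (0 : DCoh.D X) := TildeD.isQCohD_of_iso (isZero_zero _ |>.iso (isZero_zero _)) (fun k =>
      (PullbackMod.isQCoh_and_isFP_of_isFinLocFree _ (isFinLocFree_of_isZero
        ((DerivedCategory.homologyFunctor X.Modules k).map_isZero (isZero_zero _)))).1)
    haveI : (DCoh.Rpush q).IsRightAdjoint := (lpullRpushAdj q).isRightAdjoint
    haveI := isIso_of_isIso_rpush q hE h0' (0 : E ⟶ 0)
      ⟨0, hz.eq_of_src _ _, ((DCoh.Rpush q).map_isZero (isZero_zero _)).eq_of_src _ _⟩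
    exact (((isZero_zero _).of_iso (asIso (0 : E ⟶ 0))).eq_of_src _ _)
  · obtain ⟨e₁⟩ := nonempty_lpull_good hsq C b (fun n hn => hab n (Or.inr hn)) hC.2
    obtain ⟨e₂⟩ := nonempty_rpush_pullCx_good hsq C b (fun n hn => hab n (Or.inr hn)) hC.2
    exact isPerfect_iso ((DCoh.Rpush f).mapIso e₁ ≪≫ e₂).symm (isPerfect_lpull g _ h0)

/-- Derived direct images along flat proper morphisms of finite presentation preserve perfectness. -/
theorem isPerfect_rpush_proper (f : X ⟶ S) [IsProper f] [Flat f] [LocallyOfFinitePresentation f]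
    [DCoh.HasRpush f] (E : DCoh.D X) (hE : DCoh.IsPerfect E) : DCoh.IsPerfect ((DCoh.Rpush f).obj E) := by
  refine isPerfect_of_local fun s => ?_
  obtain ⟨_, ⟨V : S.Opens, hV, rfl⟩, hs, -⟩ :=
    S.isBasis_affineOpens.exists_subset_of_mem_open (a := s) (Set.mem_univ s) isOpen_univ
  haveI : IsAffine (V : Scheme.{u}) := hV
  haveI : DCoh.HasRpush (f ∣_ V) := Groth.Agent.KInj.hasRightDerivedFunctor (hres_modules _) _
  haveI : LocallyOfFinitePresentation (f ∣_ V) := IsZariskiLocalAtTarget.restrict ‹_› V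
  haveI : Flat (f ∣_ V) := IsZariskiLocalAtTarget.restrict ‹_› V
  haveI : IsProper (f ∣_ V) := IsZariskiLocalAtTarget.restrict ‹_› V
  haveI : CompactSpace (f ⁻¹ᵁ V : Scheme.{u}) := QuasiCompact.compactSpace_of_compactSpace (f ∣_ V)
  haveI : QuasiSeparatedSpace (f ⁻¹ᵁ V : Scheme.{u}) := quasiSeparatedSpace_of_quasiSeparated (f ∣_ V)
  obtain ⟨eV⟩ := Groth.Agent.DCohLib.nonempty_restrictD_rpush f V
  obtain ⟨G, hG, hgen, hGp⟩ := exists_generator_perfect_rpush (f ∣_ V)
  exact ⟨_, V.ι, inferInstance, ⟨s, hs⟩, rfl, isPerfect_iso (eV.app E).symm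
    (isPerfect_rpush_of_generator (f ∣_ V) hG hgen hGp (isPerfect_restrict _ hE))⟩

end Groth.Agent.DCohMore
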