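import Groth.Agent.DCohMore.BCTwistOps

/-!
# Base change twisted by a module flat over the base
-/

set_option autoImplicit false
set_option linter.style.haveILetI false
set_option linter.unusedSectionVars false
set_option backward.isDefEq.respectTransparency false
set_option maxHeartbeats 1000000

universe u

open CategoryTheory Limits AlgebraicGeometry TopologicalSpace Pretriangulated
attribute [local instance] HasDerivedCategory.standard

noncomputable section

namespace Groth.Agent.DCohMore.BC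

open Groth.Agent.DCohLib

section Defs

variable {X S : Scheme.{u}}

/-- Twisted base change holds for `f`. -/
def TBCP (f : X ⟶ S) : Prop :=
  ∀ {S' X' : Scheme.{u}} (g : S' ⟶ S) (g' : X' ⟶ X) (f' : X' ⟶ S') [DCoh.HasRpush f] [DCoh.HasRpush g]
    [DCoh.HasRpush f'] [DCoh.HasRpush g'] [DCoh.HasLpull g] [DCoh.HasLpull g'], IsPullback g' f' f g →
    ∀ (G : X.Modules) (G' : X'.Modules) [DCoh.HasLTensorMod G] [DCoh.HasLTensorMod G'],
      Coh.IsQCoh G → FlatMod.IsFlatOver f G → Coh.IsQCoh G' →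
      ∀ (adjg : DCoh.Lpull g ⊣ DCoh.Rpush g) (adjg' : DCoh.Lpull g' ⊣ DCoh.Rpush g')
        (e : DCoh.Rpush g' ⋙ DCoh.Rpush f ≅ DCoh.Rpush f' ⋙ DCoh.Rpush g)
        (θ : DCoh.LTensorMod G ⋙ DCoh.Lpull g' ⟶ DCoh.Lpull g' ⋙ DCoh.LTensorMod G'), Good θ →
        ∀ E : DCoh.D X, DCoh.IsQCohD E →
          IsIso ((bc adjg adjg' e).app ((DCoh.LTensorMod G).obj E) ≫ (DCoh.Rpush f').map (θ.app E))

/-- Twisted base change holds for affine bases. -/
def TBCA {R : Type u} [CommRing R] (f : X ⟶ Spec (CommRingCat.of R)) : Prop :=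
  ∀ {B : Type u} [CommRing B] {X' : Scheme.{u}} (g : Spec (CommRingCat.of B) ⟶ Spec (CommRingCat.of R)) (g' : X' ⟶ X)
    (f' : X' ⟶ Spec (CommRingCat.of B)) [DCoh.HasRpush f] [DCoh.HasRpush g]
    [DCoh.HasRpush f'] [DCoh.HasRpush g'] [DCoh.HasLpull g] [DCoh.HasLpull g'], IsPullback g' f' f g →
    ∀ (G : X.Modules) (G' : X'.Modules) [DCoh.HasLTensorMod G] [DCoh.HasLTensorMod G'],
      Coh.IsQCoh G → FlatMod.IsFlatOver f G → Coh.IsQCoh G' →
      ∀ (adjg : DCoh.Lpull g ⊣ DCoh.Rpush g) (adjg' : DCoh.Lpull g' ⊣ DCoh.Rpush g')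
        (e : DCoh.Rpush g' ⋙ DCoh.Rpush f ≅ DCoh.Rpush f' ⋙ DCoh.Rpush g)
        (θ : DCoh.LTensorMod G ⋙ DCoh.Lpull g' ⟶ DCoh.Lpull g' ⋙ DCoh.LTensorMod G'), Good θ →
        ∀ E : DCoh.D X, DCoh.IsQCohD E →
          IsIso ((bc adjg adjg' e).app ((DCoh.LTensorMod G).obj E) ≫ (DCoh.Rpush f').map (θ.app E))

end Defs

section Affine

variable {R A B : Type u} [CommRing R] [CommRing A] [CommRing B] (φ : R →+* A) (ψ : R →+* B)
variable {X' : Scheme.{u}} {g' : X' ⟶ Spec (CommRingCat.of A)} {f' : X' ⟶ Spec (CommRingCat.of B)}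

theorem isQCohD_shift {Y : Scheme.{u}} (K : DCoh.D Y) (n : ℤ) (hK : DCoh.IsQCohD K) : DCoh.IsQCohD (K⟦n⟧) :=
  fun i => isQCoh_of_iso' (((DerivedCategory.homologyFunctor Y.Modules 0).shiftIso n i (n + i) rfl).app K).symm
    (hK (n + i))

/-- Twisted base change for affine schemes. -/
theorem isIso_twist_affine (hsq : IsPullback g' f' (TildeLpull.specMap φ) (TildeLpull.specMap ψ))
    (G : (Spec (CommRingCat.of A)).Modules) (hGq : Coh.IsQCoh G) (hG : FlatMod.IsFlatOver (TildeLpull.specMap φ) G)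
    (G' : X'.Modules) (hG'q : Coh.IsQCoh G')
    [DCoh.HasLTensorMod G] [DCoh.HasLTensorMod G']
    [DCoh.HasRpush (TildeLpull.specMap φ)] [DCoh.HasRpush (TildeLpull.specMap ψ)]
    [DCoh.HasLpull (TildeLpull.specMap ψ)] [DCoh.HasRpush f'] [DCoh.HasRpush g'] [DCoh.HasLpull g']
    (θ : DCoh.LTensorMod G ⋙ DCoh.Lpull g' ⟶ DCoh.Lpull g' ⋙ DCoh.LTensorMod G') (hθ : Good θ)
    (adjg : DCoh.Lpull (TildeLpull.specMap ψ) ⊣ DCoh.Rpush (TildeLpull.specMap ψ))
    (adjg' : DCoh.Lpull g' ⊣ DCoh.Rpush g')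
    (e : DCoh.Rpush g' ⋙ DCoh.Rpush (TildeLpull.specMap φ) ≅ DCoh.Rpush f' ⋙ DCoh.Rpush (TildeLpull.specMap ψ))
    (K : DCoh.D (Spec (CommRingCat.of A))) (hK : DCoh.IsQCohD K) :
    IsIso ((bc adjg adjg' e).app ((DCoh.LTensorMod G).obj K) ≫ (DCoh.Rpush f').map (θ.app K)) := by
  haveI := hGq
  let f := TildeLpull.specMap φ
  let g := TildeLpull.specMap ψ
  haveI : IsAffineHom f := isAffineHom_of_isAffine _
  haveI : IsAffineHom f' := MorphismProperty.of_isPullback (P := @IsAffineHom) hsq inferInstance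
  let F₁ := DCoh.LTensorMod G ⋙ DCoh.Rpush f ⋙ DCoh.Lpull g
  let F₂ := DCoh.Lpull g' ⋙ DCoh.LTensorMod G' ⋙ DCoh.Rpush f'
  let τ : F₁ ⟶ F₂ := Functor.whiskerLeft (DCoh.LTensorMod G) (bc adjg adjg' e) ≫ Functor.whiskerRight θ (DCoh.Rpush f')
  have invar : ∀ {K L : DCoh.D (Spec (CommRingCat.of A))}, (K ≅ L) → IsIso (τ.app K) → IsIso (τ.app L) :=
    fun e h => (NatTrans.isIso_app_iff_of_iso τ e).1 h
  suffices h : ∀ n : ℤ, IsIso (τ.app (K⟦n⟧)) from invar ((shiftFunctorZero _ ℤ).app K) (h 0)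
  have hexF₁ : ExTri F₁ := (exTri_lTensorMod G).comp ((exTri_rpush f).comp (exTri_lpull g))
  have hexF₂ : ExTri F₂ := (exTri_lpull g').comp ((exTri_lTensorMod G').comp (exTri_rpush f'))
  refine qcoh_affine_induction A (fun K => ∀ n : ℤ, IsIso (τ.app (K⟦n⟧)))
    (fun e h n => invar ((shiftFunctor _ n).mapIso e) (h n)) (fun m n => ?_) ?_ ?_ K hK
  · refine invar ?_ (isIso_twist_affine_generator φ ψ hsq G hG G' θ hθ adjg adjg' e (m - n))
    exact DerivedCategory.Q.mapIso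
        (((CochainComplex.singleFunctors (Spec (CommRingCat.of A)).Modules).shiftIso n (m - n) m (by omega)).app
          (Coh.structureModule _)).symm ≪≫
      ((DerivedCategory.Q).commShiftIso n).app _
  · intro κ M _ hMq hM n
    haveI := hasCoproduct_D' fun k => (M k)⟦n⟧
    refine invar (PreservesCoproduct.iso (shiftFunctor _ n) M).symm ?_
    let W := fun k => (M k)⟦n⟧
    have hWq : ∀ k, DCoh.IsQCohD (W k) := fun k => isQCohD_shift _ n (hMq k)
    let V := fun k => (DCoh.LTensorMod G).obj (W k)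
    have hVq : ∀ k, DCoh.IsQCohD (V k) := fun k => isQCohD_lTensorMod G hGq _ (hWq k)
    let W' := fun k => (DCoh.Lpull g').obj (W k)
    let V' := fun k => (DCoh.LTensorMod G').obj (W' k)
    have hV'q : ∀ k, DCoh.IsQCohD (V' k) := fun k =>
      isQCohD_lTensorMod G' hG'q _ (TildeD.isQCohD_lpull g' _ (hWq k))
    haveI : (DCoh.Lpull g).IsLeftAdjoint := adjg.isLeftAdjoint
    haveI : (DCoh.Lpull g').IsLeftAdjoint := adjg'.isLeftAdjoint
    haveI := hasCoproduct_D' V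
    haveI := hasCoproduct_D' W'
    haveI := hasCoproduct_D' V'
    haveI := hasCoproduct_D' fun k => (DCoh.Rpush f).obj (V k)
    haveI := hasCoproduct_D' fun k => F₁.obj (W k)
    haveI := hasCoproduct_D' fun k => F₂.obj (W k)
    haveI := hasCoproduct_D' fun k => (DCoh.Rpush f').obj (V' k)
    haveI := preservesCoproduct_lTensorMod G W
    haveI := preservesCoproduct_lTensorMod G' W'
    haveI := isIso_sigmaComparison_rpush f V hVq
    haveI := isIso_sigmaComparison_rpush f' V' hV'q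
    haveI : PreservesColimit (Discrete.functor V) (DCoh.Rpush f) := PreservesCoproduct.of_iso_comparison _ _
    haveI : PreservesColimit (Discrete.functor V') (DCoh.Rpush f') := PreservesCoproduct.of_iso_comparison _ _
    haveI : PreservesColimit (Discrete.functor V) (DCoh.Rpush f ⋙ DCoh.Lpull g) := inferInstance
    haveI : PreservesColimit (Discrete.functor ((DCoh.LTensorMod G).obj ∘ W)) (DCoh.Rpush f ⋙ DCoh.Lpull g) :=
      inferInstanceAs (PreservesColimit (Discrete.functor V) (DCoh.Rpush f ⋙ DCoh.Lpull g))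
    haveI : PreservesColimit (Discrete.functor ((DCoh.LTensorMod G').obj ∘ W')) (DCoh.Rpush f') :=
      inferInstanceAs (PreservesColimit (Discrete.functor V') (DCoh.Rpush f'))
    haveI : PreservesColimit (Discrete.functor W ⋙ DCoh.LTensorMod G) (DCoh.Rpush f ⋙ DCoh.Lpull g) :=
      preservesColimit_of_iso_diagram _ (Discrete.compNatIsoDiscrete W (DCoh.LTensorMod G)).symm
    haveI : PreservesColimit (Discrete.functor W' ⋙ DCoh.LTensorMod G') (DCoh.Rpush f') :=
      preservesColimit_of_iso_diagram _ (Discrete.compNatIsoDiscrete W' (DCoh.LTensorMod G')).symm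
    haveI : PreservesColimit (Discrete.functor W') (DCoh.LTensorMod G' ⋙ DCoh.Rpush f') := inferInstance
    haveI : PreservesColimit (Discrete.functor ((DCoh.Lpull g').obj ∘ W)) (DCoh.LTensorMod G' ⋙ DCoh.Rpush f') :=
      inferInstanceAs (PreservesColimit (Discrete.functor W') (DCoh.LTensorMod G' ⋙ DCoh.Rpush f'))
    haveI : PreservesColimit (Discrete.functor W ⋙ DCoh.Lpull g') (DCoh.LTensorMod G' ⋙ DCoh.Rpush f') :=
      preservesColimit_of_iso_diagram _ (Discrete.compNatIsoDiscrete W (DCoh.Lpull g')).symm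
    haveI : PreservesColimit (Discrete.functor W) F₁ := inferInstance
    haveI : PreservesColimit (Discrete.functor W) F₂ := inferInstance
    haveI : ∀ k, IsIso (τ.app (W k)) := fun k => hM k n
    haveI : HasCoproductsOfShape κ (DCoh.D (Spec (CommRingCat.of B))) := ⟨fun F =>
      haveI := hasCoproduct_D' (F.obj ∘ Discrete.mk)
      hasColimit_of_iso (F := Discrete.functor (F.obj ∘ Discrete.mk)) Discrete.natIsoFunctor⟩
    have he : (PreservesCoproduct.iso F₁ W).inv ≫ τ.app (∐ W) =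
        (Limits.Sigma.mapIso fun k => asIso (τ.app (W k))).hom ≫ (PreservesCoproduct.iso F₂ W).inv := by
      rw [PreservesCoproduct.inv_hom, PreservesCoproduct.inv_hom]
      refine Sigma.hom_ext _ _ fun k => ?_
      rw [ι_comp_sigmaComparison_assoc, Limits.Sigma.ι_mapIso_hom_assoc, ι_comp_sigmaComparison]
      exact τ.naturality _
    haveI : IsIso ((PreservesCoproduct.iso F₁ W).inv ≫ τ.app (∐ W)) := by rw [he]; infer_instance
    exact IsIso.of_isIso_comp_left (PreservesCoproduct.iso F₁ W).inv _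
  · intro T hT _ _ h₁ h₂ n
    refine isIso_app₃ hexF₁ hexF₂ τ
      ((shiftFunctor (Triangle _) n).obj T) (Triangle.shift_distinguished _ hT n) (h₁ n) (h₂ n) ?_ ?_
    · exact invar ((shiftFunctorAdd' _ n 1 (n + 1) rfl).app T.obj₁) (h₁ (n + 1))
    · exact invar ((shiftFunctorAdd' _ n 1 (n + 1) rfl).app T.obj₂) (h₂ (n + 1))

end Affine

variable {X S : Scheme.{u}}

theorem isZero_lTensorMod (G : X.Modules) [DCoh.HasLTensorMod G] {K : DCoh.D X} (hK : IsZero K) :
    IsZero ((DCoh.LTensorMod G).obj K) := by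
  open ZeroObject in
  let Z : CochainComplex X.Modules ℤ := 0
  have hz : ∀ n, IsZero (Z.X n) := fun n =>
    (HomologicalComplex.eval X.Modules (ComplexShape.up ℤ) n).map_isZero (isZero_zero _)
  haveI := isIso_tensNat_app G Z (isKFlat_of_flat_bddAbove Z 0 (fun n _ => hz n)
    fun n => (isFlat_iff _).2 (ModTensor.isFlat_of_isZero X.sheaf (hz n)))
  exact (DerivedCategory.Q.map_isZero ((tensCx G).map_isZero (isZero_zero _))).of_iso
    ((DCoh.LTensorMod G).mapIso (hK.iso (DerivedCategory.Q.map_isZero (isZero_zero _))) ≪≫ asIso ((tensNat G).app Z))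

/-- Twisted base change for direct images from an affine open. -/
theorem isIso_twist_pushed {R B A : Type u} [CommRing R] [CommRing B] [CommRing A] {f : X ⟶ Spec (CommRingCat.of R)}
    {X' : Scheme.{u}} {g : Spec (CommRingCat.of B) ⟶ Spec (CommRingCat.of R)} {g' : X' ⟶ X}
    {f' : X' ⟶ Spec (CommRingCat.of B)} [DCoh.HasRpush f] [DCoh.HasRpush g]
    [DCoh.HasRpush f'] [DCoh.HasRpush g'] [DCoh.HasLpull g] [DCoh.HasLpull g'] (hsq : IsPullback g' f' f g)
    (G : X.Modules) (G' : X'.Modules) [DCoh.HasLTensorMod G] [DCoh.HasLTensorMod G']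
    (hGq : Coh.IsQCoh G) (hGf : FlatMod.IsFlatOver f G) (hG'q : Coh.IsQCoh G')
    (adjg : DCoh.Lpull g ⊣ DCoh.Rpush g) (adjg' : DCoh.Lpull g' ⊣ DCoh.Rpush g')
    (e : DCoh.Rpush g' ⋙ DCoh.Rpush f ≅ DCoh.Rpush f' ⋙ DCoh.Rpush g)
    (θ : DCoh.LTensorMod G ⋙ DCoh.Lpull g' ⟶ DCoh.Lpull g' ⋙ DCoh.LTensorMod G') (hθ : Good θ)
    (j : Spec (CommRingCat.of A) ⟶ X) [IsOpenImmersion j] [QuasiCompact j] [DCoh.HasRpush j]
    (N : DCoh.D (Spec (CommRingCat.of A))) (hN : DCoh.IsQCohD N) :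
    IsIso ((bc adjg adjg' e).app ((DCoh.LTensorMod G).obj ((DCoh.Rpush j).obj N)) ≫
      (DCoh.Rpush f').map (θ.app ((DCoh.Rpush j).obj N))) := by
  obtain ⟨φ, hφ⟩ : ∃ φ : R →+* A, j ≫ f = TildeLpull.specMap φ :=
    ⟨(Spec.preimage (j ≫ f)).hom, (Spec.map_preimage _).symm⟩
  obtain ⟨ψ, hψ⟩ : ∃ ψ : R →+* B, g = TildeLpull.specMap ψ :=
    ⟨(Spec.preimage g).hom, (Spec.map_preimage _).symm⟩
  subst hψ
  let U' := Limits.pullback j g'
  let g'' : U' ⟶ _ := Limits.pullback.fst j g'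
  let j' : U' ⟶ X' := Limits.pullback.snd j g'
  haveI : IsOpenImmersion j' := inferInstanceAs (IsOpenImmersion (Limits.pullback.snd j g'))
  haveI : QuasiCompact j' := inferInstanceAs (QuasiCompact (Limits.pullback.snd j g'))
  have h₁ : IsPullback g'' j' j g' := IsPullback.of_hasPullback _ _
  have h₂ : IsPullback g'' (j' ≫ f') (TildeLpull.specMap φ) (TildeLpull.specMap ψ) := hφ ▸ h₁.paste_vert hsq
  haveI := hasRpush g''; haveI := hasRpush j'; haveI := hasLpull g''; haveI := hasLpull j; haveI := hasLpull j'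
  haveI := hasRpush (j ≫ f); haveI := hasRpush (j' ≫ f'); haveI := hasRpush (TildeLpull.specMap φ)
  haveI := hasRpush (g'' ≫ j); haveI := hasRpush (j' ≫ g')
  let adj'' := lpullRpushAdj g''
  let adjj := lpullRpushAdj j
  let adjj' := lpullRpushAdj j'
  obtain ⟨hj⟩ := nonempty_fullyFaithful_rpush_open j
  obtain ⟨hj'⟩ := nonempty_fullyFaithful_rpush_open j'
  haveI := hj.full; haveI := hj.faithful; haveI := hj'.full; haveI := hj'.faithful
  haveI : IsIso adjj.counit := inferInstance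
  obtain ⟨c₁⟩ := nonempty_rpushCompIso g'' j
  obtain ⟨c₂⟩ := nonempty_rpushCompIso j' g'
  let e₁ : DCoh.Rpush g'' ⋙ DCoh.Rpush j ≅ DCoh.Rpush j' ⋙ DCoh.Rpush g' :=
    c₁ ≪≫ eqToIso (by simp only [h₁.w]) ≪≫ c₂.symm
  obtain ⟨b₀⟩ := nonempty_rpushCompIso j f
  obtain ⟨b'⟩ := nonempty_rpushCompIso j' f'
  let b : DCoh.Rpush j ⋙ DCoh.Rpush f ≅ DCoh.Rpush (TildeLpull.specMap φ) := b₀ ≪≫ eqToIso (by simp only [hφ])
  let E := (DCoh.Rpush j).obj N
  obtain ⟨N₁, ⟨u₁⟩⟩ := exists_iso_rpush j G hGq N hN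
  haveI : IsIso (adjj.unit.app ((DCoh.LTensorMod G).obj E)) := adjj.isIso_unit_app_of_iso u₁
  haveI := bcp_qcqs j g' g'' j' h₁ TI.of_flat_left adjg' adj'' e₁ N hN
  obtain ⟨N₂, ⟨u₂⟩⟩ := exists_iso_rpush j' G' hG'q _ (TildeD.isQCohD_lpull g'' N hN)
  haveI : IsIso (adjj'.unit.app ((DCoh.LTensorMod G').obj ((DCoh.Lpull g').obj E))) :=
    adjj'.isIso_unit_app_of_iso ((DCoh.LTensorMod G').mapIso (asIso ((bc adjg' adj'' e₁).app N)) ≪≫ u₂)
  haveI := isIso_theta_open j G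
  haveI := isIso_theta_open j' G'
  have hflat : FlatMod.IsFlatOver (TildeLpull.specMap φ) ((Scheme.Modules.pullback j).obj G) :=
    hφ ▸ isFlatOver_pullback_open f j G hGf
  haveI := hGq
  haveI := hG'q
  refine isIso_twist_source_step adjg adjg' adj'' adjj adjj' e₁ e b b' (asIso (theta j G)) (asIso (theta j' G')) θ E ?_
  exact isIso_twist_affine φ ψ h₂ ((Scheme.Modules.pullback j).obj G) (PullbackMod.isQCoh_pullback j G) hflat
    ((Scheme.Modules.pullback j').obj G') (PullbackMod.isQCoh_pullback j' G') _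
    (good_restrict j j' G G' adjj _ θ hθ) adjg adj'' _ ((DCoh.Lpull j).obj E)
    (TildeD.isQCohD_lpull j E (isQCohD_rpush j N hN))

/-- Twisted base change over affine bases. -/
theorem tbca_qcqs {R : Type u} [CommRing R] (f : X ⟶ Spec (CommRingCat.of R)) [QuasiCompact f] [QuasiSeparated f] :
    TBCA f := by
  intro B _ X' g g' f' _ _ _ _ _ _ hsq G G' _ _ hGq hGf hG'q adjg adjg' e θ hθ K hK
  haveI : CompactSpace X := QuasiCompact.compactSpace_of_compactSpace f
  haveI : QuasiSeparatedSpace X := AlgebraicGeometry.quasiSeparatedSpace_of_quasiSeparated f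
  let F₁ := DCoh.LTensorMod G ⋙ DCoh.Rpush f ⋙ DCoh.Lpull g
  let F₂ := DCoh.Lpull g' ⋙ DCoh.LTensorMod G' ⋙ DCoh.Rpush f'
  let τ : F₁ ⟶ F₂ := Functor.whiskerLeft (DCoh.LTensorMod G) (bc adjg adjg' e) ≫ Functor.whiskerRight θ (DCoh.Rpush f')
  have invar : ∀ {K L : DCoh.D X}, (K ≅ L) → IsIso (τ.app K) → IsIso (τ.app L) :=
    fun e h => (NatTrans.isIso_app_iff_of_iso τ e).1 h
  have hexF₁ : ExTri F₁ := (exTri_lTensorMod G).comp ((exTri_rpush f).comp (exTri_lpull g))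
  have hexF₂ : ExTri F₂ := (exTri_lpull g').comp ((exTri_lTensorMod G').comp (exTri_rpush f'))
  suffices h : ∀ n : ℤ, IsIso (τ.app (K⟦n⟧)) from invar ((shiftFunctorZero _ ℤ).app K) (h 0)
  refine qcoh_devissage (fun K => ∀ n : ℤ, IsIso (τ.app (K⟦n⟧))) (fun K hK n => ?_) (fun T hT h₂ h₃ n => ?_)
    (fun U hU _ N hN n => ?_) K hK
  · haveI : (DCoh.Rpush f).IsRightAdjoint := haveI := hasLpull f; (lpullRpushAdj f).isRightAdjoint
    haveI : (DCoh.Rpush f').IsRightAdjoint := haveI := hasLpull f'; (lpullRpushAdj f').isRightAdjoint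
    haveI : (DCoh.Lpull g).IsLeftAdjoint := adjg.isLeftAdjoint
    haveI : (DCoh.Lpull g').IsLeftAdjoint := adjg'.isLeftAdjoint
    have hz := (shiftFunctor (DCoh.D X) n).map_isZero hK
    have hs := (DCoh.Lpull g).map_isZero ((DCoh.Rpush f).map_isZero (isZero_lTensorMod G hz))
    have ht' := (DCoh.Rpush f').map_isZero (isZero_lTensorMod G' ((DCoh.Lpull g').map_isZero hz))
    exact ⟨0, hs.eq_of_src _ _, ht'.eq_of_src _ _⟩
  · have hS := Triangle.shift_distinguished _ (rot_of_distTriang _ hT) (n - 1)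
    have := isIso_app₃ hexF₁ hexF₂ τ _ hS (h₂ (n - 1)) (h₃ (n - 1))
      (invar ((shiftFunctorAdd' _ (n - 1) 1 n (by omega)).app T.obj₂) (h₂ n))
      (invar ((shiftFunctorAdd' _ (n - 1) 1 n (by omega)).app T.obj₃) (h₃ n))
    exact invar ((shiftFunctorAdd' _ 1 (n - 1) n (by omega)).app T.obj₁).symm this
  · let j : Spec (CommRingCat.of Γ(X, U)) ⟶ X := hU.fromSpec
    haveI : IsOpenImmersion j := inferInstanceAs (IsOpenImmersion hU.fromSpec)
    haveI : QuasiCompact j := quasiCompact_of_compactSpace j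
    haveI := hasRpush j
    let a := hU.isoSpec.symm
    haveI := hasRpush a.hom; haveI := hasLpull a.hom; haveI := hasRpush (a.hom ≫ U.ι)
    obtain ⟨c⟩ := nonempty_rpushCompIso a.hom U.ι
    have ej : DCoh.Rpush j ≅ DCoh.Rpush (a.hom ≫ U.ι) := eqToIso (by simp only [j, a, IsAffineOpen.fromSpec]; rfl)
    haveI : SiteCmp.HasRpushD (ModSite.RMor.ofScheme j) := ‹DCoh.HasRpush j›
    obtain ⟨hsh, -⟩ := SiteCmpLib.exists_triangulated_rpushD (ModSite.RMor.ofScheme j)
    letI : (DCoh.Rpush j).CommShift ℤ := hsh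
    have eN : (DCoh.Rpush j).obj (((DCoh.restrictD a.hom).obj N)⟦n⟧) ≅ ((DCoh.Rpush U.ι).obj N)⟦n⟧ := by
      exact ((DCoh.Rpush j).commShiftIso n).app _ ≪≫ (shiftFunctor _ n).mapIso
        (ej.app _ ≪≫ c.symm.app _ ≪≫ (DCoh.Rpush U.ι).mapIso
          ((rpushIsoRestrict a).app _ ≪≫ ((restrictDEquiv a).unitIso.app N).symm))
    exact invar eN (isIso_twist_pushed hsq G G' hGq hGf hG'q adjg adjg' e θ hθ j _
      (isQCohD_shift _ n (TildeD.isQCohD_restrict a.hom N hN)))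

/-- Twisted base change is local on both bases. -/
theorem tbcp_of_charts (f : X ⟶ S)
    (H : ∀ {R : Type u} [CommRing R] (s : Spec (CommRingCat.of R) ⟶ S) [IsOpenImmersion s],
      TBCA ((f ∣_ s.opensRange) ≫ s.isoOpensRange.inv)) : TBCP f := by
  intro S' X' g g' f' _ _ _ _ _ _ hsq G G' _ _ hGq hGf hG'q adjg adjg' e θ hθ K hK
  refine isIso_of_restrictD _ fun y => ?_
  obtain ⟨_, ⟨V₀ : S.Opens, hV₀, rfl⟩, hy₀, -⟩ :=
    S.isBasis_affineOpens.exists_subset_of_mem_open (a := g y) (Set.mem_univ _) isOpen_univ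
  let s : Spec (CommRingCat.of Γ(S, V₀)) ⟶ S := hV₀.fromSpec
  haveI : IsOpenImmersion s := inferInstanceAs (IsOpenImmersion hV₀.fromSpec)
  have hs : s.opensRange = V₀ := hV₀.opensRange_fromSpec
  obtain ⟨_, ⟨U₀ : S'.Opens, hU₀, rfl⟩, hy, hU₀g⟩ :=
    S'.isBasis_affineOpens.exists_subset_of_mem_open (a := y) (u := (g ⁻¹ᵁ V₀ : S'.Opens)) hy₀ (g ⁻¹ᵁ V₀).isOpen
  let b : Spec (CommRingCat.of Γ(S', U₀)) ⟶ S' := hU₀.fromSpec
  haveI : IsOpenImmersion b := inferInstanceAs (IsOpenImmersion hU₀.fromSpec)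
  have hb : b.opensRange = U₀ := hU₀.opensRange_fromSpec
  refine ⟨b.opensRange, (show y ∈ b.opensRange from (SetLike.ext_iff.1 hb _).2 hy), ?_⟩
  have hrange : Set.range (b ≫ g) ⊆ Set.range s := by
    rintro _ ⟨z, rfl⟩
    have h1 : b z ∈ U₀ := by
      exact (SetLike.ext_iff.1 hb _).1 ⟨z, rfl⟩
    have h2 : g (b z) ∈ s.opensRange := by
      exact (SetLike.ext_iff.1 hs _).2 (hU₀g h1)
    exact h2
  let gW := IsOpenImmersion.lift s (b ≫ g) hrange
  have hgW : gW ≫ s = b ≫ g := IsOpenImmersion.lift_fac _ _ _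
  -- the chart square and the open square of `X`
  let k' := (f ⁻¹ᵁ s.opensRange).ι
  let fW := (f ∣_ s.opensRange) ≫ s.isoOpensRange.inv
  have hk : IsPullback k' fW f s :=
    (isPullback_morphismRestrict f s.opensRange).flip.of_iso (Iso.refl _) (Iso.refl _) s.isoOpensRange.symm
      (Iso.refl _) (by simp [k']) (by simp [fW]) (by simp) (by simp)
  let XW' := Limits.pullback fW gW
  let h' : XW' ⟶ _ := Limits.pullback.fst fW gW
  let fW' : XW' ⟶ _ := Limits.pullback.snd fW gW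
  have hW : IsPullback h' fW' fW gW := IsPullback.of_hasPullback _ _
  have houter : IsPullback (h' ≫ k') fW' f (b ≫ g) := hgW ▸ hW.paste_horiz hk
  let i' : XW' ⟶ X' := hsq.lift (h' ≫ k') (fW' ≫ b) (by rw [houter.w, Category.assoc])
  have hi : IsPullback i' fW' f' b := IsPullback.of_right' houter hsq
  have hi' : i' ≫ g' = h' ≫ k' := hsq.lift_fst _ _ _
  -- the functors
  haveI := hasRpush s; haveI := hasRpush k'; haveI := hasRpush fW; haveI := hasRpush b; haveI := hasRpush i'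
  haveI := hasRpush fW'; haveI := hasRpush gW; haveI := hasRpush h'
  haveI := hasRpush (b ≫ g); haveI := hasRpush (gW ≫ s); haveI := hasRpush (i' ≫ g'); haveI := hasRpush (h' ≫ k')
  haveI := hasRpush (k' ≫ f); haveI := hasRpush (fW ≫ s); haveI := hasRpush (i' ≫ f'); haveI := hasRpush (fW' ≫ b)
  haveI := hasLpull s; haveI := hasLpull k'; haveI := hasLpull b; haveI := hasLpull i'
  haveI := hasLpull gW; haveI := hasLpull h'
  let adjs := lpullRpushAdj s
  let adjk' := lpullRpushAdj k'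
  let adjb := lpullRpushAdj b
  let adji' := lpullRpushAdj i'
  let adjgW := lpullRpushAdj gW
  let adjh' := lpullRpushAdj h'
  obtain ⟨c₁⟩ := nonempty_rpushCompIso k' f
  obtain ⟨c₂⟩ := nonempty_rpushCompIso fW s
  obtain ⟨c₃⟩ := nonempty_rpushCompIso i' f'
  obtain ⟨c₄⟩ := nonempty_rpushCompIso fW' b
  obtain ⟨c₅⟩ := nonempty_rpushCompIso b g
  obtain ⟨c₆⟩ := nonempty_rpushCompIso gW s
  obtain ⟨c₇⟩ := nonempty_rpushCompIso i' g'
  obtain ⟨c₈⟩ := nonempty_rpushCompIso h' k'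
  let ek : DCoh.Rpush k' ⋙ DCoh.Rpush f ≅ DCoh.Rpush fW ⋙ DCoh.Rpush s :=
    c₁ ≪≫ eqToIso (by simp only [hk.w]) ≪≫ c₂.symm
  let eb : DCoh.Rpush i' ⋙ DCoh.Rpush f' ≅ DCoh.Rpush fW' ⋙ DCoh.Rpush b :=
    c₃ ≪≫ eqToIso (by simp only [hi.w]) ≪≫ c₄.symm
  let a : DCoh.Rpush b ⋙ DCoh.Rpush g ≅ DCoh.Rpush gW ⋙ DCoh.Rpush s :=
    c₅ ≪≫ eqToIso (by simp only [hgW]) ≪≫ c₆.symm
  let a' : DCoh.Rpush i' ⋙ DCoh.Rpush g' ≅ DCoh.Rpush h' ⋙ DCoh.Rpush k' :=
    c₇ ≪≫ eqToIso (by simp only [hi']) ≪≫ c₈.symm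
  let E := pasteS eb e
  let E' := Functor.isoWhiskerRight a'.symm (DCoh.Rpush f) ≪≫ E ≪≫ Functor.isoWhiskerLeft (DCoh.Rpush fW') a
  obtain ⟨hs'⟩ := nonempty_fullyFaithful_rpush_open s
  obtain ⟨eh, heh⟩ := exists_pasteS hs' ek E'
  haveI : IsOpenImmersion k' := inferInstanceAs (IsOpenImmersion (f ⁻¹ᵁ s.opensRange).ι)
  haveI : IsOpenImmersion i' := MorphismProperty.of_isPullback (P := @IsOpenImmersion) hi.flip inferInstance
  obtain ⟨hkf⟩ := nonempty_fullyFaithful_rpush_open k'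
  haveI := hkf.full
  haveI := hkf.faithful
  haveI : IsIso adjk'.counit := inferInstance
  haveI := isIso_theta_open k' G
  haveI := isIso_theta_open i' G'
  haveI := isIso_bc_open hk adjs adjk' ek ((DCoh.LTensorMod G).obj K)
  haveI := isIso_bc_open hi adjb adji' eb ((DCoh.LTensorMod G').obj ((DCoh.Lpull g').obj K))
  haveI := hGq
  haveI := hG'q
  have hflat : FlatMod.IsFlatOver fW ((Scheme.Modules.pullback k').obj G) :=
    isFlatOver_pullback_chart f k' fW s hk.w G hGf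
  have i₅ : IsIso ((DCoh.Lpull b).map
      ((bc adjg adjg' e).app ((DCoh.LTensorMod G).obj K) ≫ (DCoh.Rpush f').map (θ.app K))) :=
    isIso_twist_base_step adjg adjg' adjb adji' adjs adjk' adjgW adjh' e eb ek eh a a' heh
      (asIso (theta k' G)) (asIso (theta i' G')) θ K
      (H s gW h' fW' hW ((Scheme.Modules.pullback k').obj G) ((Scheme.Modules.pullback i').obj G')
        (PullbackMod.isQCoh_pullback k' G) hflat (PullbackMod.isQCoh_pullback i' G') adjgW adjh' eh _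
        (good_restrict k' i' G G' adjk' _ θ hθ) _ (isQCohD_lpull' k' K hK))
  have i₆ : IsIso ((DCoh.restrictD (b.isoOpensRange.hom ≫ b.opensRange.ι)).map ((bc adjg adjg' e).app ((DCoh.LTensorMod G).obj K) ≫ (DCoh.Rpush f').map (θ.app K))) :=
    (NatIso.isIso_map_iff (lpullRestrictNatIso b ≪≫ restrictDCongr b.isoOpensRange_hom_ι.symm) _).1 i₅
  have i₇ : IsIso ((DCoh.restrictD b.isoOpensRange.hom).map
      ((DCoh.restrictD b.opensRange.ι).map ((bc adjg adjg' e).app ((DCoh.LTensorMod G).obj K) ≫ (DCoh.Rpush f').map (θ.app K)))) :=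
    (NatIso.isIso_map_iff (restrictDComp b.isoOpensRange.hom b.opensRange.ι) _).1 i₆
  haveI : (DCoh.restrictD b.isoOpensRange.hom).ReflectsIsomorphisms :=
    haveI : (DCoh.restrictD b.isoOpensRange.hom).Full := inferInstanceAs (restrictDEquiv b.isoOpensRange).functor.Full
    haveI : (DCoh.restrictD b.isoOpensRange.hom).Faithful :=
      inferInstanceAs (restrictDEquiv b.isoOpensRange).functor.Faithful
    reflectsIsomorphisms_of_full_and_faithful _
  exact isIso_of_reflects_iso _ (DCoh.restrictD b.isoOpensRange.hom)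

/-- Twisted base change along quasi-compact quasi-separated morphisms. -/
theorem tbcp_qcqs (f : X ⟶ S) [QuasiCompact f] [QuasiSeparated f] : TBCP f :=
  tbcp_of_charts f <| by
    intro R _ s _
    let fW := (f ∣_ s.opensRange) ≫ s.isoOpensRange.inv
    haveI : QuasiSeparated (f ∣_ s.opensRange) := IsZariskiLocalAtTarget.restrict ‹QuasiSeparated f› _
    haveI : QuasiCompact (f ∣_ s.opensRange) := IsZariskiLocalAtTarget.restrict ‹QuasiCompact f› _
    haveI : QuasiSeparated fW := inferInstanceAs (QuasiSeparated ((f ∣_ s.opensRange) ≫ s.isoOpensRange.inv))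
    haveI : QuasiCompact fW := inferInstanceAs (QuasiCompact ((f ∣_ s.opensRange) ≫ s.isoOpensRange.inv))
    exact @tbca_qcqs _ R _ fW _ _

/-- Base change for derived direct images of tensor products with a flat module. -/
theorem nonempty_twisted_baseChange {X' S' : Scheme.{u}} (f : X ⟶ S) [QuasiCompact f] [QuasiSeparated f] (g : S' ⟶ S)
    (f' : X' ⟶ S') (g' : X' ⟶ X) (hsq : IsPullback g' f' f g) (G : X.Modules) (hG : Coh.IsQCoh G)
    (hflat : FlatMod.IsFlatOver f G) [DCoh.HasLTensorMod G] [DCoh.HasRpush f] [DCoh.HasLpull g]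
    [DCoh.HasLpull g'] [DCoh.HasRpush f'] [DCoh.HasLTensorMod ((Scheme.Modules.pullback g').obj G)]
    (E : DCoh.D X) (hE : DCoh.IsQCohD E) :
    Nonempty ((DCoh.Lpull g).obj ((DCoh.Rpush f).obj ((DCoh.LTensorMod G).obj E)) ≅
      (DCoh.Rpush f').obj ((DCoh.LTensorMod ((Scheme.Modules.pullback g').obj G)).obj ((DCoh.Lpull g').obj E))) := by
  haveI := hasRpush g
  haveI := hasRpush g'
  haveI := hasRpush (g' ≫ f)
  haveI := hasRpush (f' ≫ g)
  obtain ⟨c₁⟩ := nonempty_rpushCompIso g' f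
  obtain ⟨c₂⟩ := nonempty_rpushCompIso f' g
  let e : DCoh.Rpush g' ⋙ DCoh.Rpush f ≅ DCoh.Rpush f' ⋙ DCoh.Rpush g :=
    c₁ ≪≫ eqToIso (by simp only [hsq.w]) ≪≫ c₂.symm
  haveI := hG
  haveI := tbcp_qcqs f g g' f' hsq G _ hG hflat (PullbackMod.isQCoh_pullback g' G) (lpullRpushAdj g)
    (lpullRpushAdj g') e (theta g' G) (good_theta g' G) E hE
  exact ⟨asIso ((bc (lpullRpushAdj g) (lpullRpushAdj g') e).app ((DCoh.LTensorMod G).obj E) ≫
    (DCoh.Rpush f').map ((theta g' G).app E))⟩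

end Groth.Agent.DCohMore.BC
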