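import Groth.Agent.DCohMore.BvdBGen

/-! The induction step for perfect generators with supports. -/

set_option autoImplicit false
set_option linter.style.haveILetI false
set_option backward.isDefEq.respectTransparency false

universe u

open CategoryTheory Limits AlgebraicGeometry Pretriangulated ZeroObject
attribute [local instance] HasDerivedCategory.standard

noncomputable section

namespace Groth.Agent.DCohMore

open Groth.Agent.DRingLib Groth.Agent.DCohLib

theorem exists_gOpen_eq {A : Type u} [CommRing A] (S : Set (Spec (CommRingCat.of A))) (h₁ : IsOpen S)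
    (h₂ : IsCompact S) : ∃ gs : List A, (gOpen gs : Set (Spec (CommRingCat.of A))) = S := by
  obtain ⟨t, ht⟩ := (PrimeSpectrum.isCompact_isOpen_iff (R := A)).1 ⟨h₂, h₁⟩
  refine ⟨t.toList, ?_⟩
  show (PrimeSpectrum.zeroLocus {a | a ∈ t.toList})ᶜ = S
  simp only [Finset.mem_toList]
  exact ht

theorem hom_shift_zero {D : Type*} [Category D] [HasZeroMorphisms D] [HasShift D ℤ]
    [∀ m : ℤ, (shiftFunctor D m).PreservesZeroMorphisms] {K L : D} (n : ℤ) (h : ∀ φ : K⟦-n⟧ ⟶ L, φ = 0)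
    (φ : K ⟶ L⟦n⟧) : φ = 0 := by
  apply (shiftFunctor D (-n)).map_injective
  rw [Functor.map_zero, ← cancel_mono ((shiftEquiv D n).unitIso.inv.app L), zero_comp]
  exact h _

theorem hom_shift_zero' {D : Type*} [Category D] [HasZeroMorphisms D] [HasShift D ℤ]
    [∀ m : ℤ, (shiftFunctor D m).PreservesZeroMorphisms] {K L : D} (n : ℤ) (h : ∀ φ : K ⟶ L⟦n⟧, φ = 0)
    (φ : K⟦-n⟧ ⟶ L) : φ = 0 := by
  apply (shiftFunctor D n).map_injective
  rw [Functor.map_zero, ← cancel_epi ((shiftEquiv D n).counitIso.inv.app K), comp_zero]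
  exact h _

theorem gOpen_append {A : Type u} [CommRing A] (gs ls : List A) :
    gOpen (gs ++ ls) = gOpen gs ⊔ gOpen ls := by
  ext x
  simp only [TopologicalSpace.Opens.coe_sup, Set.mem_union, SetLike.mem_coe, mem_gOpen, List.mem_append]
  constructor
  · rintro ⟨f, hf | hf, h⟩
    · exact Or.inl ⟨f, hf, h⟩
    · exact Or.inr ⟨f, hf, h⟩
  · rintro (⟨f, hf, h⟩ | ⟨f, hf, h⟩)
    · exact ⟨f, Or.inl hf, h⟩
    · exact ⟨f, Or.inr hf, h⟩

theorem isZero_restrictD_comp {W V X : Scheme.{u}} (i : W ⟶ V) (j : V ⟶ X) [IsOpenImmersion i]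
    [IsOpenImmersion j] {K : DCoh.D X} (h : IsZero ((DCoh.restrictD j).obj K)) :
    IsZero ((DCoh.restrictD (i ≫ j)).obj K) :=
  ((DCoh.restrictD i).map_isZero h).of_iso ((restrictDComp i j).app K)

theorem sup_rpush_restrict {X : Scheme.{u}} (U : X.Opens) [DCoh.HasRpush U.ι] {T : Set X} (hT : IsClosed T)
    (F : DCoh.D (U : Scheme.{u})) (hF : Sup (U.ι.base ⁻¹' T) F) : Sup T ((DCoh.Rpush U.ι).obj F) := by
  rw [sup_iff hT]
  let O := complOpen hT
  haveI : DCoh.HasRpush (U.ι ∣_ O) := Groth.Agent.KInj.hasRightDerivedFunctor (hres_modules _) _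
  haveI := hasLpull (U.ι ∣_ O)
  obtain ⟨e⟩ := nonempty_restrictD_rpush U.ι O
  refine IsZero.of_iso ?_ (e.app F)
  refine (IsZero.iff_id_eq_zero _).2 (((lpullRpushAdj (U.ι ∣_ O)).homEquiv _ _).symm.injective
    (((isZero_restrictD_iff_support (U.ι ⁻¹ᵁ O) F).2 fun i y hy hyO => hyO (hF i hy)).eq_of_tgt _ _))

theorem sup_obj₃ {X : Scheme.{u}} {T : Set X} (hT : IsClosed T) (S : Triangle (DCoh.D X)) (hS : S ∈ distTriang _)
    (h₁ : Sup T S.obj₁) (h₂ : Sup T S.obj₂) : Sup T S.obj₃ := by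
  rw [sup_iff hT] at h₁ h₂ ⊢
  let R := DCoh.restrictD (complOpen hT).ι
  haveI : IsIso (R.mapTriangle.obj S).mor₁ := ⟨0, h₁.eq_of_src _ _, h₂.eq_of_src _ _⟩
  exact (Triangle.isZero₃_iff_isIso₁ _ (R.map_distinguished S hS)).2 this

set_option maxHeartbeats 1000000 in
theorem gen_step {X : Scheme.{u}} [CompactSpace X] [QuasiSeparatedSpace X] (U : X.Opens)
    (hU : IsCompact (U : Set X)) {A : Type u} [CommRing A] (j : Spec (CommRingCat.of A) ⟶ X) [IsOpenImmersion j]
    (hcov : U ⊔ j.opensRange = ⊤) (T : Set X) (hT : IsClosed T) (hTc : IsCompact Tᶜ)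
    (h : Gen (U : Scheme.{u}) (U.ι.base ⁻¹' T)) : Gen X T := by
  obtain ⟨P, hP, hPT, hgen⟩ := h
  haveI := TildeD.preservesFiniteLimits_tilde (R := CommRingCat.of A)
  haveI : QuasiCompact j := quasiCompact_of_compactSpace j
  obtain ⟨gs, hgs⟩ := exists_gOpen_eq (j ⁻¹ᵁ U : Set (Spec (CommRingCat.of A))) (j ⁻¹ᵁ U).2
    (QuasiCompact.isCompact_preimage (f := j) U U.2 hU)
  obtain ⟨ls, hls⟩ := exists_gOpen_eq (j.base ⁻¹' Tᶜ) (hT.isOpen_compl.preimage j.continuous)
    (QuasiCompact.isCompact_preimage (f := j) Tᶜ hT.isOpen_compl hTc)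
  let W := gOpen gs
  have hW : ∀ x : Spec (CommRingCat.of A), x ∈ W ↔ j.base x ∈ U := fun x => Set.ext_iff.1 hgs x
  have hL : ∀ x : Spec (CommRingCat.of A), x ∈ gOpen ls ↔ j.base x ∉ T := fun x => Set.ext_iff.1 hls x
  let V := j.opensRange
  let b : (V : Scheme.{u}) ⟶ Spec (CommRingCat.of A) := j.isoOpensRange.inv
  have hb : b ≫ j = V.ι := j.isoOpensRange_inv_comp
  have hbx : ∀ x : (V : Scheme.{u}), j.base (b.base x) = V.ι.base x := fun x => by
    rw [← Scheme.Hom.comp_apply, hb]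
  have hk' : Set.range (W.ι ≫ j) ⊆ Set.range U.ι := by
    rw [Scheme.Opens.range_ι]
    rintro _ ⟨x, rfl⟩
    exact (hW _).1 x.2
  let k := IsOpenImmersion.lift U.ι (W.ι ≫ j) hk'
  have hk : k ≫ U.ι = W.ι ≫ j := IsOpenImmersion.lift_fac _ _ _
  haveI : IsOpenImmersion (k ≫ U.ι) := by rw [hk]; infer_instance
  haveI : IsOpenImmersion k := IsOpenImmersion.of_comp k U.ι
  let hl : U ⊓ V ≤ U := inf_le_left
  let hr : U ⊓ V ≤ V := inf_le_right
  have hβ' : Set.range (X.homOfLE hr ≫ b) ⊆ Set.range W.ι := by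
    rw [Scheme.Opens.range_ι]
    rintro _ ⟨x, rfl⟩
    refine (hW _).2 ?_
    rw [Scheme.Hom.comp_apply, hbx, ← Scheme.Hom.comp_apply, X.homOfLE_ι]
    exact x.2.1
  let β := IsOpenImmersion.lift W.ι (X.homOfLE hr ≫ b) hβ'
  have hβ : β ≫ W.ι = X.homOfLE hr ≫ b := IsOpenImmersion.lift_fac _ _ _
  haveI : IsOpenImmersion (β ≫ W.ι) := by rw [hβ]; infer_instance
  haveI : IsOpenImmersion β := IsOpenImmersion.of_comp β W.ι
  have hβk : X.homOfLE hl = β ≫ k := by
    rw [← cancel_mono U.ι, Category.assoc, hk, ← Category.assoc, hβ, Category.assoc, hb, X.homOfLE_ι,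
      X.homOfLE_ι]
  -- the extension of the generator of `U`
  let F := (DCoh.restrictD k).obj P
  obtain ⟨G, hG, hGt, ⟨eG⟩⟩ := exists_extend gs ls F (isPerfect_restrict k hP) fun i y hy hs => by
    refine (hL (W.ι.base y)).1 hy ?_
    have h1 : j.base (W.ι.base y) = U.ι.base (k.base y) := by
      rw [← Scheme.Hom.comp_apply, ← hk, Scheme.Hom.comp_apply]
    rw [h1]
    exact hPT.restrict k i hs
  let A' := P⟦(1 : ℤ)⟧ ⊞ P
  let B := (DCoh.restrictD b).obj ((DCoh.tildeD (CommRingCat.of A)).obj G)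
  haveI := preservesBinaryBiproducts_of_preservesBiproducts (DCoh.restrictD k)
  let c : (DCoh.restrictD (X.homOfLE hl)).obj A' ≅ (DCoh.restrictD (X.homOfLE hr)).obj B :=
    (restrictDCongr hβk ≪≫ restrictDComp β k).app A' ≪≫
      (DCoh.restrictD β).mapIso ((DCoh.restrictD k).mapBiprod _ _ ≪≫
        biprod.mapIso (((DCoh.restrictD k).commShiftIso (1 : ℤ)).app P) (Iso.refl _) ≪≫ eG.symm) ≪≫
      ((restrictDComp β W.ι).app _).symm ≪≫ (restrictDCongr hβ).app _ ≪≫
      (restrictDComp (X.homOfLE hr) b).app _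
  obtain ⟨F', ⟨eU⟩, ⟨eV⟩⟩ := exists_glue_two U V A' B c
  have cover : ∀ x : X, x ∈ U ∨ x ∈ V := fun x => hcov.ge (Set.mem_univ x)
  have hA' : DCoh.IsPerfect A' :=
    isPerfect_obj₂ _ (binaryBiproductTriangle_distinguished (P⟦(1 : ℤ)⟧) P) (isPerfect_shift hP 1) hP
  have hF'perf : DCoh.IsPerfect F' := isPerfect_of_local fun x => by
    rcases cover x with hx | hx
    · exact ⟨_, U.ι, inferInstance, ⟨x, hx⟩, rfl, isPerfect_iso eU.symm hA'⟩
    · exact ⟨_, V.ι, inferInstance, ⟨x, hx⟩, rfl,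
        isPerfect_iso eV.symm (isPerfect_restrict b (TildePerf.perfect_tilde hG))⟩
  have hF'T : Sup T F' := sup_of_cover fun x => by
    rcases cover x with hx | hx
    · exact ⟨_, U.ι, inferInstance, ⟨x, hx⟩, rfl, sup_of_iso eU.symm
        (sup_biprod (hT.preimage U.ι.continuous) (sup_shift (hT.preimage U.ι.continuous) hPT 1) hPT)⟩
    · refine ⟨_, V.ι, inferInstance, ⟨x, hx⟩, rfl, sup_of_iso eV.symm
        (Sup.mono (Sup.restrict b (T := (gOpen ls : Set (Spec (CommRingCat.of A)))ᶜ) ((tors_iff_support ls G).1 hGt))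
          fun y hy => ?_)⟩
      show V.ι.base y ∈ T
      rw [← hbx y]
      exact not_not.1 fun hn => hy ((hL _).2 hn)
  -- the generator supported away from `U`
  obtain ⟨P₀, hP₀, hP₀t, hgen₀⟩ := exists_koszul_gen (gs ++ ls)
  let B₀ := (DCoh.restrictD b).obj ((DCoh.tildeD (CommRingCat.of A)).obj P₀)
  have hz₀ : IsZero ((DCoh.restrictD (X.homOfLE hr)).obj B₀) := by
    have h1 : IsZero ((DCoh.restrictD W.ι).obj ((DCoh.tildeD (CommRingCat.of A)).obj P₀)) :=
      (tors_iff_isZero gs P₀).1 fun f hf => hP₀t f (List.mem_append_left ls hf)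
    exact (isZero_restrictD_comp β W.ι h1).of_iso (((restrictDComp (X.homOfLE hr) b).app _).symm ≪≫
      (restrictDCongr hβ.symm).app _)
  obtain ⟨Q, ⟨qU⟩, ⟨qV⟩⟩ := exists_glue_two U V 0 B₀
    (((DCoh.restrictD (X.homOfLE hl)).map_isZero (isZero_zero _)).iso hz₀)
  have hQperf : DCoh.IsPerfect Q := isPerfect_of_local fun x => by
    rcases cover x with hx | hx
    · exact ⟨_, U.ι, inferInstance, ⟨x, hx⟩, rfl, isPerfect_iso qU.symm
        (isPerfect_of_perfOn (perfOn_of_isZero (isZero_zero _)))⟩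
    · exact ⟨_, V.ι, inferInstance, ⟨x, hx⟩, rfl,
        isPerfect_iso qV.symm (isPerfect_restrict b (TildePerf.perfect_tilde hP₀))⟩
  have hQT : Sup T Q := sup_of_cover fun x => by
    rcases cover x with hx | hx
    · exact ⟨_, U.ι, inferInstance, ⟨x, hx⟩, rfl, sup_of_iso qU.symm (sup_of_isZero (isZero_zero _))⟩
    · refine ⟨_, V.ι, inferInstance, ⟨x, hx⟩, rfl, sup_of_iso qV.symm
        (Sup.mono (Sup.restrict b (T := (gOpen (gs ++ ls) : Set (Spec (CommRingCat.of A)))ᶜ)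
          ((tors_iff_support _ P₀).1 hP₀t)) fun y hy => ?_)⟩
      show V.ι.base y ∈ T
      rw [← hbx y]
      exact not_not.1 fun hn => hy (by rw [gOpen_append]; exact Or.inr ((hL _).2 hn))
  refine ⟨F' ⊞ Q, isPerfect_obj₂ _ (binaryBiproductTriangle_distinguished F' Q) hF'perf hQperf,
    sup_biprod hT hF'T hQT, fun E hE hET hEh => ?_⟩
  have hFE : ∀ (n : ℤ) (φ : F' ⟶ E⟦n⟧), φ = 0 := fun n φ => by
    rw [← biprod.inl_fst_assoc (X := F') (Y := Q) φ, hEh n (biprod.fst ≫ φ), comp_zero]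
  have hQE : ∀ (n : ℤ) (φ : Q ⟶ E⟦n⟧), φ = 0 := fun n φ => by
    rw [← biprod.inr_snd_assoc (X := F') (Y := Q) φ, hEh n (biprod.snd ≫ φ), comp_zero]
  haveI : DCoh.HasRpush U.ι := Groth.Agent.KInj.hasRightDerivedFunctor (hres_modules _) _
  haveI : DCoh.HasRpush V.ι := Groth.Agent.KInj.hasRightDerivedFunctor (hres_modules _) _
  haveI := hasLpull U.ι
  haveI := hasLpull V.ι
  haveI : QuasiCompact U.ι := by
    haveI : CompactSpace (U : Scheme.{u}) := isCompact_iff_compactSpace.1 hU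
    exact quasiCompact_of_compactSpace U.ι
  let adj := (lpullRpushAdj U.ι).ofNatIsoLeft (lpullRestrictNatIso U.ι)
  haveI : IsIso adj.counit := adj.isIso_counit_of_iso (rpushRestrictId U)
  let adjV := (lpullRpushAdj V.ι).ofNatIsoLeft (lpullRestrictNatIso V.ι)
  let EU := (DCoh.restrictD U.ι).obj E
  let R := (DCoh.Rpush U.ι).obj EU
  let η : E ⟶ R := adj.unit.app E
  obtain ⟨C, π, d, hη⟩ := distinguished_cocone_triangle η
  haveI : IsIso ((DCoh.restrictD U.ι).map η) := by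
    have h := adj.left_triangle_components E
    haveI : IsIso ((DCoh.restrictD U.ι).map η ≫ adj.counit.app EU) := by rw [h]; exact IsIso.id _
    exact IsIso.of_isIso_comp_right _ (adj.counit.app EU)
  have hQR : ∀ (n : ℤ) (φ : Q ⟶ R⟦n⟧), φ = 0 := fun n => hom_shift_zero n fun φ =>
    (adj.homEquiv _ _).symm.injective ((((shiftFunctor _ (-n)).map_isZero
      ((isZero_zero (DCoh.D (U : Scheme.{u}))).of_iso qU)).of_iso
        (((DCoh.restrictD U.ι).commShiftIso (-n)).app Q)).eq_of_src _ _)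
  have hQC : ∀ (n : ℤ) (φ : Q ⟶ C⟦n⟧), φ = 0 := fun n φ => by
    let S := (Triangle.shiftFunctor (DCoh.D X) n).obj (Triangle.mk η π d)
    have hS : S ∈ distTriang _ := Triangle.shift_distinguished _ hη n
    have h0 : φ ≫ S.mor₃ = 0 := by
      rw [← cancel_mono ((shiftFunctorAdd' (DCoh.D X) n 1 (n + 1) rfl).app E).inv, zero_comp]
      exact hQE (n + 1) _
    obtain ⟨ψ, hψ⟩ := Triangle.coyoneda_exact₃ S hS φ h0
    rw [hψ, show ψ = 0 from hQR n ψ, zero_comp]
  have hCz : IsZero C := by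
    have hCU : IsZero ((DCoh.restrictD U.ι).obj C) :=
      (Triangle.isZero₃_iff_isIso₁ _ ((DCoh.restrictD U.ι).map_distinguished _ hη)).2 ‹_›
    have hCT : Sup T C := sup_obj₃ hT _ hη hET (sup_rpush_restrict U hT EU (hET.restrict U.ι))
    have hCq : DCoh.IsQCohD C := isQCohD_obj₃' _ hη hE (isQCohD_rpush U.ι EU (TildeD.isQCohD_restrict U.ι E hE))
    have hCZ : Sup (T ∩ (U : Set X)ᶜ) C := fun i x hx =>
      ⟨hCT i hx, fun hxU => (isZero_restrictD_iff_support U C).1 hCU i hx hxU⟩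
    have hclosed : IsClosed (T ∩ (U : Set X)ᶜ) := hT.inter U.2.isClosed_compl
    have hsub : T ∩ (U : Set X)ᶜ ⊆ (V : Set X) := fun x hx => (cover x).resolve_left hx.2
    obtain ⟨eC⟩ := nonempty_iso_rpush_restrict V _ hclosed hsub C hCZ
    obtain ⟨C₀, ⟨e₀⟩⟩ := ((TildeD.main (CommRingCat.of A)).2.2 _).1 (TildeD.isQCohD_restrict j C hCq)
    let eV' : (DCoh.restrictD b).obj ((DCoh.tildeD (CommRingCat.of A)).obj C₀) ≅ (DCoh.restrictD V.ι).obj C :=
      (DCoh.restrictD b).mapIso e₀ ≪≫ ((restrictDComp b j).app C).symm ≪≫ (restrictDCongr hb).app C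
    have hC₀t : Tors (gs ++ ls) C₀ := (tors_iff_support _ C₀).2 fun i x hx hxo => by
      have hx2 := (hCZ.restrict j) i (fun hs => hx ((((stkF x).mapIso ((DerivedCategory.homologyFunctor _ i).mapIso
        e₀)).toLinearEquiv.toEquiv.subsingleton_congr).2 hs))
      rw [gOpen_append] at hxo
      rcases hxo with hxo | hxo
      · exact hx2.2 ((hW x).1 hxo)
      · exact (hL x).1 hxo hx2.1
    let CV := (DCoh.restrictD V.ι).obj C
    have hQV : ∀ (n : ℤ) (φ : B₀ ⟶ CV⟦n⟧), φ = 0 := fun n => hom_shift_zero n fun φ => by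
      let ψ : (DCoh.restrictD V.ι).obj (Q⟦-n⟧) ⟶ CV :=
        ((DCoh.restrictD V.ι).commShiftIso (-n)).hom.app Q ≫ qV.hom⟦-n⟧' ≫ φ
      have hu : ∀ u : Q⟦-n⟧ ⟶ C, u = 0 := hom_shift_zero' n (hQC n)
      have hψ : ψ = 0 := (adjV.homEquiv _ _).injective (by
        rw [← cancel_mono eC.inv]
        exact (hu _).trans (hu _).symm)
      have h1 : qV.inv⟦-n⟧' ≫ ((DCoh.restrictD V.ι).commShiftIso (-n)).inv.app Q ≫ ψ = φ := by
        simp [ψ, ← Functor.map_comp_assoc]
      rw [← h1, hψ, comp_zero, comp_zero]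
    have hC₀ : IsZero C₀ := hgen₀ C₀ hC₀t fun n φ => by
      let T' := DCoh.tildeD (CommRingCat.of A)
      haveI : T'.Faithful := (TildeD.main (CommRingCat.of A)).2.1
      haveI : IsIso b := inferInstanceAs (IsIso j.isoOpensRange.inv)
      haveI : (DCoh.restrictD b).Faithful := inferInstanceAs (restrictDEquiv (asIso b)).functor.Faithful
      apply T'.map_injective
      apply (DCoh.restrictD b).map_injective
      rw [Functor.map_zero, Functor.map_zero,
        ← cancel_mono (((DCoh.restrictD b).mapIso ((T'.commShiftIso n).app C₀) ≪≫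
          ((DCoh.restrictD b).commShiftIso n).app (T'.obj C₀) ≪≫ (shiftFunctor _ n).mapIso eV').hom), zero_comp]
      exact hQV n _
    refine IsZero.of_iso ?_ eC
    exact (IsZero.iff_id_eq_zero _).2 ((adjV.homEquiv _ _).symm.injective
      ((((DCoh.restrictD b).map_isZero ((DCoh.tildeD (CommRingCat.of A)).map_isZero hC₀)).of_iso eV'.symm).eq_of_tgt _ _))
  haveI : IsIso η := (Triangle.isZero₃_iff_isIso₁ _ hη).1 hCz
  have hEU : IsZero EU := hgen EU (TildeD.isQCohD_restrict U.ι E hE) (hET.restrict U.ι) fun n φ => by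
    have hu : ∀ u : (DCoh.restrictD U.ι).obj F' ⟶ EU⟦n⟧, u = 0 := hom_shift_zero n fun u => by
      have hw : ∀ w : F'⟦-n⟧ ⟶ E, w = 0 := hom_shift_zero' n (hFE n)
      have h2 : ((DCoh.restrictD U.ι).commShiftIso (-n)).hom.app F' ≫ u = 0 := (adj.homEquiv _ _).injective (by
        rw [← cancel_mono (asIso η).inv]
        exact (hw _).trans (hw _).symm)
      rwa [Preadditive.IsIso.comp_left_eq_zero] at h2
    have h1 : biprod.inr ≫ eU.inv ≫ (eU.hom ≫ biprod.snd ≫ φ) = φ := by simp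
    rw [← h1, hu (eU.hom ≫ biprod.snd ≫ φ), comp_zero, comp_zero]
  exact ((IsZero.iff_id_eq_zero _).2 ((adj.homEquiv _ _).symm.injective (hEU.eq_of_tgt _ _))).of_iso (asIso η)

end Groth.Agent.DCohMore

namespace Groth.Agent.DCohMore

open Groth.Agent.DRingLib Groth.Agent.DCohLib

/-- Perfect generators of the objects with quasi-coherent cohomology supported in a closed subset. -/
theorem gen_main {X : Scheme.{u}} [CompactSpace X] [QuasiSeparatedSpace X] (T : Set X) (hT : IsClosed T)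
    (hTc : IsCompact Tᶜ) : Gen X T := by
  suffices H : ∀ S : X.Opens, IsCompact (S : Set X) → Gen (S : Scheme.{u}) (S.ι.base ⁻¹' T) by
    refine Gen.of_iso X.topIso (T := T) ?_
    have e : X.topIso.hom.base ⁻¹' T = (⊤ : X.Opens).ι.base ⁻¹' T := rfl
    rw [e]
    exact H ⊤ isCompact_univ
  intro S hS
  refine compact_open_induction_on S hS ?_ ?_
  · haveI : IsEmpty ((⊥ : X.Opens) : Scheme.{u}) := ⟨fun x => x.2⟩
    exact Gen.of_isEmpty _
  · intro S hS U hSgen
    let Y : X.Opens := S ⊔ U.1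
    have hY : IsCompact (Y : Set X) := hS.union U.2.isCompact
    haveI : CompactSpace (Y : Scheme.{u}) := isCompact_iff_compactSpace.1 hY
    haveI : QuasiSeparatedSpace (Y : Scheme.{u}) := quasiSeparatedSpace_of_quasiSeparated Y.ι
    have hr : Set.range U.2.fromSpec ⊆ Set.range Y.ι := by
      rw [IsAffineOpen.range_fromSpec, Scheme.Opens.range_ι]
      exact fun x hx => Or.inr hx
    let j : Spec (CommRingCat.of Γ(X, U.1)) ⟶ (Y : Scheme.{u}) := IsOpenImmersion.lift Y.ι U.2.fromSpec hr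
    have hj : j ≫ Y.ι = U.2.fromSpec := IsOpenImmersion.lift_fac _ _ _
    haveI : IsOpenImmersion (j ≫ Y.ι) := by rw [hj]; infer_instance
    haveI : IsOpenImmersion j := IsOpenImmersion.of_comp j Y.ι
    let S' : Y.toScheme.Opens := Y.ι ⁻¹ᵁ S
    have hS' : IsCompact (S' : Set (Y : Scheme.{u})) := by
      rw [Y.ι.isOpenEmbedding.isEmbedding.isCompact_iff]
      refine (congrArg IsCompact ?_).mpr hS
      exact (Set.image_preimage_eq_inter_range).trans
        (Set.inter_eq_left.2 (by rw [Scheme.Opens.range_ι]; exact le_sup_left))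
    haveI : QuasiCompact Y.ι := quasiCompact_of_compactSpace Y.ι
    refine gen_step S' hS' j ?_ _ (hT.preimage Y.ι.continuous) ?_ ?_
    · refine eq_top_iff.2 fun y _ => ?_
      rcases (y.2 : y.1 ∈ S ⊔ U.1) with h | h
      · exact Or.inl h
      · refine Or.inr ?_
        obtain ⟨z, hz⟩ : y.1 ∈ Set.range U.2.fromSpec := by rw [IsAffineOpen.range_fromSpec]; exact h
        refine ⟨z, Y.ι.isOpenEmbedding.injective ?_⟩
        rw [← Scheme.Hom.comp_apply, hj]
        exact hz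
    · exact QuasiCompact.isCompact_preimage (f := Y.ι) Tᶜ hT.isOpen_compl hTc
    · haveI : IsIso (Y.ι ∣_ S) := by
        haveI : Surjective (Y.ι ∣_ S) := ⟨fun x => ⟨⟨⟨x.1, Or.inl x.2⟩, x.2⟩, S.ι.isOpenEmbedding.injective (by
          simpa using congrArg (fun g : (Y.ι ⁻¹ᵁ S : Scheme.{u}) ⟶ X => g ⟨⟨x.1, Or.inl x.2⟩, x.2⟩)
            (morphismRestrict_ι Y.ι S))⟩⟩
        haveI : Epi (Y.ι ∣_ S).base := (TopCat.epi_iff_surjective _).2 (Y.ι ∣_ S).surjective
        exact IsOpenImmersion.isIso _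
      refine Gen.of_iso (asIso (Y.ι ∣_ S)).symm ?_
      refine (congrArg (Gen (S : Scheme.{u})) ?_).mpr hSgen
      ext x
      show Y.ι.base (S'.ι.base ((inv (Y.ι ∣_ S)).base x)) ∈ T ↔ S.ι.base x ∈ T
      rw [← Scheme.Hom.comp_apply S'.ι, ← morphismRestrict_ι Y.ι S, ← Scheme.Hom.comp_apply, IsIso.inv_hom_id_assoc]

theorem hom_shift_left {X : Scheme.{u}} {P E : DCoh.D X} :
    (∀ (n : ℤ) (φ : P⟦n⟧ ⟶ E), φ = 0) → ∀ (n : ℤ) (φ : P ⟶ E⟦n⟧), φ = 0 :=
  fun h n => hom_shift_zero n (h (-n))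

end Groth.Agent.DCohMore
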