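import Groth.Agent.DCohMore.ApproxModel
import Groth.Agent.DCohMore.RpushSum
import Groth.Agent.DRingLib.CompactPerfect
import Groth.Prelude.Def_PerfAux

/-! Compact objects among the objects with quasi-coherent cohomology are perfect. -/

set_option autoImplicit false
set_option linter.style.haveILetI false
set_option backward.isDefEq.respectTransparency false

universe w v u

open CategoryTheory Limits AlgebraicGeometry Pretriangulated ZeroObject
attribute [local instance] HasDerivedCategory.standard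

noncomputable section

namespace Groth.Agent.DCohMore

open Groth.Agent.DRingLib Groth.Agent.DCohLib

section General

variable {D : Type*} [Category.{v} D] [Preadditive D] {K : D} {ι : Type w}

open Classical in
theorem homSum_of (X : ι → D) [HasCoproduct X] (i : ι) (g : K ⟶ X i) :
    PerfAux.homSumToHomCoprod K X (DirectSum.of (fun i => K ⟶ X i) i g) = g ≫ Sigma.ι X i := by
  rw [PerfAux.homSumToHomCoprod]
  erw [DirectSum.toAddMonoid_of]
  rfl

/-- A map in the image of the canonical map is a finite sum. -/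
theorem exists_sum_of_homSum (X : ι → D) [HasCoproduct X] {f : K ⟶ ∐ X}
    (hf : ∃ z, PerfAux.homSumToHomCoprod K X z = f) :
    ∃ (T : Finset ι) (h : ∀ i, K ⟶ X i), f = ∑ i ∈ T, h i ≫ Sigma.ι X i := by
  classical
  obtain ⟨z, rfl⟩ := hf
  refine ⟨DFinsupp.support z, fun i => z i, ?_⟩
  conv_lhs => rw [← DirectSum.sum_support_of z]
  rw [map_sum]
  exact Finset.sum_congr rfl fun i _ => homSum_of X i _

theorem sum_sigmaTrunc {X : ι → D} {c : Cofan X} (hc : IsColimit c) (T : Finset ι) (h : ∀ i, K ⟶ X i) :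
    (∑ i ∈ T, h i ≫ c.inj i) ≫ sigmaTrunc hc T = ∑ i ∈ T, h i ≫ c.inj i := by
  classical
  rw [Preadditive.sum_comp]
  refine Finset.sum_congr rfl fun i hi => ?_
  rw [Category.assoc, inj_sigmaTrunc, if_pos hi]

/-- The canonical map is bijective when maps absorb partial sums. -/
theorem bijective_perfAux_homSum (X : ι → D) [HasCoproduct X]
    (h : Absorbs (sigmaTrunc (coproductIsCoproduct X)) K) :
    Function.Bijective (PerfAux.homSumToHomCoprod K X) := by
  classical
  let π := fun i => sigmaProj (coproductIsCoproduct X) i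
  refine ⟨fun a b hab => DFinsupp.ext fun i => ?_, fun f => ?_⟩
  · have key : ∀ z : DirectSum ι (fun i => K ⟶ X i), PerfAux.homSumToHomCoprod K X z ≫ π i = z i := by
      intro z
      induction z using DirectSum.induction_on with
      | zero => rw [map_zero, zero_comp]; rfl
      | of j g =>
        rw [homSum_of, Category.assoc]
        by_cases hj : j = i
        · subst hj
          rw [DirectSum.of_eq_same]
          exact (congrArg (g ≫ ·) (inj_sigmaProj_self (coproductIsCoproduct X) j)).trans (Category.comp_id g)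
        · rw [DirectSum.of_eq_of_ne _ _ _ (Ne.symm hj)]
          exact (congrArg (g ≫ ·) (inj_sigmaProj_ne (coproductIsCoproduct X) hj)).trans comp_zero
      | add a b ha hb => rw [map_add, Preadditive.add_comp, ha, hb]; rfl
    rw [← key a, ← key b, hab]
  · obtain ⟨T, hT⟩ := h f
    refine ⟨∑ i ∈ T, DirectSum.of (fun i => K ⟶ X i) i (f ≫ π i), ?_⟩
    rw [map_sum]
    refine Eq.trans ?_ hT
    rw [sigmaTrunc, Preadditive.comp_sum]
    refine Finset.sum_congr rfl fun i _ => ?_
    rw [homSum_of, Category.assoc]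
    rfl

end General

variable {X : Scheme.{u}}

/-- Surjectivity of the canonical maps for families with quasi-coherent cohomology. -/
def SumSurj (K : DCoh.D X) : Prop :=
  ∀ (I : Type u) (L : I → DCoh.D X) [HasCoproduct L], (∀ i, DCoh.IsQCohD (L i)) →
    Function.Surjective (PerfAux.homSumToHomCoprod K L)

/-- Maps out of an affine restriction are finite sums. -/
theorem exists_sum_restrict {K : DCoh.D X} (hK : SumSurj K) {A : Type u} [CommRing A]
    (j : Spec (CommRingCat.of A) ⟶ X) [IsOpenImmersion j] [QuasiSeparatedSpace X] {I : Type u}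
    (L : I → DCoh.D (Spec (CommRingCat.of A))) (hL : ∀ i, DCoh.IsQCohD (L i)) [HasCoproduct L]
    (g : (DCoh.restrictD j).obj K ⟶ ∐ L) :
    ∃ (T : Finset I) (h : ∀ i, (DCoh.restrictD j).obj K ⟶ L i), g = ∑ i ∈ T, h i ≫ Sigma.ι L i := by
  haveI : QuasiCompact j := quasiCompact_of_compactSpace j
  haveI : DCoh.HasRpush j := Groth.Agent.KInj.hasRightDerivedFunctor (hres_modules _) _
  haveI := hasLpull j
  let adj := (lpullRpushAdj j).ofNatIsoLeft (lpullRestrictNatIso j)
  haveI : PreservesLimitsOfSize.{0, 0} (DCoh.Rpush j) := adj.rightAdjoint_preservesLimits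
  haveI : (DCoh.Rpush j).Additive := CategoryTheory.Functor.additive_of_preserves_binary_products _
  haveI := hasCoproduct_D' fun i => (DCoh.Rpush j).obj (L i)
  haveI := isIso_sigmaComparison_rpush j L hL
  let G := DCoh.Rpush j
  let a := sigmaComparison G L
  obtain ⟨T, k, hk⟩ := exists_sum_of_homSum _
    (hK I (fun i => G.obj (L i)) (fun i => isQCohD_rpush j (L i) (hL i)) (adj.homEquiv _ _ g ≫ inv a))
  refine ⟨T, fun i => (adj.homEquiv _ _).symm (k i), (adj.homEquiv _ _).injective ?_⟩
  have h1 : ∀ i, adj.homEquiv _ _ ((adj.homEquiv _ _).symm (k i) ≫ Sigma.ι L i) = (k i ≫ Sigma.ι (fun i => G.obj (L i)) i) ≫ a := fun i => by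
    rw [adj.homEquiv_naturality_right, Equiv.apply_symm_apply, Category.assoc, ι_comp_sigmaComparison]
  rw [(IsIso.comp_inv_eq a).1 hk, Preadditive.sum_comp]
  simp only [← h1, Adjunction.homEquiv_unit, Functor.map_sum, Preadditive.comp_sum]

/-- Models on affine charts of such objects are compact in the derived category of the ring. -/
theorem cpt_model [QuasiSeparatedSpace X] {K : DCoh.D X} (hK : SumSurj K) {A : Type u} [CommRing A]
    [PreservesFiniteLimits (tilde.functor (CommRingCat.of A))]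
    (j : Spec (CommRingCat.of A) ⟶ X) [IsOpenImmersion j] (M : Dual.D A)
    (e₀ : (DCoh.tildeD (CommRingCat.of A)).obj M ≅ (DCoh.restrictD j).obj K) : Cpt M := by
  classical
  intro I E c hc f
  let F := DCoh.tildeD (CommRingCat.of A)
  haveI : F.Full := (TildeD.main (CommRingCat.of A)).1
  haveI : F.Faithful := (TildeD.main (CommRingCat.of A)).2.1
  haveI : F.Additive := inferInstance
  let L : I → DCoh.D (Spec (CommRingCat.of A)) := fun i => F.obj (E ⟨i⟩)
  have hL : ∀ i, DCoh.IsQCohD (L i) := fun i => TildeD.isQCohD_tildeD (CommRingCat.of A) (E ⟨i⟩)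
  haveI := hasCoproduct_D' L
  obtain ⟨C₀, ⟨eC⟩⟩ := ((TildeD.main (CommRingCat.of A)).2.2 _).1 (isQCohD_coproduct L hL)
  choose inj' hinj using fun i => F.map_surjective (Sigma.ι L i ≫ eC.inv)
  let φ : c.pt ⟶ C₀ := Cofan.IsColimit.desc hc fun i => inj' i.down
  obtain ⟨ψ, hψ⟩ := F.map_surjective (eC.hom ≫ Sigma.desc fun i => F.map (c.inj ⟨i⟩))
  have hι : ∀ i, inj' i ≫ ψ = c.inj ⟨i⟩ := fun i => F.map_injective (by
    rw [Functor.map_comp, hinj, hψ, Category.assoc, eC.inv_hom_id_assoc, Sigma.ι_desc])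
  have hφψ : φ ≫ ψ = 𝟙 _ := Cofan.IsColimit.hom_ext hc _ _ fun i => by
    rw [← Category.assoc, Cofan.IsColimit.fac, hι, Category.comp_id]
  obtain ⟨T, h, hg⟩ := exists_sum_restrict hK j L hL (e₀.inv ≫ F.map (f ≫ φ) ≫ eC.hom)
  choose k hk using fun i => F.map_surjective (e₀.hom ≫ h i)
  have hf : f = ∑ i ∈ T.map Equiv.ulift.{u + 1}.symm.toEmbedding, (fun i => k i.down) i ≫ c.inj i := by
    rw [Finset.sum_map]
    refine F.map_injective ?_
    have h1 : F.map f = e₀.hom ≫ (e₀.inv ≫ F.map (f ≫ φ) ≫ eC.hom) ≫ eC.inv ≫ F.map ψ := by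
      simp [← Functor.map_comp, hφψ]
    rw [h1, hg, Preadditive.sum_comp, Preadditive.comp_sum, Functor.map_sum]
    refine Finset.sum_congr rfl fun i _ => ?_
    show _ = F.map (k i ≫ c.inj ⟨i⟩)
    rw [Functor.map_comp, hk, hψ, eC.inv_hom_id_assoc, Category.assoc, Category.assoc, Sigma.ι_desc]
  refine ⟨T.map Equiv.ulift.{u + 1}.symm.toEmbedding, ?_⟩
  rw [hf]
  exact sum_sigmaTrunc hc _ fun i => k i.down

/-- Compact objects are perfect. -/
theorem isPerfect_of_sumSurj [QuasiSeparatedSpace X] {K : DCoh.D X} (hKq : DCoh.IsQCohD K)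
    (hK : SumSurj K) : DCoh.IsPerfect K := by
  refine isPerfect_of_local fun x => ?_
  obtain ⟨_, ⟨V : X.Opens, hV, rfl⟩, hx, -⟩ :=
    X.isBasis_affineOpens.exists_subset_of_mem_open (a := x) (Set.mem_univ x) isOpen_univ
  let A := Γ(X, V)
  let j : Spec (CommRingCat.of A) ⟶ X := hV.fromSpec
  haveI : IsOpenImmersion j := inferInstanceAs (IsOpenImmersion hV.fromSpec)
  haveI := TildeD.preservesFiniteLimits_tilde (R := CommRingCat.of A)
  obtain ⟨M, e₀, -⟩ := exists_model j K hKq
  obtain ⟨y, hy⟩ : x ∈ Set.range hV.fromSpec := by rw [IsAffineOpen.range_fromSpec]; exact hx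
  exact ⟨_, j, inferInstance, y, hy, isPerfect_iso e₀ (TildePerf.perfect_tilde (perf_of_cpt (cpt_model hK j M e₀)))⟩

theorem absorbs_of_isPerfect [CompactSpace X] [QuasiSeparatedSpace X] {K : DCoh.D X} (hK : DCoh.IsPerfect K)
    {I : Type u} (L : I → DCoh.D X) [HasCoproduct L] (hL : ∀ i, DCoh.IsQCohD (L i)) :
    Absorbs (sigmaTrunc (coproductIsCoproduct L)) K := fun g => absorbs_qcoh' hK L hL g

/-- Compactness with supports gives the surjectivity. -/
theorem sumSurj_of_support [QuasiSeparatedSpace X] {T : Set X} (hT : IsClosed T) (hTc : IsCompact Tᶜ)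
    {K : DCoh.D X} (hKT : Sup T K)
    (h : ∀ (I : Type u) (L : I → DCoh.D X) [HasCoproduct L], (∀ i, DCoh.IsQCohD (L i) ∧ Sup T (L i)) →
      Function.Surjective (PerfAux.homSumToHomCoprod K L)) : SumSurj K := by
  classical
  intro I L _ hL f
  let U := complOpen hT
  haveI : DCoh.HasRpush U.ι := Groth.Agent.KInj.hasRightDerivedFunctor (hres_modules _) _
  haveI := hasLpull U.ι
  haveI : QuasiCompact U.ι := by
    haveI : CompactSpace (U : Scheme.{u}) := isCompact_iff_compactSpace.1 hTc
    exact quasiCompact_of_compactSpace U.ι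
  let adj := (lpullRpushAdj U.ι).ofNatIsoLeft (lpullRestrictNatIso U.ι)
  haveI : IsIso adj.counit := adj.isIso_counit_of_iso (rpushRestrictId U)
  let LU := fun i => (DCoh.restrictD U.ι).obj (L i)
  have hLU : ∀ i, DCoh.IsQCohD (LU i) := fun i => TildeD.isQCohD_restrict U.ι (L i) (hL i)
  let R := fun i => (DCoh.Rpush U.ι).obj (LU i)
  choose C p d hT' using fun i => distinguished_cocone_triangle (adj.unit.app (L i))
  let S := fun i => (Triangle.mk (adj.unit.app (L i)) (p i) (d i)).invRotate
  have hS : ∀ i, S i ∈ distTriang _ := fun i => inv_rot_of_distTriang _ (hT' i)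
  have hF : ∀ i, DCoh.IsQCohD (S i).obj₁ ∧ Sup T (S i).obj₁ := fun i => by
    refine ⟨isQCohD_shift' (isQCohD_obj₃' _ (hT' i) (hL i) (isQCohD_rpush U.ι _ (hLU i))) (-1), ?_⟩
    rw [sup_iff hT]
    refine (Triangle.isZero₁_iff_isIso₂ _ ((DCoh.restrictD U.ι).map_distinguished _ (hS i))).2 ?_
    show IsIso ((DCoh.restrictD U.ι).map (adj.unit.app (L i)))
    haveI : IsIso ((DCoh.restrictD U.ι).map (adj.unit.app (L i)) ≫ adj.counit.app ((DCoh.restrictD U.ι).obj (L i))) := by
      rw [adj.left_triangle_components (L i)]; exact IsIso.id _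
    exact IsIso.of_isIso_comp_right _ (adj.counit.app ((DCoh.restrictD U.ι).obj (L i)))
  haveI := hasCoproduct_D' fun i => (S i).obj₁
  haveI : HasCoproduct fun i => (S i).obj₂ := inferInstanceAs (HasCoproduct L)
  haveI := hasCoproduct_D' R
  haveI : HasCoproduct fun i => (S i).obj₃ := inferInstanceAs (HasCoproduct R)
  haveI : HasCoproduct fun i => (DCoh.Rpush U.ι).obj (LU i) := inferInstanceAs (HasCoproduct R)
  haveI := hasCoproduct_D' LU
  have hd := Groth.Agent.BrownRep.coproductTriangle_distinguished S hS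
  haveI := isIso_sigmaComparison_rpush U.ι LU hLU
  have h0 : f ≫ (Groth.Agent.BrownRep.coproductTriangle S).mor₂ = 0 := by
    let g : K ⟶ ∐ fun i => (DCoh.Rpush U.ι).obj (LU i) := f ≫ (Groth.Agent.BrownRep.coproductTriangle S).mor₂
    show g = 0
    rw [← cancel_mono (sigmaComparison (DCoh.Rpush U.ι) LU), zero_comp]
    exact (adj.homEquiv _ _).symm.injective (((sup_iff hT K).1 hKT).eq_of_src _ _)
  obtain ⟨g, hg⟩ := Triangle.coyoneda_exact₂ _ hd f h0
  obtain ⟨T', k, hk⟩ := exists_sum_of_homSum _ (h I (fun i => (S i).obj₁) hF g)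
  refine ⟨∑ i ∈ T', DirectSum.of (fun i => K ⟶ L i) i (k i ≫ (S i).mor₁), ?_⟩
  rw [map_sum]
  refine Eq.trans ?_ (((congrArg (· ≫ (Groth.Agent.BrownRep.coproductTriangle S).mor₁) hk).symm.trans hg.symm))
  rw [Preadditive.sum_comp]
  refine Finset.sum_congr rfl fun i _ => ?_
  rw [homSum_of]
  exact (Category.assoc _ _ _).trans (((Category.assoc _ _ _).trans (congrArg (k i ≫ ·)
    (Limits.Sigma.ι_map (fun i => (S i).mor₁) i))).symm)

end Groth.Agent.DCohMore
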