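import Groth.Agent.DCohMore.PerfHom
import Groth.Agent.TildePerf.PC

/-!
# Vanishing of maps out of shifts of perfect objects
-/

set_option autoImplicit false
set_option linter.style.haveILetI false
set_option linter.unusedSectionVars false

universe u

open CategoryTheory CategoryTheory.Limits AlgebraicGeometry TopologicalSpace
open CategoryTheory.Pretriangulated

attribute [local instance] HasDerivedCategory.standard

noncomputable section

namespace Groth.Agent.DCohMore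

open Groth.Agent.DCohLib

variable {X : Scheme.{u}}

local notation "tS" => (DerivedCategory.TStructure.t : CategoryTheory.Triangulated.TStructure (DCoh.D X))

theorem isQCoh_of_isZero {M : X.Modules} (h : IsZero M) : Coh.IsQCoh M :=
  (PullbackMod.isQCoh_and_isFP_of_isFinLocFree _ (isFinLocFree_of_isZero h)).1

theorem isQCohD_truncLT {L : DCoh.D X} (hL : DCoh.IsQCohD L) (a : ℤ) :
    DCoh.IsQCohD (((tS).truncLT a).obj L) := fun i => by
  rcases lt_or_ge i a with h | h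
  · haveI := DCohLib.isIso_homology_truncLTι L a i h
    exact isQCoh_of_iso' (asIso ((DerivedCategory.homologyFunctor X.Modules i).map (((tS).truncLTι a).app L))).symm
      (hL i)
  · haveI : (((tS).truncLT a).obj L).IsLE (a - 1) := (tS).isLE_truncLT_obj L a _ (by omega)
    exact isQCoh_of_isZero (DerivedCategory.isZero_of_isLE _ (a - 1) i (by omega))

theorem isQCohD_shift' {L : DCoh.D X} (hL : DCoh.IsQCohD L) (n : ℤ) : DCoh.IsQCohD (L⟦n⟧) := fun i =>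
  isQCoh_of_iso' (((DerivedCategory.homologyFunctor X.Modules 0).shiftIso n i (n + i) rfl).app L).symm (hL (n + i))

theorem isLE_shift' (L : DCoh.D X) (c n c' : ℤ) [L.IsLE c] (h : c ≤ c' + n) : (L⟦n⟧).IsLE c' :=
  (DerivedCategory.isLE_iff _ _).2 fun i hi => ((DerivedCategory.isLE_iff L c).1 ‹_› (n + i) (by omega)).of_iso
    (((DerivedCategory.homologyFunctor X.Modules 0).shiftIso n i (n + i) rfl).app L)

theorem isGE_shift' (L : DCoh.D X) (c n c' : ℤ) [L.IsGE c] (h : c' + n ≤ c) : (L⟦n⟧).IsGE c' :=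
  (DerivedCategory.isGE_iff _ _).2 fun i hi => ((DerivedCategory.isGE_iff L c).1 ‹_› (n + i) (by omega)).of_iso
    (((DerivedCategory.homologyFunctor X.Modules 0).shiftIso n i (n + i) rfl).app L)

theorem exists_isLE_of_isPerfect [CompactSpace X] {K : DCoh.D X} (hK : DCoh.IsPerfect K) : ∃ B : ℤ, K.IsLE B := by
  obtain ⟨b, hb⟩ := TildePerf.exists_aboveZero_of_pc (m := 0)
    ((isPseudoCoherentD_iff 0 K).2 fun x =>
      let ⟨V, hx, hV⟩ := (isPerfect_iff K).1 hK x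
      ⟨V, hx, hV.pcOn 0⟩)
  exact ⟨b, (DerivedCategory.isLE_iff _ _).2 fun i hi => hb i (by omega)⟩

/-- Maps into a shift correspond to maps out of the opposite shift. -/
theorem eq_zero_of_shift {P Z : DCoh.D X} (n : ℤ) (φ : P⟦n⟧ ⟶ Z) (h : ∀ ψ : P ⟶ Z⟦-n⟧, ψ = 0) : φ = 0 := by
  apply (shiftFunctor (DCoh.D X) (-n)).map_injective
  rw [Functor.map_zero, ← cancel_epi ((shiftFunctorCompIsoId (DCoh.D X) n (-n) (by omega)).app P).inv, comp_zero]
  exact h _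

/-- Maps from a perfect object vanish on objects with vanishing cohomology in a fixed interval. -/
theorem exists_window [CompactSpace X] [QuasiSeparatedSpace X] {K : DCoh.D X} (hK : DCoh.IsPerfect K) :
    ∃ a b : ℤ, a ≤ b ∧ ∀ L : DCoh.D X, DCoh.IsQCohD L → (∀ i : ℤ, a ≤ i → i ≤ b → IsZero (DCoh.HD L i)) →
      ∀ φ : K ⟶ L, φ = 0 := by
  obtain ⟨B, hB⟩ := exists_isLE_of_isPerfect hK
  obtain ⟨b₀, hb₀⟩ := exists_vanishing_qcoh hK
  let a := min (b₀ + 1) B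
  refine ⟨a, B, min_le_right _ _, fun L hL hz φ => ?_⟩
  have hab : a ≤ b₀ + 1 := min_le_left _ _
  haveI : (((tS).truncGE a).obj L).IsGE (B + 1) := (DerivedCategory.isGE_iff _ _).2 fun i hi => by
    rcases lt_or_ge i a with h | h
    · haveI : (((tS).truncGE a).obj L).IsGE a := inferInstanceAs ((tS).IsGE (((tS).truncGE a).obj L) a)
      exact DerivedCategory.isZero_of_isGE _ a i h
    · haveI := DCohLib.isIso_homology_truncGEπ L a i h
      exact (hz i h (by omega)).of_iso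
        (asIso ((DerivedCategory.homologyFunctor X.Modules i).map (((tS).truncGEπ a).app L))).symm
  have h0 : φ ≫ ((tS).truncGEπ a).app L = 0 :=
    haveI : (tS).IsLE K B := hB
    haveI : (tS).IsGE (((tS).truncGE a).obj L) (B + 1) := ‹DerivedCategory.IsGE _ _›
    (tS).zero _ B (B + 1) (by omega)
  obtain ⟨g, hg⟩ := Triangle.coyoneda_exact₂ _ ((tS).triangleLTGE_distinguished a L) φ h0
  have hg0 : g = 0 := hb₀ _ (isQCohD_truncLT hL a) ((DerivedCategory.isLE_iff _ _).2 fun i hi => by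
    haveI : (((tS).truncLT a).obj L).IsLE (a - 1) := (tS).isLE_truncLT_obj L a _ (by omega)
    exact DerivedCategory.isZero_of_isLE _ (a - 1) i (by omega)) g
  rw [hg, hg0]
  exact zero_comp

theorem finite_hom_shift [CompactSpace X] [QuasiSeparatedSpace X] {K : DCoh.D X} (hK : DCoh.IsPerfect K)
    (L : DCoh.D X) (a' b' : ℤ) (hL : DCoh.IsQCohD L) (ha : L.IsGE a') (hb : L.IsLE b') :
    {n : ℤ | ∃ φ : K ⟶ L⟦n⟧, φ ≠ 0}.Finite := by
  obtain ⟨B, hB⟩ := exists_isLE_of_isPerfect hK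
  obtain ⟨b₀, hb₀⟩ := exists_vanishing_qcoh hK
  refine (Set.finite_Icc (a' - B) (b' - b₀ - 1)).subset fun n ⟨φ, hφ⟩ => ⟨?_, ?_⟩
  · by_contra h
    haveI : (tS).IsLE K B := hB
    haveI : (tS).IsGE (L⟦n⟧) (B + 1) := isGE_shift' L a' n (B + 1) (by omega)
    exact hφ ((tS).zero _ B (B + 1) (by omega))
  · by_contra h
    exact hφ (hb₀ _ (isQCohD_shift' hL n) (isLE_shift' L b' n b₀ (by omega)) φ)

theorem vanishing_iff_truncGE [CompactSpace X] [QuasiSeparatedSpace X] {P : DCoh.D X} (hP : DCoh.IsPerfect P)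
    {E : DCoh.D X} (hE : DCoh.IsQCohD E) (a : ℤ) :
    (∃ N : ℤ, ∀ i : ℤ, N ≤ i → ∀ φ : P⟦-i⟧ ⟶ E, φ = 0) ↔
    (∃ N : ℤ, ∀ i : ℤ, N ≤ i → ∀ φ : P⟦-i⟧ ⟶ ((tS).truncGE a).obj E, φ = 0) := by
  obtain ⟨b₀, hb₀⟩ := exists_vanishing_qcoh hP
  let T := (((tS).triangleLTGE a).obj E)
  have hT : T ∈ distTriang _ := (tS).triangleLTGE_distinguished a E
  haveI : T.obj₁.IsLE (a - 1) := (tS).isLE_truncLT_obj E a _ (by omega)
  have h1 : ∀ i, a - b₀ ≤ i → ∀ φ : P⟦-i⟧ ⟶ T.obj₁, φ = 0 := fun i hi φ =>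
    eq_zero_of_shift _ φ fun ψ => hb₀ _ (isQCohD_shift' (isQCohD_truncLT hE a) _)
      (isLE_shift' T.obj₁ (a - 1) _ b₀ (by omega)) ψ
  have h2 : ∀ i, a - b₀ ≤ i → ∀ φ : P⟦-i⟧ ⟶ T.obj₁⟦(1 : ℤ)⟧, φ = 0 := fun i hi φ => by
    haveI : (T.obj₁⟦(1 : ℤ)⟧).IsLE (a - 2) := isLE_shift' T.obj₁ (a - 1) 1 (a - 2) (by omega)
    exact eq_zero_of_shift _ φ fun ψ => hb₀ _ (isQCohD_shift' (isQCohD_shift' (isQCohD_truncLT hE a) 1) _)
      (isLE_shift' (T.obj₁⟦(1 : ℤ)⟧) (a - 2) _ b₀ (by omega)) ψ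
  constructor
  · rintro ⟨N, hN⟩
    refine ⟨max N (a - b₀), fun i hi φ => ?_⟩
    obtain ⟨g, hg⟩ := Triangle.coyoneda_exact₃ T hT φ (h2 i (le_trans (le_max_right _ _) hi) _)
    rw [hg, hN i (le_trans (le_max_left _ _) hi) g]
    exact zero_comp
  · rintro ⟨N, hN⟩
    refine ⟨max N (a - b₀), fun i hi φ => ?_⟩
    obtain ⟨g, hg⟩ := Triangle.coyoneda_exact₂ T hT φ (hN i (le_trans (le_max_left _ _) hi) _)
    rw [hg, h1 i (le_trans (le_max_right _ _) hi) g]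
    exact zero_comp

theorem vanishing_iff_truncLE [CompactSpace X] {P : DCoh.D X} (hP : DCoh.IsPerfect P)
    (E : DCoh.D X) (a : ℤ) :
    (∃ N : ℤ, ∀ i : ℤ, i ≤ N → ∀ φ : P⟦-i⟧ ⟶ E, φ = 0) ↔
    (∃ N : ℤ, ∀ i : ℤ, i ≤ N → ∀ φ : P⟦-i⟧ ⟶ ((tS).truncLE a).obj E, φ = 0) := by
  obtain ⟨B, hB⟩ := exists_isLE_of_isPerfect hP
  obtain ⟨T, hT, h₁, h₂, hle, hge⟩ : ∃ T : Triangle (DCoh.D X), T ∈ distTriang _ ∧
      T.obj₂ = E ∧ T.obj₁ = ((tS).truncLE a).obj E ∧ T.obj₁.IsLE a ∧ T.obj₃.IsGE (a + 1) :=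
    ⟨((tS).triangleLEGE a (a + 1) rfl).obj E, (tS).triangleLEGE_distinguished a (a + 1) rfl E, rfl, rfl,
      inferInstanceAs ((tS).IsLE (((tS).truncLE a).obj E) a), inferInstanceAs ((tS).IsGE (((tS).truncGE (a + 1)).obj E) (a + 1))⟩
  rw [← h₂, ← h₁]
  have h3 : ∀ i, i ≤ a - B → ∀ φ : P⟦-i⟧ ⟶ T.obj₃, φ = 0 := fun i hi φ => by
    haveI : (tS).IsLE (P⟦-i⟧) a := isLE_shift' P B _ a (by omega)
    haveI : (tS).IsGE T.obj₃ (a + 1) := hge
    exact (tS).zero φ a (a + 1) (by omega)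
  have h4 : ∀ i, i ≤ a - B → ∀ φ : P⟦-i⟧ ⟶ T.obj₁, φ ≫ T.mor₁ = 0 → φ = 0 := fun i hi φ hφ => by
    obtain ⟨g, hg⟩ := Triangle.coyoneda_exact₂ T.invRotate (inv_rot_of_distTriang _ hT) φ hφ
    haveI : (tS).IsLE (P⟦-i⟧) a := isLE_shift' P B _ a (by omega)
    haveI : (tS).IsGE T.invRotate.obj₁ (a + 1) :=
      haveI := hge
      isGE_shift' T.obj₃ (a + 1) (-1) (a + 1) (by omega)
    rw [hg, (tS).zero g a (a + 1) (by omega)]
    exact zero_comp
  constructor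
  · rintro ⟨N, hN⟩
    exact ⟨min N (a - B), fun i hi φ => h4 i (le_trans hi (min_le_right _ _)) φ (hN i (le_trans hi (min_le_left _ _)) _)⟩
  · rintro ⟨N, hN⟩
    refine ⟨min N (a - B), fun i hi φ => ?_⟩
    obtain ⟨g, hg⟩ := Triangle.coyoneda_exact₂ T hT φ (h3 i (le_trans hi (min_le_right _ _)) _)
    rw [hg, hN i (le_trans hi (min_le_left _ _)) g]
    exact zero_comp

end Groth.Agent.DCohMore
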