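import Groth.Agent.DCohLib.DualEval
import Groth.Agent.DCohLib.QCohHD
import Groth.Agent.DCohLib.QCohAbelian
import Groth.Agent.TildeD.TensorQCoh

/-!
# Derived internal Hom out of pseudo-coherent complexes has quasi-coherent cohomology
-/

set_option autoImplicit false
set_option linter.style.haveILetI false
set_option linter.unusedSectionVars false
set_option maxHeartbeats 1000000

universe u

open CategoryTheory CategoryTheory.Limits AlgebraicGeometry TopologicalSpace
open CategoryTheory.Pretriangulated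

attribute [local instance] HasDerivedCategory.standard

noncomputable section

namespace Groth.Agent.DCohMore

open Groth.Agent.DCohLib

variable {X : Scheme.{u}}

theorem isQCoh_middle' {Y : Scheme.{u}} {A B C D E : Y.Modules} (a : A ⟶ B) (b : B ⟶ C) (c : C ⟶ D) (d : D ⟶ E)
    (hab : a ≫ b = 0) (hbc : b ≫ c = 0) (hcd : c ≫ d = 0)
    (exB : (ShortComplex.mk a b hab).Exact) (exC : (ShortComplex.mk b c hbc).Exact)
    (exD : (ShortComplex.mk c d hcd).Exact)
    (hA : Coh.IsQCoh A) (hB : Coh.IsQCoh B) (hD : Coh.IsQCoh D) (hE : Coh.IsQCoh E) : Coh.IsQCoh C := by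
  let T : ShortComplex Y.Modules := ShortComplex.mk (cokernel.desc a b hab) (kernel.lift d c hcd) (by
    rw [← cancel_epi (cokernel.π a), ← cancel_mono (kernel.ι d)]
    simp [hbc])
  have hT : T.ShortExact :=
    { exact := by
        rw [ShortComplex.exact_iff_exact_up_to_refinements]
        intro W x hx
        have hx' : x ≫ c = 0 := by
          rw [← kernel.lift_ι d c hcd, ← Category.assoc]
          exact (congrArg (· ≫ kernel.ι d) hx).trans zero_comp
        obtain ⟨W', p, hp, y, hy⟩ := exC.exact_up_to_refinements x hx'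
        exact ⟨W', p, hp, y ≫ cokernel.π a, hy.trans ((congrArg (y ≫ ·) (cokernel.π_desc a b hab).symm).trans
          (Category.assoc _ _ _).symm)⟩
      mono_f := exB.mono_cokernelDesc
      epi_g := exD.epi_kernelLift }
  exact QCohLib.isQCoh_X₂ hT (QCohLib.isQCoh_image a hA hB).2 (QCohLib.isQCoh_image d hD hE).1

/-- Quasi-coherent cohomology passes to the middle of a distinguished triangle. -/
theorem isQCohD_obj₂ (T : Triangle (DCoh.D X)) (hT : T ∈ distTriang _)
    (h₁ : DCoh.IsQCohD T.obj₁) (h₃ : DCoh.IsQCohD T.obj₃) : DCoh.IsQCohD T.obj₂ := fun i =>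
  isQCoh_middle' _ _ _ _ _ _ _
    (DerivedCategory.HomologySequence.exact₁ T hT (i - 1) i (by omega))
    (DerivedCategory.HomologySequence.exact₂ T hT i)
    (DerivedCategory.HomologySequence.exact₃ T hT i (i + 1) rfl)
    (h₃ (i - 1)) (h₁ i) (h₃ i) (h₁ (i + 1))

theorem isQCohD_of_isPerfect {K : DCoh.D X} (h : DCoh.IsPerfect K) : DCoh.IsQCohD K := fun i =>
  (isQCoh_HD_of_pseudoCoherent (m := i - 1)
    ((isPseudoCoherentD_iff (i - 1) _).2 fun x =>
      let ⟨V, hx, hV⟩ := (isPerfect_iff _).1 h x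
      ⟨V, hx, hV.pcOn _⟩)).1 i (by omega)

theorem isPerfect_shiftUnitCx (a : ℤ) : DCoh.IsPerfect (DerivedCategory.Q.obj (shiftUnitCx X a)) :=
  isPerfect_of_perfOn ⟨_, isStrictlyPerfect_shiftUnitCx a, ⟨Iso.refl _⟩⟩

/-- Tensoring with a shifted unit reflects quasi-coherence of cohomology. -/
theorem isQCohD_of_lTensor_shiftUnit (a : ℤ) [DCoh.HasLTensorCx (shiftUnitCx X a)] (Y : DCoh.D X)
    (h : DCoh.IsQCohD ((DCoh.LTensorCx (shiftUnitCx X a)).obj Y)) : DCoh.IsQCohD Y := by
  obtain ⟨e⟩ := nonempty_lTensor_shiftUnit_comp (X := X) a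
  exact TildeD.isQCohD_of_iso (e.app Y) (TildeD.isQCohD_lTensorCx (shiftUnitCx X (-a))
    (isQCohD_of_isPerfect (isPerfect_shiftUnitCx (-a))) _ h)

section Base

variable (V : X.Opens) (R : CochainComplex X.Modules ℤ) [R.IsKInjective]

/-- Quasi-coherence of the internal Hom out of an extension by zero, over the open. -/
def QGood (E : CochainComplex (V : Scheme.{u}).Modules ℤ) : Prop :=
  DCoh.IsQCohD (DerivedCategory.Q.obj ((resCx V.ι).obj ((hCx ((extCx V).obj E)).obj R)))

theorem qGood_unit (hR : DCoh.IsQCohD (DerivedCategory.Q.obj R)) (a : ℤ) :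
    QGood V R (shiftUnitCx (V : Scheme.{u}) a) := by
  let N := extShiftUnit V a
  have hN := isKFlat_extShiftUnit (V := V) a
  haveI := isEquivalence_res_extShiftUnit (V := V) a
  haveI := quasiIso_res_eps N hN R (V := V)
  haveI : IsIso (DerivedCategory.Q.map ((resCx V.ι).map ((hAdj N).counit.app R))) :=
    (DerivedCategory.isIso_Q_map_iff_quasiIso (C := (V : Scheme.{u}).Modules) _).2 ‹_›
  let e : (DCoh.LTensorCx ((resCx V.ι).obj N)).obj
      (DerivedCategory.Q.obj ((resCx V.ι).obj ((hCx N).obj R))) ≅ DerivedCategory.Q.obj ((resCx V.ι).obj R) :=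
    (lTensorQIso ((resCx V.ι).obj N) (isKFlat_resCx V.ι hN)).app ((resCx V.ι).obj ((hCx N).obj R)) ≪≫
      DerivedCategory.Q.mapIso ((restrictTensorNat V.ι N).app ((hCx N).obj R)).symm ≪≫
      asIso (DerivedCategory.Q.map ((resCx V.ι).map ((hAdj N).counit.app R)))
  let c := lTensorCongr (shiftUnitCx (V : Scheme.{u}) a) ((resCx V.ι).obj N)
    (isKFlat_of_strictlyPerfect (isStrictlyPerfect_shiftUnitCx a)) (isKFlat_resCx V.ι hN)
    (Functor.isoWhiskerRight ((DCoh.tensorCx (X := (V : Scheme.{u}))).flip.mapIso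
      (extUnit V (shiftUnitCx (V : Scheme.{u}) a))) DerivedCategory.Q)
  exact isQCohD_of_lTensor_shiftUnit a _ (TildeD.isQCohD_of_iso (c.app _ ≪≫ e).symm
    (TildeD.isQCohD_of_iso (restrictDQ V.ι R) (TildeD.isQCohD_restrict V.ι _ hR)))

theorem qGood_freeClosed (hR : DCoh.IsQCohD (DerivedCategory.Q.obj R)) : FreeClosed (QGood V R) where
  iso {E E'} e h := by
    let β := ((extCx V).mapIso e.symm)
    haveI := isIso_hMap β R
    exact TildeD.isQCohD_of_iso
      (DerivedCategory.Q.mapIso ((resCx V.ι).mapIso (asIso ((hMap β.hom).app R)))) h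
  zero E hE := isQCohD_of_isPerfect (isPerfect_of_perfOn (perfOn_of_isZero
    (DerivedCategory.Q.map_isZero ((resCx V.ι).map_isZero (isZero_hCx ((extCx V).map_isZero (isZero_of_X hE)) R)))))
  unit a := qGood_unit V R hR a
  split S σ h1 h3 := by
    let S' := S.map (extCx V)
    have σ' : ∀ q, (S'.map (HomologicalComplex.eval X.Modules (ComplexShape.up ℤ) q)).Splitting :=
      fun q => (σ q).map (CxOX.extZero V.ι)
    exact isQCohD_obj₂ _
      (DerivedCategory.triangleOfSES_distinguished (shortExact_res (V := V) (shortExact_hSeq σ' R))) h3 h1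

end Base

/-- The internal Hom out of a complex in degrees `≤ m` into one in degrees `≥ a` vanishes below
`a - m`. -/
theorem isZero_homology_hCx (N R : CochainComplex X.Modules ℤ) (m a : ℤ)
    (hN : ∀ q, m < q → IsZero (N.X q)) (hR : ∀ n, n < a → IsZero (R.X n)) (i : ℤ) (hi : i < a - m) :
    IsZero (((hCx N).obj R).homology i) := by
  let T := (hCx N).obj R
  have h0 : T.ιTruncLE i = 0 := by
    refine ((hAdj N).homEquiv _ R).symm.injective ?_
    refine HomologicalComplex.hom_ext _ _ fun n => HomologicalComplex.mapBifunctor.hom_ext fun p q hpq => ?_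
    have hpq' : p + q = n := hpq
    by_cases hn : n < a
    · exact (hR n hn).eq_of_tgt _ _
    · refine IsZero.eq_of_src ?_ _ _
      by_cases hp : i < p
      · exact ((DCoh.tensorBi (X := X)).flip.obj (N.X q)).map_isZero
          (CochainComplex.isZero_of_isStrictlyLE (T.truncLE i) i p hp)
      · exact ((DCoh.tensorBi (X := X)).obj ((T.truncLE i).X p)).map_isZero (hN q (by omega))
  haveI : IsIso (HomologicalComplex.homologyMap (T.ιTruncLE i) i) :=
    (quasiIsoAt_iff_isIso_homologyMap _ _).1 inferInstance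
  rw [IsZero.iff_id_eq_zero, ← cancel_epi (HomologicalComplex.homologyMap (T.ιTruncLE i) i)]
  simp [h0]

/-- A map of complexes which is locally a strictly perfect approximation. -/
theorem exists_local_free_miso {P : CochainComplex X.Modules ℤ} {m : ℤ}
    (h : DCoh.IsPseudoCoherentD m (DerivedCategory.Q.obj P)) (x : X) :
    ∃ V : X.Opens, x ∈ V ∧ ∃ (E : CochainComplex (V : Scheme.{u}).Modules ℤ) (β : E ⟶ (resCx V.ι).obj P),
      MIso m (DerivedCategory.Q.map β) ∧ DCoh.IsStrictlyPerfect E ∧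
        ∀ i : ℤ, ∃ n : ℕ, Nonempty (E.X i ≅ FlatMod.freeMod (V : Scheme.{u}) n) := by
  obtain ⟨V₀, hx, E₀, α₀, hE₀, hα₀⟩ := (isPseudoCoherentD_iff m _).1 h x
  obtain ⟨W₁, hW₁, hfree₁⟩ := exists_open_free hE₀ ⟨x, hx⟩
  let E₁ := (resCx W₁.ι).obj E₀
  obtain ⟨a, b, hab⟩ := hE₀.1
  have hE₁ : DCoh.IsStrictlyPerfect E₁ := ⟨⟨a, b, fun i hi => isZero_resCx W₁.ι (hab i hi)⟩, fun i => by
    obtain ⟨n, ⟨e⟩⟩ := hfree₁ i
    exact isFinLocFree_iso e.symm (isFinLocFree_freeMod n)⟩
  let P₁ := (resCx W₁.ι).obj ((resCx V₀.ι).obj P)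
  let φ : DCoh.toD _ E₁ ⟶ DCoh.toD _ P₁ := (restrictDQ W₁.ι E₀).inv ≫
    (DCoh.restrictD W₁.ι).map (α₀ ≫ (restrictDQ V₀.ι P).hom) ≫ (restrictDQ W₁.ι _).hom
  have hφ : MIso m φ := (mIso_of_isIso m _).comp
    (((hα₀.comp (mIso_of_isIso m _)).restrict W₁.ι).comp (mIso_of_isIso m _))
  obtain ⟨W, hW, β₀, hβ⟩ := exists_open_represent hE₁ φ ⟨⟨x, hx⟩, hW₁⟩
  have hβ₀ : MIso m (DerivedCategory.Q.map β₀) := by
    have h4 := hφ.restrict W.ι
    rw [hβ] at h4
    have := ((mIso_of_isIso m (restrictDQ W.ι E₁).inv).comp h4).comp (mIso_of_isIso m (restrictDQ W.ι P₁).hom)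
    simpa [restrictDQ, DCoh.restrictCx] using this
  let j : (W : Scheme.{u}) ⟶ X := W.ι ≫ W₁.ι ≫ V₀.ι
  let r := j.isoOpensRange.inv
  let ρ : resCx V₀.ι ⋙ resCx W₁.ι ⋙ resCx W.ι ⋙ resCx r ≅ resCx j.opensRange.ι :=
    NatIso.mapHomologicalComplex
      (Functor.isoWhiskerLeft _ (Functor.isoWhiskerLeft _ (Scheme.Modules.restrictFunctorComp r W.ι).symm) ≪≫
        Functor.isoWhiskerLeft _ (Scheme.Modules.restrictFunctorComp (r ≫ W.ι) W₁.ι).symm ≪≫
        (Scheme.Modules.restrictFunctorComp ((r ≫ W.ι) ≫ W₁.ι) V₀.ι).symm ≪≫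
        Scheme.Modules.restrictFunctorCongr (by simp only [r, Category.assoc]; exact j.isoOpensRange_inv_comp))
      (ComplexShape.up ℤ)
  refine ⟨j.opensRange, ⟨⟨⟨⟨x, hx⟩, hW₁⟩, hW⟩, rfl⟩, (resCx r).obj ((resCx W.ι).obj E₁),
    (resCx r).map β₀ ≫ ρ.hom.app P, ?_, ?_⟩
  · rw [DerivedCategory.Q.map_comp]
    refine MIso.comp ?_ (mIso_of_isIso m _)
    have h5 := ((mIso_of_isIso m (restrictDQ r _).inv).comp (hβ₀.restrict r)).comp
      (mIso_of_isIso m (restrictDQ r _).hom)
    have e5 : ((restrictDQ r ((resCx W.ι).obj E₁)).inv ≫ (DCoh.restrictD r).map (DerivedCategory.Q.map β₀)) ≫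
        (restrictDQ r _).hom = DerivedCategory.Q.map ((resCx r).map β₀) :=
      NatIso.naturality_1 (Scheme.Modules.restrictFunctor r).mapDerivedCategoryFactors β₀ |> fun h =>
        (Category.assoc _ _ _).trans h
    rw [← e5]
    exact h5
  · have hfree' : ∀ i : ℤ, ∃ n : ℕ,
        Nonempty (((resCx r).obj ((resCx W.ι).obj E₁)).X i ≅ FlatMod.freeMod (j.opensRange : Scheme.{u}) n) :=
      fun i => by
        obtain ⟨n, ⟨e⟩⟩ := hfree₁ i
        exact ⟨n, ⟨(Scheme.Modules.restrictFunctor r).mapIso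
          ((Scheme.Modules.restrictFunctor W.ι).mapIso e ≪≫ restrictFreeMod W.ι n) ≪≫ restrictFreeMod r n⟩⟩
    refine ⟨⟨⟨a, b, fun i hi => isZero_resCx r (isZero_resCx W.ι (isZero_resCx W₁.ι (hab i hi)))⟩, fun i => ?_⟩, hfree'⟩
    obtain ⟨n, ⟨e⟩⟩ := hfree' i
    exact isFinLocFree_iso e.symm (isFinLocFree_freeMod n)

/-- Locally, cohomology of an internal Hom complex is that of an extension by zero of finite free modules. -/
theorem exists_local_homology_iso (K : CochainComplex X.Modules ℤ) (hK : DCoh.IsKFlat K) (m a : ℤ)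
    (hpc : DCoh.IsPseudoCoherentD m (DerivedCategory.Q.obj K)) (R : CochainComplex X.Modules ℤ) [R.IsKInjective]
    (hR : ∀ n, n < a → IsZero (R.X n)) (j : ℤ) (hj : j < a - m) (x : X) :
    ∃ V : X.Opens, x ∈ V ∧ ∃ (E : CochainComplex (V : Scheme.{u}).Modules ℤ) (c d : ℤ),
      DCoh.VanishesOutside E c d ∧ (∀ i : ℤ, ∃ n : ℕ, Nonempty (E.X i ≅ FlatMod.freeMod (V : Scheme.{u}) n)) ∧
      Nonempty ((Scheme.Modules.restrictFunctor V.ι).obj (((hCx K).obj R).homology j) ≅
        ((resCx V.ι).obj ((hCx ((extCx V).obj E)).obj R)).homology (j + 1)) := by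
  obtain ⟨V, hx, E, β, hβ, hE, hfree⟩ := exists_local_free_miso hpc x
  let φ := extAdjunct V β
  let C := CochainComplex.mappingCone φ
  have hE' : DCoh.IsKFlat ((extCx V).obj E) := isKFlat_extCx V (isKFlat_of_strictlyPerfect hE)
  have hC : DCoh.IsKFlat C := isKFlat_cone φ hE' hK
  -- the cone is concentrated in degrees `< m` over the open
  have hC0 : ∀ i, m ≤ i → IsZero (((resCx V.ι).obj C).homology i) := by
    have hβ' : MIso m (DerivedCategory.Q.map ((resCx V.ι).map φ)) := by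
      have e : (resCx V.ι).map φ = (extUnit V E).inv ≫ β := HomologicalComplex.hom_ext _ _ fun n => by
        haveI := isIso_extUnit V (E.X n)
        show (Scheme.Modules.restrictFunctor V.ι).map (((CxOX.extZeroAdj V.ι).homEquiv _ _).symm (β.f n)) =
          (asIso ((CxOX.extZeroAdj V.ι).unit.app (E.X n))).inv ≫ β.f n
        refine (IsIso.eq_inv_comp _).2 ?_
        exact ((CxOX.extZeroAdj V.ι).homEquiv_unit _ _ _).symm.trans (Equiv.apply_symm_apply _ _)
      rw [e, DerivedCategory.Q.map_comp]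
      exact (mIso_of_isIso m _).comp hβ
    have h := MIso.cone _ (DerivedCategory.mappingCone_triangle_distinguished ((resCx V.ι).map φ)) hβ'
    intro i hi
    exact ((h i hi).of_iso ((DerivedCategory.homologyFunctorFactors _ i).app _).symm).of_iso
      ((HomologicalComplex.homologyFunctor _ _ i).mapIso
        (CochainComplex.mappingCone.mapHomologicalComplexIso φ (Scheme.Modules.restrictFunctor V.ι)))
  -- a flat model of the cone in degrees `< m`
  obtain ⟨N, c, hc, hN, hNb⟩ : ∃ (N : CochainComplex X.Modules ℤ) (c : N ⟶ C.truncLE (m - 1)), QuasiIso c ∧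
      (∀ n, ModSite.IsFlat (O := X.sheaf) (N.X n)) ∧ ∀ n, m - 1 < n → IsZero (N.X n) :=
    exists_bdd_flat_resolution X.sheaf (C.truncLE (m - 1)) (m - 1)
      (fun n hn => CochainComplex.isZero_of_isStrictlyLE (C.truncLE (m - 1)) (m - 1) n hn)
  have hNK : DCoh.IsKFlat N := isKFlat_of_flat_bddAbove N (m - 1) hNb fun n => (isFlat_iff _).2 (hN n)
  have hγ : QuasiIso ((resCx V.ι).map (c ≫ C.ιTruncLE (m - 1))) := by
    haveI : QuasiIso ((resCx V.ι).map c) := inferInstance
    haveI : QuasiIso ((resCx V.ι).map (C.ιTruncLE (m - 1))) := ⟨fun i => by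
      rcases lt_or_ge i m with hi | hi
      · haveI := CochainComplex.quasiIsoAt_ιTruncLE C (m - 1) i (by omega)
        infer_instance
      · refine (quasiIsoAt_iff_isIso_homologyMap _ _).2 ⟨0, ?_, (hC0 i hi).eq_of_src _ _⟩
        refine IsZero.eq_of_src ?_ _ _
        exact ShortComplex.isZero_homology_of_isZero_X₂ _ (isZero_resCx V.ι
          (CochainComplex.isZero_of_isStrictlyLE (C.truncLE (m - 1)) (m - 1) i (by omega)))⟩
    rw [Functor.map_comp]
    infer_instance
  have hvan : ∀ i, i ≤ a - m → IsZero (((resCx V.ι).obj ((hCx C).obj R)).homology i) := fun i hi => by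
    haveI := quasiIso_res_hMap (c ≫ C.ιTruncLE (m - 1)) hNK hC hγ R
    refine IsZero.of_iso ?_ (isoOfQuasiIsoAt ((resCx V.ι).map ((hMap (c ≫ C.ιTruncLE (m - 1))).app R)) i)
    exact ((Scheme.Modules.restrictFunctor V.ι).map_isZero
      (isZero_homology_hCx N R (m - 1) a hNb hR i (by omega))).of_iso
        ((((hCx N).obj R).sc i).mapHomologyIso (Scheme.Modules.restrictFunctor V.ι))
  -- the shifted extension
  obtain ⟨⟨c₀, d₀, hcd⟩, -⟩ := id hE
  let s : (extCx V).obj (E⟦(1 : ℤ)⟧) ≅ ((extCx V).obj E)⟦(1 : ℤ)⟧ :=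
    ((CxOX.extZero V.ι).mapHomologicalComplex (ComplexShape.up ℤ)).commShiftIso (1 : ℤ) |>.app E
  have hs := isIso_hMap s R
  let S := CochainComplex.mappingCone.triangleRotateShortComplex φ
  have hS := shortExact_res (V := V) (shortExact_hSeq
    (S := S) (CochainComplex.mappingCone.triangleRotateShortComplexSplitting φ) R)
  have hδ : IsIso (hS.δ j (j + 1) rfl) :=
    hS.isIso_δ j (j + 1) rfl (hvan j (by omega)) (hvan (j + 1) (by omega))
  let e := ((((hCx K).obj R).sc j).mapHomologyIso (Scheme.Modules.restrictFunctor V.ι)).symm ≪≫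
      @asIso _ _ _ _ _ hδ ≪≫
      (HomologicalComplex.homologyFunctor _ _ (j + 1)).mapIso
        ((resCx V.ι).mapIso (@asIso _ _ _ _ _ hs))
  exact ⟨V, hx, E⟦(1 : ℤ)⟧, c₀ - 1, d₀ - 1, fun i hi => hcd (i + 1) (by omega), fun i => hfree (i + 1), ⟨e⟩⟩

/-- Quasi-coherence of one cohomology sheaf of the internal Hom complex. -/
theorem isQCoh_homology_hCx (K : CochainComplex X.Modules ℤ) (hK : DCoh.IsKFlat K) (m a : ℤ)
    (hpc : DCoh.IsPseudoCoherentD m (DerivedCategory.Q.obj K)) (R : CochainComplex X.Modules ℤ) [R.IsKInjective]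
    (hR : ∀ n, n < a → IsZero (R.X n)) (hRq : DCoh.IsQCohD (DerivedCategory.Q.obj R)) (j : ℤ)
    (hj : j < a - m) : Coh.IsQCoh (((hCx K).obj R).homology j) := by
  refine isQCoh_of_local fun x => ?_
  obtain ⟨V, hx, E, c, d, hcd, hfree, ⟨e⟩⟩ := exists_local_homology_iso K hK m a hpc R hR j hj x
  exact ⟨V, hx, isQCoh_of_iso' e.symm (isQCoh_of_iso' ((DerivedCategory.homologyFunctorFactors _ (j + 1)).app _)
    ((qGood_freeClosed V R hRq).of_free (E := E) hcd hfree (j + 1)))⟩

/-- Derived internal Hom out of a pseudo-coherent complex. -/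
theorem isQCoh_HD_rSheafHom (K : CochainComplex X.Modules ℤ) [DCoh.HasLTensorCx K] [DCoh.HasRSheafHom K]
    (m a : ℤ) (hpc : DCoh.IsPseudoCoherentD m (DCoh.toD X K)) (L : DCoh.D X) (hL : DCoh.IsQCohD L)
    [L.IsGE a] (j : ℤ) (hj : j < a - m) : Coh.IsQCoh (DCoh.HD ((DCoh.RSheafHom K).obj L) j) := by
  let F := DerivedCategory.Q.objPreimage L
  let eF : DerivedCategory.Q.obj F ≅ L := DerivedCategory.Q.objObjPreimageIso L
  haveI : F.IsGE a := by
    rw [← DerivedCategory.isGE_Q_obj_iff]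
    exact DerivedCategory.TStructure.t.isGE_of_iso eF.symm a
  haveI : QuasiIso (F.πTruncGE a) := (F.quasiIso_πTruncGE_iff a).mpr inferInstance
  obtain ⟨R, ι, hι, hRi, hRge⟩ := CochainComplex.Plus.modelCategoryQuillen.exists_quasiIso_injective
    (F.truncGE a) a
  haveI := hι
  haveI := hRge
  haveI : ∀ n, Injective (R.X n) := hRi
  haveI : R.IsKInjective := CochainComplex.isKInjective_of_injective R a
  haveI : IsIso (DerivedCategory.Q.map (F.πTruncGE a ≫ ι)) :=
    (DerivedCategory.isIso_Q_map_iff_quasiIso (C := X.Modules) _).2 inferInstance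
  let eR : DerivedCategory.Q.obj R ≅ L := (asIso (DerivedCategory.Q.map (F.πTruncGE a ≫ ι))).symm ≪≫ eF
  let K' := (resX X).obj K
  haveI : IsIso (DerivedCategory.Q.map ((resXπ X).app K)) := isIso_Q_resXπ K
  have hK'f : DCoh.IsKFlat K' := isKFlat_resX K
  haveI := hasRSheafHom_of_isKFlat K' hK'f
  obtain ⟨t⟩ := nonempty_lTensor_of_qis ((resXπ X).app K) (quasiIso_resXπ K)
  let u : DCoh.RSheafHom K' ≅ DCoh.RSheafHom K :=
    (DCoh.RSheafHomAdj K').rightAdjointUniq ((DCoh.RSheafHomAdj K).ofNatIsoLeft t.symm)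
  obtain ⟨e⟩ := nonempty_rSheafHom_hCx K' hK'f R
  have hpc' : DCoh.IsPseudoCoherentD m (DerivedCategory.Q.obj K') :=
    (isPseudoCoherentD_iff m _).2 fun x =>
      let ⟨V, hx, hV⟩ := (isPseudoCoherentD_iff m _).1 hpc x
      ⟨V, hx, hV.of_iso ((DCoh.restrictD V.ι).mapIso (asIso (DerivedCategory.Q.map ((resXπ X).app K))).symm)⟩
  refine isQCoh_of_iso' (((DerivedCategory.homologyFunctorFactors _ j).app _).symm ≪≫
    (DerivedCategory.homologyFunctor X.Modules j).mapIso (e ≪≫ (DCoh.RSheafHom K').mapIso eR ≪≫ u.app L))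
    (isQCoh_homology_hCx K' hK'f m a hpc' R (fun n hn => CochainComplex.isZero_of_isStrictlyGE R a n hn)
      (TildeD.isQCohD_of_iso eR.symm hL) j hj)

end Groth.Agent.DCohMore
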