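import Groth.Agent.DCohMore.BCCore
import Mathlib.CategoryTheory.EssentialImage

/-!
# Changing the direct image functors; equivalences
-/

set_option autoImplicit false
set_option linter.style.haveILetI false
set_option linter.unusedSectionVars false

noncomputable section

namespace Groth.Agent.DCohMore.BC

open CategoryTheory

variable {X S X' S' : Type*} [Category X] [Category S] [Category X'] [Category S']
  {Rf : X ⥤ S} {Rf' : X' ⥤ S'} {Rg : S' ⥤ S} {Rg' : X' ⥤ X} {Lg : S ⥤ S'} {Lg' : X ⥤ X'}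

/-- The transform after replacing the direct images by isomorphic functors. -/
theorem isIso_bc_congr {Rf₂ : X ⥤ S} {Rf₂' : X' ⥤ S'} (adjg : Lg ⊣ Rg) (adjg' : Lg' ⊣ Rg') (b : Rf ≅ Rf₂)
    (b' : Rf' ≅ Rf₂') (e : Rg' ⋙ Rf ≅ Rf' ⋙ Rg) (K : X)
    (h : IsIso ((bc adjg adjg'
      (Functor.isoWhiskerLeft Rg' b.symm ≪≫ e ≪≫ Functor.isoWhiskerRight b' Rg)).app K)) :
    IsIso ((bc adjg adjg' e).app K) := by
  have key : (bc adjg adjg' (Functor.isoWhiskerLeft Rg' b.symm ≪≫ e ≪≫ Functor.isoWhiskerRight b' Rg)).app K =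
      Lg.map (b.inv.app K) ≫ (bc adjg adjg' e).app K ≫ b'.hom.app (Lg'.obj K) := by
    refine bc_unique adjg adjg' _ K _ ?_
    have h1 := b.inv.naturality (adjg'.unit.app K)
    simp only [Functor.id_obj, Functor.comp_obj] at h1
    simp only [Functor.map_comp, Iso.trans_hom, NatTrans.comp_app, Functor.isoWhiskerLeft_hom, Iso.symm_hom,
      Functor.whiskerLeft_app, Functor.isoWhiskerRight_hom, Functor.whiskerRight_app]
    rw [reassoc_of% h1]
    erw [Adjunction.unit_naturality_assoc]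
    rw [reassoc_of% (unit_bc adjg adjg' e K)]
  rw [key] at h
  exact (isIso_comp_right_iff _ (b'.hom.app (Lg'.obj K))).1 ((isIso_comp_left_iff (Lg.map (b.inv.app K)) _).1 h)

/-- The transform when both direct images are equivalences. -/
theorem isIso_bc_of_equiv [Rf.Full] [Rf.Faithful] [Rf'.Full] [Rf'.Faithful] [Rf'.EssSurj] (adjg : Lg ⊣ Rg)
    (adjg' : Lg' ⊣ Rg') (e : Rg' ⋙ Rf ≅ Rf' ⋙ Rg) (K : X) : IsIso ((bc adjg adjg' e).app K) := by
  have hu : ∀ (P : X) (v : Rf.obj K ⟶ Rf.obj P), ∃ h : K ⟶ P, v = 𝟙 (Rf.obj K) ≫ Rf.map h :=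
    fun P v => ⟨Rf.preimage v, by simp⟩
  let P := Rf'.objPreimage (Lg.obj (Rf.obj K))
  let eP : Rf'.obj P ≅ Lg.obj (Rf.obj K) := Rf'.objObjPreimageIso _
  obtain ⟨h, hh⟩ := exists_factor_bc adjg adjg' e (𝟙 (Rf.obj K)) hu P eP.inv
  rw [CategoryTheory.Functor.map_id, Category.id_comp] at hh
  have hl : (bc adjg adjg' e).app K ≫ Rf'.map h ≫ eP.hom = 𝟙 _ := by
    rw [← Category.assoc, ← hh, eP.inv_hom_id]
    rfl
  have huniq : ∀ a b : Lg'.obj K ⟶ Lg'.obj K,
      (bc adjg adjg' e).app K ≫ Rf'.map a = (bc adjg adjg' e).app K ≫ Rf'.map b → a = b := by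
    intro a b hab
    apply (adjg'.homEquiv _ _).injective
    apply Rf.map_injective
    have := congrArg (fun m => adjg.unit.app (Rf.obj K) ≫ Rg.map m) hab
    simp only [Functor.map_comp, reassoc_of% (unit_bc adjg adjg' e K)] at this
    have na := e.hom.naturality a
    have nb := e.hom.naturality b
    simp only [Functor.comp_map] at na nb
    rw [← na, ← nb, ← Rf.map_comp_assoc, ← Rf.map_comp_assoc, cancel_mono] at this
    rwa [Adjunction.homEquiv_unit, Adjunction.homEquiv_unit]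
  refine ⟨Rf'.map h ≫ eP.hom, hl, ?_⟩
  obtain ⟨q, hq⟩ := Rf'.map_surjective ((Rf'.map h ≫ eP.hom) ≫ (bc adjg adjg' e).app K)
  have : q = 𝟙 _ := huniq _ _ (by
    rw [hq, ← Category.assoc, hl, Category.id_comp, CategoryTheory.Functor.map_id]
    exact (Category.comp_id _).symm)
  rw [← hq, this]
  exact Rf'.map_id _

end Groth.Agent.DCohMore.BC
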