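import Groth.Agent.TildeLpull.Adapted
import Groth.Agent.FlatCx.TorBC
import Groth.Agent.CancelLib.Relative
import Groth.Agent.TorLib.Basic
import Groth.Agent.TorLib.Symm

import Mathlib.AlgebraicGeometry.Morphisms.Flat

/-!
# Tor-independence on affine charts given by open immersions
-/

set_option autoImplicit false
set_option linter.style.haveILetI false
set_option linter.unusedSectionVars false
set_option backward.isDefEq.respectTransparency false

universe u

open CategoryTheory Limits AlgebraicGeometry TopologicalSpace TensorProduct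

noncomputable section

namespace Groth.Agent.DCohMore.BC

/-- Tor-independence, on all affine charts. -/
def TI {X S S' : Scheme.{u}} (f : X ⟶ S) (g : S' ⟶ S) : Prop :=
  ∀ {R A B : Type u} [CommRing R] [CommRing A] [CommRing B] (s : Spec (CommRingCat.of R) ⟶ S) [IsOpenImmersion s]
    (a : Spec (CommRingCat.of A) ⟶ X) [IsOpenImmersion a] (b : Spec (CommRingCat.of B) ⟶ S') [IsOpenImmersion b]
    (φ : R →+* A) (ψ : R →+* B), a ≫ f = TildeLpull.specMap φ ≫ s → b ≫ g = TildeLpull.specMap ψ ≫ s →
    ∀ i : ℕ, 0 < i → Subsingleton (@DRing.Tor R _ i B A _ ψ.toModule _ φ.toModule)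

variable {X S S' : Scheme.{u}} {f : X ⟶ S} {g : S' ⟶ S}

theorem TI.mono (h : TI f g) {W XW W' : Scheme.{u}} (k : W ⟶ S) [IsOpenImmersion k] (k' : XW ⟶ X) [IsOpenImmersion k']
    (i : W' ⟶ S') [IsOpenImmersion i] {fW : XW ⟶ W} {gW : W' ⟶ W} (hk : k' ≫ f = fW ≫ k) (hi : i ≫ g = gW ≫ k) :
    TI fW gW := fun {R A B} _ _ _ s _ a _ b _ φ ψ hφ hψ =>
  h (s ≫ k) (a ≫ k') (b ≫ i) φ ψ (by rw [Category.assoc, hk, reassoc_of% hφ])
    (by rw [Category.assoc, hi, reassoc_of% hψ])

section Transfer

variable {A A' : Type u} [CommRing A] [CommRing A'] [Algebra A A']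

/-- Modules over an isomorphic ring. -/
def lidOfBijective (hb : Function.Bijective (algebraMap A A')) (M : Type u) [AddCommGroup M] [Module A M]
    [Module A' M] [IsScalarTower A A' M] : A' ⊗[A] M ≃ₗ[A'] M where
  __ := LinearMap.liftBaseChange A' (LinearMap.id : M →ₗ[A] M)
  invFun m := 1 ⊗ₜ m
  left_inv x := by
    induction x using TensorProduct.induction_on with
    | zero => simp
    | tmul a' m =>
      obtain ⟨a, rfl⟩ := hb.2 a'
      simp [Algebra.algebraMap_eq_smul_one, TensorProduct.smul_tmul]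
    | add x y hx hy =>
      simp only [AddHom.toFun_eq_coe, LinearMap.coe_toAddHom] at hx hy ⊢
      rw [map_add, TensorProduct.tmul_add, hx, hy]
  right_inv m := by simp

theorem subsingleton_tor_of_bijective (hb : Function.Bijective (algebraMap A A')) (P Q : Type u)
    [AddCommGroup P] [Module A P] [Module A' P] [IsScalarTower A A' P]
    [AddCommGroup Q] [Module A Q] [Module A' Q] [IsScalarTower A A' Q] (n : ℕ)
    (h : Subsingleton (DRing.Tor A n P Q)) : Subsingleton (DRing.Tor A' n P Q) := by
  haveI : Module.Flat A A' := Module.Flat.of_linearEquiv (LinearEquiv.ofBijective (Algebra.linearMap A A') hb).symm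
  obtain ⟨e⟩ := FlatCx.tor_baseChange (A := A) (B := A') P Q n
  haveI : Subsingleton (A' ⊗[A] DRing.Tor A n P Q) := subsingleton_of_forall_eq 0 fun x => by
    induction x using TensorProduct.induction_on with
    | zero => rfl
    | tmul a t => rw [Subsingleton.elim t 0, tmul_zero]
    | add x y hx hy => rw [hx, hy, add_zero]
  haveI := e.symm.toEquiv.subsingleton
  exact (FlatCx.torCongr (lidOfBijective hb P).toModuleIso (lidOfBijective hb Q).toModuleIso n).toLinearEquiv.symm.toEquiv.subsingleton

end Transfer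

/-- The chart attached to an open immersion of an affine scheme. -/
def chartHom {Y : Scheme.{u}} {A : Type u} [CommRing A] (a : Spec (CommRingCat.of A) ⟶ Y) [IsOpenImmersion a] :
    Γ(Y, a.opensRange) ⟶ CommRingCat.of A :=
  a.appLE a.opensRange ⊤ a.preimage_opensRange.ge ≫ (Scheme.ΓSpecIso _).hom

theorem chartHom_bijective {Y : Scheme.{u}} {A : Type u} [CommRing A] (a : Spec (CommRingCat.of A) ⟶ Y)
    [IsOpenImmersion a] : Function.Bijective (chartHom a) := by
  haveI : IsIso (a.appLE a.opensRange ⊤ a.preimage_opensRange.ge) := by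
    haveI := a.isIso_app a.opensRange le_rfl
    rw [Scheme.Hom.appLE,
      show homOfLE a.preimage_opensRange.ge = eqToHom a.preimage_opensRange.symm from Subsingleton.elim _ _,
      eqToHom_op]
    infer_instance
  exact ConcreteCategory.bijective_of_isIso
    (a.appLE a.opensRange ⊤ a.preimage_opensRange.ge ≫ (Scheme.ΓSpecIso (CommRingCat.of A)).hom)

theorem chartHom_comp {Y Z : Scheme.{u}} {R A : Type u} [CommRing R] [CommRing A]
    (s : Spec (CommRingCat.of R) ⟶ Z) [IsOpenImmersion s] (a : Spec (CommRingCat.of A) ⟶ Y) [IsOpenImmersion a]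
    (h : Y ⟶ Z) (φ : R →+* A) (hφ : a ≫ h = TildeLpull.specMap φ ≫ s) (hle : a.opensRange ≤ h ⁻¹ᵁ s.opensRange) :
    h.appLE _ _ hle ≫ chartHom a = chartHom s ≫ CommRingCat.ofHom φ := by
  rw [chartHom, chartHom, ← Category.assoc, Scheme.Hom.appLE_comp_appLE, Category.assoc,
    ← Scheme.ΓSpecIso_naturality (CommRingCat.ofHom φ), ← Category.assoc]
  refine congrArg (· ≫ (Scheme.ΓSpecIso _).hom) ?_
  rw [Scheme.Hom.appTop, Scheme.Hom.app_eq_appLE, Scheme.Hom.appLE_comp_appLE]
  simp only [hφ]
  rfl

/-- The usual form of tor-independence gives it on all charts. -/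
theorem TI.of_appLE
    (htor : ∀ (U : S.Opens), IsAffineOpen U → ∀ (U' : S'.Opens), IsAffineOpen U' → ∀ (hU' : U' ≤ g ⁻¹ᵁ U)
      (V : X.Opens), IsAffineOpen V → ∀ (hV : V ≤ f ⁻¹ᵁ U) (i : ℕ), 0 < i →
      Subsingleton (@DRing.Tor Γ(S, U) _ i Γ(S', U') Γ(X, V) _ (g.appLE U U' hU').hom.toModule _
        (f.appLE U V hV).hom.toModule)) : TI f g := by
  intro R A B _ _ _ s _ a _ b _ φ ψ hφ hψ i hi
  have hV : a.opensRange ≤ f ⁻¹ᵁ s.opensRange := by
    rintro _ ⟨x, rfl⟩
    exact ⟨TildeLpull.specMap φ x, by rw [← Scheme.Hom.comp_apply, ← hφ, Scheme.Hom.comp_apply]⟩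
  have hU' : b.opensRange ≤ g ⁻¹ᵁ s.opensRange := by
    rintro _ ⟨x, rfl⟩
    exact ⟨TildeLpull.specMap ψ x, by rw [← Scheme.Hom.comp_apply, ← hψ, Scheme.Hom.comp_apply]⟩
  have h := htor _ (isAffineOpen_opensRange s) _ (isAffineOpen_opensRange b) hU' _ (isAffineOpen_opensRange a) hV i hi
  letI : Algebra Γ(S, s.opensRange) R := (chartHom s).hom.toAlgebra
  letI : Module R A := φ.toModule
  letI : Module R B := ψ.toModule
  letI : Module Γ(S, s.opensRange) A := Module.compHom A (chartHom s).hom
  letI : Module Γ(S, s.opensRange) B := Module.compHom B (chartHom s).hom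
  haveI : IsScalarTower Γ(S, s.opensRange) R A := .of_algebraMap_smul fun _ _ => rfl
  haveI : IsScalarTower Γ(S, s.opensRange) R B := .of_algebraMap_smul fun _ _ => rfl
  letI : Module Γ(S, s.opensRange) Γ(X, a.opensRange) := (f.appLE _ _ hV).hom.toModule
  letI : Module Γ(S, s.opensRange) Γ(S', b.opensRange) := (g.appLE _ _ hU').hom.toModule
  let eA : Γ(X, a.opensRange) ≃ₗ[Γ(S, s.opensRange)] A :=
    { __ := RingEquiv.ofBijective (chartHom a).hom (chartHom_bijective a)
      map_smul' := fun r x => by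
        show chartHom a (f.appLE _ _ hV r * x) = φ (chartHom s r) * chartHom a x
        rw [map_mul]
        exact congrArg (· * _) (congr($(chartHom_comp s a f φ hφ hV) r)) }
  let eB : Γ(S', b.opensRange) ≃ₗ[Γ(S, s.opensRange)] B :=
    { __ := RingEquiv.ofBijective (chartHom b).hom (chartHom_bijective b)
      map_smul' := fun r x => by
        show chartHom b (g.appLE _ _ hU' r * x) = ψ (chartHom s r) * chartHom b x
        rw [map_mul]
        exact congrArg (· * _) (congr($(chartHom_comp s b g ψ hψ hU') r)) }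
  refine subsingleton_tor_of_bijective (A := Γ(S, s.opensRange)) (chartHom_bijective s) B A i ?_
  haveI := h
  exact (FlatCx.torCongr eB.toModuleIso eA.toModuleIso i).toLinearEquiv.symm.toEquiv.subsingleton

/-- A flat base change is tor-independent of everything. -/
theorem TI.of_flat [Flat g] : TI f g := by
  intro R A B _ _ _ s _ a _ b _ φ ψ _ hψ i hi
  letI : Module R B := ψ.toModule
  letI : Module R A := φ.toModule
  haveI : Flat (TildeLpull.specMap ψ ≫ s) := by rw [← hψ]; infer_instance
  haveI : Flat (TildeLpull.specMap ψ) :=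
    MorphismProperty.of_isPullback (P := @Flat)
      (IsPullback.of_horiz_isIso_mono (fst := 𝟙 _) (snd := TildeLpull.specMap ψ) (f := TildeLpull.specMap ψ ≫ s) (g := s) ⟨by simp⟩)
      inferInstance
  have hflat : ψ.Flat := (HasRingHomProperty.Spec_iff (P := @Flat)).1 ‹Flat (TildeLpull.specMap ψ)›
  haveI : Module.Flat R B := hflat
  obtain ⟨P⟩ := (inferInstance : HasProjectiveResolution (ModuleCat.of R A)).out
  refine ModuleCat.subsingleton_of_isZero
    (IsZero.of_iso ?_ (P.isoLeftDerivedObj (MonoidalCategory.tensorLeft (ModuleCat.of R B)) i))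
  rw [HomologicalComplex.homologyFunctor_obj, ← HomologicalComplex.exactAt_iff_isZero_homology]
  obtain ⟨n, rfl⟩ : ∃ n, i = n + 1 := ⟨i - 1, by omega⟩
  rw [HomologicalComplex.exactAt_iff' _ (n + 2) (n + 1) n (by simp) (by simp)]
  rw [ShortComplex.ShortExact.moduleCat_exact_iff_function_exact]
  exact Module.Flat.lTensor_exact B ((ShortComplex.ShortExact.moduleCat_exact_iff_function_exact _).1 (P.exact_succ n))

/-- A flat morphism is tor-independent of everything. -/
theorem TI.of_flat_left [Flat f] : TI f g := by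
  intro R A B _ _ _ s _ a _ b _ φ ψ hφ _ i hi
  letI : Module R B := ψ.toModule
  letI : Module R A := φ.toModule
  haveI : Flat (TildeLpull.specMap φ ≫ s) := by rw [← hφ]; infer_instance
  haveI : Flat (TildeLpull.specMap φ) :=
    MorphismProperty.of_isPullback (P := @Flat)
      (IsPullback.of_horiz_isIso_mono (fst := 𝟙 _) (snd := TildeLpull.specMap φ) (f := TildeLpull.specMap φ ≫ s) (g := s) ⟨by simp⟩)
      inferInstance
  have hflat : φ.Flat := (HasRingHomProperty.Spec_iff (P := @Flat)).1 ‹Flat (TildeLpull.specMap φ)›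
  haveI : Module.Flat R A := hflat
  obtain ⟨n, rfl⟩ : ∃ n, i = n + 1 := ⟨i - 1, by omega⟩
  obtain ⟨e⟩ := TorLib.tor_symm (A := R) (n + 1) B A
  haveI := TorLib.subsingleton_tor_of_flat (A := R) A B n
  exact e.toEquiv.subsingleton

end Groth.Agent.DCohMore.BC
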