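import Groth.Agent.DCohMore.CompactPerf
import Groth.Agent.DCohMore.RpushQC
import Groth.Agent.DCohMore.AffinePushPC

/-!
# Quasi-coherent objects are built from direct images from affine opens
-/

set_option autoImplicit false
set_option linter.style.haveILetI false
set_option linter.unusedSectionVars false
set_option backward.isDefEq.respectTransparency false

universe u

open CategoryTheory Limits AlgebraicGeometry Pretriangulated ZeroObject TopologicalSpace
attribute [local instance] HasDerivedCategory.standard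

noncomputable section

namespace Groth.Agent.DCohMore

open Groth.Agent.DCohLib

variable {X : Scheme.{u}}

theorem isZero_of_cover {ι : Type*} (V : ι → X.Opens) (h : ∀ x : X, ∃ i, x ∈ V i) {K : DCoh.D X}
    (hK : ∀ i, IsZero ((DCoh.restrictD (V i).ι).obj K)) : IsZero K :=
  isZero_of_isZero_HD fun n => isZero_of_local fun x => by
    obtain ⟨i, hi⟩ := h x
    exact ⟨_, (V i).ι, inferInstance, ⟨x, hi⟩, rfl, ((DerivedCategory.homologyFunctor _ n).map_isZero (hK i)).of_iso
      (restrictHDIso (V i).ι K n).symm⟩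

/-- Dévissage of quasi-coherent objects over a finite affine cover. -/
theorem qcoh_devissage [CompactSpace X] [QuasiSeparatedSpace X] (P : DCoh.D X → Prop)
    (hzero : ∀ K, IsZero K → P K)
    (hext : ∀ T ∈ distTriang (DCoh.D X), P T.obj₂ → P T.obj₃ → P T.obj₁)
    (hpush : ∀ (U : X.Opens), IsAffineOpen U → ∀ [DCoh.HasRpush U.ι] (N : DCoh.D (U : Scheme.{u})),
      DCoh.IsQCohD N → P ((DCoh.Rpush U.ι).obj N))
    (K : DCoh.D X) (hK : DCoh.IsQCohD K) : P K := by
  obtain ⟨s, hs⟩ := isCompact_univ.elim_finite_subcover (fun V : X.affineOpens => ((V.1 : X.Opens) : Set X))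
    (fun V => V.1.2) (fun x _ => by
      obtain ⟨_, ⟨V : X.Opens, hV, rfl⟩, hx, -⟩ :=
        X.isBasis_affineOpens.exists_subset_of_mem_open (a := x) (Set.mem_univ x) isOpen_univ
      exact Set.mem_iUnion.2 ⟨⟨V, hV⟩, hx⟩)
  classical
  suffices H : ∀ (t : Finset X.affineOpens), t ⊆ s → ∀ L : DCoh.D X, DCoh.IsQCohD L →
      (∀ V ∈ s, V ∉ t → IsZero ((DCoh.restrictD (V.1 : X.Opens).ι).obj L)) → P L from
    H s le_rfl K hK fun V hV hV' => absurd hV hV'
  intro t
  induction t using Finset.induction_on with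
  | empty =>
    intro _ L _ hL
    refine hzero L (isZero_of_cover (fun V : ↥s => (V.1.1 : X.Opens)) (fun x => ?_)
      fun V => hL V.1 V.2 (Finset.notMem_empty _))
    obtain ⟨V, hV, hx⟩ := Set.mem_iUnion₂.1 (hs (Set.mem_univ x))
    exact ⟨⟨V, hV⟩, hx⟩
  | insert U t hU ih =>
    intro hts L hL hz
    haveI : IsAffine (U.1 : Scheme.{u}) := U.2
    let j := (U.1 : X.Opens).ι
    haveI : QuasiCompact j := quasiCompact_of_compactSpace j
    haveI : DCoh.HasRpush j := Groth.Agent.KInj.hasRightDerivedFunctor (hres_modules _) _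
    haveI := hasLpull j
    let adj := (lpullRpushAdj j).ofNatIsoLeft (lpullRestrictNatIso j)
    haveI : IsIso adj.counit := adj.isIso_counit_of_iso (rpushRestrictId U.1)
    obtain ⟨C, g, h, hT⟩ := distinguished_cocone_triangle (adj.unit.app L)
    have hq : DCoh.IsQCohD ((DCoh.restrictD j).obj L) := TildeD.isQCohD_restrict j L hL
    have hR : DCoh.IsQCohD ((DCoh.Rpush j).obj ((DCoh.restrictD j).obj L)) := isQCohD_rpush j _ hq
    refine hext _ hT (hpush U.1 U.2 _ hq) (ih (fun V hV => hts (Finset.mem_insert_of_mem hV)) C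
      (isQCohD_obj₃' _ hT hL hR) fun V hVs hVt => ?_)
    have hTV := (DCoh.restrictD (V.1 : X.Opens).ι).map_distinguished _ hT
    by_cases hVU : V = U
    · subst hVU
      refine Triangle.isZero₃_of_isIso₁ _ hTV ?_
      show IsIso ((DCoh.restrictD j).map (adj.unit.app L))
      have h1 := adj.left_triangle_components L
      haveI : IsIso (adj.counit.app ((DCoh.restrictD j).obj L)) := inferInstance
      haveI : IsIso ((DCoh.restrictD j).map (adj.unit.app L) ≫ adj.counit.app ((DCoh.restrictD j).obj L)) := by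
        rw [h1]; exact IsIso.id _
      exact IsIso.of_isIso_comp_right _ (adj.counit.app ((DCoh.restrictD j).obj L))
    · have hL0 : IsZero ((DCoh.restrictD (V.1 : X.Opens).ι).obj L) := hz V hVs (by simp [hVU, hVt])
      haveI : IsAffine (V.1 : Scheme.{u}) := V.2
      haveI : DCoh.HasRpush (j ∣_ V.1) := Groth.Agent.KInj.hasRightDerivedFunctor (hres_modules _) _
      haveI := hasLpull (j ∣_ V.1)
      haveI : (DCoh.Rpush (j ∣_ V.1)).IsRightAdjoint := (lpullRpushAdj _).isRightAdjoint
      obtain ⟨eV⟩ := Groth.Agent.DCohLib.nonempty_restrictD_rpush j V.1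
      have hz2 : IsZero ((DCoh.restrictD (V.1 : X.Opens).ι).obj ((DCoh.Rpush j).obj ((DCoh.restrictD j).obj L))) := by
        refine IsZero.of_iso ((DCoh.Rpush (j ∣_ V.1)).map_isZero ?_) (eV.app _)
        exact ((DCoh.restrictD (j ∣_ V.1)).map_isZero hL0).of_iso
          (((restrictDComp (j ⁻¹ᵁ V.1).ι j).app L).symm ≪≫
            (restrictDCongr (morphismRestrict_ι j V.1).symm).app L ≪≫
            (restrictDComp (j ∣_ V.1) (V.1 : X.Opens).ι).app L)
      exact Triangle.isZero₃_of_isIso₁ _ hTV (hL0.isIso hz2 _)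

end Groth.Agent.DCohMore
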