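import Groth.Agent.DCohMore.BCOpen
import Groth.Agent.DCohMore.BCTI
import Groth.Agent.DCohMore.BCEquiv
import Groth.Agent.DCohMore.QCInduct

/-!
# Tor-independent base change for any identification
-/

set_option autoImplicit false
set_option linter.style.haveILetI false
set_option linter.unusedSectionVars false
set_option backward.isDefEq.respectTransparency false
set_option maxHeartbeats 1000000

universe u

open CategoryTheory Limits AlgebraicGeometry TopologicalSpace Pretriangulated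
attribute [local instance] HasDerivedCategory.standard

noncomputable section

namespace Groth.Agent.DCohMore.BC

open Groth.Agent.DCohLib

/-- Derived direct images exist. -/
theorem hasRpush {X Y : Scheme.{u}} (f : X ⟶ Y) : DCoh.HasRpush f :=
  Groth.Agent.KInj.hasRightDerivedFunctor (hres_modules _) _

/-- Base change holds for `f`, whatever the identification. -/
def BCP {X S : Scheme.{u}} (f : X ⟶ S) : Prop :=
  ∀ {S' X' : Scheme.{u}} (g : S' ⟶ S) (g' : X' ⟶ X) (f' : X' ⟶ S') [DCoh.HasRpush f] [DCoh.HasRpush g]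
    [DCoh.HasRpush f'] [DCoh.HasRpush g'] [DCoh.HasLpull g] [DCoh.HasLpull g'], IsPullback g' f' f g → TI f g →
    ∀ (adjg : DCoh.Lpull g ⊣ DCoh.Rpush g) (adjg' : DCoh.Lpull g' ⊣ DCoh.Rpush g')
      (e : DCoh.Rpush g' ⋙ DCoh.Rpush f ≅ DCoh.Rpush f' ⋙ DCoh.Rpush g) (K : DCoh.D X), DCoh.IsQCohD K →
      IsIso ((bc adjg adjg' e).app K)

/-- Base change holds for affine bases. -/
def BCA {X : Scheme.{u}} {R : Type u} [CommRing R] (f : X ⟶ Spec (CommRingCat.of R)) : Prop :=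
  ∀ {B : Type u} [CommRing B] {X' : Scheme.{u}} (g : Spec (CommRingCat.of B) ⟶ Spec (CommRingCat.of R)) (g' : X' ⟶ X)
    (f' : X' ⟶ Spec (CommRingCat.of B)) [DCoh.HasRpush f] [DCoh.HasRpush g]
    [DCoh.HasRpush f'] [DCoh.HasRpush g'] [DCoh.HasLpull g] [DCoh.HasLpull g'], IsPullback g' f' f g → TI f g →
    ∀ (adjg : DCoh.Lpull g ⊣ DCoh.Rpush g) (adjg' : DCoh.Lpull g' ⊣ DCoh.Rpush g')
      (e : DCoh.Rpush g' ⋙ DCoh.Rpush f ≅ DCoh.Rpush f' ⋙ DCoh.Rpush g) (K : DCoh.D X), DCoh.IsQCohD K →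
      IsIso ((bc adjg adjg' e).app K)

variable {X S : Scheme.{u}}

theorem isQCohD_lpull' {X Y : Scheme.{u}} (f : X ⟶ Y) [DCoh.HasLpull f] (K : DCoh.D Y) (hK : DCoh.IsQCohD K) :
    DCoh.IsQCohD ((DCoh.Lpull f).obj K) :=
  TildeD.isQCohD_lpull f K hK

/-- Base change is local on both bases. -/
theorem bcp_of_charts (f : X ⟶ S)
    (H : ∀ {R : Type u} [CommRing R] (s : Spec (CommRingCat.of R) ⟶ S) [IsOpenImmersion s],
      BCA ((f ∣_ s.opensRange) ≫ s.isoOpensRange.inv)) : BCP f := by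
  intro S' X' g g' f' _ _ _ _ _ _ hsq ht adjg adjg' e K hK
  refine isIso_of_restrictD _ fun y => ?_
  obtain ⟨_, ⟨V₀ : S.Opens, hV₀, rfl⟩, hy₀, -⟩ :=
    S.isBasis_affineOpens.exists_subset_of_mem_open (a := g y) (Set.mem_univ _) isOpen_univ
  let s : Spec (CommRingCat.of Γ(S, V₀)) ⟶ S := hV₀.fromSpec
  haveI : IsOpenImmersion s := inferInstanceAs (IsOpenImmersion hV₀.fromSpec)
  have hs : s.opensRange = V₀ := hV₀.opensRange_fromSpec
  obtain ⟨_, ⟨U₀ : S'.Opens, hU₀, rfl⟩, hy, hU₀g⟩ :=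
    S'.isBasis_affineOpens.exists_subset_of_mem_open (a := y) (u := (g ⁻¹ᵁ V₀ : S'.Opens)) hy₀ (g ⁻¹ᵁ V₀).isOpen
  let b : Spec (CommRingCat.of Γ(S', U₀)) ⟶ S' := hU₀.fromSpec
  haveI : IsOpenImmersion b := inferInstanceAs (IsOpenImmersion hU₀.fromSpec)
  have hb : b.opensRange = U₀ := hU₀.opensRange_fromSpec
  refine ⟨b.opensRange, (show y ∈ b.opensRange from (SetLike.ext_iff.1 hb _).2 hy), ?_⟩
  have hrange : Set.range (b ≫ g) ⊆ Set.range s := by
    rintro _ ⟨z, rfl⟩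
    have h1 : b z ∈ U₀ := by
      exact (SetLike.ext_iff.1 hb _).1 ⟨z, rfl⟩
    have h2 : g (b z) ∈ s.opensRange := by
      exact (SetLike.ext_iff.1 hs _).2 (hU₀g h1)
    exact h2
  let gW := IsOpenImmersion.lift s (b ≫ g) hrange
  have hgW : gW ≫ s = b ≫ g := IsOpenImmersion.lift_fac _ _ _
  -- the chart square and the open square of `X`
  let k' := (f ⁻¹ᵁ s.opensRange).ι
  let fW := (f ∣_ s.opensRange) ≫ s.isoOpensRange.inv
  have hk : IsPullback k' fW f s :=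
    (isPullback_morphismRestrict f s.opensRange).flip.of_iso (Iso.refl _) (Iso.refl _) s.isoOpensRange.symm
      (Iso.refl _) (by simp [k']) (by simp [fW]) (by simp) (by simp)
  let XW' := Limits.pullback fW gW
  let h' : XW' ⟶ _ := Limits.pullback.fst fW gW
  let fW' : XW' ⟶ _ := Limits.pullback.snd fW gW
  have hW : IsPullback h' fW' fW gW := IsPullback.of_hasPullback _ _
  have houter : IsPullback (h' ≫ k') fW' f (b ≫ g) := hgW ▸ hW.paste_horiz hk
  let i' : XW' ⟶ X' := hsq.lift (h' ≫ k') (fW' ≫ b) (by rw [houter.w, Category.assoc])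
  have hi : IsPullback i' fW' f' b := IsPullback.of_right' houter hsq
  have hi' : i' ≫ g' = h' ≫ k' := hsq.lift_fst _ _ _
  -- the functors
  haveI := hasRpush s; haveI := hasRpush k'; haveI := hasRpush fW; haveI := hasRpush b; haveI := hasRpush i'
  haveI := hasRpush fW'; haveI := hasRpush gW; haveI := hasRpush h'
  haveI := hasRpush (b ≫ g); haveI := hasRpush (gW ≫ s); haveI := hasRpush (i' ≫ g'); haveI := hasRpush (h' ≫ k')
  haveI := hasRpush (k' ≫ f); haveI := hasRpush (fW ≫ s); haveI := hasRpush (i' ≫ f'); haveI := hasRpush (fW' ≫ b)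
  haveI := hasLpull s; haveI := hasLpull k'; haveI := hasLpull b; haveI := hasLpull i'
  haveI := hasLpull gW; haveI := hasLpull h'
  let adjs := lpullRpushAdj s
  let adjk' := lpullRpushAdj k'
  let adjb := lpullRpushAdj b
  let adji' := lpullRpushAdj i'
  let adjgW := lpullRpushAdj gW
  let adjh' := lpullRpushAdj h'
  obtain ⟨c₁⟩ := nonempty_rpushCompIso k' f
  obtain ⟨c₂⟩ := nonempty_rpushCompIso fW s
  obtain ⟨c₃⟩ := nonempty_rpushCompIso i' f'
  obtain ⟨c₄⟩ := nonempty_rpushCompIso fW' b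
  obtain ⟨c₅⟩ := nonempty_rpushCompIso b g
  obtain ⟨c₆⟩ := nonempty_rpushCompIso gW s
  obtain ⟨c₇⟩ := nonempty_rpushCompIso i' g'
  obtain ⟨c₈⟩ := nonempty_rpushCompIso h' k'
  let ek : DCoh.Rpush k' ⋙ DCoh.Rpush f ≅ DCoh.Rpush fW ⋙ DCoh.Rpush s :=
    c₁ ≪≫ eqToIso (by simp only [hk.w]) ≪≫ c₂.symm
  let eb : DCoh.Rpush i' ⋙ DCoh.Rpush f' ≅ DCoh.Rpush fW' ⋙ DCoh.Rpush b :=
    c₃ ≪≫ eqToIso (by simp only [hi.w]) ≪≫ c₄.symm
  let a : DCoh.Rpush b ⋙ DCoh.Rpush g ≅ DCoh.Rpush gW ⋙ DCoh.Rpush s :=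
    c₅ ≪≫ eqToIso (by simp only [hgW]) ≪≫ c₆.symm
  let a' : DCoh.Rpush i' ⋙ DCoh.Rpush g' ≅ DCoh.Rpush h' ⋙ DCoh.Rpush k' :=
    c₇ ≪≫ eqToIso (by simp only [hi']) ≪≫ c₈.symm
  let E := pasteS eb e
  let E' := Functor.isoWhiskerRight a'.symm (DCoh.Rpush f) ≪≫ E ≪≫ Functor.isoWhiskerLeft (DCoh.Rpush fW') a
  obtain ⟨hs'⟩ := nonempty_fullyFaithful_rpush_open s
  obtain ⟨eh, heh⟩ := exists_pasteS hs' ek E'
  haveI i₁ : IsIso ((bc adjs adjk' ek).app K) := isIso_bc_open hk adjs adjk' ek K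
  haveI i₂ : IsIso ((bc adjgW adjh' eh).app ((DCoh.Lpull k').obj K)) :=
    H s gW h' fW' hW (ht.mono s k' b hk.w hgW.symm) adjgW adjh' eh _ (isQCohD_lpull' k' K hK)
  have i₃ : IsIso ((bc (adjg.comp adjb) (adjg'.comp adji') E).app K) := by
    refine (isIso_bc_transport (adjg.comp adjb) (adjg'.comp adji') (adjs.comp adjgW) (adjk'.comp adjh') a a' E K).1 ?_
    show IsIso ((bc (adjs.comp adjgW) (adjk'.comp adjh') E').app K)
    rw [← heh, bc_pasteS adjs adjk' adjgW adjh' eh ek K]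
    infer_instance
  haveI i₄ : IsIso ((bc adjb adji' eb).app ((DCoh.Lpull g').obj K)) := isIso_bc_open hi adjb adji' eb _
  rw [bc_pasteS adjg adjg' adjb adji' eb e K] at i₃
  have i₅ : IsIso ((DCoh.Lpull b).map ((bc adjg adjg' e).app K)) :=
    (isIso_comp_right_iff _ ((bc adjb adji' eb).app ((DCoh.Lpull g').obj K))).1 i₃
  have i₆ : IsIso ((DCoh.restrictD (b.isoOpensRange.hom ≫ b.opensRange.ι)).map ((bc adjg adjg' e).app K)) :=
    (NatIso.isIso_map_iff (lpullRestrictNatIso b ≪≫ restrictDCongr b.isoOpensRange_hom_ι.symm) _).1 i₅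
  have i₇ : IsIso ((DCoh.restrictD b.isoOpensRange.hom).map
      ((DCoh.restrictD b.opensRange.ι).map ((bc adjg adjg' e).app K))) :=
    (NatIso.isIso_map_iff (restrictDComp b.isoOpensRange.hom b.opensRange.ι) _).1 i₆
  haveI : (DCoh.restrictD b.isoOpensRange.hom).ReflectsIsomorphisms :=
    haveI : (DCoh.restrictD b.isoOpensRange.hom).Full := inferInstanceAs (restrictDEquiv b.isoOpensRange).functor.Full
    haveI : (DCoh.restrictD b.isoOpensRange.hom).Faithful :=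
      inferInstanceAs (restrictDEquiv b.isoOpensRange).functor.Faithful
    reflectsIsomorphisms_of_full_and_faithful _
  exact isIso_of_reflects_iso _ (DCoh.restrictD b.isoOpensRange.hom)

/-- Direct images from a chart, for the affine case. -/
theorem isIso_bc_pushed {R B A : Type u} [CommRing R] [CommRing B] [CommRing A] {f : X ⟶ Spec (CommRingCat.of R)}
    {X' : Scheme.{u}} {g : Spec (CommRingCat.of B) ⟶ Spec (CommRingCat.of R)} {g' : X' ⟶ X}
    {f' : X' ⟶ Spec (CommRingCat.of B)} [DCoh.HasRpush f] [DCoh.HasRpush g]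
    [DCoh.HasRpush f'] [DCoh.HasRpush g'] [DCoh.HasLpull g] [DCoh.HasLpull g'] (hsq : IsPullback g' f' f g)
    (ht : TI f g) (adjg : DCoh.Lpull g ⊣ DCoh.Rpush g) (adjg' : DCoh.Lpull g' ⊣ DCoh.Rpush g')
    (e : DCoh.Rpush g' ⋙ DCoh.Rpush f ≅ DCoh.Rpush f' ⋙ DCoh.Rpush g)
    (j : Spec (CommRingCat.of A) ⟶ X) [IsOpenImmersion j] [DCoh.HasRpush j]
    (hj : ∀ {U' : Scheme.{u}} (g'' : U' ⟶ Spec (CommRingCat.of A)) (j' : U' ⟶ X') [DCoh.HasRpush g''] [DCoh.HasRpush j']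
      [DCoh.HasLpull g''], IsPullback g'' j' j g' → ∀ (adjg'' : DCoh.Lpull g'' ⊣ DCoh.Rpush g'')
        (e₁ : DCoh.Rpush g'' ⋙ DCoh.Rpush j ≅ DCoh.Rpush j' ⋙ DCoh.Rpush g')
        (N : DCoh.D (Spec (CommRingCat.of A))), DCoh.IsQCohD N → IsIso ((bc adjg' adjg'' e₁).app N))
    (N : DCoh.D (Spec (CommRingCat.of A))) (hN : DCoh.IsQCohD N) :
    IsIso ((bc adjg adjg' e).app ((DCoh.Rpush j).obj N)) := by
  obtain ⟨φ, hφ⟩ : ∃ φ : R →+* A, j ≫ f = TildeLpull.specMap φ :=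
    ⟨(Spec.preimage (j ≫ f)).hom, (Spec.map_preimage _).symm⟩
  obtain ⟨ψ, hψ⟩ : ∃ ψ : R →+* B, g = TildeLpull.specMap ψ :=
    ⟨(Spec.preimage g).hom, (Spec.map_preimage _).symm⟩
  subst hψ
  let U' := Limits.pullback j g'
  let g'' : U' ⟶ _ := Limits.pullback.fst j g'
  let j' : U' ⟶ X' := Limits.pullback.snd j g'
  have h₁ : IsPullback g'' j' j g' := IsPullback.of_hasPullback _ _
  have h₂ : IsPullback g'' (j' ≫ f') (TildeLpull.specMap φ) (TildeLpull.specMap ψ) := hφ ▸ h₁.paste_vert hsq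
  haveI := hasRpush g''; haveI := hasRpush j'; haveI := hasLpull g''
  haveI := hasRpush (j ≫ f); haveI := hasRpush (j' ≫ f'); haveI := hasRpush (TildeLpull.specMap φ)
  haveI := hasRpush (g'' ≫ j); haveI := hasRpush (j' ≫ g')
  let adjg'' := lpullRpushAdj g''
  obtain ⟨c₁⟩ := nonempty_rpushCompIso g'' j
  obtain ⟨c₂⟩ := nonempty_rpushCompIso j' g'
  let e₁ : DCoh.Rpush g'' ⋙ DCoh.Rpush j ≅ DCoh.Rpush j' ⋙ DCoh.Rpush g' :=
    c₁ ≪≫ eqToIso (by simp only [h₁.w]) ≪≫ c₂.symm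
  obtain ⟨b₀⟩ := nonempty_rpushCompIso j f
  obtain ⟨b'⟩ := nonempty_rpushCompIso j' f'
  let b : DCoh.Rpush j ⋙ DCoh.Rpush f ≅ DCoh.Rpush (TildeLpull.specMap φ) := b₀ ≪≫ eqToIso (by simp only [hφ])
  have htor : ∀ i : ℕ, 0 < i → Subsingleton (@DRing.Tor R _ i B A _ ψ.toModule _ φ.toModule) :=
    ht (𝟙 _) j (𝟙 _) φ ψ (by rw [hφ, Category.comp_id]) (by rw [Category.id_comp, Category.comp_id])
  haveI i₁ : IsIso ((bc adjg' adjg'' e₁).app N) := hj g'' j' h₁ adjg'' e₁ N hN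
  have i₂ : IsIso ((bc adjg adjg'' (pasteX e₁ e)).app N) :=
    isIso_bc_congr adjg adjg'' b b' (pasteX e₁ e) N
      (isIso_bc_affine φ ψ h₂ htor adjg adjg'' _ N hN)
  rw [bc_pasteX adjg adjg' adjg'' e₁ e N] at i₂
  exact (isIso_comp_right_iff _ ((DCoh.Rpush f').map ((bc adjg' adjg'' e₁).app N))).1 i₂

/-- Base change for affine sources. -/
theorem bca_affine {R : Type u} [CommRing R] [IsAffine X] (f : X ⟶ Spec (CommRingCat.of R)) : BCA f := by
  intro B _ X' g g' f' _ _ _ _ _ _ hsq ht adjg adjg' e K hK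
  let j : Spec (CommRingCat.of Γ(X, ⊤)) ⟶ X := X.isoSpec.inv
  haveI : IsOpenImmersion j := inferInstanceAs (IsOpenImmersion X.isoSpec.inv)
  haveI := hasRpush j
  haveI := hasRpush X.isoSpec.inv
  haveI := hasRpush X.isoSpec.symm.hom
  haveI := hasLpull X.isoSpec.symm.hom
  have eK : (DCoh.Rpush j).obj ((DCoh.restrictD j).obj K) ≅ K :=
    (rpushIsoRestrict X.isoSpec.symm).app _ ≪≫ ((restrictDEquiv X.isoSpec.symm).unitIso.app K).symm
  refine (NatTrans.isIso_app_iff_of_iso _ eK).1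
    (isIso_bc_pushed hsq ht adjg adjg' e j (fun {U'} g'' j' _ _ _ h₁ adjg'' e₁ N _ => ?_) _
      (TildeD.isQCohD_restrict j K hK))
  haveI : IsIso j := inferInstanceAs (IsIso X.isoSpec.inv)
  haveI : IsIso j' := MorphismProperty.of_isPullback (P := MorphismProperty.isomorphisms Scheme.{u}) h₁
    (inferInstanceAs (IsIso j))
  have hequiv : ∀ {U V : Scheme.{u}} (a : U ⟶ V) [IsIso a] [DCoh.HasRpush a],
      (DCoh.Rpush a).IsEquivalence := fun a _ _ => by
    haveI := hasRpush (asIso a).hom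
    haveI := hasLpull (asIso a).hom
    haveI : (DCoh.restrictD (asIso a).inv).IsEquivalence :=
      inferInstanceAs (restrictDEquiv (asIso a).symm).functor.IsEquivalence
    exact Functor.isEquivalence_of_iso (rpushIsoRestrict (asIso a)).symm
  haveI := hequiv j
  haveI := hequiv j'
  exact isIso_bc_of_equiv adjg' adjg'' e₁ N

/-- Base change over affine bases, from base change along the affine opens of the source. -/
theorem bca_of_opens {R : Type u} [CommRing R] (f : X ⟶ Spec (CommRingCat.of R)) [QuasiCompact f] [QuasiSeparated f]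
    (H : ∀ {A : Type u} [CommRing A] (j : Spec (CommRingCat.of A) ⟶ X) [IsOpenImmersion j], BCP j) : BCA f := by
  intro B _ X' g g' f' _ _ _ _ _ _ hsq ht adjg adjg' e K hK
  haveI : CompactSpace X := QuasiCompact.compactSpace_of_compactSpace f
  haveI : QuasiSeparatedSpace X := AlgebraicGeometry.quasiSeparatedSpace_of_quasiSeparated f
  let F₁ := DCoh.Rpush f ⋙ DCoh.Lpull g
  let F₂ := DCoh.Lpull g' ⋙ DCoh.Rpush f'
  let τ : F₁ ⟶ F₂ := bc adjg adjg' e
  have invar : ∀ {K L : DCoh.D X}, (K ≅ L) → IsIso (τ.app K) → IsIso (τ.app L) :=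
    fun e h => (NatTrans.isIso_app_iff_of_iso τ e).1 h
  have hexF₁ : ExTri F₁ := (exTri_rpush f).comp (exTri_lpull g)
  have hexF₂ : ExTri F₂ := (exTri_lpull g').comp (exTri_rpush f')
  suffices h : ∀ n : ℤ, IsIso (τ.app (K⟦n⟧)) from invar ((shiftFunctorZero _ ℤ).app K) (h 0)
  refine qcoh_devissage (fun K => ∀ n : ℤ, IsIso (τ.app (K⟦n⟧))) (fun K hK n => ?_) (fun T hT h₂ h₃ n => ?_)
    (fun U hU _ N hN n => ?_) K hK
  · haveI : (DCoh.Rpush f).IsRightAdjoint := haveI := hasLpull f; (lpullRpushAdj f).isRightAdjoint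
    haveI : (DCoh.Rpush f').IsRightAdjoint := haveI := hasLpull f'; (lpullRpushAdj f').isRightAdjoint
    haveI : (DCoh.Lpull g).IsLeftAdjoint := adjg.isLeftAdjoint
    haveI : (DCoh.Lpull g').IsLeftAdjoint := adjg'.isLeftAdjoint
    have hz := (shiftFunctor (DCoh.D X) n).map_isZero hK
    have hs := (DCoh.Lpull g).map_isZero ((DCoh.Rpush f).map_isZero hz)
    have ht' := (DCoh.Rpush f').map_isZero ((DCoh.Lpull g').map_isZero hz)
    exact ⟨0, hs.eq_of_src _ _, ht'.eq_of_src _ _⟩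
  · have hS := Triangle.shift_distinguished _ (rot_of_distTriang _ hT) (n - 1)
    have := isIso_app₃ hexF₁ hexF₂ τ _ hS (h₂ (n - 1)) (h₃ (n - 1))
      (invar ((shiftFunctorAdd' _ (n - 1) 1 n (by omega)).app T.obj₂) (h₂ n))
      (invar ((shiftFunctorAdd' _ (n - 1) 1 n (by omega)).app T.obj₃) (h₃ n))
    exact invar ((shiftFunctorAdd' _ 1 (n - 1) n (by omega)).app T.obj₁).symm this
  · let j : Spec (CommRingCat.of Γ(X, U)) ⟶ X := hU.fromSpec
    haveI : IsOpenImmersion j := inferInstanceAs (IsOpenImmersion hU.fromSpec)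
    haveI := hasRpush j
    let a := hU.isoSpec.symm
    haveI := hasRpush a.hom; haveI := hasLpull a.hom; haveI := hasRpush (a.hom ≫ U.ι)
    obtain ⟨c⟩ := nonempty_rpushCompIso a.hom U.ι
    have ej : DCoh.Rpush j ≅ DCoh.Rpush (a.hom ≫ U.ι) := eqToIso (by simp only [j, a, IsAffineOpen.fromSpec]; rfl)
    haveI : SiteCmp.HasRpushD (ModSite.RMor.ofScheme j) := ‹DCoh.HasRpush j›
    obtain ⟨hsh, -⟩ := SiteCmpLib.exists_triangulated_rpushD (ModSite.RMor.ofScheme j)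
    letI : (DCoh.Rpush j).CommShift ℤ := hsh
    have eN : (DCoh.Rpush j).obj (((DCoh.restrictD a.hom).obj N)⟦n⟧) ≅ ((DCoh.Rpush U.ι).obj N)⟦n⟧ := by
      exact ((DCoh.Rpush j).commShiftIso n).app _ ≪≫ (shiftFunctor _ n).mapIso
        (ej.app _ ≪≫ c.symm.app _ ≪≫ (DCoh.Rpush U.ι).mapIso
          ((rpushIsoRestrict a).app _ ≪≫ ((restrictDEquiv a).unitIso.app N).symm))
    refine invar eN (isIso_bc_pushed hsq ht adjg adjg' e j (fun {U'} g'' j' _ _ _ h₁ adjg'' e₁ N hN => ?_) _ ?_)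
    · exact H j g' g'' j' h₁ TI.of_flat_left adjg' adjg'' e₁ N hN
    · exact fun i => isQCoh_of_iso'
        (((DerivedCategory.homologyFunctor _ 0).shiftIso n i (n + i) rfl).app _).symm
        (TildeD.isQCohD_restrict a.hom N hN (n + i))

end Groth.Agent.DCohMore.BC
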