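import Groth.Agent.DCohMore.StalkBC
import Groth.Agent.DCohLib.PullPerf
import Groth.Agent.DCohLib.PullKFlat
import Groth.Agent.DCohLib.FlatCoker
import Groth.Agent.DRingLib.TensorAmp
import Groth.Prelude.Def_DCoh3
import Groth.Prelude.Def_DerSch

/-!
# Inverse images of bounded complexes flat over the base along a base change
-/

set_option autoImplicit false
set_option linter.style.haveILetI false
set_option linter.unusedSectionVars false

universe u

open CategoryTheory CategoryTheory.Limits AlgebraicGeometry MonoidalCategory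
open scoped TensorProduct

attribute [local instance] HasDerivedCategory.standard

noncomputable section

namespace Groth.Agent.DCohMore

open Groth.Agent.DCohLib Groth.Agent.DRingLib

/-- Bounded above acyclic complexes of flat modules stay acyclic after tensoring. -/
theorem exactAt_tensM_of_acyclic {A : Type u} [CommRing A] (C : DRing.Cx A) {b : ℤ}
    (hb : DRing.VanishesAbove C b) (hfl : DRing.TermwiseFlat C) (hac : C.Acyclic) (M : ModuleCat.{u} A) (i : ℤ) :
    ((tensM M).obj C).ExactAt i := by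
  haveI : QuasiIso (0 : (HomologicalComplex.zero : DRing.Cx A) ⟶ C) := ⟨fun j =>
    (quasiIsoAt_iff_exactAt (0 : (HomologicalComplex.zero : DRing.Cx A) ⟶ C) j
      (ShortComplex.exact_of_isZero_X₂ _ (isZero_zero _ : IsZero ((HomologicalComplex.zero : DRing.Cx A).X j)))).2 (hac j)⟩
  have h : DRing.HasTorAmplitudeIn A 1 0 (DRing.toD C) :=
    ⟨HomologicalComplex.zero, fun i _ => isZero_zero _, fun i => by
      haveI : Subsingleton ((HomologicalComplex.zero : DRing.Cx A).X i) :=
        ModuleCat.subsingleton_of_isZero (isZero_zero _)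
      exact inferInstance,
      ⟨asIso (DerivedCategory.Q.map (0 : (HomologicalComplex.zero : DRing.Cx A) ⟶ C))⟩⟩
  exact tensVanish_of_amplitude (isKFlat_of_vanishesAbove hb hfl) h M i (by omega)

/-- Biproducts of modules flat over the base are flat over the base. -/
theorem isFlatOverAt_biprod {X S : Scheme.{u}} (f : X ⟶ S) {x : X} {M N P : X.Modules}
    (hM : FlatMod.IsFlatOverAt f M x) (hN : FlatMod.IsFlatOverAt f N x) (e : P ≅ M ⊞ N) :
    FlatMod.IsFlatOverAt f P x := by
  let F := DerSch.stalkOver f x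
  let A := S.presheaf.stalk (f x)
  haveI : Module.Flat A ↥(F.obj M) := hM
  haveI : Module.Flat A ↥(F.obj N) := hN
  haveI : Module.Flat A (↥(F.obj M) × ↥(F.obj N)) := Groth.Agent.KFlat.flat_prod A _ _
  haveI : (DerSch.stalkOver f x).Additive := inferInstance
  haveI : PreservesBinaryBiproducts F :=
    Limits.preservesBinaryBiproducts_of_preservesBiproducts (DerSch.stalkOver f x)
  show Module.Flat A ↥(F.obj P)
  exact Module.Flat.of_linearEquiv
    ((F.mapIso e ≪≫ F.mapBiprod M N).toLinearEquiv.trans (ModuleCat.biprodIsoProd _ _).toLinearEquiv)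

/-- Flat modules are flat over the base when the morphism is flat. -/
theorem isFlatOver_of_isFlat {X S : Scheme.{u}} (g : X ⟶ S) [Flat g] {M : X.Modules}
    (h : FlatMod.IsFlat M) : FlatMod.IsFlatOver g M := fun x => by
  letI := (g.stalkMap x).hom.toAlgebra
  letI := FlatMod.moduleStalkOver g M x
  haveI : Module.Flat (S.presheaf.stalk (g x)) (X.presheaf.stalk x) := Flat.stalkMap g x
  haveI : Module.Flat (X.presheaf.stalk x) (M.presheaf.stalk x) := h x
  haveI : IsScalarTower (S.presheaf.stalk (g x)) (X.presheaf.stalk x) (M.presheaf.stalk x) :=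
    .of_algebraMap_smul fun _ _ => rfl
  exact Module.Flat.trans (S.presheaf.stalk (g x)) (X.presheaf.stalk x) (M.presheaf.stalk x)

variable {X S X' S' : Scheme.{u}} {f : X ⟶ S} {f' : X' ⟶ S'} {g' : X' ⟶ X} {g : S' ⟶ S}

/-- The stalk algebra of a base change at a point, packaged for a given triple of modules. -/
theorem stalk_baseChange (hc : IsPullback g' f' f g) (x' : X') :
    ∀ (M₁ : X.Modules),
      (FlatMod.IsFlatOverAt f M₁ (g' x') → FlatMod.IsFlatOverAt f' ((Scheme.Modules.pullback g').obj M₁) x') ∧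
      ∀ (C : CochainComplex X.Modules ℤ) (b : ℤ), (∀ n, b < n → IsZero (C.X n)) →
        (∀ n, FlatMod.IsFlatOverAt f (C.X n) (g' x')) → (∀ n, C.ExactAt n) → ∀ i,
          ((((Scheme.Modules.pullback g').mapHomologicalComplex (ComplexShape.up ℤ)).obj C).sc i |>.map (stkF x')).Exact := by
  intro M₁
  obtain ⟨V, W, V', hV, hW, hV', e, e', hxW, hxV'⟩ := PullbackMod.exists_affines hc x'
  obtain ⟨hW', hpo⟩ := PullbackMod.isPushout_appLE hc hV hW hV' e e'
  have hfx : f (g' x') ∈ V := e hxW
  let W' := g' ⁻¹ᵁ W ⊓ f' ⁻¹ᵁ V'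
  have hx' : x' ∈ W' := ⟨hxW, hxV'⟩
  let A₀ := Γ(S, V)
  let A₁ := Γ(S', V')
  let B₀ := Γ(X, W)
  let B₁ := Γ(X', W')
  let A := S.presheaf.stalk (f (g' x'))
  let A' := S'.presheaf.stalk (f' x')
  let B := X.presheaf.stalk (g' x')
  let B' := X'.presheaf.stalk x'
  letI : Algebra A₀ B₀ := (f.appLE V W e).hom.toAlgebra
  letI : Algebra A₀ A₁ := (g.appLE V V' e').hom.toAlgebra
  letI : Algebra B₀ B₁ := (g'.appLE W W' inf_le_left).hom.toAlgebra
  letI : Algebra A₁ B₁ := (f'.appLE V' W' inf_le_right).hom.toAlgebra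
  letI : Algebra A₀ B₁ := ((g'.appLE W W' inf_le_left).hom.comp (f.appLE V W e).hom).toAlgebra
  haveI : IsScalarTower A₀ B₀ B₁ := .of_algebraMap_eq fun _ => rfl
  haveI : IsScalarTower A₀ A₁ B₁ := .of_algebraMap_eq' (by
      show ((f.appLE V W e) ≫ g'.appLE W _ inf_le_left).hom =
        ((g.appLE V V' e') ≫ f'.appLE V' _ inf_le_right).hom
      simp only [Scheme.Hom.appLE_comp_appLE, hc.w])
  haveI : Algebra.IsPushout A₀ A₁ B₀ B₁ := hpo
  letI : Algebra B₀ B := (X.presheaf.germ W (g' x') hxW).hom.toAlgebra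
  letI : Algebra B₁ B' := (X'.presheaf.germ W' x' hx').hom.toAlgebra
  letI : Algebra B B' := (g'.stalkMap x').hom.toAlgebra
  letI : Algebra B₀ B' := ((g'.stalkMap x').hom.comp (X.presheaf.germ W (g' x') hxW).hom).toAlgebra
  haveI : IsScalarTower B₀ B B' := .of_algebraMap_eq fun _ => rfl
  haveI : IsScalarTower B₀ B₁ B' := .of_algebraMap_eq' (by
      show (X.presheaf.germ W (g' x') hxW ≫ g'.stalkMap x').hom =
        (g'.appLE W W' inf_le_left ≫ X'.presheaf.germ W' x' hx').hom
      rw [Scheme.Hom.germ_stalkMap, Scheme.Hom.appLE, Category.assoc, TopCat.Presheaf.germ_res])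
  haveI hT : IsLocalization (hW.primeIdealOf ⟨g' x', hxW⟩).asIdeal.primeCompl B :=
    hW.isLocalization_stalk ⟨g' x', hxW⟩
  haveI hT' : IsLocalization (hW'.primeIdealOf ⟨x', hx'⟩).asIdeal.primeCompl B' :=
    hW'.isLocalization_stalk ⟨x', hx'⟩
  haveI : Module.Flat B₁ B' := IsLocalization.flat B' (hW'.primeIdealOf ⟨x', hx'⟩).asIdeal.primeCompl
  letI : Algebra A₀ A := (S.presheaf.germ V (f (g' x')) hfx).hom.toAlgebra
  haveI : Module.Flat A₀ A := by
    haveI := hV.isLocalization_stalk ⟨f (g' x'), hfx⟩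
    exact IsLocalization.flat A (hV.primeIdealOf ⟨f (g' x'), hfx⟩).asIdeal.primeCompl
  letI : Algebra A₁ A' := (S'.presheaf.germ V' (f' x') hxV').hom.toAlgebra
  haveI hA' : IsLocalization (hV'.primeIdealOf ⟨f' x', hxV'⟩).asIdeal.primeCompl A' :=
    hV'.isLocalization_stalk ⟨f' x', hxV'⟩
  letI : Algebra A' B' := (f'.stalkMap x').hom.toAlgebra
  letI : Algebra A₁ B' := ((f'.stalkMap x').hom.comp (S'.presheaf.germ V' (f' x') hxV').hom).toAlgebra
  haveI : IsScalarTower A₁ A' B' := .of_algebraMap_eq fun _ => rfl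
  haveI : IsScalarTower A₁ B₁ B' := .of_algebraMap_eq' (by
      show (S'.presheaf.germ V' (f' x') hxV' ≫ f'.stalkMap x').hom =
        (f'.appLE V' W' inf_le_right ≫ X'.presheaf.germ W' x' hx').hom
      rw [Scheme.Hom.germ_stalkMap, Scheme.Hom.appLE, Category.assoc, TopCat.Presheaf.germ_res])
  -- restriction of scalars of stalks to `B₀` and `A₀`
  have hsq : S.presheaf.germ V (f (g' x')) hfx ≫ f.stalkMap (g' x') =
      f.appLE V W e ≫ X.presheaf.germ W (g' x') hxW := by
    rw [Scheme.Hom.germ_stalkMap, Scheme.Hom.appLE, Category.assoc, TopCat.Presheaf.germ_res]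
  refine ⟨fun h => ?_, fun C b hb hfl hex i => ?_⟩
  · let N := M₁.presheaf.stalk (g' x')
    letI : Module A N := FlatMod.moduleStalkOver f M₁ (g' x')
    letI : Module A₀ N := Module.compHom N (S.presheaf.germ V (f (g' x')) hfx).hom
    haveI : IsScalarTower A₀ A N := .of_algebraMap_smul fun _ _ => rfl
    letI : Module B₀ N := Module.compHom N (X.presheaf.germ W (g' x') hxW).hom
    haveI : IsScalarTower B₀ B N := .of_algebraMap_smul fun _ _ => rfl
    haveI : IsScalarTower A₀ B₀ N := .of_algebraMap_smul fun a m => by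
      show X.presheaf.germ W (g' x') hxW (f.appLE V W e a) • m =
        f.stalkMap (g' x') (S.presheaf.germ V (f (g' x')) hfx a) • m
      exact congrArg (· • m) (ConcreteCategory.congr_hom hsq a).symm
    haveI : Module.Flat A N := h
    haveI : Module.Flat A₀ N := Module.Flat.trans A₀ A N
    haveI := flat_bc_of_flat (A₀ := A₀) (A₁ := A₁) (B₀ := B₀) (B₁ := B₁) (B := B) (B' := B') (M₁ := N)
      (hW.primeIdealOf ⟨g' x', hxW⟩).asIdeal.primeCompl
    let P := ((Scheme.Modules.pullback g').obj M₁).presheaf.stalk x'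
    letI : Module A' P := FlatMod.moduleStalkOver f' ((Scheme.Modules.pullback g').obj M₁) x'
    haveI : IsScalarTower A' B' P := .of_algebraMap_smul fun _ _ => rfl
    haveI : Module.Flat A' (B' ⊗[B] N) :=
      (Module.flat_iff_of_isLocalization A' (hV'.primeIdealOf ⟨f' x', hxV'⟩).asIdeal.primeCompl _).2 inferInstance
    show Module.Flat A' P
    exact Module.Flat.of_linearEquiv ((pullStalkEquiv g' x' M₁).restrictScalars A').symm
  · let φ : A₀ →+* B := ((f.stalkMap (g' x')).hom.comp (S.presheaf.germ V (f (g' x')) hfx).hom)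
    let R := ModuleCat.restrictScalars.{u} φ
    let Cx : DRing.Cx A₀ := (R.mapHomologicalComplex (ComplexShape.up ℤ)).obj
      (((stkF (g' x')).mapHomologicalComplex (ComplexShape.up ℤ)).obj C)
    have hfl' : DRing.TermwiseFlat Cx := fun n => by
      let N := (C.X n).presheaf.stalk (g' x')
      letI : Module A N := FlatMod.moduleStalkOver f (C.X n) (g' x')
      letI : Module A₀ N := Module.compHom N (S.presheaf.germ V (f (g' x')) hfx).hom
      haveI : IsScalarTower A₀ A N := .of_algebraMap_smul fun _ _ => rfl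
      haveI : Module.Flat A N := hfl n
      exact (Module.Flat.trans A₀ A N : Module.Flat A₀ N)
    have hac : Cx.Acyclic := fun n => by
      rw [HomologicalComplex.exactAt_iff]
      exact (((HomologicalComplex.exactAt_iff _ _).1 (hex n)).map (stkF (g' x'))).map R
    have hten := (HomologicalComplex.exactAt_iff _ _).1 (exactAt_tensM_of_acyclic Cx
      (fun n hn => R.map_isZero ((stkF (g' x')).map_isZero (hb n hn))) hfl' hac (ModuleCat.of A₀ A₁) i)
    rw [ShortComplex.ShortExact.moduleCat_exact_iff_function_exact] at hten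
    refine ShortComplex.exact_of_iso ((C.sc i).mapNatIso (pullStalkNatIso g' x')).symm ?_
    rw [ShortComplex.ShortExact.moduleCat_exact_iff_function_exact]
    letI : Module A₀ ↥((stkF (g' x')).obj (C.sc i).X₁) := Module.compHom _ φ
    letI : Module A₀ ↥((stkF (g' x')).obj (C.sc i).X₂) := Module.compHom _ φ
    letI : Module A₀ ↥((stkF (g' x')).obj (C.sc i).X₃) := Module.compHom _ φ
    letI : Module B₀ ↥((stkF (g' x')).obj (C.sc i).X₁) := Module.compHom _ (X.presheaf.germ W (g' x') hxW).hom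
    letI : Module B₀ ↥((stkF (g' x')).obj (C.sc i).X₂) := Module.compHom _ (X.presheaf.germ W (g' x') hxW).hom
    letI : Module B₀ ↥((stkF (g' x')).obj (C.sc i).X₃) := Module.compHom _ (X.presheaf.germ W (g' x') hxW).hom
    haveI : IsScalarTower B₀ B ↥((stkF (g' x')).obj (C.sc i).X₁) := .of_algebraMap_smul fun _ _ => rfl
    haveI : IsScalarTower B₀ B ↥((stkF (g' x')).obj (C.sc i).X₂) := .of_algebraMap_smul fun _ _ => rfl
    haveI : IsScalarTower B₀ B ↥((stkF (g' x')).obj (C.sc i).X₃) := .of_algebraMap_smul fun _ _ => rfl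
    haveI : IsScalarTower A₀ B₀ ↥((stkF (g' x')).obj (C.sc i).X₁) := .of_algebraMap_smul fun a m =>
      congrArg (· • m) (ConcreteCategory.congr_hom hsq a).symm
    haveI : IsScalarTower A₀ B₀ ↥((stkF (g' x')).obj (C.sc i).X₂) := .of_algebraMap_smul fun a m =>
      congrArg (· • m) (ConcreteCategory.congr_hom hsq a).symm
    haveI : IsScalarTower A₀ B₀ ↥((stkF (g' x')).obj (C.sc i).X₃) := .of_algebraMap_smul fun a m =>
      congrArg (· • m) (ConcreteCategory.congr_hom hsq a).symm
    exact exact_lTensor_of_exact (A₀ := A₀) (A₁ := A₁) (B₁ := B₁) (B' := B')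
      (hW.primeIdealOf ⟨g' x', hxW⟩).asIdeal.primeCompl
      ((stkF (g' x')).map (C.sc i).f).hom ((stkF (g' x')).map (C.sc i).g).hom
      (R.map ((stkF (g' x')).map (C.sc i).f)).hom (R.map ((stkF (g' x')).map (C.sc i).g)).hom
      (fun _ => rfl) (fun _ => rfl) hten

theorem isFlatOverAt_pullback_bc (hc : IsPullback g' f' f g) (x' : X') (M : X.Modules)
    (h : FlatMod.IsFlatOverAt f M (g' x')) : FlatMod.IsFlatOverAt f' ((Scheme.Modules.pullback g').obj M) x' :=
  (stalk_baseChange hc x' M).1 h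

/-- Acyclic bounded above complexes of modules flat over the base stay acyclic. -/
theorem acyclic_pullback_bc (hc : IsPullback g' f' f g) (C : CochainComplex X.Modules ℤ) (b : ℤ)
    (hb : ∀ n, b < n → IsZero (C.X n)) (hfl : ∀ n, FlatMod.IsFlatOver f (C.X n)) (hex : ∀ n, C.ExactAt n) (i : ℤ) :
    (((Scheme.Modules.pullback g').mapHomologicalComplex (ComplexShape.up ℤ)).obj C).ExactAt i := by
  rw [HomologicalComplex.exactAt_iff, exact_iff_stkF]
  exact fun x' => (stalk_baseChange hc x' (C.X i)).2 C b hb (fun n => hfl n _) hex i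

/-- The termwise inverse image of a quasi-isomorphism between bounded above complexes flat over the base. -/
theorem quasiIso_pullback_bc (hc : IsPullback g' f' f g) {N E : CochainComplex X.Modules ℤ} (c : N ⟶ E)
    [QuasiIso c] (b : ℤ) (hNb : ∀ n, b < n → IsZero (N.X n)) (hEb : ∀ n, b < n → IsZero (E.X n))
    (hN : ∀ n, FlatMod.IsFlatOver f (N.X n)) (hE : ∀ n, FlatMod.IsFlatOver f (E.X n)) :
    QuasiIso ((pullCx g').map c) := by
  haveI : (Scheme.Modules.pullback g').Additive := inferInstance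
  have hCX : ∀ n, Nonempty ((CochainComplex.mappingCone c).X n ≅ N.X (n + 1) ⊞ E.X n) := fun n =>
    ⟨HomologicalComplex.homotopyCofiber.XIsoBiprod c n (n + 1) rfl⟩
  refine Groth.Agent.KFlat.quasiIso_of_acyclic_cone _ fun i => ?_
  refine HomologicalComplex.ExactAt.of_iso (acyclic_pullback_bc hc (CochainComplex.mappingCone c) b
    (fun n hn => IsZero.of_iso (Groth.Agent.KFlat.isZero_biprod (hNb _ (by omega)) (hEb _ hn)) (hCX n).some)
    (fun n x => isFlatOverAt_biprod f (hN _ x) (hE _ x) (hCX n).some)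
    (fun n => Groth.Agent.KFlat.acyclic_cone_of_quasiIso c n) i)
    (CochainComplex.mappingCone.mapHomologicalComplexIso c (Scheme.Modules.pullback g'))

/-- Relative tor dimension is stable under base change. -/
theorem locHasFiniteRelTorDim_lpull (hc : IsPullback g' f' f g) [Flat f] [DCoh.HasLpull g'] (K : DCoh.D X)
    (hK : DCoh.LocHasFiniteRelTorDim f K) : DCoh.LocHasFiniteRelTorDim f' ((DCoh.Lpull g').obj K) := by
  intro x'
  obtain ⟨V, a, b, hx, hV⟩ := hK (g' x')
  let R := (resX X).obj (DerivedCategory.Q.objPreimage K)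
  obtain ⟨E, hE, hEfl, ⟨eE⟩⟩ := hV R ⟨resXIso K⟩
  let W := g' ⁻¹ᵁ V
  let gV := g' ∣_ V
  have hcV : IsPullback gV (W.ι ≫ f') (V.ι ≫ f) g := (isPullback_morphismRestrict g' V).paste_vert hc
  refine ⟨W, a, b, hx, fun F' ⟨i⟩ => ⟨(pullCx gV).obj E,
    fun n hn => (Scheme.Modules.pullback gV).map_isZero (hE n hn),
    fun n y => isFlatOverAt_pullback_bc hcV y _ (hEfl n _), ?_⟩⟩
  obtain ⟨N, c, hc', hN, hNb⟩ : ∃ (N : CochainComplex (V : Scheme.{u}).Modules ℤ) (c : N ⟶ E), QuasiIso c ∧
      (∀ n, ModSite.IsFlat (O := (V : Scheme.{u}).sheaf) (N.X n)) ∧ ∀ n, b < n → IsZero (N.X n) :=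
    exists_bdd_flat_resolution (V : Scheme.{u}).sheaf E b (fun n hn => hE n (Or.inr hn))
  haveI := hc'
  have hN' : ∀ n, FlatMod.IsFlat (N.X n) := fun n => (isFlat_iff _).2 (hN n)
  haveI := quasiIso_pullback_bc hcV c b hNb (fun n hn => hE n (Or.inr hn))
    (fun n => isFlatOver_of_isFlat _ (hN' n)) hEfl
  haveI : IsIso (DerivedCategory.Q.map ((pullCx gV).map c)) :=
    (DerivedCategory.isIso_Q_map_iff_quasiIso (C := (W : Scheme.{u}).Modules) _).2 ‹_›
  haveI : IsIso (DerivedCategory.Q.map c) :=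
    (DerivedCategory.isIso_Q_map_iff_quasiIso (C := (V : Scheme.{u}).Modules) _).2 hc'
  haveI := hasLpull gV
  exact ⟨(asIso (DerivedCategory.Q.map ((pullCx gV).map c))).symm ≪≫
    (lpullIso gV N (isKFlat_of_flat_bddAbove N b hNb hN') hN').symm ≪≫
    (DCoh.Lpull gV).mapIso (asIso (DerivedCategory.Q.map c) ≪≫ eE) ≪≫
    lpullIso gV _ (isKFlat_resCx_resX V.ι _).1 (isKFlat_resCx_resX V.ι _).2 ≪≫
    lpullRestrictIso g' K W V.ι gV (morphismRestrict_ι g' V) ≪≫
    (DCoh.restrictD W.ι).mapIso i.symm ≪≫ restrictDQ W.ι F'⟩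

end Groth.Agent.DCohMore
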