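import Groth.Agent.DCohMore.RelPerfAffine
import Groth.Agent.RelPerfH7.FlatTerms
import Groth.Agent.TildeFinLib.Basic
import Groth.Agent.TildePerf.Amp
import Groth.Agent.TildeD.Exact
import Groth.Agent.DRingLib.TorDim
import Groth.Agent.TildeD.Main
import Groth.Agent.DCohLib.QCohHD
import Groth.Agent.DCohLib.FTLocal
import Groth.Agent.FibreDepth.Loci

/-! Relatively perfect objects as complexes of finitely presented modules flat over the base. -/

set_option autoImplicit false
set_option backward.isDefEq.respectTransparency false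
set_option linter.style.haveILetI false

universe u

open CategoryTheory Limits AlgebraicGeometry
attribute [local instance] HasDerivedCategory.standard

noncomputable section

namespace Groth.Agent.DCohMore

open Groth.Agent.DRingLib Groth.Agent.DCohLib Groth.Agent.DerSchH7

variable {X U S : Scheme.{u}}

/-- The complex of a module in degree zero. -/
abbrev sglM {X : Scheme.{u}} (M : X.Modules) : CochainComplex X.Modules ℤ :=
  (HomologicalComplex.single X.Modules (ComplexShape.up ℤ) 0).obj M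

/-- Flatness over the base at a point is tor amplitude `[0, 0]` there. -/
theorem isFlatOverAt_iff_amp (f : X ⟶ S) (M : X.Modules) (x : X) :
    FlatMod.IsFlatOverAt f M x ↔ DerSch.HasTorAmplitudeAt f 0 0 (sglM M) x := by
  let Φ := DerSch.stalkOver f x
  let e : DRing.toD ((DerSch.stalkCxOver f x).obj (sglM M)) ≅
      Dual.inD (S.presheaf.stalk (f.base x)) (Φ.obj M) :=
    DerivedCategory.Q.mapIso ((HomologicalComplex.singleMapHomologicalComplex Φ (ComplexShape.up ℤ) 0).app M) ≪≫
      singleQZeroIso (Φ.obj M)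
  exact ⟨fun h => amp_of_iso e.symm (amp_inD_of_flat _ ((isFlatOverAt_iff_stalkOver f M x).1 h)),
    fun h => (isFlatOverAt_iff_stalkOver f M x).2 (flat_of_amp_inD _ (amp_of_iso e h))⟩

theorem isFlatOverAt_restrict_iff (j : U ⟶ X) [IsOpenImmersion j] (f : X ⟶ S) (M : X.Modules) (y : U) :
    FlatMod.IsFlatOverAt (j ≫ f) ((Scheme.Modules.restrictFunctor j).obj M) y ↔
      FlatMod.IsFlatOverAt f M (j.base y) := by
  let e := (restrictStalkOverBaseIso j f y M).toLinearEquiv
  refine ⟨fun h => (isFlatOverAt_iff_stalkOver f M _).2 ?_, fun h => (isFlatOverAt_iff_stalkOver (j ≫ f) _ y).2 ?_⟩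
  · exact @Module.Flat.of_linearEquiv _ _ _ _ _ _ _ _ ((isFlatOverAt_iff_stalkOver (j ≫ f) _ y).1 h) e.symm
  · exact @Module.Flat.of_linearEquiv _ _ _ _ _ _ _ _ ((isFlatOverAt_iff_stalkOver f M _).1 h) e

theorem isFlatOverAt_comp_iff (g : U ⟶ X) (k : X ⟶ S) [IsOpenImmersion k] (M : U.Modules) (y : U) :
    FlatMod.IsFlatOverAt (g ≫ k) M y ↔ FlatMod.IsFlatOverAt g M y := by
  rw [isFlatOverAt_iff_amp, isFlatOverAt_iff_amp, hasTorAmplitudeAt_comp_iff]

theorem isFP_restrict (j : U ⟶ X) [IsOpenImmersion j] {M : X.Modules} (h : CohB1.IsFP M) :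
    CohB1.IsFP ((Scheme.Modules.restrictFunctor j).obj M) := by
  haveI := FibreDepth.isQCoh_of_isFP M h
  exact isFP_iso ((Scheme.Modules.restrictFunctorIsoPullback j).app M).symm (PullbackMod.isFP_pullback j M h)

theorem isQCohD_of_pc {K : DCoh.D X} (h : ∀ m : ℤ, DCoh.IsPseudoCoherentD m K) : DCoh.IsQCohD K :=
  fun i => (isQCoh_HD_of_pseudoCoherent (h (i - 1))).1 i (by omega)

section Affine

variable {R : Type u} [CommRing R] {A : CommRingCat.{u}} (φ : R →+* A)

/-- A tilde is flat over the base iff the module is. -/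
theorem isFlatOver_tilde_iff (N : ModuleCat.{u} A) :
    FlatMod.IsFlatOver (Spec.map (CommRingCat.ofHom φ)) ((tilde.functor A).obj N) ↔
      Module.Flat R ((ModuleCat.restrictScalars.{u} φ).obj N) := by
  let s : TildePerf.tilC (A := A) ((HomologicalComplex.single (ModuleCat.{u} A) (ComplexShape.up ℤ) 0).obj N) ≅
      sglM ((tilde.functor A).obj N) :=
    (HomologicalComplex.singleMapHomologicalComplex (tilde.functor A) (ComplexShape.up ℤ) 0).app N
  obtain ⟨r⟩ := nonempty_restrictD_inD φ N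
  let r' := (DRing.restrictD φ).mapIso (singleQZeroIso N) ≪≫ r
  have h := hasTorAmplitude_tilde_iff φ ((HomologicalComplex.single (ModuleCat.{u} A) (ComplexShape.up ℤ) 0).obj N) 0 0
  constructor
  · intro hf
    exact flat_of_amp_inD _ (amp_of_iso r' (h.1 fun x =>
      hasTorAmplitudeAt_congr _ (DerivedCategory.Q.mapIso s).symm ((isFlatOverAt_iff_amp _ _ x).1 (hf x))))
  · intro hN x
    exact (isFlatOverAt_iff_amp _ _ x).2 (hasTorAmplitudeAt_congr _ (DerivedCategory.Q.mapIso s)
      (h.2 (amp_of_iso r'.symm (amp_inD_of_flat _ hN)) x))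

end Affine

/-- A complex of quasi-coherent modules on an affine scheme is the sheaf of a complex of modules. -/
theorem exists_tilC_iso {A : CommRingCat.{u}} (G : CochainComplex (Spec A).Modules ℤ)
    (h : ∀ n, Coh.IsQCoh (G.X n)) :
    ∃ N : DRing.Cx A, Nonempty (TildePerf.tilC (A := A) N ≅ G) := by
  haveI : (moduleSpecΓFunctor (R := A)).Additive := (tilde.adjunction (R := A)).right_adjoint_additive
  haveI : ∀ n, IsIso ((Scheme.Modules.fromTildeΓNatTrans (R := A)).app (G.X n)) := fun n => by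
    haveI : (G.X n).IsQuasicoherent := h n
    exact Scheme.Modules.isIso_fromTildeΓ_of_isQuasicoherent (R := A) (G.X n)
  exact ⟨((moduleSpecΓFunctor (R := A)).mapHomologicalComplex (ComplexShape.up ℤ)).obj G,
    ⟨HomologicalComplex.Hom.isoOfComponents
      (fun n => asIso ((Scheme.Modules.fromTildeΓNatTrans (R := A)).app (G.X n)))
      (fun n m _ => ((Scheme.Modules.fromTildeΓNatTrans (R := A)).naturality (G.d n m)).symm)⟩⟩

theorem isRelPerfect_of_flat_fp_cx {R A : CommRingCat.{u}} (ψ : R ⟶ A) [Flat (Spec.map ψ)]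
    [LocallyOfFinitePresentation (Spec.map ψ)]
    {G : CochainComplex (Spec A).Modules ℤ} {a b : ℤ} (hab : DCoh.VanishesOutside G a b)
    (h : ∀ n, CohB1.IsFP (G.X n) ∧ FlatMod.IsFlatOver (Spec.map ψ) (G.X n)) (m : ℤ) :
    DCoh.IsPseudoCoherentD m (DCoh.toD (Spec A) G) := by
  haveI := TildeD.preservesFiniteLimits_tilde (R := A)
  obtain ⟨N, ⟨e⟩⟩ := exists_tilC_iso G fun n => FibreDepth.isQCoh_of_isFP _ (h n).1
  let en : ∀ n, (tilde.functor A).obj (N.X n) ≅ G.X n := fun n =>
    (HomologicalComplex.eval _ (ComplexShape.up ℤ) n).mapIso e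
  letI := ψ.hom.toAlgebra
  haveI : Module.Flat R A := (HasRingHomProperty.Spec_iff (P := @Flat)).1 ‹Flat (Spec.map ψ)›
  haveI : Algebra.FinitePresentation R A :=
    (HasRingHomProperty.Spec_iff (P := @LocallyOfFinitePresentation)).1 ‹_›
  have hz : DRing.VanishesOutside N a b := fun i hi =>
    TildePerf.isZero_of_isZero_tilde (A := A) ((hab i hi).of_iso (en i))
  have hfl : ∀ i, Module.FinitePresentation A (N.X i) ∧
      Module.Flat R ((ModuleCat.restrictScalars.{u} (algebraMap R A)).obj (N.X i)) := fun i =>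
    ⟨(TildeFinLib.isFP_tilde_iff _).1 (DCohLib.isFP_iso (en i).symm (h i).1),
      (isFlatOver_tilde_iff ψ.hom (N.X i)).1 (isFlatOver_of_iso _ (en i).symm (h i).2)⟩
  exact isPseudoCoherentD_iso ((TildePerf.tildeDQ N) ≪≫ DerivedCategory.Q.mapIso e)
    ((TildePerf.isPseudoCoherentD_tilde_iff (A := A) (DRing.toD N) m).2
      ((isPseudoCoherent'_iff _).1 (RelPerfH7.isRelPerfect_of_flat_fp_terms hz hfl).1 m))

theorem exists_flat_fp_model {R A : CommRingCat.{u}} (ψ : R ⟶ A) [Flat (Spec.map ψ)]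
    [PreservesFiniteLimits (tilde.functor A)] (M : Dual.D A)
    (hpc : DRing.IsPseudoCoherent' A M) (htor : DRing.HasFiniteTorDimCx R ((DRing.restrictD ψ.hom).obj M)) :
    ∃ (G : CochainComplex (Spec A).Modules ℤ) (a b : ℤ), DCoh.VanishesOutside G a b ∧
      (∀ n, CohB1.IsFP (G.X n) ∧ FlatMod.IsFlatOver (Spec.map ψ) (G.X n)) ∧
      Nonempty ((DCoh.tildeD A).obj M ≅ DCoh.toD (Spec A) G) := by
  letI := ψ.hom.toAlgebra
  haveI : Module.Flat R A := (HasRingHomProperty.Spec_iff (P := @Flat)).1 ‹Flat (Spec.map ψ)›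
  obtain ⟨E, a, b, hE, hfl, ⟨e⟩⟩ := RelPerfH7.exists_flat_fp_complex (R := R) (A := A) (K := M) ⟨hpc, htor⟩
  exact ⟨TildePerf.tilC (A := A) E, a, b, fun i hi => TildePerf.map_isZero_tilde (R := A) (hE i hi),
    fun n => ⟨(TildeFinLib.isFP_tilde_iff _).2 (hfl n).1, (isFlatOver_tilde_iff ψ.hom _).2 (hfl n).2⟩,
    ⟨(DCoh.tildeD A).mapIso e.symm ≪≫ TildePerf.tildeDQ E⟩⟩

end Groth.Agent.DCohMore
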