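import Groth.Agent.DCohMore.RpushQC
import Groth.Agent.DCohMore.RHomCoh
import Groth.Agent.RpushLib.Closed
import Groth.Agent.S0795

/-!
# Derived direct images: coherence, boundedness, affine morphisms
-/

set_option autoImplicit false
set_option linter.style.haveILetI false
set_option linter.unusedSectionVars false
set_option maxHeartbeats 1000000

universe u

open CategoryTheory CategoryTheory.Limits AlgebraicGeometry TopologicalSpace
open CategoryTheory.Pretriangulated

attribute [local instance] HasDerivedCategory.standard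

noncomputable section

namespace Groth.Agent.DCohMore

open Groth.Agent.DCohLib Groth.Agent.SiteCmpLib

variable {X Y : Scheme.{u}}

/-- Coherent modules. -/
abbrev cohP (X : Scheme.{u}) : ObjectProperty (ModSite.Mod X.sheaf) := fun M => Coh.IsCoh (X := X) M

instance isWeakSerre_cohP (X : Scheme.{u}) [IsLocallyNoetherian X] : WSerre.IsWeakSerre (cohP X) where
  exists_zero := by
    obtain ⟨Z, hZ⟩ := HasZeroObject.zero (C := X.Modules)
    exact ⟨Z, hZ, isCoh_of_isFinLocFree (isFinLocFree_of_isZero hZ)⟩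
  kernels_le := by
    rintro _ ⟨f, k, hk, hf⟩
    exact isCoh_iso (X := X) ((kernelIsKernel f).conePointUniqueUpToIso hk)
      (QCohLib.isCoh_kernel_cokernel (X := X) f hf.1 hf.2).1
  cokernels_le := by
    rintro _ ⟨f, k, hk, hf⟩
    exact isCoh_iso (X := X) ((cokernelIsCokernel f).coconePointUniqueUpToIso hk)
      (QCohLib.isCoh_kernel_cokernel (X := X) f hf.1 hf.2).2
  prop_X₂_of_shortExact hS h₁ h₃ := QCohLib.isCoh_X₂ (X := X) hS h₁ h₃

theorem isGE_rpush (f : X ⟶ Y) [DCoh.HasRpush f] (E : DCoh.D X) (a : ℤ) [h : E.IsGE a] :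
    ((DCoh.Rpush f).obj E).IsGE a := by
  haveI : SiteCmp.HasRpushD (ModSite.RMor.ofScheme f) := ‹DCoh.HasRpush f›
  exact isLeftExact_rpushD (ModSite.RMor.ofScheme f) E a h

theorem isCohD_rpush [IsLocallyNoetherian Y] (f : X ⟶ Y) [LocallyOfFiniteType f] [DCoh.HasRpush f]
    (E : DCoh.D X) (a : ℤ) [E.IsGE a] (hE : DCoh.IsCohD E)
    (hs : ∀ i : ℤ, ClSub.IsProperOver f (CohB1.support (DCoh.HD E i))) :
    DCoh.IsCohD ((DCoh.Rpush f).obj E) := by
  haveI : EnoughInjectives X.Modules := inferInstance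
  haveI : HasInjectiveResolutions X.Modules := inferInstance
  haveI : HasInjectiveResolutions (ModSite.Mod X.sheaf) := ‹HasInjectiveResolutions X.Modules›
  haveI : SiteCmp.HasRpushD (ModSite.RMor.ofScheme f) := ‹DCoh.HasRpush f›
  let g := ModSite.RMor.ofScheme f
  obtain ⟨_, _⟩ := exists_triangulated_rpushD g
  exact @cohIn_map_of_plus _ _ _ _ _ _ _ _ (SiteCmp.RpushD g) _ _ (cohP Y) _ (isLeftExact_rpushD g) E a ‹E.IsGE a› fun q =>
    cohIn_rpushD_single g _ (cohP Y) fun p => Groth.Agent.S0795.result f _ (hE q) (hs q) p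

/-- Higher direct images of a coherent module with proper support vanish in large degrees. -/
theorem exists_bound_of_properSupport [IsLocallyNoetherian Y] [CompactSpace Y] (f : X ⟶ Y)
    [LocallyOfFiniteType f] [HasInjectiveResolutions X.Modules] (F : X.Modules) (hF : Coh.IsCoh F)
    (hs : ClSub.IsProperOver f (CohB1.support F)) :
    ∃ n : ℕ, ∀ p : ℕ, n ≤ p → IsZero ((Coh.Rpush f p).obj F) := by
  haveI := hF.1
  haveI : IsLocallyNoetherian X := LocallyOfFiniteType.isLocallyNoetherian f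
  let J := ClSubLib.annIdeal F hF.2
  let i := J.subschemeι
  haveI hp : IsProper (i ≫ f) := (ClSubLib.isProperOver_iff f i (ClSubLib.range_annIdeal F hF.2)).mp hs
  obtain ⟨η⟩ := ClSubLib.exists_iso_push_of_killed i F (ClSubLib.killed_annIdeal F hF.2)
  haveI : HasInjectiveResolutions J.subscheme.Modules := inferInstance
  obtain ⟨n, hn⟩ := exists_bound_rpush (i ≫ f)
  exact ⟨n, fun p hp => (hn _ (PullbackMod.isCoh_pullback i F hF).1 p hp).of_iso
    ((RpushLib.rpushClosedIso i f p).app _ ≪≫ (Coh.Rpush f p).mapIso η).symm⟩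

theorem exists_isLE_rpush [IsLocallyNoetherian Y] [CompactSpace Y] (f : X ⟶ Y)
    [LocallyOfFiniteType f] [DCoh.HasRpush f] (E : DCoh.D X) (a b : ℤ) [E.IsGE a] [E.IsLE b]
    (hE : DCoh.IsCohD E) (hs : ∀ i : ℤ, ClSub.IsProperOver f (CohB1.support (DCoh.HD E i))) :
    ∃ b' : ℤ, ((DCoh.Rpush f).obj E).IsLE b' := by
  haveI : EnoughInjectives X.Modules := inferInstance
  haveI : HasInjectiveResolutions X.Modules := inferInstance
  haveI : HasInjectiveResolutions (ModSite.Mod X.sheaf) := ‹HasInjectiveResolutions X.Modules›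
  haveI : SiteCmp.HasRpushD (ModSite.RMor.ofScheme f) := ‹DCoh.HasRpush f›
  let g := ModSite.RMor.ofScheme f
  obtain ⟨_, _⟩ := exists_triangulated_rpushD g
  let P : ObjectProperty (DCoh.D X) := fun K => ∃ c : ℤ, ∀ i, c < i →
    IsZero ((DerivedCategory.homologyFunctor Y.Modules i).obj ((SiteCmp.RpushD g).obj K))
  haveI : P.IsClosedUnderIsomorphisms := ⟨by
    intro K L e h
    obtain ⟨c, hc⟩ := h
    exact ⟨c, fun i hi => (hc i hi).of_iso
      ((DerivedCategory.homologyFunctor Y.Modules i).mapIso ((SiteCmp.RpushD g).mapIso e.symm))⟩⟩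
  have hshift : ∀ (K : DCoh.D X) (n : ℤ), P K → P (K⟦n⟧) := by
    intro K n hK
    obtain ⟨c, hc⟩ := hK
    exact ⟨c - n, fun i hi => (hc (n + i) (by omega)).of_iso
      ((DerivedCategory.homologyFunctor Y.Modules i).mapIso (((SiteCmp.RpushD g).commShiftIso n).app K) ≪≫
          ((DerivedCategory.homologyFunctor Y.Modules 0).shiftIso n i (n + i) rfl).app _)⟩
  have htri : ∀ T ∈ distTriang (DCoh.D X), P T.obj₁ → P T.obj₃ → P T.obj₂ := by
    rintro T hT ⟨c₁, h₁⟩ ⟨c₃, h₃⟩
    refine ⟨max c₁ c₃, fun i hi => ?_⟩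
    exact (DerivedCategory.HomologySequence.exact₂ _ ((SiteCmp.RpushD g).map_distinguished _ hT) i).isZero_of_both_zeros
        ((h₁ i (lt_of_le_of_lt (le_max_left _ _) hi)).eq_of_src _ _)
        ((h₃ i (lt_of_le_of_lt (le_max_right _ _) hi)).eq_of_tgt _ _)
  have key : P E := by
    refine prop_of_bounded P hshift htri (b - a).toNat a E ‹_›
      ((DerivedCategory.isLE_iff _ _).2 fun i hi => (DerivedCategory.isLE_iff E b).1 ‹_› i (by omega)) fun q => ?_
    obtain ⟨n, hn⟩ := exists_bound_of_properSupport f _ (hE q) (hs q)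
    exact ⟨n, fun i hi => isZero_homology_rpushD_single g _ (n : ℤ) (fun p hp => hn p (by omega)) i hi⟩
  obtain ⟨c, hc⟩ := key
  exact ⟨c, (DerivedCategory.isLE_iff _ _).2 hc⟩

/-- Cohomology in degree `0` of the direct image of an object concentrated in nonnegative degrees. -/
theorem nonempty_HD_zero_rpush (f : X ⟶ Y) [DCoh.HasRpush f] (L : DCoh.D X) [L.IsGE 0] :
    Nonempty (DCoh.HD ((DCoh.Rpush f).obj L) 0 ≅ (Scheme.Modules.pushforward f).obj (DCoh.HD L 0)) := by
  haveI : EnoughInjectives X.Modules := inferInstance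
  haveI : HasInjectiveResolutions X.Modules := inferInstance
  haveI : HasInjectiveResolutions (ModSite.Mod X.sheaf) := ‹HasInjectiveResolutions X.Modules›
  haveI : SiteCmp.HasRpushD (ModSite.RMor.ofScheme f) := ‹DCoh.HasRpush f›
  let g := ModSite.RMor.ofScheme f
  obtain ⟨_, _⟩ := exists_triangulated_rpushD g
  let t : CategoryTheory.Triangulated.TStructure (DCoh.D X) := DerivedCategory.TStructure.t
  let L₀ := (t.truncLT 1).obj L
  have hiso := SiteCmpLib.isIso_homology_map_truncLTι (SiteCmp.RpushD g) (isLeftExact_rpushD g) L 1 0 (by omega)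
  haveI : L₀.IsLE 0 := t.isLE_truncLT_obj L 1 0 (by omega)
  haveI : L₀.IsGE 0 := SiteCmpLib.isGE_truncLT L 0 1
  obtain ⟨N, ⟨e⟩⟩ := L₀.exists_iso_singleFunctor_obj_of_isGE_of_isLE 0
  haveI := DCohLib.isIso_homology_truncLTι L 1 0 (by omega)
  let eN : N ≅ DCoh.HD L 0 :=
    (HomologicalComplex.singleObjHomologySelfIso (ComplexShape.up ℤ) 0 N).symm ≪≫
      ((DerivedCategory.homologyFunctorFactors X.Modules 0).app _).symm ≪≫
      (DerivedCategory.homologyFunctor X.Modules 0).mapIso e.symm ≪≫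
      asIso ((DerivedCategory.homologyFunctor X.Modules 0).map ((t.truncLTι 1).app L))
  obtain ⟨e₀⟩ := nonempty_homology_rpushD_single g N 0
  exact ⟨(@asIso _ _ _ _ _ hiso).symm ≪≫
    (DerivedCategory.homologyFunctor Y.Modules 0).mapIso ((SiteCmp.RpushD g).mapIso e) ≪≫ e₀ ≪≫
    ((Scheme.Modules.pushforward f).rightDerivedZeroIsoSelf).app N ≪≫
    (Scheme.Modules.pushforward f).mapIso eN⟩

end Groth.Agent.DCohMore
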