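import Groth.Agent.DCohMore.RpushAcyc
import Groth.Agent.DCohMore.RelPerfTerms
import Groth.Agent.DCohMore.RelPerfBC
import Groth.Agent.DCohMore.RpushBdd
import Groth.Agent.FlatModLib.Affine
import Groth.Agent.SiteCmpLib.Stab
import Groth.Agent.S12131
import Groth.Prelude.Def_CohBC2

/-!
# Modules assembled from direct images from affine opens: acyclicity, flatness, base change
-/

set_option autoImplicit false
set_option linter.style.haveILetI false
set_option linter.unusedSectionVars false
set_option backward.isDefEq.respectTransparency false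

universe u

open CategoryTheory CategoryTheory.Limits AlgebraicGeometry TopologicalSpace
open CategoryTheory.Pretriangulated

attribute [local instance] HasDerivedCategory.standard

noncomputable section

namespace Groth.Agent.DCohMore

open Groth.Agent.DCohLib Groth.Agent.SiteCmpLib

variable {X S : Scheme.{u}}

theorem isAffineHom_to_separated {U : Scheme.{u}} (j : U ⟶ X) [IsAffine U] [X.IsSeparated] : IsAffineHom j :=
  MorphismProperty.of_postcomp (W := @IsAffineHom) (W' := @IsSeparated) j (terminal.from X) inferInstance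
    (inferInstanceAs (IsAffineHom (j ≫ terminal.from X)))

/-- Finite sums of direct images from affine opens of quasi-coherent modules flat over the base. -/
inductive GoodMod (f : X ⟶ S) : X.Modules → Prop
  | push {U : Scheme.{u}} (j : U ⟶ X) [IsOpenImmersion j] [IsAffine U] (M : U.Modules) :
      Coh.IsQCoh M → FlatMod.IsFlatOver (j ≫ f) M → GoodMod f ((Scheme.Modules.pushforward j).obj M)
  | zero (Z : X.Modules) : IsZero Z → GoodMod f Z
  | biprod {M N : X.Modules} : GoodMod f M → GoodMod f N → GoodMod f (M ⊞ N)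
  | iso {M N : X.Modules} : (M ≅ N) → GoodMod f M → GoodMod f N

/-- Direct images along affine morphisms preserve flatness over the base. -/
theorem isFlatOver_pushforward_affine {W : Scheme.{u}} (h : W ⟶ X) [IsAffineHom h] (f : X ⟶ S) (M : W.Modules)
    [Coh.IsQCoh M] (hM : FlatMod.IsFlatOver (h ≫ f) M) :
    FlatMod.IsFlatOver f ((Scheme.Modules.pushforward h).obj M) := by
  haveI : Coh.IsQCoh ((Scheme.Modules.pushforward h).obj M) := QCohLib.isQCoh_pushforward M h
  refine (FlatModLib.isFlatOver_iff f _).2 fun U V hUV hU hV => ?_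
  have hle : h ⁻¹ᵁ U ≤ (h ≫ f) ⁻¹ᵁ V := fun x hx => hUV hx
  have key := (FlatModLib.isFlatOver_iff (h ≫ f) M).1 hM (h ⁻¹ᵁ U) V hle (hU.preimage h) hV
  letI := Module.compHom Γ(M, h ⁻¹ᵁ U) ((h ≫ f).appLE V (h ⁻¹ᵁ U) hle).hom
  letI := Module.compHom Γ((Scheme.Modules.pushforward h).obj M, U) (f.appLE V U hUV).hom
  haveI : Module.Flat Γ(S, V) Γ(M, h ⁻¹ᵁ U) := key
  have happ : (h ≫ f).appLE V (h ⁻¹ᵁ U) hle = f.appLE V U hUV ≫ h.app U := by
    rw [Scheme.Hom.app_eq_appLE, Scheme.Hom.appLE_comp_appLE]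
  let e : Γ(M, h ⁻¹ᵁ U) ≃ₗ[Γ(S, V)] Γ((Scheme.Modules.pushforward h).obj M, U) :=
    { toFun := fun m => m
      map_add' := fun _ _ => rfl
      map_smul' := fun a m => by
        show ((h ≫ f).appLE V (h ⁻¹ᵁ U) hle a) • m = (h.app U (f.appLE V U hUV a)) • m
        rw [happ]
        rfl
      invFun := fun m => m
      left_inv := fun _ => rfl
      right_inv := fun _ => rfl }
  exact Module.Flat.of_linearEquiv e.symm

/-- The direct image of a single module along an affine morphism. -/
theorem nonempty_rpush_inD_affine {W : Scheme.{u}} (h : W ⟶ X) [IsAffineHom h] [DCoh.HasRpush h] (M : W.Modules)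
    [Coh.IsQCoh M] :
    Nonempty ((DCoh.Rpush h).obj (DCoh.inD W M) ≅ DCoh.inD X ((Scheme.Modules.pushforward h).obj M)) := by
  let C := (HomologicalComplex.single W.Modules (ComplexShape.up ℤ) 0).obj M
  have hq : ∀ n, Coh.IsQCoh (C.X n) := fun n => by
    rcases eq_or_ne n 0 with rfl | hn
    · exact isQCoh_of_iso' (HomologicalComplex.singleObjXSelf _ _ _).symm ‹_›
    · exact (PullbackMod.isQCoh_and_isFP_of_isFinLocFree _ (isFinLocFree_of_isZero
        (HomologicalComplex.isZero_single_obj_X _ _ _ _ hn))).1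
  haveI := isIso_rpushUnit_app_acyclic h C hq fun n => by
    haveI := hq n
    exact isAcyclicFor_affine h _
  exact ⟨(DCoh.Rpush h).mapIso ((DerivedCategory.singleFunctorIsoCompQ W.Modules 0).app M ≪≫
      ((DerivedCategory.quotientCompQhIso W.Modules).app C).symm) ≪≫
    (asIso ((rpushUnit h).app ((quotM W).obj C))).symm ≪≫
    DerivedCategory.Qh.mapIso (((Scheme.Modules.pushforward h).mapHomotopyCategoryFactors _).app C) ≪≫
    (DerivedCategory.quotientCompQhIso X.Modules).app _ ≪≫
    DerivedCategory.Q.mapIso ((HomologicalComplex.singleMapHomologicalComplex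
      (Scheme.Modules.pushforward h) (ComplexShape.up ℤ) 0).app M) ≪≫
    ((DerivedCategory.singleFunctorIsoCompQ X.Modules 0).app _).symm⟩

/-- Direct images of quasi-coherent modules from affine opens are acyclic for morphisms to affine schemes. -/
theorem isAcyclicFor_push_affine [IsAffine S] [X.IsSeparated] (f : X ⟶ S) {U : Scheme.{u}} (j : U ⟶ X)
    [IsAffine U] (M : U.Modules) [Coh.IsQCoh M] :
    SpSeqLib.IsAcyclicFor (Scheme.Modules.pushforward f) ((Scheme.Modules.pushforward j).obj M) := fun p => by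
  haveI : IsAffineHom (j ≫ f) := isAffineHom_of_isAffine _
  haveI := isAffineHom_to_separated j
  haveI : HasInjectiveResolutions X.Modules := inferInstance
  haveI : HasInjectiveResolutions (ModSite.Mod X.sheaf) := ‹HasInjectiveResolutions X.Modules›
  haveI : HasInjectiveResolutions U.Modules := inferInstance
  haveI : HasInjectiveResolutions (ModSite.Mod U.sheaf) := ‹HasInjectiveResolutions U.Modules›
  haveI : DCoh.HasRpush j := Groth.Agent.KInj.hasRightDerivedFunctor (hres_modules _) _
  haveI : DCoh.HasRpush f := Groth.Agent.KInj.hasRightDerivedFunctor (hres_modules _) _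
  haveI : DCoh.HasRpush (j ≫ f) := Groth.Agent.KInj.hasRightDerivedFunctor (hres_modules _) _
  haveI : SiteCmp.HasRpushD (ModSite.RMor.ofScheme f) := ‹DCoh.HasRpush f›
  haveI : SiteCmp.HasRpushD (ModSite.RMor.ofScheme (j ≫ f)) := ‹DCoh.HasRpush (j ≫ f)›
  obtain ⟨e₁⟩ := nonempty_homology_rpushD_single (ModSite.RMor.ofScheme f)
    ((Scheme.Modules.pushforward j).obj M) (p + 1)
  obtain ⟨e₂⟩ := nonempty_rpush_inD_affine j M
  obtain ⟨e₃⟩ := nonempty_rpush_inD_affine (j ≫ f) M
  obtain ⟨c⟩ := nonempty_rpushCompIso j f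
  let e : (DCoh.Rpush f).obj (DCoh.inD X ((Scheme.Modules.pushforward j).obj M)) ≅
      DCoh.inD S ((Scheme.Modules.pushforward (j ≫ f)).obj M) :=
    (DCoh.Rpush f).mapIso e₂.symm ≪≫ c.app _ ≪≫ e₃
  refine IsZero.of_iso ?_ ((((DerivedCategory.homologyFunctor S.Modules ((p + 1 : ℕ) : ℤ))).mapIso e).symm ≪≫ e₁).symm
  exact (DerivedCategory.isLE_iff _ 0).1 inferInstance _ (by omega)

theorem GoodMod.isQCoh {f : X ⟶ S} [X.IsSeparated] {N : X.Modules} (h : GoodMod f N) : Coh.IsQCoh N := by
  induction h with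
  | @push U j _ _ M hM hfl =>
    haveI := hM
    haveI := isAffineHom_to_separated j
    exact QCohLib.isQCoh_pushforward M j
  | zero Z hZ => exact (PullbackMod.isQCoh_and_isFP_of_isFinLocFree _ (isFinLocFree_of_isZero hZ)).1
  | biprod _ _ ih₁ ih₂ => exact DCohLib.isQCoh_biprod' ih₁ ih₂
  | iso e _ ih => exact isQCoh_of_iso' e ih

theorem GoodMod.isFlatOver {f : X ⟶ S} [X.IsSeparated] {N : X.Modules} (h : GoodMod f N) :
    FlatMod.IsFlatOver f N := by
  induction h with
  | @push U j _ _ M hM hfl =>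
    haveI := hM
    haveI := isAffineHom_to_separated j
    exact isFlatOver_pushforward_affine j f M hfl
  | zero Z hZ => exact isFlatOver_of_isZero f hZ
  | @biprod M N _ _ ih₁ ih₂ => exact fun x => isFlatOverAt_biprod f (ih₁ x) (ih₂ x) (Iso.refl _)
  | iso e _ ih => exact isFlatOver_of_iso f e ih

theorem GoodMod.isAcyclicFor_to_affine {f : X ⟶ S} [X.IsSeparated] {T : Scheme.{u}} [IsAffine T] (t : X ⟶ T)
    {N : X.Modules} (h : GoodMod f N) : SpSeqLib.IsAcyclicFor (Scheme.Modules.pushforward t) N := by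
  induction h with
  | @push U j _ _ M hM hfl =>
    haveI := hM
    exact isAcyclicFor_push_affine t j M
  | zero Z hZ => exact SpSeqLib.isAcyclicFor_of_isZero _ hZ
  | @biprod M N _ _ ih₁ ih₂ =>
    exact SpSeqLib.isAcyclicFor_of_biprod _ biprod.inl biprod.inr biprod.fst biprod.snd biprod.total ih₁ ih₂
  | iso e _ ih => exact fun p => (ih p).of_iso (((Scheme.Modules.pushforward _).rightDerived (p + 1)).mapIso e.symm)

theorem GoodMod.isAcyclicFor {f : X ⟶ S} [IsAffine S] [X.IsSeparated] {N : X.Modules} (h : GoodMod f N) :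
    SpSeqLib.IsAcyclicFor (Scheme.Modules.pushforward f) N :=
  h.isAcyclicFor_to_affine f

section BaseChange

variable {X' S' : Scheme.{u}} (f : X ⟶ S) (g : S' ⟶ S) (f' : X' ⟶ S') (g' : X' ⟶ X)

/-- The degree zero base change is natural. -/
theorem bc0_natural (w : g' ≫ f = f' ≫ g) {M N : X.Modules} (φ : M ⟶ N) :
    (Scheme.Modules.pullback g).map ((Scheme.Modules.pushforward f).map φ) ≫ CohBC.bc0 f g f' g' w N =
      CohBC.bc0 f g f' g' w M ≫ (Scheme.Modules.pushforward f').map ((Scheme.Modules.pullback g').map φ) := by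
  apply ((Scheme.Modules.pullbackPushforwardAdjunction g).homEquiv _ _).injective
  rw [Adjunction.homEquiv_naturality_left, Adjunction.homEquiv_naturality_right, CohBC.bc0, CohBC.bc0,
    Equiv.apply_symm_apply, Equiv.apply_symm_apply, CohBC.bc0Adj, CohBC.bc0Adj]
  simp only [Category.assoc]
  have h0 := congrArg (Scheme.Modules.pushforward f).map
    ((Scheme.Modules.pullbackPushforwardAdjunction g').unit.naturality φ)
  simp only [Functor.id_map, Functor.map_comp, Functor.comp_map] at h0
  rw [reassoc_of% h0]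
  congr 1
  have h1 := (Scheme.Modules.pushforwardComp g' f).hom.naturality ((Scheme.Modules.pullback g').map φ)
  have h2 := (Scheme.Modules.pushforwardCongr w).hom.naturality ((Scheme.Modules.pullback g').map φ)
  have h3 := (Scheme.Modules.pushforwardComp f' g).inv.naturality ((Scheme.Modules.pullback g').map φ)
  dsimp only [Functor.comp_map] at h1 h2 h3 ⊢
  rw [reassoc_of% h1, reassoc_of% h2, h3]

/-- The degree zero base change as a natural transformation. -/
def bc0Nat (w : g' ≫ f = f' ≫ g) :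
    Scheme.Modules.pushforward f ⋙ Scheme.Modules.pullback g ⟶
      Scheme.Modules.pullback g' ⋙ Scheme.Modules.pushforward f' where
  app F := CohBC.bc0 f g f' g' w F
  naturality _ _ φ := bc0_natural f g f' g' w φ

variable {U U' : Scheme.{u}} (j : U ⟶ X) (j' : U' ⟶ X') (g'' : U' ⟶ U)

set_option maxHeartbeats 1600000 in
/-- Base change of a composite. -/
theorem bc0_paste (w : g' ≫ f = f' ≫ g) (w' : g'' ≫ j = j' ≫ g') (w'' : g'' ≫ j ≫ f = (j' ≫ f') ≫ g)
    (M : U.Modules) :
    CohBC.bc0 (j ≫ f) g (j' ≫ f') g'' w'' M =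
      (Scheme.Modules.pullback g).map ((Scheme.Modules.pushforwardComp j f).inv.app M) ≫
        CohBC.bc0 f g f' g' w ((Scheme.Modules.pushforward j).obj M) ≫
        (Scheme.Modules.pushforward f').map (CohBC.bc0 j g' j' g'' w' M) ≫
        (Scheme.Modules.pushforwardComp j' f').hom.app _ := by
  apply ((Scheme.Modules.pullbackPushforwardAdjunction g).homEquiv _ _).injective
  rw [Adjunction.homEquiv_naturality_left, Adjunction.homEquiv_naturality_right, CohBC.bc0, CohBC.bc0,
    Equiv.apply_symm_apply]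
  erw [Equiv.apply_symm_apply]
  have key : (Scheme.Modules.pullbackPushforwardAdjunction g').unit.app ((Scheme.Modules.pushforward j).obj M) ≫
      (Scheme.Modules.pushforward g').map (CohBC.bc0 j g' j' g'' w' M) = CohBC.bc0Adj j g' j' g'' w' M := by
    refine (Adjunction.homEquiv_unit (Scheme.Modules.pullbackPushforwardAdjunction g') _ _ _).symm.trans ?_
    exact Equiv.apply_symm_apply _ _
  refine Scheme.Modules.hom_ext _ _ fun V => ConcreteCategory.hom_ext _ _ fun s => ?_
  have key' := congr(($key).app (f ⁻¹ᵁ V) s)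
  simp only [CohBC.bc0Adj, Functor.map_comp, Scheme.Modules.Hom.comp_app, ConcreteCategory.comp_apply,
    Scheme.Modules.pushforwardComp_hom_app_app, Scheme.Modules.pushforwardComp_inv_app_app,
    Scheme.Modules.pushforwardCongr_hom_app_app] at key' ⊢
  let β := CohBC.bc0 j g' j' g'' w' M
  let G := (Scheme.Modules.pullback g'').obj M
  let N := (Scheme.Modules.pullback g').obj ((Scheme.Modules.pushforward j).obj M)
  let s₀ : Γ((Scheme.Modules.pushforward j).obj M, f ⁻¹ᵁ V) := s
  let t : Γ(N, g' ⁻¹ᵁ (f ⁻¹ᵁ V)) :=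
    ((Scheme.Modules.pullbackPushforwardAdjunction g').unit.app ((Scheme.Modules.pushforward j).obj M)).app
      (f ⁻¹ᵁ V) s₀
  let a : Γ(G, g'' ⁻¹ᵁ (j ⁻¹ᵁ (f ⁻¹ᵁ V))) :=
    ((Scheme.Modules.pullbackPushforwardAdjunction g'').unit.app M).app (j ⁻¹ᵁ (f ⁻¹ᵁ V)) s₀
  have h1 : g'' ⁻¹ᵁ (j ⁻¹ᵁ (f ⁻¹ᵁ V)) = j' ⁻¹ᵁ (g' ⁻¹ᵁ (f ⁻¹ᵁ V)) := by
    rw [← Scheme.Hom.comp_preimage, ← Scheme.Hom.comp_preimage, w']
    rfl
  have h2 : g' ⁻¹ᵁ (f ⁻¹ᵁ V) = f' ⁻¹ᵁ (g ⁻¹ᵁ V) := by
    rw [← Scheme.Hom.comp_preimage, ← Scheme.Hom.comp_preimage, w]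
  have h3 : g'' ⁻¹ᵁ (j ⁻¹ᵁ (f ⁻¹ᵁ V)) = j' ⁻¹ᵁ (f' ⁻¹ᵁ (g ⁻¹ᵁ V)) := by rw [h1, h2]
  have k1 : β.app (g' ⁻¹ᵁ (f ⁻¹ᵁ V)) t = G.presheaf.map (eqToHom h1.symm).op a := key'
  show G.presheaf.map (eqToHom h3.symm).op a = β.app (f' ⁻¹ᵁ (g ⁻¹ᵁ V)) (N.presheaf.map (eqToHom h2.symm).op t)
  have hnat : β.app (f' ⁻¹ᵁ (g ⁻¹ᵁ V)) (N.presheaf.map (eqToHom h2.symm).op t) =
      ((Scheme.Modules.pushforward j').obj G).presheaf.map (eqToHom h2.symm).op (β.app (g' ⁻¹ᵁ (f ⁻¹ᵁ V)) t) :=
    ConcreteCategory.congr_hom (β.mapPresheaf.naturality (eqToHom h2.symm).op) t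
  rw [hnat, k1]
  show _ = G.presheaf.map ((Opens.map j'.base).map (eqToHom h2.symm)).op (G.presheaf.map (eqToHom h1.symm).op a)
  rw [← ConcreteCategory.comp_apply, ← Functor.map_comp]
  exact ConcreteCategory.congr_hom (congrArg G.presheaf.map (Subsingleton.elim _ _)) a

variable {f g f' g'}

/-- Affine base change in degree zero. -/
theorem isIso_bc0_affine (hc : IsPullback g'' j' j g') [IsAffineHom j] (M : U.Modules) [Coh.IsQCoh M] :
    IsIso (CohBC.bc0 j g' j' g'' hc.w M) :=
  Groth.Agent.S12131.result j g' g'' j' hc M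

/-- A natural transformation between additive functors is invertible on sums. -/
theorem isIso_app_biprod {A B : Type*} [Category A] [Category B] [Preadditive A] [Preadditive B] [HasBinaryBiproducts A]
    {Φ Ψ : A ⥤ B} [Φ.Additive] [Ψ.Additive] (τ : Φ ⟶ Ψ) (M N : A) [IsIso (τ.app M)] [IsIso (τ.app N)] :
    IsIso (τ.app (M ⊞ N)) := by
  refine ⟨⟨Ψ.map biprod.fst ≫ inv (τ.app M) ≫ Φ.map biprod.inl + Ψ.map biprod.snd ≫ inv (τ.app N) ≫ Φ.map biprod.inr,
    ?_, ?_⟩⟩
  · rw [Preadditive.comp_add, ← τ.naturality_assoc, ← τ.naturality_assoc, IsIso.hom_inv_id_assoc,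
      IsIso.hom_inv_id_assoc, ← Φ.map_comp, ← Φ.map_comp, ← Φ.map_add, biprod.total, Φ.map_id]
  · rw [Preadditive.add_comp, Category.assoc, Category.assoc, Category.assoc, Category.assoc, τ.naturality,
      τ.naturality, IsIso.inv_hom_id_assoc, IsIso.inv_hom_id_assoc, ← Ψ.map_comp, ← Ψ.map_comp, ← Ψ.map_add,
      biprod.total, Ψ.map_id]

theorem GoodMod.isIso_bc0 [IsAffine S] [IsAffine S'] [X.IsSeparated] (h : IsPullback g' f' f g) {N : X.Modules}
    (hN : GoodMod f N) : IsIso ((bc0Nat f g f' g' h.w).app N) := by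
  induction hN with
  | @push U j _ _ M hM hfl =>
    haveI := hM
    haveI := isAffineHom_to_separated j
    haveI : IsAffineHom (j ≫ f) := isAffineHom_of_isAffine _
    let j' := pullback.snd j g'
    let g'' := pullback.fst j g'
    have h1 : IsPullback g'' j' j g' := IsPullback.of_hasPullback j g'
    have h2 : IsPullback g'' (j' ≫ f') (j ≫ f) g := h1.paste_vert h
    haveI i1 := isIso_bc0_affine j j' g'' h1 M
    haveI i2 : IsIso (CohBC.bc0 (j ≫ f) g (j' ≫ f') g'' h2.w M) :=
      Groth.Agent.S12131.result (j ≫ f) g g'' (j' ≫ f') h2 M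
    have e := bc0_paste f g f' g' j j' g'' h.w h1.w h2.w M
    show IsIso (CohBC.bc0 f g f' g' h.w ((Scheme.Modules.pushforward j).obj M))
    haveI : IsIso ((Scheme.Modules.pushforward f').map (CohBC.bc0 j g' j' g'' h1.w M) ≫
        (Scheme.Modules.pushforwardComp j' f').hom.app ((Scheme.Modules.pullback g'').obj M)) := IsIso.comp_isIso
    haveI : IsIso (CohBC.bc0 f g f' g' h.w ((Scheme.Modules.pushforward j).obj M) ≫
        (Scheme.Modules.pushforward f').map (CohBC.bc0 j g' j' g'' h1.w M) ≫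
        (Scheme.Modules.pushforwardComp j' f').hom.app ((Scheme.Modules.pullback g'').obj M)) :=
      @IsIso.of_isIso_comp_left _ _ _ _ _
        ((Scheme.Modules.pullback g).map ((Scheme.Modules.pushforwardComp j f).inv.app M)) _ inferInstance (e ▸ i2)
    exact IsIso.of_isIso_comp_right _ ((Scheme.Modules.pushforward f').map (CohBC.bc0 j g' j' g'' h1.w M) ≫
        (Scheme.Modules.pushforwardComp j' f').hom.app ((Scheme.Modules.pullback g'').obj M))
  | zero Z hZ =>
    exact ⟨0, ((Scheme.Modules.pushforward f ⋙ Scheme.Modules.pullback g).map_isZero hZ).eq_of_src _ _,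
      ((Scheme.Modules.pullback g' ⋙ Scheme.Modules.pushforward f').map_isZero hZ).eq_of_src _ _⟩
  | @biprod M N _ _ ih₁ ih₂ =>
    haveI := ih₁
    haveI := ih₂
    haveI : (Scheme.Modules.pullback g).Additive := (Scheme.Modules.pullbackPushforwardAdjunction g).left_adjoint_additive
    haveI : (Scheme.Modules.pullback g').Additive := (Scheme.Modules.pullbackPushforwardAdjunction g').left_adjoint_additive
    exact isIso_app_biprod _ M N
  | iso e _ ih => exact (NatTrans.isIso_app_iff_of_iso (bc0Nat f g f' g' h.w) e).1 ih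

theorem GoodMod.pullback [IsAffine S] [IsAffine S'] [X.IsSeparated] (h : IsPullback g' f' f g) {N : X.Modules}
    (hN : GoodMod f N) : GoodMod f' ((Scheme.Modules.pullback g').obj N) := by
  haveI : IsAffineHom g := isAffineHom_of_isAffine _
  haveI : IsAffineHom g' := MorphismProperty.of_isPullback (P := @IsAffineHom) h.flip inferInstance
  haveI : (Scheme.Modules.pullback g').Additive := (Scheme.Modules.pullbackPushforwardAdjunction g').left_adjoint_additive
  induction hN with
  | @push U j _ _ M hM hfl =>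
    haveI := hM
    haveI := isAffineHom_to_separated j
    let j' := Limits.pullback.snd j g'
    let g'' := Limits.pullback.fst j g'
    have h1 : IsPullback g'' j' j g' := IsPullback.of_hasPullback j g'
    haveI := isIso_bc0_affine j j' g'' h1 M
    haveI : IsAffine (Limits.pullback j g') := isAffine_of_isAffineHom g''
    refine .iso (asIso (CohBC.bc0 j g' j' g'' h1.w M)).symm (.push j' _ (PullbackMod.isQCoh_pullback _ M) fun x => ?_)
    exact isFlatOverAt_pullback_bc (h1.paste_vert h) x M (hfl _)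
  | zero Z hZ => exact .zero _ ((Scheme.Modules.pullback g').map_isZero hZ)
  | @biprod M N _ _ ih₁ ih₂ =>
    haveI := preservesBinaryBiproducts_of_preservesBiproducts (Scheme.Modules.pullback g')
    exact .iso ((Scheme.Modules.pullback g').mapBiprod M N).symm (ih₁.biprod ih₂)
  | iso e _ ih => exact .iso ((Scheme.Modules.pullback g').mapIso e) ih

end BaseChange

end Groth.Agent.DCohMore
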