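import Groth.Agent.DCohMore.RpushAffine

/-!
# Cohomology sheaves of derived direct images along affine morphisms
-/

set_option autoImplicit false
set_option linter.style.haveILetI false
set_option linter.unusedSectionVars false
set_option maxHeartbeats 1000000

universe u

open CategoryTheory CategoryTheory.Limits AlgebraicGeometry TopologicalSpace
open CategoryTheory.Pretriangulated

attribute [local instance] HasDerivedCategory.standard

noncomputable section

namespace Groth.Agent.DCohMore

open Groth.Agent.DCohLib Groth.Agent.SiteCmpLib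

variable {X S : Scheme.{u}}

/-- The cohomology sheaves of a derived direct image along an affine morphism. -/
theorem nonempty_HD_rpush_affine (f : X ⟶ S) [IsAffineHom f] [DCoh.HasRpush f]
    (C : DCoh.D X) (hC : DCoh.IsQCohD C) (j : ℤ) :
    Nonempty (DCoh.HD ((DCoh.Rpush f).obj C) j ≅ (Scheme.Modules.pushforward f).obj (DCoh.HD C j)) := by
  haveI : EnoughInjectives X.Modules := inferInstance
  haveI : HasInjectiveResolutions X.Modules := inferInstance
  haveI : HasInjectiveResolutions (ModSite.Mod X.sheaf) := ‹HasInjectiveResolutions X.Modules›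
  haveI : SiteCmp.HasRpushD (ModSite.RMor.ofScheme f) := ‹DCoh.HasRpush f›
  let g := ModSite.RMor.ofScheme f
  obtain ⟨_, _⟩ := exists_triangulated_rpushD g
  let t : CategoryTheory.Triangulated.TStructure (DCoh.D X) := DerivedCategory.TStructure.t
  let C' := C⟦j⟧
  have hC' : DCoh.IsQCohD C' := fun i =>
    isQCoh_of_iso' (((DerivedCategory.homologyFunctor X.Modules 0).shiftIso j i (j + i) rfl).app C).symm (hC (j + i))
  let eC : DCoh.HD C' 0 ≅ DCoh.HD C j :=
    ((DerivedCategory.homologyFunctor X.Modules 0).shiftIso j 0 j (add_zero j)).app C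
  have h3 : ∀ M : ModSite.Mod X.sheaf, qcP X M → ∀ p : ℕ, (0 : ℤ) < (p : ℤ) → IsZero ((g.Rpush p).obj M) := by
    intro M hM p hp
    haveI : Coh.IsQCoh (X := X) M := hM
    haveI : (QCohLib.toAbF S).Faithful := inferInstanceAs (SheafOfModules.toSheaf.{u} S.ringCatSheaf).Faithful
    have h := (Groth.Agent.S0028.result f M p (by omega)).of_iso ((RpushLib.toAbRpushIso f p).app M)
    rw [IsZero.iff_id_eq_zero]
    exact (QCohLib.toAbF S).map_injective (h.eq_of_src _ _)
  obtain ⟨-, hst⟩ := cohIn_and_isIso_truncGEπ g (qcP X) X.affineOpens S.affineOpens (affine_hB X) (affine_hA X)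
    (affine_hB S) 0 h3 C' hC' (qcP S) (fun M hM p => by
      haveI : Coh.IsQCoh (X := X) M := hM
      exact RpushLib.isQCoh_rpush f p) (affine_hA S)
  have hiso := hst 0 0 (by omega)
  let L := (t.truncGE (-((0 : ℕ) : ℤ))).obj C'
  haveI hL : L.IsGE 0 := inferInstanceAs (t.IsGE ((t.truncGE (-((0 : ℕ) : ℤ))).obj C') (-((0 : ℕ) : ℤ)))
  obtain ⟨e⟩ := nonempty_HD_zero_rpush f L
  let eL : DCoh.HD C' 0 ≅ DCoh.HD L 0 :=
    haveI := DCohLib.isIso_homology_truncGEπ C' (-((0 : ℕ) : ℤ)) 0 (by omega)
    asIso ((DerivedCategory.homologyFunctor X.Modules 0).map ((t.truncGEπ (-((0 : ℕ) : ℤ))).app C'))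
  let e1 : DCoh.HD ((DCoh.Rpush f).obj C) j ≅ DCoh.HD ((SiteCmp.RpushD g).obj C') 0 :=
    (((DerivedCategory.homologyFunctor S.Modules 0).shiftIso j 0 j (add_zero j)).app _).symm ≪≫
      (DerivedCategory.homologyFunctor S.Modules 0).mapIso (((SiteCmp.RpushD g).commShiftIso j).app C).symm
  exact ⟨e1 ≪≫ @asIso _ _ _ _ _ hiso ≪≫ e ≪≫ (Scheme.Modules.pushforward f).mapIso (eL.symm ≪≫ eC)⟩

end Groth.Agent.DCohMore
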