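import Groth.Agent.DCohMore.ApproxGlobal
import Groth.Agent.DCohMore.PerfHom
import Groth.Agent.DCohMore.RelPerfTerms
import Groth.Agent.DCohLib.TriRes
import Groth.Agent.DCohLib.FlatCoker
import Groth.Agent.DCohLib.TensorEval
import Groth.Agent.TildeD.TensorQCoh
import Mathlib.Algebra.Homology.DerivedCategory.ShortExact

/-! Tensor products with bounded above objects and pseudo-coherent direct images. -/

set_option autoImplicit false
set_option linter.style.haveILetI false
set_option backward.isDefEq.respectTransparency false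

universe u

open CategoryTheory Limits AlgebraicGeometry Pretriangulated ZeroObject
attribute [local instance] HasDerivedCategory.standard

noncomputable section

namespace Groth.Agent.DCohMore

open Groth.Agent.DRingLib Groth.Agent.DCohLib

variable {X : Scheme.{u}}

theorem shortExact_tensor_cone (R : CochainComplex X.Modules ℤ) {P Q : CochainComplex X.Modules ℤ} (φ : P ⟶ Q) :
    ((CochainComplex.mappingCone.triangleRotateShortComplex φ).map
      ((DCoh.tensorCx (X := X)).flip.obj R)).ShortExact :=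
  Groth.Agent.KFlat.shortExact_totR_of_splitting (ModSite.tensorBi X.sheaf) R _
    (CochainComplex.mappingCone.triangleRotateShortComplexSplitting φ)

/-- The value of the tensor product on the image of a complex. -/
def lTensorQ' (F : CochainComplex X.Modules ℤ) [DCoh.HasLTensorCx F] (A : CochainComplex X.Modules ℤ) :
    (DCoh.LTensorCx F).obj (DerivedCategory.Q.obj A) ≅
      DerivedCategory.Q.obj (((DCoh.tensorCx (X := X)).flip.obj ((resX X).obj F)).obj A) :=
  (lTensorCxIsoQ F ((resX X).obj F) ((resXπ X).app F) (quasiIso_resXπ F) (isKFlat_resX F)).app A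

/-- A triangle made of the tensor products of the objects of a triangle. -/
theorem exists_lTensorCx_triangle (F : CochainComplex X.Modules ℤ) [DCoh.HasLTensorCx F]
    (T : Triangle (DCoh.D X)) (hT : T ∈ distTriang _) :
    ∃ T' : Triangle (DCoh.D X), T' ∈ distTriang _ ∧
      Nonempty (T'.obj₁ ≅ (DCoh.LTensorCx F).obj T.obj₂) ∧
      Nonempty (T'.obj₂ ≅ (DCoh.LTensorCx F).obj T.obj₃) ∧
      Nonempty (T'.obj₃ ≅ (DCoh.LTensorCx F).obj (T.obj₁⟦(1 : ℤ)⟧)) := by
  obtain ⟨P, Q, φ, -, -, -, -, ⟨e⟩⟩ := exists_resolved T hT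
  have hS := shortExact_tensor_cone ((resX X).obj F) φ
  let e₁ : DerivedCategory.Q.obj Q ≅ T.obj₂ := Triangle.π₂.mapIso e
  let e₂ : DerivedCategory.Q.obj (CochainComplex.mappingCone φ) ≅ T.obj₃ := Triangle.π₃.mapIso e
  let e₀ : DerivedCategory.Q.obj P ≅ T.obj₁ := Triangle.π₁.mapIso e
  let e₃ : DerivedCategory.Q.obj (CochainComplex.mappingCone.triangleRotateShortComplex φ).X₃ ≅ T.obj₁⟦(1 : ℤ)⟧ :=
    (DerivedCategory.Q.commShiftIso (1 : ℤ)).app P ≪≫ (shiftFunctor (DCoh.D X) (1 : ℤ)).mapIso e₀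
  refine ⟨DerivedCategory.triangleOfSES hS, DerivedCategory.triangleOfSES_distinguished hS, ⟨?_⟩, ⟨?_⟩, ⟨?_⟩⟩
  · exact (lTensorQ' F Q).symm ≪≫ (DCoh.LTensorCx F).mapIso e₁
  · exact (lTensorQ' F (CochainComplex.mappingCone φ)).symm ≪≫ (DCoh.LTensorCx F).mapIso e₂
  · exact (lTensorQ' F (CochainComplex.mappingCone.triangleRotateShortComplex φ).X₃).symm ≪≫ (DCoh.LTensorCx F).mapIso e₃

/-- Tensor products of bounded above objects are bounded above. -/
theorem isLE_lTensorCx (F : CochainComplex X.Modules ℤ) [DCoh.HasLTensorCx F] (b : ℤ)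
    [hF : (DCoh.toD X F).IsLE b] (Z : DCoh.D X) (c : ℤ) [Z.IsLE c] :
    ((DCoh.LTensorCx F).obj Z).IsLE (c + b) := by
  haveI : F.IsLE b := (DerivedCategory.isLE_Q_obj_iff F b).1 hF
  obtain ⟨P, hP, ⟨eP⟩⟩ := DerivedCategory.exists_iso_Q_obj_of_isLE Z c
  obtain ⟨N, π, hπ, hflat, hN⟩ := exists_bdd_flat_resolution X.sheaf (F.truncLE b) b
    fun n hn => (F.truncLE b).isZero_of_isStrictlyLE b n hn
  haveI : QuasiIso π := hπ
  haveI : QuasiIso (F.ιTruncLE b) := inferInstance
  have hK : DCoh.IsKFlat N := (DCohLib.isKFlat_iff N).2 (Groth.Agent.KFlat.isKFlat_of_bddAbove X.sheaf N b hN hflat)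
  let π' : N ⟶ F := π ≫ F.ιTruncLE b
  let l := lTensorCxIsoQ F N π' (inferInstanceAs (QuasiIso (π ≫ F.ιTruncLE b))) hK
  let e : (DCoh.LTensorCx F).obj Z ≅ DerivedCategory.Q.obj ((DCoh.tensorCx.obj P).obj N) :=
    (DCoh.LTensorCx F).mapIso eP ≪≫ l.app P
  refine (DerivedCategory.isLE_iff _ _).2 fun i hi => IsZero.of_iso ?_
    ((DerivedCategory.homologyFunctor _ i).mapIso e ≪≫ (DerivedCategory.homologyFunctorFactors _ i).app _)
  exact (HomologicalComplex.exactAt_iff_isZero_homology _ _).1 (HomologicalComplex.ExactAt.of_isZero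
    (isZero_tensor_X c b (fun k hk => P.isZero_of_isStrictlyLE c k hk) hN i hi))

/-- Pseudo-coherence of the derived direct image of a tensor product from the case of perfect objects. -/
theorem isPseudoCoherentD_rpush_lTensor [CompactSpace X] [QuasiSeparatedSpace X] {A : Type u} [CommRing A]
    (π : X ⟶ Spec (CommRingCat.of A)) [DCoh.HasRpush π]
    (K : CochainComplex X.Modules ℤ) (hK : DCoh.IsQCohD (DCoh.toD X K)) (b : ℤ) [(DCoh.toD X K).IsLE b]
    [DCoh.HasLTensorCx K]
    (h : ∀ E : DCoh.D X, DCoh.IsPerfect E → ∀ m : ℤ,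
      DCoh.IsPseudoCoherentD m ((DCoh.Rpush π).obj ((DCoh.LTensorCx K).obj E)))
    (E : DCoh.D X) (hE : ∀ m : ℤ, DCoh.IsPseudoCoherentD m E) (m : ℤ) :
    DCoh.IsPseudoCoherentD m ((DCoh.Rpush π).obj ((DCoh.LTensorCx K).obj E)) := by
  haveI : QuasiCompact π := quasiCompact_of_compactSpace π
  haveI : QuasiSeparated π := (quasiSeparated_iff_quasiSeparatedSpace π).2 inferInstance
  obtain ⟨N, hN⟩ := exists_isLE_rpush_qcoh π
  obtain ⟨r, hr⟩ := appr_main (X := X) Set.univ isClosed_univ (by rw [Set.compl_univ]; exact isCompact_empty)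
  have hEq := isQCohD_of_pc hE
  obtain ⟨P, α, hP, -, C, p, d, hT, hC⟩ := hr (m - b - N) E hEq (hE _) fun i _ x _ => Set.mem_univ x
  have hCq : DCoh.IsQCohD C := isQCohD_obj₃' _ hT (isQCohD_of_isPerfect hP) hEq
  haveI : C.IsLE (m - b - N - 1) := (DerivedCategory.isLE_iff _ _).2 fun i hi => hC i (by omega)
  have hLC := hN _ ((m - b - N - 1) + b) (TildeD.isQCohD_lTensorCx K hK C hCq) (isLE_lTensorCx K b C (m - b - N - 1))
  obtain ⟨T', hT', ⟨e₁⟩, ⟨e₂⟩, ⟨e₃⟩⟩ := exists_lTensorCx_triangle K _ hT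
  haveI : SiteCmp.HasRpushD (ModSite.RMor.ofScheme π) := ‹DCoh.HasRpush π›
  obtain ⟨_, _⟩ := SiteCmpLib.exists_triangulated_rpushD (ModSite.RMor.ofScheme π)
  let G : DCoh.D X ⥤ DCoh.D (Spec (CommRingCat.of A)) := SiteCmp.RpushD (ModSite.RMor.ofScheme π)
  have hd := G.map_distinguished _ hT'
  refine isPseudoCoherentD_iso (G.mapIso e₁) ?_
  have h₂ : DCoh.IsPseudoCoherentD m (G.obj T'.obj₂) := by
    refine isPseudoCoherentD_iso (G.mapIso e₂).symm ((isPseudoCoherentD_iff _ _).2 fun x => ⟨⊤, trivial, ?_⟩)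
    exact pcOn_of_aboveZero (AboveZero.restrict _ fun i hi =>
      (DerivedCategory.isLE_iff _ _).1 hLC i (by omega))
  have h₃ : DCoh.IsPseudoCoherentD (m - 1) (G.obj T'.obj₃) :=
    isPseudoCoherentD_iso (G.mapIso e₃).symm (h _ (isPerfect_shift hP 1) _)
  have := isPseudoCoherentD_obj₁ _ hd (m := m - 1) (by rwa [sub_add_cancel]) h₃
  rwa [sub_add_cancel] at this

end Groth.Agent.DCohMore
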