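import Groth.Agent.DCohMore.SpecApprox
import Groth.Agent.DCohMore.AffinePushPC
import Groth.Agent.DCohMore.PerfVanish
import Groth.Agent.DCohMore.RHomQC
import Groth.Agent.TildeD.QCohPull
import Groth.Agent.TildePerf.PC
import Mathlib.CategoryTheory.Adjunction.FullyFaithful
import Mathlib.CategoryTheory.Triangulated.Triangulated

/-! Extension of perfect objects from quasi-compact opens of affine schemes. -/

set_option autoImplicit false
set_option linter.style.haveILetI false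
set_option backward.isDefEq.respectTransparency false

universe u

open CategoryTheory Limits AlgebraicGeometry Pretriangulated ZeroObject
attribute [local instance] HasDerivedCategory.standard

noncomputable section

namespace Groth.Agent.DCohMore

open Groth.Agent.DRingLib Groth.Agent.DCohLib

/-- Restriction is a left inverse of the derived direct image from an open. -/
def rpushRestrictId {X : Scheme.{u}} (W : X.Opens) [DCoh.HasRpush W.ι] :
    DCoh.Rpush W.ι ⋙ DCoh.restrictD W.ι ≅ 𝟭 (DCoh.D (W : Scheme.{u})) :=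
  haveI : IsIso (W.ι ∣_ W) := by
    haveI : IsOpenImmersion (W.ι ∣_ W) := inferInstance
    haveI : Surjective (W.ι ∣_ W) := ⟨fun y => ⟨⟨⟨y.1, y.2⟩, y.2⟩, W.ι.isOpenEmbedding.injective (by
      simpa using congrArg (fun g : (W.ι ⁻¹ᵁ W : Scheme.{u}) ⟶ X => g ⟨⟨y.1, y.2⟩, y.2⟩) (morphismRestrict_ι W.ι W))⟩⟩
    haveI : Epi (W.ι ∣_ W).base := (TopCat.epi_iff_surjective _).2 (W.ι ∣_ W).surjective
    exact IsOpenImmersion.isIso _
  let e := asIso (W.ι ∣_ W)
  haveI : DCoh.HasRpush (W.ι ∣_ W) := Groth.Agent.KInj.hasRightDerivedFunctor (hres_modules _) _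
  haveI : DCoh.HasRpush e.hom := ‹DCoh.HasRpush (W.ι ∣_ W)›
  haveI := hasLpull e.hom
  have he : e.inv ≫ (W.ι ⁻¹ᵁ W).ι = 𝟙 _ := by
    rw [← cancel_mono W.ι, Category.assoc, ← morphismRestrict_ι, Category.id_comp]
    exact e.inv_hom_id_assoc _
  (nonempty_restrictD_rpush W.ι W).some ≪≫ Functor.isoWhiskerLeft _ (rpushIsoRestrict e) ≪≫
    (restrictDComp e.inv (W.ι ⁻¹ᵁ W).ι).symm ≪≫ restrictDCongr he ≪≫ restrictDId _

theorem isPseudoCoherentD_of_isPerfect' {X : Scheme.{u}} {K : DCoh.D X} (h : DCoh.IsPerfect K) (m : ℤ) :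
    DCoh.IsPseudoCoherentD m K :=
  (isPseudoCoherentD_iff m _).2 fun x =>
    let ⟨V, hx, hV⟩ := (isPerfect_iff _).1 h x
    ⟨V, hx, hV.pcOn _⟩

theorem isQCohD_obj₃' {X : Scheme.{u}} (T : Triangle (DCoh.D X)) (hT : T ∈ distTriang _)
    (h₁ : DCoh.IsQCohD T.obj₁) (h₂ : DCoh.IsQCohD T.obj₂) : DCoh.IsQCohD T.obj₃ :=
  isQCohD_obj₂ T.rotate (rot_of_distTriang _ hT) h₂ fun i =>
    (SheafOfModules.isQuasicoherent X.ringCatSheaf).prop_of_iso
      (((DerivedCategory.homologyFunctor X.Modules 0).shiftIso 1 i (i + 1) (by omega)).app T.obj₁).symm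
      (h₁ (i + 1))

variable {A : Type u} [CommRing A] [PreservesFiniteLimits (tilde.functor (CommRingCat.of A))]

/-- The sheaf of an object of the derived category of a ring, restricted to an open. -/
abbrev jW (W : (Spec (CommRingCat.of A)).Opens) : Dual.D A ⥤ DCoh.D (W : Scheme.{u}) :=
  DCoh.tildeD (CommRingCat.of A) ⋙ DCoh.restrictD W.ι

theorem isPerfect_jW (W : (Spec (CommRingCat.of A)).Opens) {E : Dual.D A} (hE : Perf FProj E) :
    DCoh.IsPerfect ((jW W).obj E) :=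
  isPerfect_restrict W.ι (TildePerf.perfect_tilde hE)

theorem isQCohD_jW (W : (Spec (CommRingCat.of A)).Opens) (E : Dual.D A) : DCoh.IsQCohD ((jW W).obj E) :=
  TildeD.isQCohD_restrict W.ι ((DCoh.tildeD (CommRingCat.of A)).obj E) (TildeD.isQCohD_tildeD (CommRingCat.of A) E)

theorem isPseudoCoherentD_jW (W : (Spec (CommRingCat.of A)).Opens) {E : Dual.D A} (hE : Perf FProj E) (m : ℤ) :
    DCoh.IsPseudoCoherentD m ((jW W).obj E) :=
  isPseudoCoherentD_restrict W.ι ((TildePerf.isPseudoCoherentD_tilde_iff E m).2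
    ((isPseudoCoherent'_iff E).1 (pcPrime_of_perf hE) m))

set_option maxHeartbeats 800000 in
/-- One step of the approximation in any degree. -/
theorem exists_step (W : (Spec (CommRingCat.of A)).Opens) (hW : IsCompact (W : Set (Spec (CommRingCat.of A))))
    (ls : List A) (M : Dual.D A) (hM : Tors ls M) (hpc : ∀ m, DCoh.IsPseudoCoherentD m ((jW W).obj M)) (b : ℤ)
    (hb : AboveW W (b + 1) M) :
    ∃ T : Triangle (Dual.D A), T ∈ distTriang _ ∧ Nonempty (T.obj₂ ≅ M) ∧ Perf FProj T.obj₁ ∧ Tors ls T.obj₁ ∧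
      AboveW W b T.obj₃ := by
  obtain ⟨T, hT, h₂, hP, hTo, hA⟩ := exists_step_zero W hW ls (M⟦b⟧) (hM.shift b)
    (fun m => isPseudoCoherentD_iso (((jW W).commShiftIso b).app M).symm
      (isPseudoCoherentD_shift (hpc (m + b)) b (by omega))) (hb.shift b 1 (by omega))
  exact ⟨(Triangle.shiftFunctor (Dual.D A) (-b)).obj T, Triangle.shift_distinguished T hT (-b),
    ⟨(shiftFunctor (Dual.D A) (-b)).mapIso (eqToIso h₂) ≪≫ ((shiftEquiv (Dual.D A) b).unitIso.app M).symm⟩,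
    hP.shift (-b), hTo.shift (-b), hA.shift (-b) b (by omega)⟩

/-- Approximation by torsion perfect objects down to any degree. -/
theorem exists_approx (W : (Spec (CommRingCat.of A)).Opens) (hW : IsCompact (W : Set (Spec (CommRingCat.of A))))
    (ls : List A) (M : Dual.D A) (hM : Tors ls M) (hpc : ∀ m, DCoh.IsPseudoCoherentD m ((jW W).obj M)) (b : ℤ)
    (hb : AboveW W b M) (k : ℕ) :
    ∃ (E C : Dual.D A) (u : E ⟶ M) (p : M ⟶ C) (d : C ⟶ E⟦(1 : ℤ)⟧), Triangle.mk u p d ∈ distTriang _ ∧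
      Perf FProj E ∧ Tors ls E ∧ AboveW W (b - k) C := by
  induction k with
  | zero =>
    refine ⟨0, M, 0, 𝟙 M, 0, ?_, perf_of_isZero projClass_fProj (isZero_zero _), Tors.of_isZero (isZero_zero _),
      fun i hi => hb i (by omega)⟩
    exact contractible_distinguished₁ M
  | succ k ih =>
    obtain ⟨E, C, u, p, d, hT, hE, hEt, hC⟩ := ih
    have hCt : Tors ls C := Tors.obj₃ _ hT hEt hM
    have hCpc : ∀ m, DCoh.IsPseudoCoherentD m ((jW W).obj C) := fun m =>
      isPseudoCoherentD_obj₃ _ ((jW W).map_distinguished _ hT) (isPseudoCoherentD_jW W hE (m + 1)) (hpc m)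
    obtain ⟨T, hT', ⟨e⟩, hP, hPt, hA⟩ := exists_step W hW ls C hCt hCpc (b - (k + 1 : ℕ))
      (fun i hi => hC i (by push_cast at hi ⊢; omega))
    have h₂₃ : Triangle.mk (T.mor₁ ≫ e.hom) (e.inv ≫ T.mor₂) T.mor₃ ∈ distTriang _ :=
      isomorphic_distinguished _ hT' _ (Triangle.isoMk _ _ (Iso.refl _) e.symm (Iso.refl _)
        (by simp) (by simp) (by simp))
    obtain ⟨E', u', d', h₁₃⟩ := distinguished_cocone_triangle₁ (p ≫ e.inv ≫ T.mor₂)
    let o := Triangulated.someOctahedron' (rfl : p ≫ (e.inv ≫ T.mor₂) = _) hT h₂₃ h₁₃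
    exact ⟨E', T.obj₃, u', p ≫ e.inv ≫ T.mor₂, d', h₁₃, Perf.obj₂ projClass_fProj _ o.mem hE hP,
      Tors.obj₂ _ o.mem hEt hPt, hA⟩

/-- A perfect object on a quasi-compact open is a retract of the restriction of a torsion perfect one. -/
theorem exists_retract (W : (Spec (CommRingCat.of A)).Opens) (hW : IsCompact (W : Set (Spec (CommRingCat.of A))))
    (ls : List A) (M : Dual.D A) (hM : Tors ls M) (hper : DCoh.IsPerfect ((jW W).obj M)) :
    ∃ (E : Dual.D A) (u : E ⟶ M) (s : (jW W).obj M ⟶ (jW W).obj E), Perf FProj E ∧ Tors ls E ∧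
      s ≫ (jW W).map u = 𝟙 _ := by
  haveI : CompactSpace (W : Scheme.{u}) := isCompact_iff_compactSpace.1 hW
  haveI : QuasiSeparatedSpace (W : Scheme.{u}) := quasiSeparatedSpace_of_quasiSeparated W.ι
  have hpc : ∀ m, DCoh.IsPseudoCoherentD m ((jW W).obj M) := fun m => isPseudoCoherentD_of_isPerfect' hper m
  obtain ⟨b, hb⟩ := TildePerf.exists_aboveZero_of_pc (hpc 0)
  obtain ⟨a, B, -, hwin⟩ := exists_window hper
  obtain ⟨E, C, u, p, d, hT, hE, hEt, hC⟩ :=
    exists_approx W hW ls M hM hpc b ((aboveW_iff W b M).2 hb) (b - a).toNat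
  have hz : (jW W).map p = 0 := hwin _ (isQCohD_jW W C)
    (fun i hi _ => (aboveW_iff W _ C).1 hC i (by omega)) _
  obtain ⟨s, hs⟩ := Triangle.coyoneda_exact₂ _ ((jW W).map_distinguished _ hT) (𝟙 _)
    (by rw [Category.id_comp]; exact hz)
  exact ⟨E, u, s, hE, hEt, hs.symm⟩

set_option maxHeartbeats 800000 in
/-- Endomorphisms on the open lift after an isomorphism on the open. -/
theorem exists_lift_endo (gs ls : List A) {E E₂ : Dual.D A} (hE : Perf FProj E) (hEt : Tors ls E)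
    (ψ : (jW (gOpen gs)).obj E ⟶ (jW (gOpen gs)).obj E₂) :
    ∃ (E' : Dual.D A) (w : E' ⟶ E) (χ : E' ⟶ E₂), Perf FProj E' ∧ Tors ls E' ∧ IsIso ((jW (gOpen gs)).map w) ∧
      (jW (gOpen gs)).map χ = (jW (gOpen gs)).map w ≫ ψ := by
  let W := gOpen gs
  haveI : DCoh.HasRpush W.ι := Groth.Agent.KInj.hasRightDerivedFunctor (hres_modules _) _
  haveI := hasLpull W.ι
  haveI : QuasiCompact W.ι := by
    haveI : CompactSpace (W : Scheme.{u}) := isCompact_iff_compactSpace.1 (isCompact_gOpen gs)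
    infer_instance
  let adj := (lpullRpushAdj W.ι).ofNatIsoLeft (lpullRestrictNatIso W.ι)
  haveI : IsIso adj.counit := adj.isIso_counit_of_iso (rpushRestrictId W)
  let T := DCoh.tildeD (CommRingCat.of A)
  haveI : T.Full := (TildeD.main (CommRingCat.of A)).1
  haveI : T.Faithful := (TildeD.main (CommRingCat.of A)).2.1
  let η := adj.unit.app (T.obj E₂)
  obtain ⟨C, π, d, hη⟩ := distinguished_cocone_triangle η
  haveI : IsIso ((DCoh.restrictD W.ι).map η) := by
    have h := adj.left_triangle_components (T.obj E₂)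
    haveI : IsIso ((DCoh.restrictD W.ι).map η ≫ adj.counit.app ((DCoh.restrictD W.ι).obj (T.obj E₂))) := by
      rw [h]; exact IsIso.id _
    exact IsIso.of_isIso_comp_right _ (adj.counit.app ((DCoh.restrictD W.ι).obj (T.obj E₂)))
  have hCq : DCoh.IsQCohD C := isQCohD_obj₃' _ hη (TildeD.isQCohD_tildeD (CommRingCat.of A) E₂)
    (isQCohD_rpush W.ι ((DCoh.restrictD W.ι).obj (T.obj E₂)) (isQCohD_jW W E₂))
  obtain ⟨C₀, ⟨eC⟩⟩ := ((TildeD.main (CommRingCat.of A)).2.2 C).1 hCq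
  have hC₀ : Tors gs C₀ := (tors_iff_isZero gs C₀).2 (((Triangle.isZero₃_iff_isIso₁ _
    ((DCoh.restrictD W.ι).map_distinguished _ hη)).2 ‹_›).of_iso ((DCoh.restrictD W.ι).mapIso eC))
  let ψ' : T.obj E ⟶ (DCoh.Rpush W.ι).obj ((DCoh.restrictD W.ι).obj (T.obj E₂)) := adj.homEquiv _ _ ψ
  obtain ⟨φ, hφ⟩ := T.map_surjective (ψ' ≫ π ≫ eC.inv)
  obtain ⟨P', α, β, hP', hPt', -, hαβ⟩ := exists_tors_factor gs ls hE hEt hC₀ φ
  obtain ⟨E', w, d', hw⟩ := distinguished_cocone_triangle₁ α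
  refine ⟨E', w, ?_⟩
  have h0 : (T.map w ≫ ψ') ≫ π = 0 := by
    have h1 : w ≫ φ = 0 := by
      rw [← hαβ, ← Category.assoc, show w ≫ α = 0 from comp_distTriang_mor_zero₁₂ _ hw, zero_comp]
    have h2 := congrArg T.map h1
    rw [Functor.map_comp, hφ, Functor.map_zero, ← cancel_mono eC.hom] at h2
    simpa using h2
  obtain ⟨χ', hχ'⟩ := Triangle.coyoneda_exact₂ _ hη (T.map w ≫ ψ') h0
  obtain ⟨χ, hχ⟩ := T.map_surjective χ'
  refine ⟨χ, Perf.obj₁ projClass_fProj _ hw hE hP', Tors.obj₁ _ hw hEt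
    (fun f hf => hPt' f (List.mem_append_right gs hf)), ?_, ?_⟩
  · exact (Triangle.isZero₃_iff_isIso₁ _ ((jW W).map_distinguished _ hw)).1
      ((tors_iff_isZero gs P').1 fun f hf => hPt' f (List.mem_append_left ls hf))
  · have h4 : (adj.homEquiv _ _).symm (T.map w ≫ ψ') = (jW W).map w ≫ ψ :=
      (adj.homEquiv_naturality_left_symm _ _).trans (congrArg ((DCoh.restrictD W.ι).map (T.map w) ≫ ·)
        ((adj.homEquiv _ _).symm_apply_apply ψ))
    have h5 : (adj.homEquiv _ _).symm (χ' ≫ η) = (DCoh.restrictD W.ι).map χ' :=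
      (adj.homEquiv_naturality_left_symm _ _).trans
        ((congrArg ((DCoh.restrictD W.ι).map χ' ≫ ·)
          ((adj.homEquiv_counit _ _ _).trans (adj.left_triangle_components _))).trans (Category.comp_id _))
    exact ((congrArg (DCoh.restrictD W.ι).map hχ).trans
      (h5.symm.trans ((congrArg (adj.homEquiv _ _).symm hχ').symm.trans h4)))

/-- The cone of the complementary idempotent of a retract. -/
theorem nonempty_cone_idem {D : Type*} [Category D] [Preadditive D] [HasZeroObject D] [HasShift D ℤ]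
    [∀ n : ℤ, (shiftFunctor D n).Additive] [Pretriangulated D] [IsTriangulated D] {K L C : D}
    (s : K ⟶ L) (r : L ⟶ K) (h : s ≫ r = 𝟙 K) {p : L ⟶ C} {δ : C ⟶ L⟦(1 : ℤ)⟧}
    (hC : Triangle.mk (𝟙 L - r ≫ s) p δ ∈ distTriang _) [HasBinaryBiproduct (K⟦(1 : ℤ)⟧) K] :
    Nonempty (C ≅ K⟦(1 : ℤ)⟧ ⊞ K) := by
  obtain ⟨F', q, δ₁, h₁⟩ := distinguished_cocone_triangle s
  have hδ₁ : δ₁ = 0 := Triangle.mor₃_eq_zero_of_mono₁ _ h₁ (SplitMono.mono ⟨r, h⟩)
  obtain ⟨i, hi⟩ : ∃ i : F' ⟶ L, 𝟙 L - r ≫ s = q ≫ i :=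
    Triangle.yoneda_exact₂ _ h₁ (𝟙 L - r ≫ s) (by
      show s ≫ (𝟙 L - r ≫ s) = 0
      rw [Preadditive.comp_sub, Category.comp_id, ← Category.assoc, h, Category.id_comp, sub_self])
  haveI hq : Epi q := Triangle.epi₂ _ h₁ hδ₁
  have hsq : s ≫ q = 0 := comp_distTriang_mor_zero₁₂ _ h₁
  have hiq : i ≫ q = 𝟙 F' := by
    rw [← cancel_epi q, ← Category.assoc, ← hi, Preadditive.sub_comp, Category.assoc, hsq, comp_zero,
      sub_zero, Category.id_comp, Category.comp_id]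
  obtain ⟨D', p₂, δ₂, h₂⟩ := distinguished_cocone_triangle i
  have hδ₂ : δ₂ = 0 := Triangle.mor₃_eq_zero_of_mono₁ _ h₂ (SplitMono.mono ⟨q, hiq⟩)
  haveI hp₂ : Epi p₂ := Triangle.epi₂ _ h₂ hδ₂
  have hir : i ≫ r = 0 := by
    rw [← cancel_epi q, comp_zero, ← Category.assoc, ← hi, Preadditive.sub_comp, Category.id_comp,
      Category.assoc, h, Category.comp_id, sub_self]
  obtain ⟨θ, hθ⟩ : ∃ θ : D' ⟶ K, r = p₂ ≫ θ := Triangle.yoneda_exact₂ _ h₂ r hir
  have hz : i ≫ p₂ = 0 := comp_distTriang_mor_zero₁₂ _ h₂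
  let eD : D' ≅ K :=
    { hom := θ
      inv := s ≫ p₂
      hom_inv_id := by
        rw [← cancel_epi p₂, ← Category.assoc, ← hθ, Category.comp_id, ← Category.assoc,
          show r ≫ s = 𝟙 L - q ≫ i by rw [← hi, sub_sub_cancel], Preadditive.sub_comp, Category.id_comp,
          Category.assoc, hz, comp_zero, sub_zero]
      inv_hom_id := by rw [Category.assoc, ← hθ, h] }
  let o := Triangulated.someOctahedron (hi.symm) (rot_of_distTriang _ h₁) h₂ hC
  haveI := HasBinaryBiproducts.has_binary_biproduct (K⟦(1 : ℤ)⟧) D'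
  obtain ⟨e, -, -⟩ := exists_iso_binaryBiproduct_of_distTriang _ o.mem (by
    show δ₂ ≫ _ = 0
    rw [hδ₂, zero_comp])
  exact ⟨e ≪≫ biprod.mapIso (Iso.refl _) eD⟩

set_option maxHeartbeats 800000 in
/-- A perfect object on a quasi-compact open of an affine scheme extends up to adding its shift. -/
theorem exists_extend (gs ls : List A) (F : DCoh.D (gOpen gs : Scheme.{u})) (hF : DCoh.IsPerfect F)
    (hsupp : ∀ (i : ℤ) (y : (gOpen gs : Scheme.{u})), (gOpen gs).ι y ∈ gOpen ls →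
      y ∉ CohB1.support (DCoh.HD F i))
    [HasBinaryBiproduct (F⟦(1 : ℤ)⟧) F] :
    ∃ G : Dual.D A, Perf FProj G ∧ Tors ls G ∧ Nonempty ((jW (gOpen gs)).obj G ≅ F⟦(1 : ℤ)⟧ ⊞ F) := by
  let W := gOpen gs
  haveI : DCoh.HasRpush W.ι := Groth.Agent.KInj.hasRightDerivedFunctor (hres_modules _) _
  haveI : QuasiCompact W.ι := by
    haveI : CompactSpace (W : Scheme.{u}) := isCompact_iff_compactSpace.1 (isCompact_gOpen gs)
    infer_instance
  let T := DCoh.tildeD (CommRingCat.of A)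
  obtain ⟨M, ⟨eM⟩⟩ := ((TildeD.main (CommRingCat.of A)).2.2 _).1
    (isQCohD_rpush W.ι F (isQCohD_of_isPerfect hF))
  let eF : (jW W).obj M ≅ F := (DCoh.restrictD W.ι).mapIso eM ≪≫ (rpushRestrictId W).app F
  have hM : Tors ls M := by
    let O := gOpen ls
    refine (tors_iff_isZero ls M).2 (IsZero.of_iso ?_ ((DCoh.restrictD O.ι).mapIso eM))
    haveI : DCoh.HasRpush (W.ι ∣_ O) := Groth.Agent.KInj.hasRightDerivedFunctor (hres_modules _) _
    haveI := hasLpull (W.ι ∣_ O)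
    obtain ⟨e⟩ := nonempty_restrictD_rpush W.ι O
    refine IsZero.of_iso ?_ (e.app F)
    refine (IsZero.iff_id_eq_zero _).2 (((lpullRpushAdj (W.ι ∣_ O)).homEquiv _ _).symm.injective
      (((isZero_restrictD_iff_support (W.ι ⁻¹ᵁ O) F).2 fun i y hy hyO => hsupp i y hyO hy).eq_of_tgt _ _))
  obtain ⟨E, u, s, hE, hEt, hs⟩ :=
    exists_retract W (isCompact_gOpen gs) ls M hM (isPerfect_iso eF.symm hF)
  obtain ⟨E', w, χ, hE', hEt', hw, hχ⟩ := exists_lift_endo gs ls hE hEt (𝟙 _ - (jW W).map u ≫ s)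
  obtain ⟨G, p, d, hG⟩ := distinguished_cocone_triangle χ
  refine ⟨G, Perf.obj₃ projClass_fProj _ hG hE' hE, Tors.obj₃ _ hG hEt' hEt, ?_⟩
  obtain ⟨C, q, δ, hC⟩ := distinguished_cocone_triangle (𝟙 ((jW W).obj E) - (jW W).map u ≫ s)
  obtain ⟨eC⟩ : Nonempty ((jW W).obj G ≅ C) :=
    ⟨Triangle.π₃.mapIso (isoTriangleOfIso₁₂ _ _ ((jW W).map_distinguished _ hG) hC
      (asIso ((jW W).map w)) (Iso.refl _) ((Category.comp_id _).trans hχ))⟩
  obtain ⟨e'⟩ := nonempty_cone_idem s ((jW W).map u) hs hC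
  exact ⟨eC ≪≫ e' ≪≫ biprod.mapIso ((shiftFunctor _ (1 : ℤ)).mapIso eF) eF⟩

end Groth.Agent.DCohMore
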