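import Groth.Agent.DCohMore.RpushPerfFP
import Groth.Agent.DCohMore.PCTensorPush
import Groth.Agent.DCohMore.SpecThomason
import Groth.Agent.DCohMore.PerfVanish
import Groth.Agent.DCohLib.CompactB
import Groth.Agent.DCohLib.DualEval
import Groth.Agent.PCohH7.Terms
import Groth.Agent.TildeD.TensorQCoh

/-!
# Pseudo-coherent direct images of complexes of flat modules of finite presentation with proper support
-/

set_option autoImplicit false
set_option linter.style.haveILetI false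
set_option linter.unusedSectionVars false
set_option backward.isDefEq.respectTransparency false
set_option maxHeartbeats 1000000

universe u

open CategoryTheory Limits AlgebraicGeometry Pretriangulated ZeroObject HomologicalComplex
attribute [local instance] HasDerivedCategory.standard

noncomputable section

namespace Groth.Agent.DCohMore

open Groth.Agent.DRingLib Groth.Agent.DCohLib

variable {X S : Scheme.{u}}

/-- Induction on the terms of a bounded above complex of quasi-coherent modules. -/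
theorem induct_qcoh_terms (Φ : DCoh.D X → Prop) (hiso : ∀ {K L : DCoh.D X}, (K ≅ L) → Φ K → Φ L)
    (hext : ∀ T : Triangle (DCoh.D X), T ∈ distTriang _ → Φ T.obj₁ → Φ T.obj₃ → Φ T.obj₂)
    (m : ℤ) (hlow : ∀ K : DCoh.D X, DCoh.IsQCohD K → K.IsLE (m - 1) → Φ K)
    (E : CochainComplex X.Modules ℤ) (b : ℤ) (hb : ∀ j, b < j → IsZero (E.X j)) (hq : ∀ j, Coh.IsQCoh (E.X j))
    (h : ∀ i, Φ ((DerivedCategory.singleFunctor X.Modules i).obj (E.X i))) : Φ (DerivedCategory.Q.obj E) := by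
  suffices H : ∀ (d : ℕ) (E : CochainComplex X.Modules ℤ) (b : ℤ), b + 1 - m ≤ d → (∀ j, b < j → IsZero (E.X j)) →
      (∀ j, Coh.IsQCoh (E.X j)) → (∀ i, m ≤ i → i ≤ b → Φ ((DerivedCategory.singleFunctor X.Modules i).obj (E.X i))) →
      Φ (DerivedCategory.Q.obj E) by
    exact H (b + 1 - m).toNat E b (by omega) hb hq fun i _ _ => h i
  intro d
  clear h hq hb E b
  induction d with
  | zero =>
    intro E b hd hb hq _
    exact hlow _ (TildeD.isQCohD_of_terms E hq) ((DerivedCategory.isLE_iff _ _).2 fun i hi =>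
      (PCohH7.isZero_H_iff E i).2 (ShortComplex.isZero_homology_of_isZero_X₂ _ (hb i (by omega))))
  | succ d ih =>
    intro E b hd hb hq h
    by_cases hbm : b < m
    · exact hlow _ (TildeD.isQCohD_of_terms E hq) ((DerivedCategory.isLE_iff _ _).2 fun i hi =>
        (PCohH7.isZero_H_iff E i).2 (ShortComplex.isZero_homology_of_isZero_X₂ _ (hb i (by omega))))
    let f : (HomologicalComplex.single X.Modules (ComplexShape.up ℤ) b).obj (E.X b) ⟶ E :=
      mkHomFromSingle (𝟙 (E.X b)) (fun i (hi : b + 1 = i) => (hb i (by omega)).eq_of_tgt _ _)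
    have hfb : IsIso (f.f b) := by
      rw [mkHomFromSingle_f]
      infer_instance
    haveI : ∀ j, Mono (f.f j) := fun j => by
      rcases eq_or_ne j b with rfl | hj
      · infer_instance
      · exact ⟨fun g g' _ => (isZero_single_obj_X (ComplexShape.up ℤ) _ _ _ hj).eq_of_tgt g g'⟩
    haveI : Mono f := HomologicalComplex.mono_of_mono_f _ inferInstance
    let T : ShortComplex (CochainComplex X.Modules ℤ) := ShortComplex.mk f (cokernel.π f) (cokernel.condition f)
    have hS : T.ShortExact := { exact := T.exact_of_g_is_cokernel (cokernelIsCokernel f) }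
    have hev : ∀ j, (T.map (HomologicalComplex.eval X.Modules (ComplexShape.up ℤ) j)).ShortExact :=
      fun j => hS.map_of_exact _
    have hz : ∀ j, b - 1 < j → IsZero (T.X₃.X j) := fun j hj => by
      rcases eq_or_lt_of_le (show b ≤ j by omega) with rfl | hj'
      · exact (hev b).isIso_f_iff.1 hfb
      · haveI := (hev j).epi_g
        exact IsZero.of_epi (T.map (HomologicalComplex.eval X.Modules (ComplexShape.up ℤ) j)).g (hb j hj')
    have hg : ∀ i, i < b → IsIso (T.g.f i) := fun i hi =>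
      (hev i).isIso_g_iff.2 (isZero_single_obj_X (ComplexShape.up ℤ) _ _ _ (by omega))
    have hq' : ∀ j, Coh.IsQCoh (T.X₃.X j) := fun j => by
      by_cases hj : b - 1 < j
      · exact (PullbackMod.isQCoh_and_isFP_of_isFinLocFree _ (isFinLocFree_of_isZero (hz j hj))).1
      · haveI := hg j (by omega)
        exact (SheafOfModules.isQuasicoherent X.ringCatSheaf).prop_of_iso (asIso (T.g.f j)) (hq j)
    refine hext _ (DerivedCategory.triangleOfSES_distinguished hS)
      (hiso ((DerivedCategory.singleFunctorIsoCompQ X.Modules b).app _) (h b (by omega) le_rfl))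
      (ih _ (b - 1) (by omega) hz hq' fun i hi hi' => ?_)
    haveI := hg i (by omega)
    exact hiso ((DerivedCategory.singleFunctor X.Modules i).mapIso (asIso (T.g.f i))) (h i hi (by omega))

variable {A : Type u} [CommRing A]

/-- The case of a perfect object. -/
theorem isPseudoCoherentD_rpush_perfect [CompactSpace X] [QuasiSeparatedSpace X]
    (f : X ⟶ Spec (CommRingCat.of A)) [LocallyOfFinitePresentation f] [QuasiCompact f] [QuasiSeparated f]
    [DCoh.HasRpush f] (G : CochainComplex X.Modules ℤ) (b : ℤ) (hb : ∀ i, b < i → IsZero (G.X i))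
    (hGfp : ∀ i, CohB1.IsFP (G.X i)) (hGflat : ∀ i, FlatMod.IsFlatOver f (G.X i))
    (hGsupp : ∀ i, ClSub.IsProperOver f (CohB1.support (G.X i))) [DCoh.HasLTensorCx G]
    (E : DCoh.D X) (hE : DCoh.IsPerfect E) (m : ℤ) :
    DCoh.IsPseudoCoherentD m ((DCoh.Rpush f).obj ((DCoh.LTensorCx G).obj E)) := by
  let K := (resX X).obj (DerivedCategory.Q.objPreimage E)
  have hK : DCoh.IsKFlat K := isKFlat_resX _
  let eK : DerivedCategory.Q.obj K ≅ E := resXIso E
  have hKp : DCoh.IsPerfect (DerivedCategory.Q.obj K) := isPerfect_iso eK.symm hE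
  obtain ⟨B, hB⟩ := exists_isLE_lTensor K hK hKp
  obtain ⟨N, hN⟩ := exists_isLE_rpush_qcoh f
  haveI := hasRSheafHom_of_isKFlat K hK
  let F := DCoh.LTensorCx K ⋙ DCoh.Rpush f
  have hF0 : ∀ Z : DCoh.D X, IsZero Z → IsZero (F.obj Z) := fun Z hZ => by
    haveI : (DCoh.LTensorCx K).IsLeftAdjoint := (DCoh.RSheafHomAdj K).isLeftAdjoint
    haveI : (DCoh.Rpush f).IsRightAdjoint := haveI := hasLpull f; (lpullRpushAdj f).isRightAdjoint
    exact (DCoh.Rpush f).map_isZero ((DCoh.LTensorCx K).map_isZero hZ)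
  have hF : ∀ T ∈ distTriang (DCoh.D X), ∃ T' ∈ distTriang (DCoh.D (Spec (CommRingCat.of A))),
      Nonempty (T'.obj₁ ≅ F.obj T.obj₁) ∧ Nonempty (T'.obj₂ ≅ F.obj T.obj₂) ∧
      Nonempty (T'.obj₃ ≅ F.obj T.obj₃) := fun T hT => by
    obtain ⟨T', hT', ⟨e₁⟩, ⟨e₂⟩, ⟨e₃⟩⟩ := exists_lTensorCx_triangle K _ (inv_rot_of_distTriang T hT)
    obtain ⟨c, hc⟩ := BC.exTri_rpush f T' hT'
    exact ⟨_, hc, ⟨(DCoh.Rpush f).mapIso e₁⟩, ⟨(DCoh.Rpush f).mapIso e₂⟩,
      ⟨(DCoh.Rpush f).mapIso e₃ ≪≫ F.mapIso ((shiftEquiv (DCoh.D X) (1 : ℤ)).counitIso.app T.obj₃)⟩⟩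
  have hperf : ∀ i, DCoh.IsPerfect (F.obj ((DerivedCategory.singleFunctor X.Modules i).obj (G.X i))) := fun i => by
    let M := G.X i
    let s := DerivedCategory.singleFunctor X.Modules
    have h0 : DCoh.IsPerfect (F.obj ((s 0).obj M)) := by
      haveI : Coh.IsQCoh M := FibreDepth.isQCoh_of_isFP _ (hGfp i)
      obtain ⟨a⟩ := nonempty_lTensorMod_single M E
      obtain ⟨t⟩ := nonempty_symCxSch K (sgl₀ M)
      refine isPerfect_iso ((DCoh.Rpush f).mapIso (a ≪≫ (DCoh.LTensorCx (sgl₀ M)).mapIso eK.symm ≪≫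
        lTensorIso (sgl₀ M) K hK ≪≫ DerivedCategory.Q.mapIso t ≪≫ ((lTensorQIso K hK).app (sgl₀ M)).symm ≪≫
        (DCoh.LTensorCx K).mapIso ((DerivedCategory.singleFunctorIsoCompQ X.Modules 0).app M).symm)) ?_
      exact isPerfect_rpush_lTensorMod_fp f E hE M (hGfp i) (hGflat i) (hGsupp i)
    have hstep : ∀ W : DCoh.D X, DCoh.IsPerfect (F.obj W) ↔ DCoh.IsPerfect (F.obj (W⟦(1 : ℤ)⟧)) := fun W => by
      obtain ⟨T', hT', ⟨e₁⟩, ⟨e₂⟩, ⟨e₃⟩⟩ := hF _ (contractible_distinguished₂ W)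
      have hz : DCoh.IsPerfect T'.obj₂ :=
        isPerfect_of_perfOn (perfOn_of_isZero ((hF0 _ (isZero_zero _)).of_iso e₂))
      exact ⟨fun hW => isPerfect_iso e₃ (isPerfect_obj₃ _ hT' (isPerfect_iso e₁.symm hW) hz),
        fun hW => isPerfect_iso e₁ (isPerfect_obj₁ _ hT' hz (isPerfect_iso e₃.symm hW))⟩
    suffices h : ∀ n : ℤ, DCoh.IsPerfect (F.obj ((s (-n)).obj M)) by
      simpa only [neg_neg] using h (-i)
    intro n
    induction n with
    | zero => exact isPerfect_iso (F.mapIso (eqToIso (by simp))) h0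
    | succ k ih =>
      exact isPerfect_iso (F.mapIso (((DerivedCategory.singleFunctors X.Modules).shiftIso 1 (-((k : ℤ) + 1)) (-(k : ℤ))
        (by omega)).app M)) ((hstep _).1 ih)
    | pred k ih =>
      exact (hstep _).2 (isPerfect_iso (F.mapIso (((DerivedCategory.singleFunctors X.Modules).shiftIso 1 (-(-(k : ℤ)))
        (-(-(k : ℤ) - 1)) (by omega)).app M).symm) ih)
  have key : ∀ m, DCoh.IsPseudoCoherentD m (F.obj (DerivedCategory.Q.obj G)) := fun m => by
    refine induct_qcoh_terms (fun W => DCoh.IsPseudoCoherentD m (F.obj W))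
      (fun e h => isPseudoCoherentD_iso (F.mapIso e) h)
      (fun T hT h₁ h₃ => ?_) (m - B - N) (fun W hW hWle => ?_) G b hb
      (fun i => FibreDepth.isQCoh_of_isFP _ (hGfp i)) fun i => isPseudoCoherentD_of_isPerfect' (hperf i) m
    · obtain ⟨T', hT', ⟨e₁⟩, ⟨e₂⟩, ⟨e₃⟩⟩ := hF T hT
      exact isPseudoCoherentD_iso e₂ (isPseudoCoherentD_obj₂ T' hT' (isPseudoCoherentD_iso e₁.symm h₁)
        (isPseudoCoherentD_iso e₃.symm h₃))
    · have h1 := hB (m - B - N - 1) W hWle
      have h2 := hN _ _ (TildeD.isQCohD_lTensorCx K (isQCohD_of_isPerfect hKp) W hW) h1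
      refine (isPseudoCoherentD_iff _ _).2 fun x => ⟨⊤, trivial, ?_⟩
      exact pcOn_of_aboveZero (AboveZero.restrict _ fun i hi =>
        (DerivedCategory.isLE_iff _ _).1 h2 i (by omega))
  obtain ⟨t⟩ := nonempty_symCxSch K G
  exact isPseudoCoherentD_iso ((DCoh.Rpush f).mapIso (((lTensorQIso K hK).app G) ≪≫
    DerivedCategory.Q.mapIso t.symm ≪≫ (lTensorIso G K hK).symm ≪≫ (DCoh.LTensorCx G).mapIso eK)) (key m)

/-- Restriction of a derived tensor product with a complex. -/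
theorem nonempty_restrict_lTensorCx {U : Scheme.{u}} (j : U ⟶ X) [IsOpenImmersion j] (E : DCoh.D X)
    (F : CochainComplex X.Modules ℤ) [DCoh.HasLTensorCx F] [DCoh.HasLTensorCx ((resCx j).obj F)] :
    Nonempty ((DCoh.restrictD j).obj ((DCoh.LTensorCx F).obj E) ≅
      (DCoh.LTensorCx ((resCx j).obj F)).obj ((DCoh.restrictD j).obj E)) := by
  let P := (resX X).obj (DerivedCategory.Q.objPreimage E)
  have hP : DCoh.IsKFlat P := isKFlat_resX _
  let ρ := NatIso.mapHomologicalComplex (Scheme.Modules.restrictFunctorIsoPullback j) (ComplexShape.up ℤ)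
  let r : (resCx j).obj ((DCoh.tensorCx.obj P).obj F) ≅
      (DCoh.tensorCx.obj ((resCx j).obj P)).obj ((resCx j).obj F) :=
    ρ.app _ ≪≫ pullTensorCxIso j P F ≪≫ (DCoh.tensorCx.mapIso (ρ.app P).symm).app _ ≪≫
      (DCoh.tensorCx.obj _).mapIso (ρ.app F).symm
  exact ⟨(DCoh.restrictD j).mapIso ((DCoh.LTensorCx F).mapIso (resXIso E).symm ≪≫ lTensorIso F P hP) ≪≫
    restrictDQ j _ ≪≫ DerivedCategory.Q.mapIso r ≪≫ (lTensorIso _ _ (isKFlat_resCx j hP)).symm ≪≫
    (DCoh.LTensorCx _).mapIso ((restrictDQ j P).symm ≪≫ (DCoh.restrictD j).mapIso (resXIso E))⟩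

/-- The affine case. -/
theorem isPseudoCoherentD_rpush_flat_proper_affine {A : Type u} [CommRing A]
    (f : X ⟶ Spec (CommRingCat.of A)) [LocallyOfFinitePresentation f] [QuasiCompact f] [QuasiSeparated f]
    [DCoh.HasRpush f] (G : CochainComplex X.Modules ℤ) (b : ℤ) (hb : ∀ i, b < i → IsZero (G.X i))
    (hGfp : ∀ i, CohB1.IsFP (G.X i)) (hGflat : ∀ i, FlatMod.IsFlatOver f (G.X i))
    (hGsupp : ∀ i, ClSub.IsProperOver f (CohB1.support (G.X i))) [DCoh.HasLTensorCx G]
    (E : DCoh.D X) (hE : ∀ m : ℤ, DCoh.IsPseudoCoherentD m E) (m : ℤ) :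
    DCoh.IsPseudoCoherentD m ((DCoh.Rpush f).obj ((DCoh.LTensorCx G).obj E)) := by
  haveI : CompactSpace X := QuasiCompact.compactSpace_of_compactSpace f
  haveI : QuasiSeparatedSpace X := AlgebraicGeometry.quasiSeparatedSpace_of_quasiSeparated f
  haveI : (DCoh.toD X G).IsLE b := (DerivedCategory.isLE_iff _ _).2 fun i hi =>
    (PCohH7.isZero_H_iff G i).2 (ShortComplex.isZero_homology_of_isZero_X₂ _ (hb i hi))
  exact isPseudoCoherentD_rpush_lTensor f G
    (TildeD.isQCohD_of_terms G fun i => FibreDepth.isQCoh_of_isFP _ (hGfp i)) b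
    (fun E' hE' m' => isPseudoCoherentD_rpush_perfect f G b hb hGfp hGflat hGsupp E' hE' m') E hE m

/-- Pseudo-coherence of direct images, over any base. -/
theorem isPseudoCoherentD_rpush_flat_proper (f : X ⟶ S) [LocallyOfFinitePresentation f] [QuasiCompact f]
    [QuasiSeparated f] [DCoh.HasRpush f] (G : CochainComplex X.Modules ℤ) (b : ℤ)
    (hb : ∀ i, b < i → IsZero (G.X i)) (hGfp : ∀ i, CohB1.IsFP (G.X i))
    (hGflat : ∀ i, FlatMod.IsFlatOver f (G.X i)) (hGsupp : ∀ i, ClSub.IsProperOver f (CohB1.support (G.X i)))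
    [DCoh.HasLTensorCx G] (E : DCoh.D X) (hE : ∀ m : ℤ, DCoh.IsPseudoCoherentD m E) (m : ℤ) :
    DCoh.IsPseudoCoherentD m ((DCoh.Rpush f).obj ((DCoh.LTensorCx G).obj E)) := by
  refine isPseudoCoherentD_of_local fun x => ?_
  obtain ⟨_, ⟨V : S.Opens, hV, rfl⟩, hx, -⟩ :=
    S.isBasis_affineOpens.exists_subset_of_mem_open (a := x) (Set.mem_univ x) TopologicalSpace.isOpen_univ
  let fV := (f ∣_ V) ≫ hV.isoSpec.hom
  have hpb : IsPullback (f ⁻¹ᵁ V).ι fV f (hV.isoSpec.inv ≫ V.ι) :=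
    (isPullback_morphismRestrict f V).flip.of_iso (Iso.refl _) (Iso.refl _) hV.isoSpec
      (Iso.refl _) (by simp) (by simp [fV]) (by simp) (by simp)
  haveI : QuasiCompact fV := MorphismProperty.of_isPullback (P := @QuasiCompact) hpb ‹_›
  haveI : QuasiSeparated fV := MorphismProperty.of_isPullback (P := @QuasiSeparated) hpb ‹_›
  haveI : LocallyOfFinitePresentation fV :=
    MorphismProperty.of_isPullback (P := @LocallyOfFinitePresentation) hpb ‹_›
  let U := f ⁻¹ᵁ V
  let GU := (resCx U.ι).obj G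
  have hsU : ∀ i, CohB1.support (GU.X i) = U.ι.base ⁻¹' CohB1.support (G.X i) := fun i => Set.ext fun x =>
    not_congr ((Scheme.Modules.restrictStalkNatIso U.ι x).app
      (G.X i)).addCommGroupIsoToAddEquiv.toEquiv.subsingleton_congr
  haveI := BC.hasRpush fV
  haveI := BC.hasRpush (f ∣_ V)
  haveI := hasLpull hV.isoSpec.hom
  haveI := BC.hasRpush hV.isoSpec.hom
  haveI : DCoh.HasRpush ((f ∣_ V) ≫ hV.isoSpec.hom) := ‹DCoh.HasRpush fV›
  have h := isPseudoCoherentD_rpush_flat_proper_affine fV GU b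
    (fun i hi => (Scheme.Modules.restrictFunctor U.ι).map_isZero (hb i hi))
    (fun i => isFP_restrict U.ι (hGfp i))
    (fun i => isFlatOver_of_iso fV ((Scheme.Modules.restrictFunctorIsoPullback U.ι).app (G.X i)).symm
      (BC.isFlatOver_pullback_chart f U.ι fV (hV.isoSpec.inv ≫ V.ι) hpb.w (G.X i) (hGflat i)))
    (fun i => by rw [hsU]; exact ClSubLib.isProperOver_baseChange f _ U.ι fV hpb (hGsupp i))
    ((DCoh.restrictD U.ι).obj E) (fun k => isPseudoCoherentD_restrict U.ι (hE k)) m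
  obtain ⟨eV⟩ := Groth.Agent.DCohLib.nonempty_restrictD_rpush f V
  obtain ⟨t⟩ := nonempty_restrict_lTensorCx U.ι E G
  obtain ⟨c⟩ := nonempty_rpushCompIso (f ∣_ V) hV.isoSpec.hom
  refine ⟨V, V.ι, inferInstance, ⟨x, hx⟩, rfl, ?_⟩
  have h1 : DCoh.IsPseudoCoherentD m ((DCoh.Rpush (f ∣_ V)).obj
      ((DCoh.LTensorCx GU).obj ((DCoh.restrictD U.ι).obj E))) := by
    let K := (DCoh.Rpush (f ∣_ V)).obj ((DCoh.LTensorCx GU).obj ((DCoh.restrictD U.ι).obj E))
    refine isPseudoCoherentD_iso ?_ (isPseudoCoherentD_restrict hV.isoSpec.hom h)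
    exact (DCoh.restrictD hV.isoSpec.hom).mapIso ((c.app _).symm ≪≫ (rpushIsoRestrict hV.isoSpec).app _) ≪≫
      ((restrictDEquiv hV.isoSpec).counitIso.app K)
  exact isPseudoCoherentD_iso ((eV.app _) ≪≫ (DCoh.Rpush (f ∣_ V)).mapIso t).symm h1

end Groth.Agent.DCohMore
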