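import Groth.Agent.DCohMore.ProjTau
import Groth.Agent.DCohMore.RpushSum

/-!
# The projection map over an open of the target
-/

set_option autoImplicit false
set_option linter.style.haveILetI false
set_option linter.unusedSectionVars false

universe u

open CategoryTheory CategoryTheory.Limits AlgebraicGeometry
open CategoryTheory.Pretriangulated

attribute [local instance] HasDerivedCategory.standard

noncomputable section

namespace Groth.Agent.DCohMore

open Groth.Agent.DCohLib

variable {X Y : Scheme.{u}}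

theorem isKFlat_shift {K : CochainComplex X.Modules ℤ} (h : DCoh.IsKFlat K) (n : ℤ) : DCoh.IsKFlat (K⟦n⟧) :=
  (KFlat.isKFlatFor_iff_isZero_homology (DCoh.tensorBi (X := X)) _).1 (KFlat.isKFlatFor_shift _
    ((KFlat.isKFlatFor_iff_isZero_homology (DCoh.tensorBi (X := X)) K).2 h) n)

/-- Coproducts of K-flat complexes are K-flat. -/
theorem isKFlat_sigma {κ : Type u} (P : κ → CochainComplex X.Modules ℤ) (h : ∀ k, DCoh.IsKFlat (P k)) :
    DCoh.IsKFlat (∐ P) :=
  haveI : ∀ M : X.Modules, PreservesColimitsOfShape (Discrete κ) ((DCoh.tensorBi (X := X)).obj M) := fun M =>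
    (Groth.Agent.ModTensor.preservesColimitsOfSize_tensorBi_obj X.sheaf M).preservesColimitsOfShape
  (KFlat.isKFlatFor_iff_isZero_homology (DCoh.tensorBi (X := X)) _).1 (KFlat.isKFlatFor_of_isColimit _
    (Discrete.functor P) _ (coproductIsCoproduct P)
    fun k => (KFlat.isKFlatFor_iff_isZero_homology (DCoh.tensorBi (X := X)) _).2 (h k.as))

variable (f : X ⟶ Y) [DCoh.HasRpush f] (I : CochainComplex X.Modules ℤ) (V : Y.Opens)

theorem quasiIso_res_ext {E E' : CochainComplex (V : Scheme.{u}).Modules ℤ} (α : E ⟶ E') [QuasiIso α] :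
    QuasiIso ((resCx V.ι).map ((extCx V).map α)) :=
  quasiIso_of_comm _ α (extUnit V E).symm (extUnit V E').symm (by
    refine (Iso.comp_inv_eq (extUnit V E')).2 ?_
    refine Eq.trans ?_ (Category.assoc _ _ _).symm
    refine ((Iso.eq_inv_comp (extUnit V E)).2 ?_)
    refine HomologicalComplex.hom_ext _ _ fun n => ?_
    exact ((CxOX.extZeroAdj V.ι).unit.naturality (α.f n)).symm) inferInstance

theorem isIso_restrictD_Q_map {P P' : CochainComplex Y.Modules ℤ} (β : P ⟶ P')
    (h : QuasiIso ((resCx V.ι).map β)) : IsIso ((DCoh.restrictD V.ι).map (DerivedCategory.Q.map β)) := by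
  haveI := h
  refine (NatIso.isIso_map_iff ((Scheme.Modules.restrictFunctor V.ι).mapDerivedCategoryFactors) _).2 ?_
  exact inferInstanceAs (IsIso (DerivedCategory.Q.map ((resCx V.ι).map β)))

/-- The source sees only the restriction to the open. -/
theorem isIso_restrict_src_map {P P' : CochainComplex Y.Modules ℤ} (β : P ⟶ P') (hP : DCoh.IsKFlat P)
    (hP' : DCoh.IsKFlat P') (h : QuasiIso ((resCx V.ι).map β)) :
    IsIso ((DCoh.restrictD V.ι).map ((projSrc f I).map β)) :=
  isIso_restrictD_Q_map V _ (quasiIso_res_tensor_map V.ι _ β hP hP' h)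

/-- The target sees only the restriction to the open. -/
theorem isIso_restrict_tgt_map {P P' : CochainComplex Y.Modules ℤ} (β : P ⟶ P') (hP : DCoh.IsKFlat P)
    (hP' : DCoh.IsKFlat P') (h : QuasiIso ((resCx V.ι).map β)) :
    IsIso ((DCoh.restrictD V.ι).map ((projTgt f I).map β)) := by
  haveI : DCoh.HasRpush (f ∣_ V) := Groth.Agent.KInj.hasRightDerivedFunctor (hres_modules _) _
  obtain ⟨eV⟩ := Groth.Agent.S6508.result f V
  refine (NatIso.isIso_map_iff eV (DerivedCategory.Q.map ((DCoh.tensorCx.obj I).map ((pullCx f).map β)))).2 ?_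
  haveI := isIso_restrictD_Q_map (f ⁻¹ᵁ V) ((DCoh.tensorCx.obj I).map ((pullCx f).map β))
    (quasiIso_res_tensor_map (f ⁻¹ᵁ V).ι I ((pullCx f).map β) (isKFlat_pullback f hP) (isKFlat_pullback f hP')
      (quasiIso_res_pullCx_map f V β hP hP' h))
  exact inferInstanceAs (IsIso ((DCoh.Rpush (f ∣_ V)).map ((DCoh.restrictD (f ⁻¹ᵁ V).ι).map _)))

/-- The source on complexes on the open. -/
abbrev srcV : CochainComplex (V : Scheme.{u}).Modules ℤ ⥤ DCoh.D (V : Scheme.{u}) :=
  (extCx V ⋙ projSrc f I) ⋙ DCoh.restrictD V.ι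

/-- The target on complexes on the open. -/
abbrev tgtV : CochainComplex (V : Scheme.{u}).Modules ℤ ⥤ DCoh.D (V : Scheme.{u}) :=
  (extCx V ⋙ projTgt f I) ⋙ DCoh.restrictD V.ι

/-- The projection map on complexes on the open. -/
abbrev tauV : srcV f I V ⟶ tgtV f I V :=
  Functor.whiskerRight (Functor.whiskerLeft (extCx V) (projTau f I)) (DCoh.restrictD V.ι)

/-- A functor inverting quasi-isomorphisms of K-flat complexes. -/
abbrev InvKFlat {H : Type*} [Category H] (Ψ : CochainComplex X.Modules ℤ ⥤ H) : Prop :=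
  ∀ {E E' : CochainComplex X.Modules ℤ} (α : E ⟶ E'), DCoh.IsKFlat E → DCoh.IsKFlat E' → QuasiIso α →
    IsIso (Ψ.map α)

theorem invKFlat_srcV : InvKFlat (srcV f I V) := fun α hE hE' hα => by
  haveI := hα
  exact isIso_restrict_src_map f I V _ (isKFlat_extCx V hE) (isKFlat_extCx V hE') (quasiIso_res_ext V α)

theorem invKFlat_tgtV : InvKFlat (tgtV f I V) := fun α hE hE' hα => by
  haveI := hα
  exact isIso_restrict_tgt_map f I V _ (isKFlat_extCx V hE) (isKFlat_extCx V hE') (quasiIso_res_ext V α)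

section Derived

variable {H : Type*} [Category H] {Ψ : CochainComplex X.Modules ℤ ⥤ H} (hΨ : InvKFlat Ψ)
include hΨ

theorem inverts_resX : (HomologicalComplex.quasiIso X.Modules (ComplexShape.up ℤ)).IsInvertedBy (resX X ⋙ Ψ) :=
  fun _ _ α hα => hΨ _ (isKFlat_resX _) (isKFlat_resX _)
    (quasiIso_resX_map α ((HomologicalComplex.mem_quasiIso_iff _).1 hα))

/-- The derived functor computed on K-flat resolutions. -/
def derK : DCoh.D X ⥤ H := Localization.lift (resX X ⋙ Ψ) (inverts_resX hΨ) DerivedCategory.Q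

/-- The comparison map of the derived functor. -/
def derKCounit : DerivedCategory.Q ⋙ derK hΨ ⟶ Ψ :=
  (Localization.fac (resX X ⋙ Ψ) (inverts_resX hΨ) DerivedCategory.Q).hom ≫
    Functor.whiskerRight (resXπ X) Ψ ≫ Ψ.leftUnitor.hom

theorem isIso_derKCounit (E : CochainComplex X.Modules ℤ) (hE : DCoh.IsKFlat E) :
    IsIso ((derKCounit hΨ).app E) := by
  haveI h1 : IsIso (Ψ.map ((resXπ X).app E)) := hΨ _ (isKFlat_resX _) hE (quasiIso_resXπ E)
  show IsIso ((Localization.fac (resX X ⋙ Ψ) (inverts_resX hΨ) DerivedCategory.Q).hom.app E ≫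
    Ψ.map ((resXπ X).app E) ≫ 𝟙 _)
  infer_instance

/-- The derived functor on a K-flat complex. -/
def derKIso (E : CochainComplex X.Modules ℤ) (hE : DCoh.IsKFlat E) :
    (derK hΨ).obj (DerivedCategory.Q.obj E) ≅ Ψ.obj E :=
  @asIso _ _ _ _ ((derKCounit hΨ).app E) (isIso_derKCounit hΨ E hE)

theorem derKIso_natural {E E' : CochainComplex X.Modules ℤ} (α : E ⟶ E') (hE : DCoh.IsKFlat E)
    (hE' : DCoh.IsKFlat E') :
    (derK hΨ).map (DerivedCategory.Q.map α) ≫ (derKIso hΨ E' hE').hom = (derKIso hΨ E hE).hom ≫ Ψ.map α :=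
  (derKCounit hΨ).naturality α

theorem exTri_derK [Preadditive H] [HasZeroObject H] [HasShift H ℤ] [∀ n : ℤ, (shiftFunctor H n).Additive]
    [Pretriangulated H]
    (h : ∀ S : ShortComplex (CochainComplex X.Modules ℤ),
      (∀ n, Nonempty (S.map (HomologicalComplex.eval X.Modules (ComplexShape.up ℤ) n)).Splitting) →
      ∃ c, Triangle.mk (Ψ.map S.f) (Ψ.map S.g) c ∈ distTriang H) : ExTri (derK hΨ) :=
  exTri_of_resolved (derK hΨ) (fun {K₁ K₂} _ => DCoh.IsKFlat K₁ ∧ DCoh.IsKFlat K₂)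
    (fun T hT => by
      obtain ⟨P, Q, φ, hP, hQ, -, -, he⟩ := exists_resolved T hT
      exact ⟨P, Q, φ, ⟨hP, hQ⟩, he.map Iso.symm⟩)
    fun {K₁ K₂} φ hφ => exists_triangle_of_iso (derKIso hΨ K₂ hφ.2)
      (derKIso hΨ _ (isKFlat_cone φ hφ.1 hφ.2)) (derKIso hΨ _ (isKFlat_shift hφ.1 1))
      (derKIso_natural hΨ _ hφ.2 _) (derKIso_natural hΨ _ _ _)
      (h _ fun n => ⟨CochainComplex.mappingCone.triangleRotateShortComplexSplitting φ n⟩)

/-- The derived natural transformation. -/
def derKMap {Ψ' : CochainComplex X.Modules ℤ ⥤ H} (hΨ' : InvKFlat Ψ') (τ : Ψ ⟶ Ψ') : derK hΨ ⟶ derK hΨ' :=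
  letI : Localization.Lifting DerivedCategory.Q (HomologicalComplex.quasiIso X.Modules (ComplexShape.up ℤ))
    (resX X ⋙ Ψ) (derK hΨ) := Localization.liftingLift _ (inverts_resX hΨ) DerivedCategory.Q
  letI : Localization.Lifting DerivedCategory.Q (HomologicalComplex.quasiIso X.Modules (ComplexShape.up ℤ))
    (resX X ⋙ Ψ') (derK hΨ') := Localization.liftingLift _ (inverts_resX hΨ') DerivedCategory.Q
  Localization.liftNatTrans DerivedCategory.Q (HomologicalComplex.quasiIso X.Modules (ComplexShape.up ℤ))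
    (resX X ⋙ Ψ) (resX X ⋙ Ψ') (derK hΨ) (derK hΨ') (Functor.whiskerLeft (resX X) τ)

theorem derKMap_app {Ψ' : CochainComplex X.Modules ℤ ⥤ H} (hΨ' : InvKFlat Ψ') (τ : Ψ ⟶ Ψ')
    (E : CochainComplex X.Modules ℤ) :
    (derKMap hΨ hΨ' τ).app (DerivedCategory.Q.obj E) ≫ (derKCounit hΨ').app E =
      (derKCounit hΨ).app E ≫ τ.app E := by
  letI : Localization.Lifting DerivedCategory.Q (HomologicalComplex.quasiIso X.Modules (ComplexShape.up ℤ))
    (resX X ⋙ Ψ) (derK hΨ) := Localization.liftingLift _ (inverts_resX hΨ) DerivedCategory.Q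
  letI : Localization.Lifting DerivedCategory.Q (HomologicalComplex.quasiIso X.Modules (ComplexShape.up ℤ))
    (resX X ⋙ Ψ') (derK hΨ') := Localization.liftingLift _ (inverts_resX hΨ') DerivedCategory.Q
  delta derKMap
  erw [Localization.liftNatTrans_app]
  show (_ ≫ τ.app ((resX X).obj E) ≫ (Localization.fac (resX X ⋙ Ψ') (inverts_resX hΨ') DerivedCategory.Q).inv.app E) ≫
      (Localization.fac (resX X ⋙ Ψ') (inverts_resX hΨ') DerivedCategory.Q).hom.app E ≫
        Ψ'.map ((resXπ X).app E) ≫ 𝟙 _ =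
    ((Localization.fac (resX X ⋙ Ψ) (inverts_resX hΨ) DerivedCategory.Q).hom.app E ≫
        Ψ.map ((resXπ X).app E) ≫ 𝟙 _) ≫ τ.app E
  let a := (Localization.fac (resX X ⋙ Ψ) (inverts_resX hΨ) DerivedCategory.Q).hom.app E
  let b := (Localization.fac (resX X ⋙ Ψ') (inverts_resX hΨ') DerivedCategory.Q).app E
  show (a ≫ τ.app ((resX X).obj E) ≫ b.inv) ≫ b.hom ≫ Ψ'.map ((resXπ X).app E) ≫ 𝟙 _ =
    (a ≫ Ψ.map ((resXπ X).app E) ≫ 𝟙 _) ≫ τ.app E
  simp only [Category.assoc, Category.comp_id, Iso.inv_hom_id_assoc]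
  exact congrArg (a ≫ ·) (τ.naturality ((resXπ X).app E)).symm

theorem isIso_derKMap_iff {Ψ' : CochainComplex X.Modules ℤ ⥤ H} (hΨ' : InvKFlat Ψ') (τ : Ψ ⟶ Ψ')
    (E : CochainComplex X.Modules ℤ) (hE : DCoh.IsKFlat E) :
    IsIso ((derKMap hΨ hΨ' τ).app (DerivedCategory.Q.obj E)) ↔ IsIso (τ.app E) := by
  haveI := isIso_derKCounit hΨ E hE
  haveI := isIso_derKCounit hΨ' E hE
  have e := derKMap_app hΨ hΨ' τ E
  constructor <;> intro hi
  · exact IsIso.of_isIso_fac_left e.symm
  · exact IsIso.of_isIso_fac_right e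

end Derived

theorem shortExact_map_split {A B : Type*} [Category A] [Category B] [Abelian A] [Abelian B] (G : A ⥤ B) [G.Additive]
    (S : ShortComplex (CochainComplex A ℤ))
    (hS : ∀ n, Nonempty (S.map (HomologicalComplex.eval A (ComplexShape.up ℤ) n)).Splitting) (n : ℤ) :
    Nonempty ((S.map (G.mapHomologicalComplex (ComplexShape.up ℤ))).map
      (HomologicalComplex.eval B (ComplexShape.up ℤ) n)).Splitting :=
  ⟨(hS n).some.map G⟩

theorem shortExact_tensor_split (A : CochainComplex X.Modules ℤ) (S : ShortComplex (CochainComplex X.Modules ℤ))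
    (hS : ∀ n, Nonempty (S.map (HomologicalComplex.eval X.Modules (ComplexShape.up ℤ) n)).Splitting) :
    (S.map (DCoh.tensorCx.obj A)).ShortExact :=
  KFlat.shortExact_tot_of_splitting (DCoh.tensorBi (X := X)) A S fun q => (hS q).some

theorem exTri_restrictD : ExTri (DCoh.restrictD V.ι) := exTri_of_isTriangulated _

theorem exists_triangle_of_shortExact {S : ShortComplex (CochainComplex X.Modules ℤ)} (hS : S.ShortExact) :
    ∃ c, Triangle.mk (DerivedCategory.Q.map S.f) (DerivedCategory.Q.map S.g) c ∈ distTriang (DCoh.D X) :=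
  ⟨_, DerivedCategory.triangleOfSES_distinguished hS⟩

theorem exTri_srcV : ExTri (derK (invKFlat_srcV f I V)) := exTri_derK _ fun S hS => by
  obtain ⟨c, hc⟩ := exists_triangle_of_shortExact
    (shortExact_tensor_split ((pfCx f).obj I) _ (shortExact_map_split (CxOX.extZero V.ι) S hS))
  exact exTri_restrictD V _ hc

theorem exTri_tgtV : ExTri (derK (invKFlat_tgtV f I V)) := exTri_derK _ fun S hS => by
  obtain ⟨c, hc⟩ := exists_triangle_of_shortExact (shortExact_tensor_split I _
    (shortExact_map_split (Scheme.Modules.pullback f) _ (shortExact_map_split (CxOX.extZero V.ι) S hS)))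
  obtain ⟨c', hc'⟩ := exists_rpush_triangle f _ _ c hc
  exact exTri_restrictD V _ hc'

end Groth.Agent.DCohMore
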