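import Groth.Agent.DCohMore.RelTorLoc
import Groth.Agent.DCohMore.ProjLoc
import Groth.Agent.DerSchH7.TensorPull
import Groth.Agent.DCohLib.FreeInd
import Groth.Agent.DCohLib.LocalQis

/-! Tensor products with perfect complexes: pseudo-coherence and relative tor amplitude. -/

set_option autoImplicit false
set_option backward.isDefEq.respectTransparency false
set_option linter.style.haveILetI false

universe u

open CategoryTheory Limits AlgebraicGeometry
open Groth.Agent.KFlat (tot)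
open scoped MonoidalCategory
attribute [local instance] HasDerivedCategory.standard

noncomputable section

namespace Groth.Agent.DCohMore

open Groth.Agent.DRingLib Groth.Agent.DCohLib Groth.Agent.DerSchH7

variable {X : Scheme.{u}}

/-- Pseudo-coherence of the tensor product with a complex. -/
def TensorPC (N E : CochainComplex X.Modules ℤ) : Prop :=
  ∀ m : ℤ, DCoh.IsPseudoCoherentD m (DCoh.toD X ((DCoh.tensorCx.obj N).obj E))

theorem tensorPC_freeClosed (N : CochainComplex X.Modules ℤ)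
    (hN : ∀ m : ℤ, DCoh.IsPseudoCoherentD m (DCoh.toD X N)) : FreeClosed (TensorPC N) where
  iso {E E'} e h m := isPseudoCoherentD_iso (DerivedCategory.Q.mapIso ((DCoh.tensorCx.obj N).mapIso e)) (h m)
  zero E hE m := by
    have hz : IsZero (DCoh.toD X ((DCoh.tensorCx.obj N).obj E)) :=
      DerivedCategory.Q.map_isZero ((DCoh.tensorCx.obj N).map_isZero (isZero_of_X hE))
    exact (isPseudoCoherentD_iff m _).2 fun x => ⟨⊤, trivial,
      pcOn_of_aboveZero ((aboveZero_zero m hz).restrict _)⟩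
  unit a m := by
    let t : (DCoh.tensorCx.obj N).obj (shiftUnitCx X a) ≅ N⟦-a⟧ :=
      (tot (DCoh.tensorBi (X := X)) N).mapIso
          (((CochainComplex.singleFunctors X.Modules).shiftIso (-a) a 0 (by omega)).app (Coh.structureModule X)).symm ≪≫
        CochainComplex.mapBifunctorShift₂Iso N _ (DCoh.tensorBi (X := X)) (-a) ≪≫
        (shiftFunctor (CochainComplex X.Modules ℤ) (-a)).mapIso (tensorUnitCxIso.app N)
    exact isPseudoCoherentD_iso
      (DerivedCategory.Q.mapIso t ≪≫ (DerivedCategory.Q.commShiftIso (-a)).app N).symm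
      (isPseudoCoherentD_shift (hN (m - a)) (-a) (by omega))
  split S σ h1 h3 m :=
    isPseudoCoherentD_obj₂ _ (DerivedCategory.triangleOfSES_distinguished
      (shortExact_tensor_split N S fun q => ⟨σ q⟩)) (h1 m) (h3 m)

theorem isPseudoCoherentD_tensorCx {P M : CochainComplex X.Modules ℤ} (hP : DCoh.IsKFlat P)
    (hPp : DCoh.IsPerfect (DCoh.toD X P)) (hM : ∀ m : ℤ, DCoh.IsPseudoCoherentD m (DCoh.toD X M)) (m : ℤ) :
    DCoh.IsPseudoCoherentD m (DCoh.toD X ((DCoh.tensorCx.obj P).obj M)) := by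
  refine isPseudoCoherentD_of_local fun x => ?_
  obtain ⟨V, hx, E, β, hβ, hE, hfree⟩ := exists_local_free_map hPp x
  refine ⟨V, V.ι, inferInstance, ⟨x, hx⟩, rfl, ?_⟩
  let MV := (resCx V.ι).obj M
  haveI := isIso_tensorCxQ_map β hβ (isKFlat_of_strictlyPerfect hE) (isKFlat_resCx V.ι hP) MV
  obtain ⟨s⟩ := nonempty_symCxSch E MV
  obtain ⟨⟨a, b, hab⟩, -⟩ := hE
  refine isPseudoCoherentD_iso (DerivedCategory.Q.mapIso s.symm ≪≫ asIso ((DCoh.tensorCxQ MV).map β) ≪≫
    DerivedCategory.Q.mapIso ((restrictTensorNat V.ι M).app P).symm ≪≫ (restrictDQ V.ι _).symm)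
    ((tensorPC_freeClosed MV fun n => isPseudoCoherentD_iso (restrictDQ V.ι M)
      (isPseudoCoherentD_restrict V.ι (hM n))).of_free hab hfree m)

theorem locFiniteTorAmplitude_tensorCx {S : Scheme.{u}} (f : X ⟶ S) {P M : CochainComplex X.Modules ℤ}
    (hP : DCoh.IsKFlat P) (hPp : DCoh.IsPerfect (DCoh.toD X P)) (hM : DerSch.LocFiniteTorAmplitude f M) :
    DerSch.LocFiniteTorAmplitude f ((DCoh.tensorCx.obj P).obj M) := by
  intro x
  obtain ⟨V₁, a, b, hx₁, h₁⟩ := (locHasFiniteTorDim_iff _).1 ((isPerfect_iff_pc _).1 hPp).2 x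
  obtain ⟨V₂, c, d, hx₂, h₂⟩ := hM x
  have hV₁ : DerSch.HasTorAmplitude (𝟙 (V₁ : Scheme.{u})) a b ((resCx V₁.ι).obj P) := by
    obtain ⟨E, hE, hfl, ⟨e⟩⟩ := h₁
    exact hasTorAmplitude_id_of_flatAmplitude ⟨E, hE, hfl, ⟨e ≪≫ restrictDQ V₁.ι P⟩⟩
  refine ⟨V₁ ⊓ V₂, a + c, b + d, ⟨hx₁, hx₂⟩, fun y hy => ?_⟩
  have hPy := (hasTorAmplitudeAt_id_iff P a b y).1 (hasTorAmplitudeAt_id_of_restrict V₁.ι hV₁ ⟨y, hy.1⟩)
  let Q := (resX X).obj M
  haveI := quasiIso_tensorCx_obj_map hP ((resXπ X).app M) (quasiIso_resXπ M)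
  haveI : IsIso (DerivedCategory.Q.map ((DCoh.tensorCx.obj P).map ((resXπ X).app M))) :=
    (DerivedCategory.isIso_Q_map_iff_quasiIso (C := X.Modules) _).2 ‹_›
  refine hasTorAmplitudeAt_congr f
    (asIso (DerivedCategory.Q.map ((DCoh.tensorCx.obj P).map ((resXπ X).app M)))) ?_
  let G : DRing.Cx (X.presheaf.stalk y) := ((stkF y).mapHomologicalComplex (ComplexShape.up ℤ)).obj Q
  have hG : DRing.HasTorAmplitudeIn (S.presheaf.stalk (f.base y)) c d
      ((DRing.restrictD (f.stalkMap y).hom).obj (DRing.toD G)) :=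
    amp_of_iso (DerivedCategory.Q.mapIso (stalkCxOverResIso f y Q) ≪≫
      ((DTen.resFactors (f.stalkMap y).hom).app G).symm)
      (hasTorAmplitudeAt_congr f (@asIso _ _ _ _ _ (isIso_Q_resXπ M)).symm (h₂ y hy.2))
  have h := amp_tensor_trans (f.stalkMap y).hom _ G ((isKFlat_iff_stalk Q).1 (isKFlat_resX M) y) hPy hG
  exact amp_of_iso ((DTen.resFactors (f.stalkMap y).hom).app _ ≪≫
    DerivedCategory.Q.mapIso ((DTen.resCx (f.stalkMap y).hom).mapIso (stalkTensorCxIso y P Q).symm ≪≫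
      (stalkCxOverResIso f y _).symm)) h

end Groth.Agent.DCohMore
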