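import Groth.Agent.DCohMore.ProjUnit
import Groth.Agent.DCohMore.QCGen
import Groth.Agent.DCohMore.PCFlatProper
import Groth.Agent.DCohMore.TensorRelPerf
import Groth.Agent.ProjSmoothLib.Basic
import Groth.Agent.CompleteCurve.ProjSpace
import Groth.Agent.CurveLib.Inv

/-!
# Pseudo-coherence on projective space detected by twists
-/

set_option autoImplicit false
set_option linter.style.haveILetI false
set_option linter.unusedSectionVars false
set_option maxHeartbeats 1600000
set_option backward.isDefEq.respectTransparency false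

universe u

open CategoryTheory CategoryTheory.Limits AlgebraicGeometry TopologicalSpace Opposite
open CategoryTheory.Pretriangulated
open Groth.Agent.DCohLib

attribute [local instance] HasDerivedCategory.standard

noncomputable section

namespace Groth.Agent.DCohMore.TwistFam

variable {X : Scheme.{u}}

open Groth.Agent.ModTensor in
/-- Tensoring with invertible modules is computed on any representative. -/
theorem nonempty_lTensorMod_Q {A B : X.Modules} (e : CohB1.tensorMod B A ≅ Coh.structureModule X)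
    (e' : CohB1.tensorMod A B ≅ Coh.structureModule X) [DCoh.HasLTensorMod A] (K : CochainComplex X.Modules ℤ) :
    Nonempty ((DCoh.LTensorMod A).obj (DerivedCategory.Q.obj K) ≅
      DerivedCategory.Q.obj (((DCoh.tensorRightMod A).mapHomologicalComplex (ComplexShape.up ℤ)).obj K)) := by
  let T := (ModSite.tensorBi X.sheaf).flip
  let F := DCoh.tensorRightMod A
  let G := DCoh.tensorRightMod B
  let η : F ⋙ G ≅ 𝟭 X.Modules := tensorAssoc X.sheaf A B ≪≫ T.mapIso e' ≪≫ tensorUnitRight X.sheaf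
  let η' : G ⋙ F ≅ 𝟭 X.Modules := tensorAssoc X.sheaf B A ≪≫ T.mapIso e ≪≫ tensorUnitRight X.sheaf
  haveI : F.IsEquivalence := Functor.IsEquivalence.mk' G η.symm η'
  haveI : PreservesFiniteLimits F := inferInstance
  haveI : PreservesFiniteColimits F := inferInstance
  let P := (resX X).obj K
  let eP : DerivedCategory.Q.obj P ≅ DerivedCategory.Q.obj K := @asIso _ _ _ _ _ (isIso_Q_resXπ K)
  exact ⟨(DCoh.LTensorMod A).mapIso eP.symm ≪≫ lTensorModIso A P (isKFlat_resX _) ≪≫
    (F.mapDerivedCategoryFactors.app P).symm ≪≫ F.mapDerivedCategory.mapIso eP ≪≫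
    F.mapDerivedCategoryFactors.app K⟩

open Groth.Agent.ModTensor in
/-- Successive twists by invertible modules. -/
theorem nonempty_lTensorMod_comp {A B A' B' C : X.Modules} (e : CohB1.tensorMod B' B ≅ Coh.structureModule X)
    (e' : CohB1.tensorMod B B' ≅ Coh.structureModule X)
    (c : CohB1.tensorMod A B ≅ C) [DCoh.HasLTensorMod A] [DCoh.HasLTensorMod B] [DCoh.HasLTensorMod C]
    (W : DCoh.D X) :
    Nonempty ((DCoh.LTensorMod B).obj ((DCoh.LTensorMod A).obj W) ≅ (DCoh.LTensorMod C).obj W) := by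
  let P := (resX X).obj (DerivedCategory.Q.objPreimage W)
  obtain ⟨eB⟩ := nonempty_lTensorMod_Q e e' (((DCoh.tensorRightMod A).mapHomologicalComplex (ComplexShape.up ℤ)).obj P)
  let m : DCoh.tensorRightMod A ⋙ DCoh.tensorRightMod B ≅ DCoh.tensorRightMod C :=
    tensorAssoc X.sheaf A B ≪≫ (ModSite.tensorBi X.sheaf).flip.mapIso c
  let mC : ((DCoh.tensorRightMod B).mapHomologicalComplex (ComplexShape.up ℤ)).obj
      (((DCoh.tensorRightMod A).mapHomologicalComplex (ComplexShape.up ℤ)).obj P) ≅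
      ((DCoh.tensorRightMod C).mapHomologicalComplex (ComplexShape.up ℤ)).obj P :=
    HomologicalComplex.Hom.isoOfComponents (fun p => m.app (P.X p)) (fun p q _ => (m.hom.naturality (P.d p q)).symm)
  exact ⟨(DCoh.LTensorMod B).mapIso ((DCoh.LTensorMod A).mapIso (resXIso W).symm ≪≫
      lTensorModIso A P (isKFlat_resX _)) ≪≫ eB ≪≫ DerivedCategory.Q.mapIso mC ≪≫
    (lTensorModIso C P (isKFlat_resX _)).symm ≪≫ (DCoh.LTensorMod C).mapIso (resXIso W)⟩

/-- Twisting by the structure sheaf does nothing. -/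
theorem nonempty_lTensorMod_unit {A : X.Modules} (a : A ≅ Coh.structureModule X) [DCoh.HasLTensorMod A]
    (W : DCoh.D X) : Nonempty ((DCoh.LTensorMod A).obj W ≅ W) := by
  let P := (resX X).obj (DerivedCategory.Q.objPreimage W)
  let η₀ : DCoh.tensorRightMod A ≅ 𝟭 X.Modules :=
    (ModSite.tensorBi X.sheaf).flip.mapIso a ≪≫ ModTensor.tensorUnitRight X.sheaf
  let e : ((DCoh.tensorRightMod A).mapHomologicalComplex (ComplexShape.up ℤ)).obj P ≅ P :=
    HomologicalComplex.Hom.isoOfComponents (fun p => η₀.app (P.X p)) (fun p q _ => (η₀.hom.naturality (P.d p q)).symm)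
  exact ⟨(DCoh.LTensorMod A).mapIso (resXIso W).symm ≪≫ lTensorModIso A P (isKFlat_resX _) ≪≫
    DerivedCategory.Q.mapIso e ≪≫ resXIso W⟩

/-- Twists of pseudo-coherent objects by finite locally free modules. -/
theorem isPseudoCoherentD_twist {L : X.Modules} (hL : FlatMod.IsFinLocFree L) [DCoh.HasLTensorMod L]
    (W : DCoh.D X) (hW : ∀ m : ℤ, DCoh.IsPseudoCoherentD m W) (m : ℤ) :
    DCoh.IsPseudoCoherentD m ((DCoh.LTensorMod L).obj W) := by
  let M := (resX X).obj (DerivedCategory.Q.objPreimage W)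
  let E := (HomologicalComplex.single X.Modules (ComplexShape.up ℤ) 0).obj L
  have hs : DCoh.IsStrictlyPerfect E := isStrictlyPerfect_single hL
  obtain ⟨t⟩ := nonempty_symCxSch M (sgl₀ L)
  obtain ⟨a⟩ := nonempty_lTensorMod_single L W
  refine isPseudoCoherentD_iso ?_ (isPseudoCoherentD_tensorCx (P := sgl₀ L) (isKFlat_of_strictlyPerfect hs)
    (isPerfect_of_perfOn ⟨E, hs, ⟨Iso.refl _⟩⟩) (M := M) (fun m => isPseudoCoherentD_iso (resXIso W).symm (hW m)) m)
  exact DerivedCategory.Q.mapIso t.symm ≪≫ (lTensorIso (sgl₀ L) M (isKFlat_resX _)).symm ≪≫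
    (DCoh.LTensorCx (sgl₀ L)).mapIso (resXIso W) ≪≫ a.symm

/-- A finite locally free module is flat over the base of a flat morphism. -/
theorem isFlatOver_of_isFinLocFree {S : Scheme.{u}} (f : X ⟶ S) [Flat f] {L : X.Modules}
    (hL : FlatMod.IsFinLocFree L) : FlatMod.IsFlatOver f L := fun x => by
  show @Module.Flat _ _ _ _ (FlatMod.moduleStalkOver f L x)
  letI := (f.stalkMap x).hom.toAlgebra
  letI := FlatMod.moduleStalkOver f L x
  haveI : IsScalarTower (S.presheaf.stalk (f.base x)) (X.presheaf.stalk x) (L.presheaf.stalk x) :=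
    .of_algebraMap_smul fun _ _ => rfl
  haveI : Module.Flat (S.presheaf.stalk (f.base x)) (X.presheaf.stalk x) := Flat.stalkMap f x
  haveI : Module.Flat (X.presheaf.stalk x) (L.presheaf.stalk x) := PullbackMod.isFlat_of_isFinLocFree _ hL x
  exact Module.Flat.trans (S.presheaf.stalk (f.base x)) (X.presheaf.stalk x) (L.presheaf.stalk x)

variable (n : ℕ) (R : Type u) [CommRing R]

local notation "P" => CohB1.ProjSpace n R
local notation "π" => CohB1.ProjSpace.toSpec n R

theorem isFinLocFree_projMul (d : ℤ) : FlatMod.IsFinLocFree ((projMul n R).F d) :=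
  CurveLib.isFinLocFree_of_isInvertible
    (ProjTwistLib.isInvertible_of_hasUnit (hasUnit_twist n R d))

/-- Successive twists on projective space. -/
theorem nonempty_twist_twist (a b : ℤ) (W : DCoh.D P) :
    Nonempty ((DCoh.LTensorMod ((projMul n R).F b)).obj ((DCoh.LTensorMod ((projMul n R).F a)).obj W) ≅
      (DCoh.LTensorMod ((projMul n R).F (a + b))).obj W) :=
  nonempty_lTensorMod_comp (B' := (projMul n R).F (-b)) (A' := (projMul n R).F (-b))
    (projMulInv n R (by omega)) (projMulInv n R (by omega))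
    (ProjTwistLib.mulIso rfl (hasUnit_twist n R a)) W

variable [DCoh.HasRpush (CohB1.ProjSpace.toSpec n R)]

/-- Direct images of twisted inverse images vanish in the window. -/
theorem isZero_rpush_twist_lpull (d : ℤ) (h₀ : d < 0) (hn : -(n : ℤ) ≤ d) [DCoh.HasLpull π]
    (M : DCoh.D (Spec (CommRingCat.of R))) (hM : DCoh.IsQCohD M) :
    IsZero ((DCoh.Rpush π).obj ((DCoh.LTensorMod ((projMul n R).F d)).obj ((DCoh.Lpull π).obj M))) := by
  let S := Spec (CommRingCat.of R)
  let G := (projMul n R).F d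
  haveI : SiteCmp.HasRpushD (ModSite.RMor.ofScheme π) := ‹DCoh.HasRpush π›
  obtain ⟨h₁, h₂⟩ := SiteCmpLib.exists_triangulated_rpushD (ModSite.RMor.ofScheme π)
  letI : (DCoh.Rpush π).CommShift ℤ := h₁
  haveI : (DCoh.Rpush π).IsTriangulated := h₂
  let H := DCoh.Lpull π ⋙ DCoh.LTensorMod G ⋙ DCoh.Rpush π
  have hH : ExTri H := (BC.exTri_lpull π).comp ((BC.exTri_lTensorMod G).comp (BC.exTri_rpush π))
  have hq : ∀ (K : DCoh.D S) (k : ℤ), DCoh.IsQCohD K → DCoh.IsQCohD (K⟦k⟧) := fun K k hK i =>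
    isQCoh_of_iso' (((DerivedCategory.homologyFunctor S.Modules 0).shiftIso k i (k + i) rfl).app K).symm (hK (k + i))
  suffices h : ∀ k : ℤ, IsZero (H.obj (M⟦k⟧)) from (h 0).of_iso (H.mapIso ((shiftFunctorZero _ ℤ).app M)).symm
  refine BC.qcoh_affine_induction R (fun K => ∀ k : ℤ, IsZero (H.obj (K⟦k⟧)))
    (fun e h k => (h k).of_iso (H.mapIso ((shiftFunctor _ k).mapIso e)).symm) (fun m k => ?_) ?_ ?_ M hM
  · let O := Coh.structureModule S
    let q := m - k
    let sS : (BC.TT S q).obj O ≅ ((BC.TT S m).obj O)⟦k⟧ :=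
      (((DerivedCategory.singleFunctors S.Modules).shiftIso k q m (by omega)).app O).symm
    haveI : IsIso ((BC.lamN π q).app O) :=
      BC.isIso_lamN_app_flat π q _ ((isFlat_iff _).2 (SiteBase.ExtZeroPre.isFlat_unit S.sheaf))
    obtain ⟨a⟩ := BC.nonempty_lTensorMod_TT_unit G q
    obtain ⟨a'⟩ := BC.nonempty_unit_tensor G
    let e1 : (DCoh.LTensorMod G).obj ((DCoh.Lpull π).obj ((BC.TT S q).obj O)) ≅ (BC.TT P q).obj G :=
      (DCoh.LTensorMod G).mapIso (asIso ((BC.lamN π q).app O) ≪≫ (BC.TT P q).mapIso (pullStructureIso π)) ≪≫ a ≪≫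
        (BC.TT P q).mapIso a'
    let sP : (BC.TT P q).obj G ≅ (DCoh.inD P G)⟦-q⟧ :=
      (((DerivedCategory.singleFunctors (CohB1.ProjSpace n R).Modules).shiftIso (-q) q 0 (by omega)).app G).symm
    exact ((shiftFunctor (DCoh.D S) (-q)).map_isZero (isZero_rpush_twist n R d h₀ hn)).of_iso
      (H.mapIso sS.symm ≪≫ (DCoh.Rpush π).mapIso (e1 ≪≫ sP) ≪≫
        ((DCoh.Rpush π).commShiftIso (-q)).app _)
  · intro κ K _ hKq hK k
    haveI := hasCoproduct_D' fun i => (K i)⟦k⟧
    refine IsZero.of_iso ?_ (H.mapIso (PreservesCoproduct.iso (shiftFunctor _ k) K))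
    let W := fun i => (K i)⟦k⟧
    haveI : (DCoh.Lpull π).IsLeftAdjoint := (lpullRpushAdj π).isLeftAdjoint
    let W₁ := fun i => (DCoh.Lpull π).obj (W i)
    let W₂ := fun i => (DCoh.LTensorMod G).obj (W₁ i)
    haveI := hasCoproduct_D' W₁
    haveI := hasCoproduct_D' W₂
    haveI := hasCoproduct_D' fun i => (DCoh.Rpush π).obj (W₂ i)
    haveI := BC.preservesCoproduct_lTensorMod G W₁
    haveI := isIso_sigmaComparison_rpush π W₂ fun i =>
      BC.isQCohD_lTensorMod G (isQCoh_projMul n R d) _ (TildeD.isQCohD_lpull π _ (hq _ k (hKq i)))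
    refine IsZero.of_iso ?_ ((DCoh.Rpush π).mapIso ((DCoh.LTensorMod G).mapIso
      (PreservesCoproduct.iso (DCoh.Lpull π) W) ≪≫ PreservesCoproduct.iso (DCoh.LTensorMod G) W₁) ≪≫
      (asIso (sigmaComparison (DCoh.Rpush π) W₂)).symm)
    exact (IsZero.iff_id_eq_zero _).2 (Limits.Sigma.hom_ext _ _ fun i => (hK i k).eq_of_src _ _)
  · intro T hT _ _ h₁ h₂ k
    obtain ⟨c, hc⟩ := hH _ (Triangle.shift_distinguished _ hT k)
    exact Triangle.isZero₃_of_isIso₁ _ hc ⟨0, (h₁ k).eq_of_src _ _, (h₂ k).eq_of_src _ _⟩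

/-- The unit at inverse images of quasi-coherent objects on the affine base. -/
theorem isIso_unit_qcoh [DCoh.HasLpull π] (M : DCoh.D (Spec (CommRingCat.of R))) (hM : DCoh.IsQCohD M) :
    IsIso ((lpullRpushAdj π).unit.app M) := by
  let S := Spec (CommRingCat.of R)
  let adj := lpullRpushAdj π
  haveI : SiteCmp.HasRpushD (ModSite.RMor.ofScheme π) := ‹DCoh.HasRpush π›
  obtain ⟨h₁, h₂⟩ := SiteCmpLib.exists_triangulated_rpushD (ModSite.RMor.ofScheme π)
  letI : (DCoh.Rpush π).CommShift ℤ := h₁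
  haveI : (DCoh.Rpush π).IsTriangulated := h₂
  let H := DCoh.Lpull π ⋙ DCoh.Rpush π
  let τ : 𝟭 (DCoh.D S) ⟶ H := adj.unit
  have invar : ∀ {K L : DCoh.D S}, (K ≅ L) → IsIso (τ.app K) → IsIso (τ.app L) :=
    fun e h => (NatTrans.isIso_app_iff_of_iso τ e).1 h
  have hq : ∀ (K : DCoh.D S) (k : ℤ), DCoh.IsQCohD K → DCoh.IsQCohD (K⟦k⟧) := fun K k hK i =>
    isQCoh_of_iso' (((DerivedCategory.homologyFunctor S.Modules 0).shiftIso k i (k + i) rfl).app K).symm (hK (k + i))
  suffices h : ∀ k : ℤ, IsIso (τ.app (M⟦k⟧)) from invar ((shiftFunctorZero _ ℤ).app M) (h 0)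
  refine BC.qcoh_affine_induction R (fun K => ∀ k : ℤ, IsIso (τ.app (K⟦k⟧)))
    (fun e h k => invar ((shiftFunctor _ k).mapIso e) (h k)) (fun m k => ?_) ?_ ?_ M hM
  · let O := Coh.structureModule S
    let q := m - k
    refine invar (((DerivedCategory.singleFunctors S.Modules).shiftIso k q m (by omega)).app O).symm ?_
    let A := (BC.TT S q).obj O
    haveI : IsIso ((BC.lamN π q).app O) :=
      BC.isIso_lamN_app_flat π q _ ((isFlat_iff _).2 (SiteBase.ExtZeroPre.isFlat_unit S.sheaf))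
    let sP := (((DerivedCategory.singleFunctors (CohB1.ProjSpace n R).Modules).shiftIso (-q) q 0 (by omega)).app
      (Coh.structureModule P)).symm
    let sS := (((DerivedCategory.singleFunctors S.Modules).shiftIso (-q) q 0 (by omega)).app O).symm
    obtain ⟨e0⟩ := nonempty_rpush_structure n R
    let β : H.obj A ≅ A :=
      (DCoh.Rpush π).mapIso (asIso ((BC.lamN π q).app O) ≪≫ (BC.TT P q).mapIso (pullStructureIso π) ≪≫ sP) ≪≫
        ((DCoh.Rpush π).commShiftIso (-q)).app _ ≪≫ (shiftFunctor _ (-q)).mapIso e0 ≪≫ sS.symm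
    have hcomm : ∀ f g : A ⟶ A, f ≫ g = g ≫ f := by
      have hO : ∀ a b : O ⟶ O, a ≫ b = b ≫ a := fun a b => by
        refine hom_unit_ext ?_
        show b.app ⊤ (AmpleLib.sec a) = a.app ⊤ (AmpleLib.sec b)
        rw [AmpleLib.app_eq, AmpleLib.app_eq, AmpleLib.resT, AmpleLib.resT, res_self, res_self]
        exact mul_comm (show Γ(S, ⊤) from AmpleLib.sec a) (show Γ(S, ⊤) from AmpleLib.sec b)
      intro f g
      obtain ⟨a, rfl⟩ := (DerivedCategory.singleFunctor S.Modules q).map_surjective f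
      obtain ⟨b, rfl⟩ := (DerivedCategory.singleFunctor S.Modules q).map_surjective g
      rw [← Functor.map_comp, ← Functor.map_comp, hO]
    let h := (adj.homEquiv A ((DCoh.Lpull π).obj A)).symm β.inv
    have hh : adj.unit.app A ≫ (DCoh.Rpush π).map h = β.inv := by
      exact ((adj.homEquiv_unit _ _ h).symm).trans (Equiv.apply_symm_apply _ _)
    let u : A ⟶ A := adj.unit.app A ≫ β.hom
    let v : A ⟶ A := β.inv ≫ (DCoh.Rpush π).map h ≫ β.hom
    have huv : u ≫ v = 𝟙 A := by
      show (adj.unit.app A ≫ β.hom) ≫ β.inv ≫ (DCoh.Rpush π).map h ≫ β.hom = _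
      rw [Category.assoc, Iso.hom_inv_id_assoc, reassoc_of% hh, Iso.inv_hom_id]
    haveI : IsIso u := ⟨v, huv, (hcomm v u).trans huv⟩
    have : τ.app A = u ≫ β.inv := by
      show adj.unit.app A = (adj.unit.app A ≫ β.hom) ≫ β.inv
      rw [Category.assoc, Iso.hom_inv_id]
      exact (Category.comp_id _).symm
    show IsIso (τ.app A)
    rw [this]
    infer_instance
  · intro κ K _ hKq hK k
    haveI := hasCoproduct_D' fun i => (K i)⟦k⟧
    refine invar (PreservesCoproduct.iso (shiftFunctor _ k) K).symm ?_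
    let W := fun i => (K i)⟦k⟧
    haveI : (DCoh.Lpull π).IsLeftAdjoint := adj.isLeftAdjoint
    haveI := hasCoproduct_D' fun i => (DCoh.Lpull π).obj (W i)
    haveI := hasCoproduct_D' fun i => H.obj (W i)
    haveI := hasCoproduct_D' fun i => (DCoh.Rpush π).obj ((DCoh.Lpull π).obj (W i))
    haveI : HasCoproductsOfShape κ (DCoh.D S) := ⟨fun F =>
      haveI := hasCoproduct_D' (F.obj ∘ Discrete.mk)
      hasColimit_of_iso (F := Discrete.functor (F.obj ∘ Discrete.mk)) Discrete.natIsoFunctor⟩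
    haveI := isIso_sigmaComparison_rpush π (fun i => (DCoh.Lpull π).obj (W i))
      fun i => TildeD.isQCohD_lpull π _ (hq _ k (hKq i))
    haveI : ∀ i, IsIso (τ.app (W i)) := fun i => hK i k
    let c : H.obj (∐ W) ≅ ∐ fun i => H.obj (W i) :=
      (DCoh.Rpush π).mapIso (PreservesCoproduct.iso (DCoh.Lpull π) W) ≪≫
        (asIso (sigmaComparison (DCoh.Rpush π) fun i => (DCoh.Lpull π).obj (W i))).symm
    have he : τ.app (∐ W) = (Limits.Sigma.mapIso fun i => asIso (τ.app (W i))).hom ≫ c.inv := by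
      refine Sigma.hom_ext _ _ fun i => ?_
      rw [Limits.Sigma.ι_mapIso_hom_assoc]
      show Sigma.ι W i ≫ τ.app (∐ W) = τ.app (W i) ≫ Sigma.ι (fun i => H.obj (W i)) i ≫ c.inv
      simp only [c, Iso.trans_inv, Iso.symm_inv, asIso_hom, Functor.mapIso_inv, PreservesCoproduct.inv_hom]
      refine Eq.trans (τ.naturality (Sigma.ι W i)) (congrArg (τ.app (W i) ≫ ·) ?_)
      symm
      refine (Category.assoc _ _ _).symm.trans ((congrArg (· ≫ _)
        (ι_comp_sigmaComparison (DCoh.Rpush π) (fun i => (DCoh.Lpull π).obj (W i)) i)).trans ?_)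
      exact ((DCoh.Rpush π).map_comp _ _).symm.trans
        (congrArg (DCoh.Rpush π).map (ι_comp_sigmaComparison (DCoh.Lpull π) W i))
    rw [he]
    infer_instance
  · intro T hT _ _ h₁ h₂ k
    refine isIso_app₃ (exTri_of_isTriangulated (𝟭 (DCoh.D S))) ((BC.exTri_lpull π).comp (BC.exTri_rpush π)) τ
      ((shiftFunctor (Triangle _) k).obj T) (Triangle.shift_distinguished _ hT k) (h₁ k) (h₂ k) ?_ ?_
    · exact invar ((shiftFunctorAdd' _ k 1 (k + 1) rfl).app T.obj₁) (h₁ (k + 1))
    · exact invar ((shiftFunctorAdd' _ k 1 (k + 1) rfl).app T.obj₂) (h₂ (k + 1))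

/-- Direct images of twists of pseudo-coherent objects are pseudo-coherent. -/
theorem isPseudoCoherentD_rpush_twist (d : ℤ) (W : DCoh.D P) (hW : ∀ m : ℤ, DCoh.IsPseudoCoherentD m W) (m : ℤ) :
    DCoh.IsPseudoCoherentD m ((DCoh.Rpush π).obj ((DCoh.LTensorMod ((projMul n R).F d)).obj W)) := by
  let G := (projMul n R).F d
  haveI : Smooth π := ProjSmoothLib.smooth_toSpec n R
  haveI : IsProper π := inferInstance
  haveI : Flat π := inferInstance
  have hfl : FlatMod.IsFinLocFree G := isFinLocFree_projMul n R d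
  have hfp : CohB1.IsFP G := (PullbackMod.isQCoh_and_isFP_of_isFinLocFree G hfl).2
  have hz : ∀ i : ℤ, i ≠ 0 → IsZero ((sgl₀ G).X i) := fun i hi =>
    HomologicalComplex.isZero_single_obj_X (ComplexShape.up ℤ) 0 G i hi
  have hterms : ∀ i : ℤ, FlatMod.IsFinLocFree ((sgl₀ G).X i) := fun i => by
    rcases eq_or_ne i 0 with rfl | hi
    · exact isFinLocFree_iso (HomologicalComplex.singleObjXSelf (ComplexShape.up ℤ) 0 G).symm hfl
    · exact isFinLocFree_of_isZero (hz i hi)
  have huniv : ClSub.IsProperOver π (Set.univ : Set P) :=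
    (ClSubLib.isProperOver_iff π (𝟙 _) (Set.range_id)).2 (by rw [Category.id_comp]; infer_instance)
  obtain ⟨a⟩ := nonempty_lTensorMod_single G W
  refine isPseudoCoherentD_iso ((DCoh.Rpush π).mapIso a).symm (isPseudoCoherentD_rpush_flat_proper π (sgl₀ G) 0
    (fun i hi => hz i (by omega)) (fun i => (PullbackMod.isQCoh_and_isFP_of_isFinLocFree _ (hterms i)).2)
    (fun i => isFlatOver_of_isFinLocFree π (hterms i))
    (fun i => ClSubLib.isProperOver_subset π huniv (PullbackMod.isClosed_support_of_isFT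
      (ExactConstrLib.isFT_of_isFP (PullbackMod.isQCoh_and_isFP_of_isFinLocFree _ (hterms i)).2)) (Set.subset_univ _))
    W hW m)

/-- The zero object is pseudo-coherent. -/
theorem isPseudoCoherentD_of_isZero {Y : Scheme.{u}} {Z : DCoh.D Y} (h : IsZero Z) (m : ℤ) :
    DCoh.IsPseudoCoherentD m Z :=
  isPseudoCoherentD_of_isPerfect' (isPerfect_of_perfOn (perfOn_of_isZero h)) m

/-- Third vertices of triangles between pseudo-coherent objects. -/
theorem isPseudoCoherentD_third {Y : Scheme.{u}} (T : Triangle (DCoh.D Y)) (hT : T ∈ distTriang _)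
    (h₁ : ∀ m : ℤ, DCoh.IsPseudoCoherentD m T.obj₁) (h₂ : ∀ m : ℤ, DCoh.IsPseudoCoherentD m T.obj₂) (m : ℤ) :
    DCoh.IsPseudoCoherentD m T.obj₃ :=
  isPseudoCoherentD_obj₂ T.rotate (rot_of_distTriang _ hT) (h₂ m) (isPseudoCoherentD_shift (h₁ (m + 1)) 1 (by omega))

/-- The induction: twists vanishing below the window and pseudo-coherent inside it. -/
theorem isPseudoCoherentD_of_window : ∀ r : ℕ, r ≤ n + 1 → ∀ L : DCoh.D P, DCoh.IsQCohD L →
    (∀ i : ℤ, -((n : ℤ) + 1 - r) ≤ i → i < 0 →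
      IsZero ((DCoh.Rpush π).obj ((DCoh.LTensorMod ((projMul n R).F i)).obj L))) →
    (∀ i : ℤ, 0 ≤ i → i < r → ∀ m : ℤ, DCoh.IsPseudoCoherentD m
      ((DCoh.Rpush π).obj ((DCoh.LTensorMod ((projMul n R).F i)).obj L))) →
    ∀ m : ℤ, DCoh.IsPseudoCoherentD m L := by
  intro r
  induction r with
  | zero =>
    intro _ L hL hz _ m
    haveI := hasLpull (CohB1.ProjSpace.toSpec n R)
    refine isPseudoCoherentD_of_isZero ?_ m
    refine isZero_of_twists (projMul n R) (isAffineOpen_projMul n R) (isQCoh_projMul n R) (projMulZero n R) L hL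
      (-((n : ℤ) + 1)) fun e he k φ => ?_
    have he' : e ≤ n := by simpa [Nat.lt_succ_iff] using he
    have hzero := hz (-((n : ℤ) + 1) + e) (by push_cast; omega) (by omega)
    let O := Coh.structureModule (Spec (CommRingCat.of R))
    let q := -k
    haveI : IsIso ((BC.lamN π q).app O) :=
      BC.isIso_lamN_app_flat π q _ ((isFlat_iff _).2 (SiteBase.ExtZeroPre.isFlat_unit (Spec (CommRingCat.of R)).sheaf))
    let sX := ((DerivedCategory.singleFunctors (CohB1.ProjSpace n R).Modules).shiftIso k q 0 (by omega)).app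
      (Coh.structureModule P)
    let b : (DCoh.Lpull π).obj ((BC.TT _ q).obj O) ≅ (DCoh.inD P (Coh.structureModule P))⟦k⟧ :=
      asIso ((BC.lamN π q).app O) ≪≫ (BC.TT P q).mapIso (pullStructureIso π) ≪≫ sX.symm
    rw [← cancel_epi b.hom, comp_zero]
    exact ((lpullRpushAdj π).homEquiv _ _).injective (hzero.eq_of_tgt _ _)
  | succ r ih =>
    intro hr L hL hz hpc
    haveI := hasLpull (CohB1.ProjSpace.toSpec n R)
    let adj := lpullRpushAdj π
    let Tw := fun (i : ℤ) => DCoh.LTensorMod ((projMul n R).F i)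
    obtain ⟨e0⟩ := nonempty_lTensorMod_unit (A := (projMul n R).F 0) (projMulZero n R) L
    let Q₀ := (DCoh.Rpush π).obj L
    have hQq : DCoh.IsQCohD Q₀ := isQCohD_rpush π L hL
    have hQ : ∀ m : ℤ, DCoh.IsPseudoCoherentD m Q₀ := fun m =>
      isPseudoCoherentD_iso ((DCoh.Rpush π).mapIso e0) (hpc 0 le_rfl (by omega) m)
    let E := (DCoh.Lpull π).obj Q₀
    have hE : ∀ m : ℤ, DCoh.IsPseudoCoherentD m E := fun m => isPseudoCoherentD_lpull π m _ (hQ m)
    have hEq : DCoh.IsQCohD E := TildeD.isQCohD_lpull π _ hQq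
    haveI : IsIso (adj.unit.app Q₀) := isIso_unit_qcoh n R Q₀ hQq
    have hε : IsIso ((DCoh.Rpush π).map (adj.counit.app L)) := by
      haveI : IsIso (adj.unit.app Q₀ ≫ (DCoh.Rpush π).map (adj.counit.app L)) := by
        erw [adj.right_triangle_components]
        exact inferInstanceAs (IsIso (𝟙 _))
      exact IsIso.of_isIso_comp_left (adj.unit.app Q₀) _
    obtain ⟨C, g, δ, hT⟩ := distinguished_cocone_triangle (adj.counit.app L)
    have hCq : DCoh.IsQCohD C := isQCohD_obj₂ _ (rot_of_distTriang _ hT) hL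
      (fun p => isQCoh_of_iso' (((DerivedCategory.homologyFunctor (CohB1.ProjSpace n R).Modules 0).shiftIso 1 p (1 + p) rfl).app E).symm
        (hEq (1 + p)))
    have hC0 : IsZero ((DCoh.Rpush π).obj C) := by
      obtain ⟨c, hc⟩ := BC.exTri_rpush π _ hT
      exact Triangle.isZero₃_of_isIso₁ _ hc hε
    have hTw : ∀ i : ℤ, ∃ c, Triangle.mk ((DCoh.Rpush π).map ((Tw i).map (adj.counit.app L)))
        ((DCoh.Rpush π).map ((Tw i).map g)) c ∈ distTriang (DCoh.D (Spec (CommRingCat.of R))) := fun i =>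
      ((BC.exTri_lTensorMod ((projMul n R).F i)).comp (BC.exTri_rpush π)) _ hT
    let L' := (Tw 1).obj C
    have hL'q : DCoh.IsQCohD L' := BC.isQCohD_lTensorMod _ (isQCoh_projMul n R 1) C hCq
    have hpcL' : ∀ m : ℤ, DCoh.IsPseudoCoherentD m L' := by
      refine ih (by omega) L' hL'q (fun i hi hi' => ?_) fun i hi hi' m => ?_
      · obtain ⟨e⟩ := nonempty_twist_twist n R 1 i C
        refine IsZero.of_iso ?_ ((DCoh.Rpush π).mapIso e)
        by_cases h1 : 1 + i = 0
        · obtain ⟨z⟩ := nonempty_lTensorMod_unit (A := (projMul n R).F (1 + i))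
            (eqToIso (by rw [h1]) ≪≫ projMulZero n R) C
          exact hC0.of_iso ((DCoh.Rpush π).mapIso z)
        · obtain ⟨c, hc⟩ := hTw (1 + i)
          have z1 : IsZero ((DCoh.Rpush π).obj ((Tw (1 + i)).obj E)) :=
            isZero_rpush_twist_lpull n R (1 + i) (by omega) (by omega) Q₀ hQq
          have z2 : IsZero ((DCoh.Rpush π).obj ((Tw (1 + i)).obj L)) :=
            hz (1 + i) (by push_cast; omega) (by omega)
          exact Triangle.isZero₃_of_isIso₁ _ hc ⟨0, z1.eq_of_src _ _, z2.eq_of_src _ _⟩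
      · obtain ⟨e⟩ := nonempty_twist_twist n R 1 i C
        refine isPseudoCoherentD_iso ((DCoh.Rpush π).mapIso e).symm ?_
        obtain ⟨c, hc⟩ := hTw (1 + i)
        exact isPseudoCoherentD_third _ hc (isPseudoCoherentD_rpush_twist n R (1 + i) E hE)
          (hpc (1 + i) (by omega) (by push_cast; omega)) m
    have hCpc : ∀ m : ℤ, DCoh.IsPseudoCoherentD m C := fun m => by
      obtain ⟨e⟩ := nonempty_twist_twist n R 1 (-1) C
      obtain ⟨z⟩ := nonempty_lTensorMod_unit (A := (projMul n R).F (1 + -1))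
        (eqToIso (by rw [add_neg_cancel]) ≪≫ projMulZero n R) C
      exact isPseudoCoherentD_iso (e ≪≫ z) (isPseudoCoherentD_twist (isFinLocFree_projMul n R (-1)) L' hpcL' m)
    exact fun m => isPseudoCoherentD_obj₂ _ hT (hE m) (hCpc m)

/-- Pseudo-coherence on projective space is detected by the twists `0, …, n`. -/
theorem pseudoCoherent_iff_twists [∀ d : ℤ, DCoh.HasLTensorMod (Twist.twistProjSpace n R d)]
    (K : DCoh.D P) (hK : DCoh.IsQCohD K) :
    (∀ m : ℤ, DCoh.IsPseudoCoherentD m K) ↔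
      ∀ d : ℕ, d ≤ n → ∀ m : ℤ, DCoh.IsPseudoCoherentD m
        ((DCoh.Rpush π).obj ((DCoh.LTensorMod (Twist.twistProjSpace n R (d : ℤ))).obj K)) := by
  refine ⟨fun h d _ m => isPseudoCoherentD_rpush_twist n R (d : ℤ) K h m, fun h => ?_⟩
  refine isPseudoCoherentD_of_window n R (n + 1) le_rfl K hK (fun i hi hi' => ?_) fun i hi hi' => ?_
  · push_cast at hi
    omega
  · obtain ⟨d, rfl⟩ := Int.eq_ofNat_of_zero_le hi
    exact h d (by omega)

end Groth.Agent.DCohMore.TwistFam
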