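import Groth.Agent.DCohMore.RpushPerfFP
import Groth.Agent.DCohMore.ProjPC
import Groth.Agent.DCohMore.AffinePushHD
import Groth.Agent.DCohMore.PCTensorPush
import Groth.Agent.DCohLib.FlatAmp
import Groth.Agent.DCohLib.PCTop
import Groth.Agent.DCohMore.PCFlatProper
import Groth.Agent.S9805
import Groth.Agent.BCLib.SteinFlat
import Groth.Agent.GenBCLib.SecLocFree

/-!
# Direct images of flat modules without higher cohomology are locally free
-/

set_option autoImplicit false
set_option linter.style.haveILetI false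
set_option maxHeartbeats 1000000
set_option backward.isDefEq.respectTransparency false

universe u

open CategoryTheory CategoryTheory.Limits AlgebraicGeometry TopologicalSpace Opposite

attribute [local instance] HasDerivedCategory.standard

noncomputable section

namespace Groth.Agent.DCohMore.PushFlf

open Groth.Agent.DCohLib Groth.Agent.SiteCmpLib

variable {X S : Scheme.{u}}

/-- The structure sheaf is perfect and tensoring with it is the identity. -/
theorem nonempty_lTensorMod_inD_unit (G : X.Modules) [DCoh.HasLTensorMod G] :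
    Nonempty ((DCoh.LTensorMod G).obj (DCoh.inD X (Coh.structureModule X)) ≅ DCoh.inD X G) := by
  let O := Coh.structureModule X
  have hflat : DCoh.IsKFlat (sgl₀ O) := Groth.Agent.DCohLib.isKFlat_of_flat_bddAbove _ 0
    (fun i hi => HomologicalComplex.isZero_single_obj_X (ComplexShape.up ℤ) 0 O i (by omega)) fun i => by
    rcases eq_or_ne i 0 with rfl | hi
    · exact Groth.Agent.DCohLib.isFlat_congr (HomologicalComplex.singleObjXSelf (ComplexShape.up ℤ) 0 O).symm
        ((isFlat_iff _).2 (SiteBase.ExtZeroPre.isFlat_unit X.sheaf))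
    · exact (isFlat_iff _).2 ((Groth.Agent.KFlat.flatClassMod X.sheaf).zero
        (HomologicalComplex.isZero_single_obj_X (ComplexShape.up ℤ) 0 O i hi))
  let τ := (DerivedCategory.singleFunctorIsoCompQ X.Modules 0)
  refine ⟨(DCoh.LTensorMod G).mapIso (τ.app O) ≪≫ lTensorModIso G (sgl₀ O) hflat ≪≫
    DerivedCategory.Q.mapIso ((((DCoh.tensorRightMod G)).mapCochainComplexSingleFunctor 0).app O ≪≫
      (CochainComplex.singleFunctor X.Modules 0).mapIso ((ModTensor.tensorSymm X.sheaf G).app O ≪≫ (ModTensor.tensorUnitRight X.sheaf).app G)) ≪≫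
    (τ.app G).symm⟩

/-- The derived direct image of a module without higher direct images. -/
theorem isLE_rpush_inD [HasInjectiveResolutions X.Modules] (f : X ⟶ S) [DCoh.HasRpush f] (F : X.Modules)
    (hvan : ∀ i : ℕ, 0 < i → IsZero ((Coh.Rpush f i).obj F)) :
    ((DCoh.Rpush f).obj (DCoh.inD X F)).IsLE 0 := by
  haveI : HasInjectiveResolutions (ModSite.Mod X.sheaf) := ‹HasInjectiveResolutions X.Modules›
  haveI : SiteCmp.HasRpushD (ModSite.RMor.ofScheme f) := ‹DCoh.HasRpush f›
  refine (DerivedCategory.isLE_iff _ _).2 fun i hi => ?_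
  obtain ⟨p, rfl⟩ := Int.eq_ofNat_of_zero_le (le_of_lt hi)
  obtain ⟨e⟩ := nonempty_homology_rpushD_single (ModSite.RMor.ofScheme f) F p
  exact (hvan p (by omega)).of_iso e

/-- An object concentrated in degree zero, perfect and of tor amplitude in nonnegative degrees, is a
finite locally free module. -/
theorem isFinLocFree_of_perfect [CompactSpace X] {K : DCoh.D X} (hK : DCoh.IsPerfect K) (hq : DCoh.IsQCohD K)
    [K.IsLE 0] [K.IsGE 0] {b : ℤ} (h : DCoh.HasTorAmplitudeIn 0 b K) :
    FlatMod.IsFinLocFree (DCoh.HD K 0) := by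
  obtain ⟨M, ⟨eM⟩⟩ := DerivedCategory.exists_iso_singleFunctor_obj_of_isGE_of_isLE K 0
  let e₀ : DCoh.HD K 0 ≅ M := (DerivedCategory.homologyFunctor X.Modules 0).mapIso eM ≪≫
    (DerivedCategory.singleFunctorCompHomologyFunctorIso X.Modules 0).app M
  refine (Groth.Agent.S9805.result X (DCoh.HD K 0) (hq 0)).1 ⟨?_, ?_⟩
  · refine Groth.Agent.DCohLib.isFlat_congr e₀.symm (isFlat_of_hasTorAmplitudeIn_zero M
      (hasTorAmplitudeIn_congr eM (fun G _ i hi => ?_)))
    rcases hi with hi | hi
    · exact h G i (Or.inl hi)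
    · haveI : (DCoh.toD X (sgl₀ G)).IsLE 0 := (DerivedCategory.isLE_Q_obj_iff _ 0).2
        ((CochainComplex.isLE_iff _ _).2 fun j hj =>
          HomologicalComplex.exactAt_single_obj (ComplexShape.up ℤ) 0 G j (by omega))
      obtain ⟨t⟩ := nonempty_lTensorMod_single G K
      haveI : ((DCoh.LTensorCx (sgl₀ G)).obj K).IsLE (0 + 0) := isLE_lTensorCx (sgl₀ G) 0 K 0
      exact (DerivedCategory.isZero_of_isLE _ (0 + 0) i (by omega)).of_iso
        ((DerivedCategory.homologyFunctor X.Modules i).mapIso t)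
  · refine isFP_top (m := -1) (isPseudoCoherentD_of_isPerfect' hK (-1)) ?_
    exact fun i hi => DerivedCategory.isZero_of_isLE _ 0 i (by omega)

/-- The statement over a quasi-compact quasi-separated base. -/
theorem isFinLocFree_HD [CompactSpace S] [QuasiSeparatedSpace S] (f : X ⟶ S) [LocallyOfFinitePresentation f]
    [QuasiCompact f] [QuasiSeparated f] [DCoh.HasRpush f] (F : X.Modules) (hF : CohB1.IsFP F)
    (hflat : FlatMod.IsFlatOver f F) (hsupp : ClSub.IsProperOver f (CohB1.support F))
    [((DCoh.Rpush f).obj (DCoh.inD X F)).IsLE 0] :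
    FlatMod.IsFinLocFree (DCoh.HD ((DCoh.Rpush f).obj (DCoh.inD X F)) 0) := by
  haveI hFq : Coh.IsQCoh F := FibreDepth.isQCoh_of_isFP F hF
  haveI : (DCoh.inD X F).IsGE 0 := inferInstance
  haveI : ((DCoh.Rpush f).obj (DCoh.inD X F)).IsGE 0 := isGE_rpush f _ 0
  obtain ⟨u⟩ := nonempty_lTensorMod_inD_unit F
  have hp : DCoh.IsPerfect ((DCoh.Rpush f).obj (DCoh.inD X F)) :=
    isPerfect_iso ((DCoh.Rpush f).mapIso u)
      (isPerfect_rpush_lTensorMod_fp f _ (isPerfect_inD (Groth.Agent.BCLib.isFinLocFree_structureModule X)) F hF hflat hsupp)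
  let τ := (DerivedCategory.singleFunctorIsoCompQ X.Modules 0).app F
  obtain ⟨b, -, hb⟩ := exists_torAmplitude_rpush f (DCoh.inD X F)
    (TildeD.isQCohD_of_iso τ.symm (isQCohD_sgl₀ F hFq)) 0 0 le_rfl fun G hG P hP he => by
      obtain ⟨eP⟩ := he
      let L := (pullCx f).obj P
      obtain ⟨h₀, h₁⟩ := isGE_isLE_tensor_pullback f F hflat G P eP
      let e : (DCoh.LTensorCx L).obj (DCoh.inD X F) ≅
          DerivedCategory.Q.obj ((DCoh.tensorCx.obj (sgl₀ F)).obj L) :=
        (DCoh.LTensorCx L).mapIso τ ≪≫ (lTensorQIso L (isKFlat_pullback f hP)).app (sgl₀ F)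
      exact ⟨DerivedCategory.TStructure.t.isGE_of_iso e.symm 0, DerivedCategory.TStructure.t.isLE_of_iso e.symm 0⟩
  exact isFinLocFree_of_perfect hp (isQCohD_of_isPerfect hp) hb

/-- Direct images without higher direct images of flat modules with proper support are locally free. -/
theorem isFinLocFree_push [HasInjectiveResolutions X.Modules] (f : X ⟶ S) [LocallyOfFinitePresentation f]
    [QuasiCompact f] [QuasiSeparated f] (F : X.Modules) (hF : CohB1.IsFP F)
    (hflat : FlatMod.IsFlatOver f F) (hsupp : ClSub.IsProperOver f (CohB1.support F))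
    (hvan : ∀ i : ℕ, 0 < i → IsZero ((Coh.Rpush f i).obj F)) :
    FlatMod.IsFinLocFree ((Scheme.Modules.pushforward f).obj F) := by
  haveI := BC.hasRpush f
  haveI := isLE_rpush_inD f F hvan
  haveI : (DCoh.inD X F).IsGE 0 := inferInstance
  obtain ⟨e₀⟩ := nonempty_HD_zero_rpush f (DCoh.inD X F)
  refine Groth.Agent.GenBCLib.isFinLocFree_of_nhds ((Scheme.Modules.pushforward f).obj F) (fun x => ?_)
  obtain ⟨_, ⟨V : S.Opens, hV, rfl⟩, hx, -⟩ :=
    S.isBasis_affineOpens.exists_subset_of_mem_open (a := x) (Set.mem_univ x) isOpen_univ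
  refine ⟨V, hx, ?_⟩
  haveI : IsAffine (V : Scheme.{u}) := hV
  let fV := f ∣_ V
  let U := f ⁻¹ᵁ V
  let GU := (Scheme.Modules.restrictFunctor U.ι).obj F
  have hpb : IsPullback U.ι fV f V.ι := (isPullback_morphismRestrict f V).flip
  haveI : QuasiCompact fV := MorphismProperty.of_isPullback (P := @QuasiCompact) hpb ‹_›
  haveI : QuasiSeparated fV := MorphismProperty.of_isPullback (P := @QuasiSeparated) hpb ‹_›
  haveI : LocallyOfFinitePresentation fV :=
    MorphismProperty.of_isPullback (P := @LocallyOfFinitePresentation) hpb ‹_›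
  have hsU : CohB1.support GU = U.ι.base ⁻¹' CohB1.support F := Set.ext fun x =>
    not_congr ((Scheme.Modules.restrictStalkNatIso U.ι x).app F).addCommGroupIsoToAddEquiv.toEquiv.subsingleton_congr
  have hflU : FlatMod.IsFlatOver fV GU :=
    isFlatOver_of_iso fV ((Scheme.Modules.restrictFunctorIsoPullback U.ι).app F).symm
      (BC.isFlatOver_pullback_chart f U.ι fV V.ι hpb.w F hflat)
  have hsuppU : ClSub.IsProperOver fV (CohB1.support GU) := by
    rw [hsU]
    exact ClSubLib.isProperOver_baseChange f _ U.ι fV hpb hsupp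
  haveI := BC.hasRpush fV
  obtain ⟨eV⟩ := Groth.Agent.DCohLib.nonempty_restrictD_rpush f V
  let s : (DCoh.restrictD U.ι).obj (DCoh.inD X F) ≅ DCoh.inD _ GU :=
    ((Scheme.Modules.restrictFunctor U.ι).mapDerivedCategorySingleFunctor 0).app F
  let e : (DCoh.restrictD V.ι).obj ((DCoh.Rpush f).obj (DCoh.inD X F)) ≅ (DCoh.Rpush fV).obj (DCoh.inD _ GU) :=
    eV.app _ ≪≫ (DCoh.Rpush fV).mapIso s
  haveI : ((DCoh.Rpush fV).obj (DCoh.inD _ GU)).IsLE 0 := (DerivedCategory.isLE_iff _ _).2 fun i hi =>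
    (((Scheme.Modules.restrictFunctor V.ι).map_isZero (DerivedCategory.isZero_of_isLE _ 0 i hi)).of_iso
      ((DerivedCategory.homologyFunctor _ i).mapIso e.symm ≪≫ restrictHDIso V.ι _ i))
  refine isFinLocFree_iso ?_ (isFinLocFree_HD fV GU (isFP_restrict U.ι hF) hflU hsuppU)
  exact (DerivedCategory.homologyFunctor _ 0).mapIso e.symm ≪≫ restrictHDIso V.ι _ 0 ≪≫
    (Scheme.Modules.restrictFunctor V.ι).mapIso (e₀ ≪≫ (Scheme.Modules.pushforward f).mapIso
      ((DerivedCategory.singleFunctorCompHomologyFunctorIso X.Modules 0).app F))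

end Groth.Agent.DCohMore.PushFlf
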