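import Groth.Agent.LocFreeHomLib.Basic
import Groth.Agent.ExtShLib.Local
import Groth.Agent.ModTensor.Sheaf
import Groth.Agent.DCohLib.TensorPerf

/-!
# Duals of finite locally free modules
-/

set_option autoImplicit false
set_option linter.style.haveILetI false
set_option linter.unusedSectionVars false

universe u

open CategoryTheory CategoryTheory.Limits AlgebraicGeometry
open Groth.Agent.DCohLib Groth.Agent.StalkHomLib

noncomputable section

namespace Groth.Agent.DCohMore

variable {X : Scheme.{u}}

/-- `T ⊗ O ≅ T`. -/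
abbrev runit (T : X.Modules) : tmod T (Coh.structureModule X) ≅ T :=
  (Groth.Agent.ModTensor.tensorUnitRight X.sheaf).app T

theorem runit_nat {T T' : X.Modules} (g : T ⟶ T') :
    ((DCoh.tensorBi (X := X)).map g).app _ ≫ (runit T').hom = (runit T).hom ≫ g :=
  (Groth.Agent.ModTensor.tensorUnitRight X.sheaf).hom.naturality g

/-- A system of projections and inclusions for a free module. -/
theorem exists_frame {P : X.Modules} {n : ℕ} (e : P ≅ FlatMod.freeMod X n) :
    ∃ (j : Fin n → (Coh.structureModule X ⟶ P)) (p : Fin n → (P ⟶ Coh.structureModule X)),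
      (∀ i k, j i ≫ p k = if i = k then 𝟙 _ else 0) ∧ (∑ i, p i ≫ j i) = 𝟙 P := by
  classical
  refine ⟨fun i => Sigma.ι (fun _ : Fin n => Coh.structureModule X) i ≫ e.inv,
    fun k => e.hom ≫ Sigma.desc (fun i => if i = k then 𝟙 _ else 0), fun i k => by simp, ?_⟩
  rw [← cancel_epi e.inv, ← cancel_mono e.hom]
  refine Sigma.hom_ext _ _ fun i => ?_
  simp [Preadditive.comp_sum, Preadditive.sum_comp, ite_comp, Finset.sum_ite_eq]

/-- The dual of a free module is free. -/
theorem nonempty_dual_free {P : X.Modules} [ModSite.HasSheafHom (O := X.sheaf) P] {n : ℕ}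
    (e : P ≅ FlatMod.freeMod X n) :
    Nonempty ((hF P).obj (Coh.structureModule X) ≅ FlatMod.freeMod X n) := by
  classical
  obtain ⟨j, p, hjp, hp⟩ := exists_frame e
  let O := Coh.structureModule X
  let T := DCoh.tensorBi (X := X)
  let adj : T.flip.obj P ⊣ hF P := ModSite.sheafHomAdj (O := X.sheaf) P
  haveI : (T.flip.obj P).Additive := Groth.Agent.ModTensor.additive_tensorBi_flip X.sheaf P
  let D := (hF P).obj O
  haveI : (T.obj D).Additive := inferInstance
  let c : Fin n → (D ⟶ O) := fun i => (runit D).inv ≫ (T.obj D).map (j i) ≫ ev P O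
  let a : Fin n → (O ⟶ D) := fun i => adj.homEquiv O O ((T.obj O).map (p i) ≫ (runit O).hom)
  have hev : ∀ i, (T.map (a i)).app P ≫ ev P O = (T.obj O).map (p i) ≫ (runit O).hom := fun i =>
    (adj.homEquiv_counit _ _ (a i)).symm.trans (Equiv.symm_apply_apply _ _)
  refine ⟨⟨∑ i, c i ≫ Sigma.ι (fun _ : Fin n => O) i, Sigma.desc a, ?_, ?_⟩⟩
  · rw [Preadditive.sum_comp]
    simp only [Category.assoc, Sigma.ι_desc]
    apply (adj.homEquiv D O).symm.injective
    have h1 : (adj.homEquiv D O).symm (𝟙 D) = ev P O := (adj.homEquiv_counit _ _ _).trans (by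
      rw [CategoryTheory.Functor.map_id]; exact Category.id_comp _)
    have h2 : (adj.homEquiv D O).symm ((∑ i, c i ≫ a i : D ⟶ D)) = ∑ i, (T.obj D).map (p i ≫ j i) ≫ ev P O := by
      refine (adj.homEquiv_counit _ _ _).trans ?_
      rw [Functor.map_sum, Preadditive.sum_comp]
      refine Finset.sum_congr rfl fun i _ => ?_
      rw [Functor.map_comp, Category.assoc]
      refine (congrArg (_ ≫ ·) (hev i)).trans ?_
      have h := (T.map (c i)).naturality (p i)
      refine (Category.assoc _ _ _).symm.trans ((congrArg (· ≫ _) h.symm).trans ((Category.assoc _ _ _).trans ?_))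
      rw [runit_nat, Iso.hom_inv_id_assoc, Functor.map_comp, Category.assoc]
    rw [h1, h2, ← Preadditive.sum_comp, ← Functor.map_sum, hp, CategoryTheory.Functor.map_id, Category.id_comp]
  · refine Sigma.hom_ext _ _ fun i => ?_
    rw [Sigma.ι_desc_assoc, Preadditive.comp_sum, Category.comp_id]
    have h : ∀ k, a i ≫ c k = if k = i then 𝟙 O else 0 := fun k => by
      have h1 : a i ≫ (runit D).inv = (runit O).inv ≫ (T.map (a i)).app O :=
        (Groth.Agent.ModTensor.tensorUnitRight X.sheaf).inv.naturality (a i)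
      have h2 := (T.map (a i)).naturality (j k)
      refine ((Category.assoc _ _ _).symm.trans (congrArg (· ≫ _) h1)).trans ?_
      simp only [Category.assoc]
      rw [← Category.assoc ((T.map (a i)).app O), ← h2, Category.assoc, hev, ← Category.assoc ((T.obj O).map (j k)),
        ← Functor.map_comp, hjp]
      split_ifs with hki
      · rw [CategoryTheory.Functor.map_id, Category.id_comp, Iso.inv_hom_id]
      · rw [Functor.map_zero, Limits.zero_comp, Limits.comp_zero]
    simp [reassoc_of% h, ite_comp]
    rfl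

/-- The dual of a finite locally free module is finite locally free. -/
theorem isFinLocFree_dual (E : X.Modules) [ModSite.HasSheafHom (O := X.sheaf) E] (hE : FlatMod.IsFinLocFree E) :
    FlatMod.IsFinLocFree ((hF E).obj (Coh.structureModule X)) := by
  refine isFinLocFree_of_local fun x => ?_
  obtain ⟨V, n, hx, ⟨e⟩⟩ := hE x
  haveI : ModSite.HasSheafHom (O := (V : Scheme.{u}).sheaf) ((Scheme.Modules.restrictFunctor V.ι).obj E) :=
    Groth.Agent.ModTensor.hasSheafHom (O := (V : Scheme.{u}).sheaf) _
  obtain ⟨d⟩ := nonempty_dual_free (X := (V : Scheme.{u})) (P := (Scheme.Modules.restrictFunctor V.ι).obj E) e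
  exact ⟨V, V.ι, inferInstance, ⟨x, hx⟩, rfl, isFinLocFree_iso
    ((ExtShLib.restrictHFIso V E).app _ ≪≫ (hF _).mapIso (Scheme.Modules.restrictUnitIso V.ι) ≪≫ d).symm
    (isFinLocFree_freeMod n)⟩

/-- Evaluation of a nowhere zero finite locally free module is surjective. -/
theorem epi_ev (E : X.Modules) [ModSite.HasSheafHom (O := X.sheaf) E] (hE : FlatMod.IsFinLocFree E)
    (h : ∀ x : X, Nontrivial (E.presheaf.stalk x)) : Epi (ev E (Coh.structureModule X)) := by
  refine (PullbackMod.epi_iff_stalk _).2 fun x w => ?_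
  obtain ⟨hfree, hfin⟩ := free_finite_stalk_of_flf hE x
  haveI := h x
  let R := X.presheaf.stalk x
  let one : R ≃ₗ[R] (Coh.structureModule X).presheaf.stalk x :=
    LinearEquiv.ofBijective (LinearMap.toSpanSingleton R _ (LocFreeHomLib.one' x)) (ParaFLib.bijective_oneG x)
  let b := Module.Free.chooseBasis R (E.presheaf.stalk x)
  obtain ⟨i⟩ := b.index_nonempty
  obtain ⟨z, hz⟩ := (LocFreeHomLib.theta_bijective_flf E hE (Coh.structureModule X) x).2
    (one.toLinearMap.comp ((one.symm w) • b.coord i))
  refine ⟨stalkTensor x _ E (z ⊗ₜ b i), ?_⟩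
  refine (LinearMap.congr_fun hz (b i)).trans ?_
  simp

end Groth.Agent.DCohMore
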