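import Groth.Agent.DCohMore.SpecThomason
import Groth.Agent.DCohLib.GlueTwo
import Groth.Agent.DCohLib.SuppOpen

/-! Perfect generators with supports on quasi-compact quasi-separated schemes. -/

set_option autoImplicit false
set_option linter.style.haveILetI false
set_option backward.isDefEq.respectTransparency false

universe u

open CategoryTheory Limits AlgebraicGeometry Pretriangulated ZeroObject
attribute [local instance] HasDerivedCategory.standard

noncomputable section

namespace Groth.Agent.DCohMore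

open Groth.Agent.DRingLib Groth.Agent.DCohLib

section Koszul

variable {A : Type u} [CommRing A]

theorem tors_cone_smul {g : A} {P Q : Dual.D A} {n : ℕ} {p : P ⟶ Q} {d : Q ⟶ P⟦(1 : ℤ)⟧}
    (hQ : Triangle.mk (g ^ n • 𝟙 P) p d ∈ distTriang _) : Tors [g] Q := fun f hf i x => by
  obtain rfl := List.mem_singleton.1 hf
  let T := Triangle.mk (f ^ n • 𝟙 P) p d
  have hk : (hdA A (i + 1)).map T.mor₁ (DerivedCategory.HomologySequence.δ T i (i + 1) rfl x) = 0 :=
    congrArg (fun u : (hdA A i).obj Q ⟶ (hdA A (i + 1)).obj P => u x)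
      (DerivedCategory.HomologySequence.δ_comp T hQ i (i + 1) rfl)
  change (hdA A (i + 1)).map (f ^ n • 𝟙 P) _ = 0 at hk
  rw [hd_map_smul, CategoryTheory.Functor.map_id] at hk
  have h0 : DerivedCategory.HomologySequence.δ T i (i + 1) rfl (f ^ n • x) = 0 := by
    rw [map_smul]
    exact hk
  obtain ⟨y, hy⟩ := (ShortComplex.moduleCat_exact_iff _).1
    (DerivedCategory.HomologySequence.exact₃ T hQ i (i + 1) rfl) _ h0
  refine ⟨n + n, ?_⟩
  change (hdA A i).map p y = _ at hy
  rw [pow_add, mul_smul, ← hy, ← map_smul]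
  have hp : (hdA A i).map ((f ^ n • 𝟙 P) ≫ p) y = 0 := by
    rw [show (f ^ n • 𝟙 P) ≫ p = 0 from comp_distTriang_mor_zero₁₂ _ hQ, Functor.map_zero]
    rfl
  rw [Functor.map_comp, hd_map_smul, CategoryTheory.Functor.map_id] at hp
  exact hp

/-- Torsion objects are detected by a torsion perfect object. -/
theorem exists_koszul_gen (ls : List A) :
    ∃ P : Dual.D A, Perf FProj P ∧ Tors ls P ∧ ∀ C : Dual.D A, Tors ls C →
      (∀ (n : ℤ) (φ : P ⟶ C⟦n⟧), φ = 0) → IsZero C := by
  induction ls with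
  | nil =>
    refine ⟨Dual.inD A A, perf_inD projClass_fProj (M := ModuleCat.of A A) ⟨inferInstance, inferInstance⟩,
      fun f hf => absurd hf List.not_mem_nil, fun C _ h => ?_⟩
    haveI : Projective (ModuleCat.of A A) := (IsProjective.iff_projective _).1 inferInstance
    have hz : ∀ i : ℤ, IsZero ((hdA A i).obj C) := fun i => by
      haveI : Subsingleton ((hdA A 0).obj (C⟦i⟧)) := subsingleton_of_forall_eq 0 fun x => by
        obtain ⟨φ, hφ⟩ := (DComplLib.bijective_toH0 (ModuleCat.of A A) (C⟦i⟧)).2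
          (ModuleCat.ofHom (LinearMap.toSpanSingleton A _ x))
        have h1 := congrArg (fun ψ => ψ.hom (1 : A)) hφ
        rw [h i φ, DComplLib.toH0, Functor.map_zero, comp_zero] at h1
        simpa using h1.symm
      exact (ModuleCat.isZero_of_subsingleton ((hdA A 0).obj (C⟦i⟧))).of_iso
        (((DerivedCategory.homologyFunctor (ModuleCat.{u} A) 0).shiftIso i 0 i (by omega)).app C).symm
    haveI : C.IsGE 0 := (DerivedCategory.isGE_iff C 0).2 fun i _ => hz i
    exact isZero_of_isGE_of_aboveZero (n := 0) inferInstance fun i _ => hz i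
  | cons f l ih =>
    obtain ⟨P, hP, hPt, hgen⟩ := ih
    obtain ⟨Q, p, d, hQ⟩ := distinguished_cocone_triangle (f ^ 1 • 𝟙 P)
    refine ⟨Q, Perf.obj₃ projClass_fProj _ hQ hP hP, fun g hg => ?_, fun C hC h => ?_⟩
    · rcases List.mem_cons.1 hg with rfl | hg
      · exact tors_cone_smul hQ g (List.mem_singleton.2 rfl)
      · exact Tors.obj₃ (l := [g]) _ hQ (fun g' hg' => by rw [List.mem_singleton.1 hg']; exact hPt g hg)
          (fun g' hg' => by rw [List.mem_singleton.1 hg']; exact hPt g hg) g (List.mem_singleton.2 rfl)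
    · refine hgen C (fun g hg => hC g (List.mem_cons_of_mem _ hg)) fun n φ => ?_
      have inj : ∀ φ : P ⟶ C⟦n⟧, f • φ = 0 → φ = 0 := fun φ hφ => by
        obtain ⟨γ, hγ⟩ := Triangle.yoneda_exact₂ _ hQ φ (by
          show (f ^ 1 • 𝟙 P) ≫ φ = 0
          rw [pow_one, Linear.smul_comp, Category.id_comp, hφ])
        rw [hγ, h n γ, comp_zero]
      obtain ⟨N, hN⟩ := killed_of_perf f hP (C⟦n⟧)
        (fun g hg => (hC.shift n) g (by rw [List.mem_singleton.1 hg]; exact List.mem_cons_self ..)) φ
      clear h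
      induction N with
      | zero => simpa using hN
      | succ N ih =>
        refine ih (inj _ ?_)
        rw [smul_smul, ← pow_succ', hN]

end Koszul

/-- The cohomology is supported in a subset. -/
def Sup {X : Scheme.{u}} (T : Set X) (K : DCoh.D X) : Prop :=
  ∀ i : ℤ, CohB1.support (DCoh.HD K i) ⊆ T

/-- A perfect generator of the objects with quasi-coherent cohomology supported in a subset. -/
def Gen (X : Scheme.{u}) (T : Set X) : Prop :=
  ∃ P : DCoh.D X, DCoh.IsPerfect P ∧ Sup T P ∧ ∀ E : DCoh.D X, DCoh.IsQCohD E → Sup T E →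
    (∀ (n : ℤ) (φ : P ⟶ E⟦n⟧), φ = 0) → IsZero E

variable {X Y : Scheme.{u}}

theorem Sup.mono {T T' : Set X} {K : DCoh.D X} (h : Sup T K) (hT : T ⊆ T') : Sup T' K :=
  fun i => (h i).trans hT

/-- The complement of a closed subset. -/
def complOpen {T : Set X} (hT : IsClosed T) : X.Opens := ⟨Tᶜ, hT.isOpen_compl⟩

theorem sup_iff {T : Set X} (hT : IsClosed T) (K : DCoh.D X) :
    Sup T K ↔ IsZero ((DCoh.restrictD (complOpen hT).ι).obj K) := by
  rw [isZero_restrictD_iff_support]
  simp [Sup, complOpen]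

theorem sup_of_iso {T : Set X} {K L : DCoh.D X} (e : K ≅ L) (h : Sup T K) : Sup T L := fun i x hx => h i fun hs =>
  hx (((stkF x).mapIso ((DerivedCategory.homologyFunctor X.Modules i).mapIso e)).toLinearEquiv.toEquiv.subsingleton_congr.1 hs)

theorem subsingleton_stalk_restrictD (j : X ⟶ Y) [IsOpenImmersion j] (K : DCoh.D Y) (i : ℤ) (x : X) :
    Subsingleton ((DCoh.HD ((DCoh.restrictD j).obj K) i).presheaf.stalk x) ↔
      Subsingleton ((DCoh.HD K i).presheaf.stalk (j.base x)) :=
  (((stkF x).mapIso (restrictHDIso j K i)).toLinearEquiv.toEquiv.subsingleton_congr).trans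
    ((Scheme.Modules.restrictStalkNatIso j x).app (DCoh.HD K i)).addCommGroupIsoToAddEquiv.toEquiv.subsingleton_congr

theorem Sup.restrict (j : X ⟶ Y) [IsOpenImmersion j] {T : Set Y} {K : DCoh.D Y} (h : Sup T K) :
    Sup (j.base ⁻¹' T) ((DCoh.restrictD j).obj K) :=
  fun i x hx => h i fun hs => hx ((subsingleton_stalk_restrictD j K i x).2 hs)

theorem sup_of_cover {T : Set Y} {K : DCoh.D Y}
    (h : ∀ y : Y, ∃ (U : Scheme.{u}) (j : U ⟶ Y) (_ : IsOpenImmersion j) (x : U), j.base x = y ∧
      Sup (j.base ⁻¹' T) ((DCoh.restrictD j).obj K)) : Sup T K := fun i y hy => by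
  obtain ⟨U, j, _, x, rfl, hK⟩ := h y
  exact hK i fun hs => hy ((subsingleton_stalk_restrictD j K i x).1 hs)

theorem Sup.of_empty {T : Set X} [IsEmpty X] (K : DCoh.D X) : Sup T K := fun _ x => isEmptyElim x

theorem Gen.of_isEmpty [IsEmpty X] (T : Set X) : Gen X T :=
  ⟨0, isPerfect_of_local fun x => isEmptyElim x, Sup.of_empty _, fun E _ _ _ => isZero_of_isEmpty E⟩

theorem sup_of_isZero {T : Set X} {K : DCoh.D X} (h : IsZero K) : Sup T K := fun i x hx =>
  absurd (subsingleton_stalk_of_isZero ((DerivedCategory.homologyFunctor X.Modules i).map_isZero h) x) hx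

theorem sup_biprod {T : Set X} (hT : IsClosed T) {K L : DCoh.D X} (hK : Sup T K) (hL : Sup T L) :
    Sup T (K ⊞ L) := by
  rw [sup_iff hT] at hK hL ⊢
  let R := DCoh.restrictD (complOpen hT).ι
  haveI : HasBinaryBiproduct (R.obj K) (R.obj L) := inferInstance
  haveI := preservesBinaryBiproducts_of_preservesBiproducts R
  refine ((IsZero.iff_id_eq_zero _).2 ?_).of_iso (R.mapBiprod K L)
  exact biprod.hom_ext' _ _ (hK.eq_of_src _ _) (hL.eq_of_src _ _)

theorem sup_shift {T : Set X} (hT : IsClosed T) {K : DCoh.D X} (hK : Sup T K) (n : ℤ) : Sup T (K⟦n⟧) := by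
  rw [sup_iff hT] at hK ⊢
  exact ((shiftFunctor _ n).map_isZero hK).of_iso (((DCoh.restrictD _).commShiftIso n).app K)

/-- Generators transport along isomorphisms. -/
theorem Gen.of_iso (e : X ≅ Y) {T : Set Y} (h : Gen X (e.hom.base ⁻¹' T)) : Gen Y T := by
  obtain ⟨P, hP, hPT, hgen⟩ := h
  have hb : ∀ y : Y, e.hom.base (e.inv.base y) = y := fun y => by
    rw [← Scheme.Hom.comp_apply, e.inv_hom_id]; rfl
  refine ⟨(DCoh.restrictD e.inv).obj P, isPerfect_restrict e.inv hP, ?_, fun E hE hET h => ?_⟩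
  · refine (hPT.restrict e.inv).mono fun y hy => ?_
    rw [← hb y]
    exact hy
  · refine IsZero.of_iso ?_ ((restrictDEquiv e).unitIso.app E)
    refine (DCoh.restrictD e.inv).map_isZero (hgen _ (TildeD.isQCohD_restrict e.hom E hE) (hET.restrict e.hom)
      fun n φ => ?_)
    let w := ((restrictDEquiv e).counitIso.app P)
    let R := (restrictDEquiv e).functor
    haveI : R.Faithful := inferInstance
    obtain ⟨ψ, hψ⟩ := R.map_surjective (w.hom ≫ φ ≫ ((DCoh.restrictD e.hom).commShiftIso n).inv.app E)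
    have h0 : ψ = 0 := h n ψ
    rw [h0, Functor.map_zero] at hψ
    have h1 := congrArg (fun z => w.inv ≫ z ≫ ((DCoh.restrictD e.hom).commShiftIso n).hom.app E) hψ
    simp [R, restrictDEquiv] at h1
    exact (Category.comp_id φ).symm.trans h1.symm

end Groth.Agent.DCohMore
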