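import Groth.Agent.DCohMore.TwistFam
import Groth.Agent.DCohLib.MVTriangle
import Groth.Agent.AmpleLib.GenLocus

/-!
# Vanishing of derived global sections and maps from the structure sheaf
-/

set_option autoImplicit false
set_option linter.style.haveILetI false
set_option linter.unusedSectionVars false
set_option backward.isDefEq.respectTransparency false
set_option maxHeartbeats 1000000

universe u

open CategoryTheory CategoryTheory.Limits AlgebraicGeometry TopologicalSpace Opposite
open Groth.Agent.DCohLib

attribute [local instance] HasDerivedCategory.standard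

noncomputable section

namespace Groth.Agent.DCohMore.TwistFam

variable {X : Scheme.{u}}

/-- A map from a shifted structure sheaf to a complex with vanishing sections cohomology is null. -/
theorem nonempty_homotopy_zero (I : CochainComplex X.Modules ℤ) (q : ℤ)
    (h : IsZero ((((DCoh.gammaAb X).mapHomologicalComplex (ComplexShape.up ℤ)).obj I).homology q))
    (f : (HomologicalComplex.single X.Modules (ComplexShape.up ℤ) q).obj (Coh.structureModule X) ⟶ I) :
    Nonempty (Homotopy f 0) := by
  let O := Coh.structureModule X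
  let s := (HomologicalComplex.singleObjXSelf (ComplexShape.up ℤ) q O)
  let σ := AmpleLib.sec (s.inv ≫ f.f q)
  let G := ((DCoh.gammaAb X).mapHomologicalComplex (ComplexShape.up ℤ)).obj I
  have hσ : G.d q (q + 1) σ = 0 := by
    have hc : (s.inv ≫ f.f q) ≫ I.d q (q + 1) = 0 := by
      rw [Category.assoc, f.comm, HomologicalComplex.single_obj_d, zero_comp, comp_zero]
    exact congr(AmpleLib.sec $hc)
  have hex := (HomologicalComplex.exactAt_iff_isZero_homology G q).2 h
  rw [HomologicalComplex.exactAt_iff' G (q - 1) q (q + 1) (by simp) (by simp), ShortComplex.ab_exact_iff] at hex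
  obtain ⟨t, ht⟩ := hex σ hσ
  have hf : s.inv ≫ f.f q = secHom (I.X (q - 1)) t ≫ I.d (q - 1) q := by
    refine hom_unit_ext ?_
    show σ = (I.d (q - 1) q).app ⊤ (AmpleLib.sec (secHom (I.X (q - 1)) t))
    rw [AmpleLib.sec_secHom]
    exact ht.symm
  let H : ∀ i j, (ComplexShape.up ℤ).Rel j i →
      (((HomologicalComplex.single X.Modules (ComplexShape.up ℤ) q).obj O).X i ⟶ I.X j) := fun i j hji =>
    if hi : i = q then
      (HomologicalComplex.singleObjXIsoOfEq (ComplexShape.up ℤ) q O i hi).hom ≫ secHom (I.X (q - 1)) t ≫
        (I.XIsoOfEq (show q - 1 = j by simp at hji; omega)).hom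
    else 0
  have he : f = Homotopy.nullHomotopicMap' H := by
    refine HomologicalComplex.hom_ext _ _ fun i => ?_
    rw [Homotopy.nullHomotopicMap'_f (show (ComplexShape.up ℤ).Rel (i - 1) i by simp)
      (show (ComplexShape.up ℤ).Rel i (i + 1) by simp), HomologicalComplex.single_obj_d, zero_comp, zero_add]
    by_cases hi : i = q
    · subst hi
      simp only [H, dif_pos rfl]
      rw [← cancel_epi s.inv, hf]
      simp [s, HomologicalComplex.singleObjXSelf]
    · exact (HomologicalComplex.isZero_single_obj_X (ComplexShape.up ℤ) q O i hi).eq_of_src _ _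
  exact ⟨(Homotopy.ofEq he).trans (Homotopy.nullHomotopy' H)⟩

/-- An object with vanishing hypercohomology receives no maps from shifts of the structure sheaf. -/
theorem orth_of_isZero_rgamma [DCoh.HasRΓ X] (E : DCoh.D X)
    (h : ∀ p : ℤ, IsZero ((DerivedCategory.homologyFunctor AddCommGrpCat.{u} p).obj ((DCoh.RΓ X).obj E))) :
    Orth E := by
  obtain ⟨I, hI, -, ⟨e⟩⟩ := exists_injective_resolution X E
  haveI := hI
  refine orth_of_iso e.symm fun n φ => ?_
  let q := -n
  let O := Coh.structureModule X
  let a : (DCoh.inD X O)⟦n⟧ ≅ DerivedCategory.Q.obj ((HomologicalComplex.single X.Modules (ComplexShape.up ℤ) q).obj O) :=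
    ((DerivedCategory.singleFunctors X.Modules).shiftIso n q 0 (by simp [q])).app O ≪≫
      (DerivedCategory.singleFunctorIsoCompQ X.Modules q).app O
  rw [← cancel_epi a.inv, comp_zero]
  let qi := (DerivedCategory.quotientCompQhIso X.Modules)
  obtain ⟨g, hg⟩ := (CochainComplex.IsKInjective.Qh_map_bijective
    ((HomotopyCategory.quotient _ _).obj ((HomologicalComplex.single X.Modules (ComplexShape.up ℤ) q).obj O)) I).2
      (qi.hom.app _ ≫ (a.inv ≫ φ) ≫ qi.inv.app I)
  obtain ⟨f, rfl⟩ := (HomotopyCategory.quotient X.Modules (ComplexShape.up ℤ)).map_surjective g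
  obtain ⟨H⟩ := nonempty_homotopy_zero I q
    ((h q).of_iso (((DerivedCategory.homologyFunctorFactors AddCommGrpCat.{u} q).app _).symm ≪≫
      (DerivedCategory.homologyFunctor AddCommGrpCat.{u} q).mapIso
        (rgammaInjIso X I ≪≫ (DCoh.RΓ X).mapIso e.symm))) f
  rw [HomotopyCategory.eq_of_homotopy _ _ H, Functor.map_zero, Functor.map_zero] at hg
  rw [← cancel_epi (qi.hom.app _), ← cancel_mono (qi.inv.app I), comp_zero, zero_comp, Category.assoc]
  exact hg.symm

end Groth.Agent.DCohMore.TwistFam
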