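import Groth.Agent.DCohMore.ApproxAffine
import Groth.Agent.DCohLib.Ghost
import Groth.Agent.TildePerf.Amp
import Groth.Agent.DRingLib.CompactObj
import Groth.Prelude.Def_Koszul

/-! Koszul orthogonality and truncations of the unit of restriction to the punctured open. -/

set_option autoImplicit false
set_option linter.style.haveILetI false
set_option backward.isDefEq.respectTransparency false

universe w v u

open CategoryTheory Limits AlgebraicGeometry Pretriangulated ZeroObject
attribute [local instance] HasDerivedCategory.standard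

noncomputable section

namespace Groth.Agent.DCohMore

open Groth.Agent.DRingLib Groth.Agent.DCohLib

section Trunc

variable {C : Type u} [Category.{v} C] [Abelian C] [HasDerivedCategory.{w} C]

open DerivedCategory

theorem isIso_truncLT_map_iff_homology {X Y : DerivedCategory C} (f : X ⟶ Y) (b : ℤ) :
    IsIso (((TStructure.t (C := C)).truncLT b).map f) ↔ ∀ i < b, IsIso ((homologyFunctor C i).map f) := by
  let t := TStructure.t (C := C)
  let g := (t.truncLT b).map f
  have sq : ∀ i, (homologyFunctor C i).map g ≫ (homologyFunctor C i).map ((t.truncLTι b).app Y) =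
      (homologyFunctor C i).map ((t.truncLTι b).app X) ≫ (homologyFunctor C i).map f := fun i => by
    rw [← Functor.map_comp, ← Functor.map_comp]
    exact congrArg _ ((t.truncLTι b).naturality f)
  constructor
  · intro h i hi
    haveI := isIso_homology_truncLTι X b i hi
    haveI := isIso_homology_truncLTι Y b i hi
    haveI : IsIso g := h
    exact @IsIso.of_isIso_comp_left _ _ _ _ _ _ _ ‹IsIso ((homologyFunctor C i).map ((t.truncLTι b).app X))›
      (by rw [← sq i]; infer_instance)
  · intro h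
    rw [DerivedCategory.isIso_iff]
    intro i
    rcases lt_or_ge i b with hi | hi
    · haveI := h i hi
      haveI := isIso_homology_truncLTι X b i hi
      haveI := isIso_homology_truncLTι Y b i hi
      exact @IsIso.of_isIso_comp_right _ _ _ _ _ _ _ ‹IsIso ((homologyFunctor C i).map ((t.truncLTι b).app Y))›
        (by rw [sq i]; infer_instance)
    · exact ⟨0, (isZero_of_isLE ((t.truncLT b).obj X) (b - 1) i (by omega)).eq_of_src _ _,
        (isZero_of_isLE ((t.truncLT b).obj Y) (b - 1) i (by omega)).eq_of_src _ _⟩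

theorem isIso_truncGE_map_iff_homology {X Y : DerivedCategory C} (f : X ⟶ Y) (b : ℤ) :
    IsIso (((TStructure.t (C := C)).truncGE b).map f) ↔ ∀ i, b ≤ i → IsIso ((homologyFunctor C i).map f) := by
  let t := TStructure.t (C := C)
  let g := (t.truncGE b).map f
  have sq : ∀ i, (homologyFunctor C i).map f ≫ (homologyFunctor C i).map ((t.truncGEπ b).app Y) =
      (homologyFunctor C i).map ((t.truncGEπ b).app X) ≫ (homologyFunctor C i).map g := fun i => by
    rw [← Functor.map_comp, ← Functor.map_comp]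
    exact congrArg _ ((t.truncGEπ b).naturality f)
  constructor
  · intro h i hi
    haveI := isIso_homology_truncGEπ X b i hi
    haveI := isIso_homology_truncGEπ Y b i hi
    haveI : IsIso g := h
    exact @IsIso.of_isIso_comp_right _ _ _ _ _ _ _ ‹IsIso ((homologyFunctor C i).map ((t.truncGEπ b).app Y))›
      (by rw [sq i]; infer_instance)
  · intro h
    rw [DerivedCategory.isIso_iff]
    intro i
    rcases le_or_gt b i with hi | hi
    · haveI := h i hi
      haveI := isIso_homology_truncGEπ X b i hi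
      haveI := isIso_homology_truncGEπ Y b i hi
      exact @IsIso.of_isIso_comp_left _ _ _ _ _ _ _ ‹IsIso ((homologyFunctor C i).map ((t.truncGEπ b).app X))›
        (by rw [← sq i]; infer_instance)
    · exact ⟨0, (isZero_of_isGE ((t.truncGE b).obj X) b i hi).eq_of_src _ _,
        (isZero_of_isGE ((t.truncGE b).obj Y) b i hi).eq_of_src _ _⟩

/-- Degrees in which the cone of a map has no cohomology. -/
theorem isZero_cone_homology (T : Triangle (DerivedCategory C)) (hT : T ∈ distTriang _) (i : ℤ)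
    (h₁ : IsIso ((homologyFunctor C i).map T.mor₁)) (h₂ : IsIso ((homologyFunctor C (i + 1)).map T.mor₁)) :
    IsZero ((homologyFunctor C i).obj T.obj₃) :=
  (HomologySequence.exact₃ _ hT i (i + 1) rfl).isZero_X₂
    ((HomologySequence.epi_homologyMap_mor₁_iff _ hT i).1 inferInstance)
    ((HomologySequence.mono_homologyMap_mor₁_iff _ hT i (i + 1) rfl).1 inferInstance)

theorem isIso_homology_of_isZero_cone (T : Triangle (DerivedCategory C)) (hT : T ∈ distTriang _) (i : ℤ)
    (h₁ : IsZero ((homologyFunctor C (i - 1)).obj T.obj₃)) (h₂ : IsZero ((homologyFunctor C i).obj T.obj₃)) :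
    IsIso ((homologyFunctor C i).map T.mor₁) := by
  haveI : Mono ((homologyFunctor C i).map T.mor₁) :=
    (HomologySequence.mono_homologyMap_mor₁_iff _ hT (i - 1) i (by omega)).2 (h₁.eq_of_src _ _)
  haveI : Epi ((homologyFunctor C i).map T.mor₁) :=
    (HomologySequence.epi_homologyMap_mor₁_iff _ hT i).2 (h₂.eq_of_tgt _ _)
  exact isIso_of_mono_of_epi _

end Trunc

section Koszul

variable {A : Type u} [CommRing A]

/-- The Koszul object. -/
abbrev kosD (l : List A) : Dual.D A := DerivedCategory.Q.obj (Koszul.koszul A l)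

theorem exists_kos_triangle (f : A) (l : List A) :
    ∃ (p : kosD l ⟶ kosD (f :: l)) (d : kosD (f :: l) ⟶ (kosD l)⟦(1 : ℤ)⟧),
      Triangle.mk (f ^ 1 • 𝟙 (kosD l)) p d ∈ distTriang _ := by
  have h := DerivedCategory.mappingCone_triangle_distinguished (f • 𝟙 (Koszul.koszul A l))
  let T := DerivedCategory.Q.mapTriangle.obj (CochainComplex.mappingCone.triangle (f • 𝟙 (Koszul.koszul A l)))
  refine ⟨T.mor₂, T.mor₃, ?_⟩
  have e : DerivedCategory.Q.map (f • 𝟙 (Koszul.koszul A l)) = f ^ 1 • 𝟙 (kosD l) := by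
    rw [Functor.map_smul, CategoryTheory.Functor.map_id, pow_one]
  rw [← e]
  exact h

theorem kos_props : ∀ l : List A, Perf FProj (kosD l) ∧ AboveZero 1 (kosD l) ∧
    Low (-(l.length : ℤ)) (kosD l) ∧ Tors l (kosD l) ∧ ∀ C : Dual.D A, Tors l C → ∀ n : ℤ,
      (∀ φ : kosD l ⟶ C⟦n⟧, φ = 0) → IsZero ((hdA A n).obj C) := by
  intro l
  induction l with
  | nil =>
    haveI : Projective (ModuleCat.of A A) := (IsProjective.iff_projective _).1 inferInstance
    let e : Dual.inD A A ≅ kosD ([] : List A) := (singleQZeroIso (ModuleCat.of A A)).symm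
    have hL : Low 0 (kosD ([] : List A)) := fun C hC φ => by
      rw [← cancel_epi e.hom, comp_zero]
      exact low_inD (ModuleCat.of A A) C hC _
    refine ⟨(perf_inD projClass_fProj (M := ModuleCat.of A A) ⟨inferInstance, inferInstance⟩).of_iso e,
      (aboveZero_inD (ModuleCat.of A A)).of_iso e.symm, by simpa using hL,
      fun f hf => absurd hf List.not_mem_nil, fun C _ n h => ?_⟩
    haveI : Subsingleton ((hdA A 0).obj (C⟦n⟧)) := subsingleton_of_forall_eq 0 fun x => by
      obtain ⟨φ, hφ⟩ := (DComplLib.bijective_toH0 (ModuleCat.of A A) (C⟦n⟧)).2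
        (ModuleCat.ofHom (LinearMap.toSpanSingleton A _ x))
      have h0 : φ = 0 := by rw [← cancel_epi e.inv, comp_zero]; exact h _
      have h1 := congrArg (fun ψ => ψ.hom (1 : A)) hφ
      rw [h0, DComplLib.toH0, Functor.map_zero, comp_zero] at h1
      simpa using h1.symm
    exact (ModuleCat.isZero_of_subsingleton ((hdA A 0).obj (C⟦n⟧))).of_iso
      (((DerivedCategory.homologyFunctor (ModuleCat.{u} A) 0).shiftIso n 0 n (by omega)).app C).symm
  | cons f l ih =>
    obtain ⟨hP, hA1, hL, hPt, hgen⟩ := ih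
    obtain ⟨p, d, hQ⟩ := exists_kos_triangle f l
    refine ⟨Perf.obj₃ projClass_fProj _ hQ hP hP, fun i hi =>
      (DerivedCategory.HomologySequence.exact₃ _ hQ i (i + 1) rfl).isZero_of_both_zeros
        ((hA1 i hi).eq_of_src _ _) ((hA1 (i + 1) (by omega)).eq_of_tgt _ _), fun D hD ψ => ?_, fun g hg => ?_, fun C hC n h => ?_⟩
    · have h1 : p ≫ ψ = 0 := hL D (fun i hi => hD i (by simp only [List.length_cons]; push_cast; omega)) _
      obtain ⟨θ, hθ⟩ := Triangle.yoneda_exact₃ _ hQ ψ h1
      have hθ0 : θ = 0 := by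
        refine hom_shift_zero' (-1 : ℤ) (fun u => hL _ (aboveZero_shift hD (-1) _ ?_) u) θ
        simp only [List.length_cons]; push_cast; omega
      rw [hθ, hθ0, comp_zero]
    · rcases List.mem_cons.1 hg with rfl | hg
      · exact tors_cone_smul hQ g (List.mem_singleton.2 rfl)
      · exact Tors.obj₃ (l := [g]) _ hQ (fun g' hg' => by rw [List.mem_singleton.1 hg']; exact hPt g hg)
          (fun g' hg' => by rw [List.mem_singleton.1 hg']; exact hPt g hg) g (List.mem_singleton.2 rfl)
    · refine hgen C (fun g hg => hC g (List.mem_cons_of_mem _ hg)) n fun φ => ?_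
      have inj : ∀ φ : kosD l ⟶ C⟦n⟧, f • φ = 0 → φ = 0 := fun φ hφ => by
        obtain ⟨γ, hγ⟩ := Triangle.yoneda_exact₂ _ hQ φ (by
          show (f ^ 1 • 𝟙 (kosD l)) ≫ φ = 0
          rw [pow_one, Linear.smul_comp, Category.id_comp, hφ])
        rw [hγ, h γ, comp_zero]
      obtain ⟨N, hN⟩ := killed_of_perf f hP (C⟦n⟧)
        (fun g hg => (hC.shift n) g (by rw [List.mem_singleton.1 hg]; exact List.mem_cons_self ..)) φ
      clear h
      induction N with
      | zero => simpa using hN
      | succ N ih =>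
        refine ih (inj _ ?_)
        rw [smul_smul, ← pow_succ', hN]

variable [PreservesFiniteLimits (tilde.functor (CommRingCat.of A))]
  (U : (Spec (CommRingCat.of A)).Opens) (fs : List A) (hU : U = gOpen fs)
  [DCoh.HasRpush U.ι] (adj : DCoh.restrictD U.ι ⊣ DCoh.Rpush U.ι)
  (E : DCoh.D (Spec (CommRingCat.of A))) (hE : DCoh.IsQCohD E)

include hU in
theorem quasiCompact_gOpen_ι : QuasiCompact U.ι := by
  haveI : CompactSpace (U : Scheme.{u}) := isCompact_iff_compactSpace.1 (hU ▸ isCompact_gOpen fs)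
  exact quasiCompact_of_compactSpace U.ι

include hU in
theorem isZero_restrictD_kos (n : ℤ) :
    IsZero ((DCoh.restrictD U.ι).obj (((DCoh.tildeD (CommRingCat.of A)).obj (kosD fs))⟦n⟧)) := by
  refine ((shiftFunctor _ n).map_isZero ?_).of_iso (((DCoh.restrictD U.ι).commShiftIso n).app _)
  subst hU
  exact (tors_iff_isZero fs _).1 (kos_props fs).2.2.2.1

include hU hE in
theorem koszul_cone (n : ℤ) {C : DCoh.D (Spec (CommRingCat.of A))} (π : (DCoh.Rpush U.ι).obj ((DCoh.restrictD U.ι).obj E) ⟶ C)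
    (d : C ⟶ E⟦(1 : ℤ)⟧) (hT : Triangle.mk (adj.unit.app E) π d ∈ distTriang _)
    (h : ∀ φ : ((DCoh.tildeD (CommRingCat.of A)).obj (kosD fs))⟦-n⟧ ⟶ E, φ = 0) :
    IsZero ((DerivedCategory.homologyFunctor _ (n - 1)).obj C) := by
  haveI := quasiCompact_gOpen_ι U fs hU
  let T := DCoh.tildeD (CommRingCat.of A)
  haveI : T.Faithful := (TildeD.main (CommRingCat.of A)).2.1
  let η := adj.unit.app E
  haveI : IsIso adj.counit := adj.isIso_counit_of_iso (rpushRestrictId U)
  haveI : IsIso ((DCoh.restrictD U.ι).map η) := by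
    haveI : IsIso ((DCoh.restrictD U.ι).map η ≫ adj.counit.app ((DCoh.restrictD U.ι).obj E)) := by
      rw [adj.left_triangle_components E]; exact IsIso.id _
    exact IsIso.of_isIso_comp_right _ (adj.counit.app ((DCoh.restrictD U.ι).obj E))
  have hCU : IsZero ((DCoh.restrictD U.ι).obj C) :=
    (Triangle.isZero₃_iff_isIso₁ _ ((DCoh.restrictD U.ι).map_distinguished _ hT)).2 ‹_›
  have hCq : DCoh.IsQCohD C := isQCohD_obj₃' _ hT hE (isQCohD_rpush U.ι _ (TildeD.isQCohD_restrict U.ι E hE))
  obtain ⟨C₀, ⟨eC⟩⟩ := ((TildeD.main (CommRingCat.of A)).2.2 C).1 hCq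
  have hC₀ : Tors fs C₀ := by
    subst hU
    exact (tors_iff_isZero fs C₀).2 (hCU.of_iso ((DCoh.restrictD _).mapIso eC))
  refine ((IsZero.of_iso ?_ ((DerivedCategory.homologyFunctor _ (n - 1)).mapIso eC.symm ≪≫
    (TildeD.nuT (CommRingCat.of A) (n - 1)).app C₀)) : _)
  refine (tilde.functor (CommRingCat.of A)).map_isZero ((kos_props fs).2.2.2.2 C₀ hC₀ (n - 1) fun φ => ?_)
  have hu : ∀ u : (T.obj (kosD fs))⟦-(n - 1)⟧ ⟶ C, u = 0 := fun u => by
    have h0 : u ≫ d = 0 := hom_shift_zero 1 (fun φ => by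
      rw [← cancel_epi ((shiftFunctorAdd' _ (-(n - 1)) (-1 : ℤ) (-n) (by omega)).hom.app (T.obj (kosD fs))), comp_zero]
      exact h _) _
    obtain ⟨v, hv⟩ := Triangle.coyoneda_exact₃ _ hT u h0
    rw [hv, show v = 0 from (adj.homEquiv _ _).symm.injective ((isZero_restrictD_kos U fs hU _).eq_of_src _ _),
      zero_comp]
  apply T.map_injective
  rw [Functor.map_zero, ← cancel_mono ((T.commShiftIso (n - 1)).hom.app C₀ ≫ eC.hom⟦n - 1⟧'), zero_comp]
  exact hom_shift_zero (n - 1) hu _

/-- The two implications for the lower truncation. -/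
theorem koszul_truncLT (a : ℤ) (hU : U = gOpen fs) (hE : DCoh.IsQCohD E) :
    ((∀ n : ℤ, n ≤ a → ∀ φ : ((DCoh.tildeD (CommRingCat.of A)).obj (kosD fs))⟦-n⟧ ⟶ E, φ = 0) →
      IsIso ((DerivedCategory.TStructure.t.truncLT a).map (adj.unit.app E))) ∧
    (IsIso ((DerivedCategory.TStructure.t.truncLT a).map (adj.unit.app E)) →
      ∀ n : ℤ, n ≤ a - 1 → ∀ φ : ((DCoh.tildeD (CommRingCat.of A)).obj (kosD fs))⟦-n⟧ ⟶ E, φ = 0) := by
  let T := DCoh.tildeD (CommRingCat.of A)
  obtain ⟨C, π, d, hT⟩ := distinguished_cocone_triangle (adj.unit.app E)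
  constructor
  · intro h
    have hC : ∀ n ≤ a, IsZero ((DerivedCategory.homologyFunctor _ (n - 1)).obj C) := fun n hn =>
      koszul_cone U fs hU adj E hE n π d hT (h n hn)
    refine (isIso_truncLT_map_iff_homology _ a).2 fun i hi => isIso_homology_of_isZero_cone _ hT i (hC i (by omega)) ?_
    have := hC (i + 1) (by omega)
    rwa [add_sub_cancel_right] at this
  · intro h n hn φ
    have hiso := (isIso_truncLT_map_iff_homology _ a).1 h
    haveI : C.IsGE (a - 1) := (DerivedCategory.isGE_iff C (a - 1)).2 fun i hi =>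
      isZero_cone_homology _ hT i (hiso i (by omega)) (hiso (i + 1) (by omega))
    haveI : (C⟦(-1 : ℤ)⟧).IsGE a := isGE_shift' C (a - 1) (-1) a (by omega)
    haveI : (T.obj (kosD fs)).IsLE 0 := (DerivedCategory.isLE_iff _ 0).2 fun i hi =>
      TildePerf.aboveZero_tilde (kos_props fs).2.1 i (by omega)
    haveI : ((T.obj (kosD fs))⟦-n⟧).IsLE n := isLE_shift' _ 0 (-n) n (by omega)
    haveI := quasiCompact_gOpen_ι U fs hU
    obtain ⟨γ, hγ⟩ := Triangle.coyoneda_exact₂ _ (inv_rot_of_distTriang _ hT) φ (by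
      exact (adj.homEquiv _ _).symm.injective ((isZero_restrictD_kos U fs hU _).eq_of_src _ _))
    haveI : (Triangle.mk (adj.unit.app E) π d).invRotate.obj₁.IsGE a := inferInstanceAs ((C⟦(-1 : ℤ)⟧).IsGE a)
    rw [hγ, show γ = 0 from DerivedCategory.TStructure.t.zero_of_isLE_of_isGE γ n a (by omega)
      (inferInstance : ((T.obj (kosD fs))⟦-n⟧).IsLE n) ‹(Triangle.mk (adj.unit.app E) π d).invRotate.obj₁.IsGE a›, zero_comp]

/-- The two implications for the upper truncation. -/
theorem koszul_truncGE (a : ℤ) (hU : U = gOpen fs) (hE : DCoh.IsQCohD E) :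
    ((∀ n : ℤ, a ≤ n → ∀ φ : ((DCoh.tildeD (CommRingCat.of A)).obj (kosD fs))⟦-n⟧ ⟶ E, φ = 0) →
      IsIso ((DerivedCategory.TStructure.t.truncGE a).map (adj.unit.app E))) ∧
    (IsIso ((DerivedCategory.TStructure.t.truncGE a).map (adj.unit.app E)) →
      ∀ n : ℤ, a + (fs.length : ℤ) ≤ n → ∀ φ : ((DCoh.tildeD (CommRingCat.of A)).obj (kosD fs))⟦-n⟧ ⟶ E, φ = 0) := by
  let T := DCoh.tildeD (CommRingCat.of A)
  haveI : T.Full := (TildeD.main (CommRingCat.of A)).1
  haveI : T.Faithful := (TildeD.main (CommRingCat.of A)).2.1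
  obtain ⟨C, π, d, hT⟩ := distinguished_cocone_triangle (adj.unit.app E)
  constructor
  · intro h
    have hC : ∀ n, a ≤ n → IsZero ((DerivedCategory.homologyFunctor _ (n - 1)).obj C) := fun n hn =>
      koszul_cone U fs hU adj E hE n π d hT (h n hn)
    refine (isIso_truncGE_map_iff_homology _ a).2 fun i hi => isIso_homology_of_isZero_cone _ hT i (hC i hi) ?_
    have := hC (i + 1) (by omega)
    rwa [add_sub_cancel_right] at this
  · intro h n hn φ
    let t : CategoryTheory.Triangulated.TStructure (DCoh.D (Spec (CommRingCat.of A))) := DerivedCategory.TStructure.t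
    haveI : IsIso ((t.truncGE a).map (adj.unit.app E)) := h
    haveI := quasiCompact_gOpen_ι U fs hU
    have hφ : φ ≫ adj.unit.app E = 0 :=
      (adj.homEquiv _ _).symm.injective ((isZero_restrictD_kos U fs hU _).eq_of_src _ _)
    have h1 : φ ≫ (t.truncGEπ a).app E = 0 := by
      rw [← cancel_mono ((t.truncGE a).map (adj.unit.app E)), zero_comp, Category.assoc]
      exact (congrArg (φ ≫ ·) ((t.truncGEπ a).naturality (adj.unit.app E))).symm.trans
        ((Category.assoc _ _ _).symm.trans ((congrArg (· ≫ _) hφ).trans zero_comp))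
    obtain ⟨u, hu⟩ := Triangle.coyoneda_exact₂ _ (t.triangleLTGE_distinguished a E) φ h1
    obtain ⟨X₀, ⟨eX⟩⟩ := ((TildeD.main (CommRingCat.of A)).2.2 _).1 (isQCohD_truncLT hE a)
    have hX : AboveZero a X₀ := fun i hi => TildePerf.isZero_of_isZero_tilde (IsZero.of_iso
      (DerivedCategory.isZero_of_isLE ((t.truncLT a).obj E) (a - 1) i (by omega))
      (((TildeD.nuT (CommRingCat.of A) i).app X₀).symm ≪≫ (DerivedCategory.homologyFunctor _ i).mapIso eX))
    have hu0 : u = 0 := by
      refine hom_shift_zero' n (fun ψ => ?_) u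
      obtain ⟨ψ₀, hψ⟩ := T.map_surjective (ψ ≫ eX.inv⟦n⟧' ≫ (T.commShiftIso n).inv.app X₀)
      rw [(kos_props fs).2.2.1 _ (aboveZero_shift hX n _ (by omega)) ψ₀, Functor.map_zero] at hψ
      rw [← cancel_mono (eX.inv⟦n⟧' ≫ (T.commShiftIso n).inv.app X₀), zero_comp]
      exact hψ.symm
    rw [hu, hu0, zero_comp]

end Koszul

end Groth.Agent.DCohMore
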