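import Groth.Agent.DCohMore.ApproxGlobal
import Groth.Agent.DCohMore.RelPerfTerms
import Groth.Agent.DCohMore.RpushSum
import Groth.Agent.DCohMore.KoszulUnit
import Groth.Agent.S1034
import Mathlib.CategoryTheory.Limits.Constructions.EventuallyConstant

/-! Pseudo-coherent objects as homotopy colimits of perfect objects. -/

set_option autoImplicit false
set_option linter.style.haveILetI false
set_option backward.isDefEq.respectTransparency false

universe w v u

open CategoryTheory Limits AlgebraicGeometry Pretriangulated ZeroObject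
attribute [local instance] HasDerivedCategory.standard

noncomputable section

namespace Groth.Agent.DCohMore

open Groth.Agent.DRingLib Groth.Agent.DCohLib

/-- The homology functor preserves exact coproducts. -/
theorem nonempty_isColimit_homology {C : Type u} [Category.{v} C] [Abelian C] {J : Type w}
    [HasColimitsOfShape (Discrete J) C] [HasExactColimitsOfShape (Discrete J) C]
    {F : J → CochainComplex C ℤ} {s : Cofan F} (hs : IsColimit s) (n : ℤ) :
    Nonempty (IsColimit (Cofan.mk (f := fun j => (F j).homology n) (s.pt.homology n)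
      fun j => HomologicalComplex.homologyMap (s.inj j) n)) := by
  let K := Discrete.functor F
  let c := ComplexShape.up ℤ
  let E := fun m => HomologicalComplex.eval C c m
  let e : ∀ m, colimit (K ⋙ E m) ≅ s.pt.X m := fun m =>
    (colimit.isColimit _).coconePointUniqueUpToIso (isColimitOfPreserves (E m) hs)
  have he : ∀ m i, colimit.ι (K ⋙ E m) i ≫ (e m).hom = (s.ι.app i).f m := fun m i =>
    IsColimit.comp_coconePointUniqueUpToIso_hom _ _ i
  let dnat : ∀ a b, K ⋙ E a ⟶ K ⋙ E b := fun a b =>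
    { app := fun i => (K.obj i).d a b
      naturality := fun i j f => (K.map f).comm a b }
  let S : ShortComplex (Discrete J ⥤ C) :=
    ShortComplex.mk (dnat (c.prev n) n) (dnat n (c.next n))
      (NatTrans.ext (funext fun i => (K.obj i).d_comp_d _ _ _))
  have comm : ∀ a b, colim.map (dnat a b) ≫ (e b).hom = (e a).hom ≫ s.pt.d a b := fun a b => by
    refine colimit.hom_ext fun i => ?_
    rw [show colim.map (dnat a b) = colimMap (dnat a b) from rfl, ι_colimMap_assoc, he,
      reassoc_of% (he a i)]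
    refine Eq.trans ?_ ((s.ι.app i).comm a b).symm
    rfl
  let iC : S.map colim ≅ s.pt.sc n :=
    ShortComplex.isoMk (e (c.prev n)) (e n) (e (c.next n)) (comm _ _).symm (comm _ _).symm
  let θ : colimit S.homology ≅ s.pt.homology n := (S.mapHomologyIso colim).symm ≪≫ ShortComplex.homologyMapIso iC
  let ψ : ∀ j : J, (F j).homology n ≅ S.homology.obj ⟨j⟩ := fun j =>
    S.mapHomologyIso ((evaluation (Discrete J) C).obj ⟨j⟩)
  refine ⟨(IsColimit.ofIsoColimit
    ((IsColimit.precomposeHomEquiv (Discrete.natIso fun j => ψ j.as) (colimit.cocone S.homology)).symm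
      (colimit.isColimit S.homology))
    (Cocone.ext θ fun j => ?_))⟩
  obtain ⟨j⟩ := j
  let τ : (evaluation (Discrete J) C).obj ⟨j⟩ ⟶ (colim : (Discrete J ⥤ C) ⥤ C) :=
    { app := fun F => colimit.ι F ⟨j⟩
      naturality := fun F F' g => (ι_colimMap g _).symm }
  have hfac : (HomologicalComplex.shortComplexFunctor C c n).map (s.inj j) = S.mapNatTrans τ ≫ iC.hom :=
    ShortComplex.hom_ext _ _ (he _ _).symm (he _ _).symm (he _ _).symm
  show ((ψ j).hom ≫ colimit.ι S.homology ⟨j⟩) ≫ θ.hom = ShortComplex.homologyMap _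
  rw [hfac, ShortComplex.homologyMap_comp, ShortComplex.homologyMap_mapNatTrans]
  simp [θ, ψ, τ]

variable {X : Scheme.{u}}

set_option maxHeartbeats 1000000 in
/-- The cohomology sheaves of countable sums. -/
theorem preservesColimit_homologyFunctor (i : ℤ) :
    PreservesColimitsOfShape (Discrete ℕ) (DerivedCategory.homologyFunctor X.Modules i) := by
  refine ⟨fun {K} => ?_⟩
  suffices h : ∀ M : ℕ → DCoh.D X, PreservesColimit (Discrete.functor M) (DerivedCategory.homologyFunctor X.Modules i) by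
    haveI := h fun n => K.obj ⟨n⟩
    exact preservesColimit_of_iso_diagram _ Discrete.natIsoFunctor.symm
  intro M
  haveI : HasColimitsOfShape (Discrete ℕ) X.Modules := inferInstance
  haveI : HasExactColimitsOfShape (Discrete ℕ) X.Modules := inferInstance
  let F := fun n => DerivedCategory.Q.objPreimage (M n)
  let eM := fun n => (DerivedCategory.Q.objObjPreimageIso (M n)).symm
  let c₀ : Cofan F := Cofan.mk (∐ F) (Sigma.ι F)
  obtain ⟨hQ⟩ := nonempty_isColimit_Q M (coproductIsCoproduct F : IsColimit c₀) eM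
  obtain ⟨hH⟩ := nonempty_isColimit_homology (coproductIsCoproduct F : IsColimit c₀) i
  let H := DerivedCategory.homologyFunctor X.Modules i
  let a := fun n => H.mapIso (eM n) ≪≫ (DerivedCategory.homologyFunctorFactors X.Modules i).app (F n)
  refine preservesColimit_of_preserves_colimit_cocone hQ
    ((isColimitMapCoconeCofanMkEquiv H _ _).symm ?_)
  refine IsColimit.ofIsoColimit ((IsColimit.precomposeHomEquiv (Discrete.natIso fun n => a n.as) _).symm hH)
    (Cocone.ext ((DerivedCategory.homologyFunctorFactors X.Modules i).app c₀.pt).symm fun n => ?_)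
  obtain ⟨n⟩ := n
  show ((a n).hom ≫ HomologicalComplex.homologyMap (c₀.inj n) i) ≫
    ((DerivedCategory.homologyFunctorFactors X.Modules i).app c₀.pt).inv = H.map ((eM n).hom ≫ DerivedCategory.Q.map (c₀.inj n))
  have hn := (DerivedCategory.homologyFunctorFactors X.Modules i).hom.naturality (c₀.inj n)
  simp only [a, Iso.trans_hom, Functor.mapIso_hom, Iso.app_hom, Category.assoc, Functor.map_comp]
  erw [← reassoc_of% hn]
  simp [H]

set_option maxHeartbeats 1000000 in
/-- Towers of perfect objects approximating a pseudo-coherent object. -/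
theorem exists_tower [CompactSpace X] [QuasiSeparatedSpace X] (T : Set X) (hT : IsClosed T) (hTc : IsCompact Tᶜ)
    (K : DCoh.D X) (hK : ∀ m : ℤ, DCoh.IsPseudoCoherentD m K) (hKT : Sup T K) :
    ∃ (E : ℕ → DCoh.D X) (f : ∀ n, E n ⟶ E (n + 1)) (i : ∀ n, E n ⟶ K),
      (∀ n, DCoh.IsPerfect (E n)) ∧ (∀ n, Sup T (E n)) ∧ (∀ n, f n ≫ i (n + 1) = i n) ∧
      ∀ n : ℕ, MIso (-(n : ℤ) - 1) (i n) := by
  classical
  obtain ⟨r, hr⟩ := appr_main T hT hTc
  let Good : ℕ → (Σ P : DCoh.D X, P ⟶ K) → Prop := fun n p =>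
    DCoh.IsPerfect p.1 ∧ Sup T p.1 ∧ MIso (-(n : ℤ) - 1) p.2
  have hKq := isQCohD_of_pc hK
  have first : ∃ p, Good 0 p := by
    obtain ⟨P, α, hP, hPT, hα⟩ := hr (-1) K hKq (hK _) fun i _ => hKT i
    exact ⟨⟨P, α⟩, hP, hPT, by simpa using hα⟩
  have next' : ∀ n p, Good n p → ∃ (p' : Σ P : DCoh.D X, P ⟶ K) (g : p.1 ⟶ p'.1),
      Good (n + 1) p' ∧ g ≫ p'.2 = p.2 := by
    rintro n ⟨P, α⟩ ⟨hP, hPT, -⟩
    obtain ⟨C, π, d, hd⟩ := distinguished_cocone_triangle α
    obtain ⟨Q, β, hQ, hQT, C₂, p₂, d₂, hT₂, hC₂⟩ := hr (-((n + 1 : ℕ) : ℤ) - 1) C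
      (isQCohD_obj₃' _ hd (isQCohD_of_isPerfect hP) hKq)
      (isPseudoCoherentD_obj₃ _ hd (isPseudoCoherentD_of_isPerfect' hP _) (hK _))
      (fun i _ => sup_obj₃ hT _ hd hPT hKT i)
    obtain ⟨P', u, d', h₁₃⟩ := distinguished_cocone_triangle₁ (π ≫ p₂)
    let o := Triangulated.someOctahedron' (rfl : π ≫ p₂ = _) hd hT₂ h₁₃
    have h1 : DCoh.IsPerfect P' := isPerfect_obj₂ _ o.mem hP hQ
    have h2 : Sup T P' := sup_obj₂ hT _ o.mem hPT hQT
    have h3 : MIso (-((n + 1 : ℕ) : ℤ) - 1) u := ⟨C₂, π ≫ p₂, d', h₁₃, hC₂⟩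
    exact ⟨⟨P', u⟩, o.m₁, ⟨h1, h2, h3⟩, o.comm₁⟩
  choose p₀ hp₀ using first
  choose nx g hnx hcomm using next'
  let S : ∀ n, { p : Σ P : DCoh.D X, P ⟶ K // Good n p } := fun n =>
    Nat.rec ⟨p₀, hp₀⟩ (fun n s => ⟨nx n s.1 s.2, hnx n s.1 s.2⟩) n
  exact ⟨fun n => (S n).1.1, fun n => g n (S n).1 (S n).2, fun n => (S n).1.2, fun n => (S n).2.1,
    fun n => (S n).2.2.1, fun n => hcomm n (S n).1 (S n).2, fun n => (S n).2.2.2⟩

/-- A tower whose maps are isomorphisms on cohomology in a growing range has the target as homotopy colimit. -/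
theorem isHocolim_tower [HasColimitsOfShape (Discrete ℕ) (DCoh.D X)] (K : DCoh.D X) (E : ℕ → DCoh.D X)
    (f : ∀ n, E n ⟶ E (n + 1)) (i : ∀ n, E n ⟶ K) (hfi : ∀ n, f n ≫ i (n + 1) = i n)
    (h : ∀ n : ℕ, MIso (-(n : ℤ) - 1) (i n)) : DerLim.IsHocolim E f K i := by
  haveI : HasColimitsOfShape ℕ X.Modules := inferInstance
  haveI : HasExactColimitsOfShape ℕ X.Modules :=
    Groth.Agent.KFlat.hasExactColimitsOfShape_nat X.sheaf
  obtain ⟨Z, g, c, hZ⟩ := distinguished_cocone_triangle (𝟙 (∐ E) - DerLim.shiftMap E f)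
  have h0 : (𝟙 (∐ E) - DerLim.shiftMap E f) ≫ Sigma.desc i = 0 := by
    refine Sigma.hom_ext _ _ fun n => ?_
    simp [DerLim.shiftMap, hfi]
  obtain ⟨θ, hθ⟩ := Triangle.yoneda_exact₂ _ hZ (Sigma.desc i) h0
  have hZ' : DerLim.IsHocolim E f Z fun n => Sigma.ι E n ≫ g := by
    refine ⟨c, ?_⟩
    have : (Sigma.desc fun n => Sigma.ι E n ≫ g) = g := Sigma.hom_ext _ _ fun n => by simp
    rw [this]
    exact hZ
  haveI : IsIso θ := by
    rw [DerivedCategory.isIso_iff]
    intro q
    let H := DerivedCategory.homologyFunctor X.Modules q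
    haveI := preservesColimit_homologyFunctor (X := X) q
    obtain ⟨e, he⟩ := Groth.Agent.S1034.result H E f Z _ hZ'
    let F := Functor.ofSequence fun n => H.map (f n)
    have hi : ∀ n, colimit.ι F n ≫ e.hom ≫ H.map θ = H.map (i n) := fun n => by
      rw [← Category.assoc, he, ← Functor.map_comp, Category.assoc]
      congr 1
      rw [← Sigma.ι_desc i n]
      exact congrArg (Sigma.ι E n ≫ ·) hθ.symm
    obtain ⟨n₀, hn₀⟩ : ∃ n₀ : ℕ, -(n₀ : ℤ) - 1 < q := ⟨(-q).toNat + 1, by omega⟩
    have hiso : ∀ n, n₀ ≤ n → IsIso (H.map (i n)) := fun n hn => ((mIso_iff _ _).1 (h n)).1 q (by omega)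
    have hF : F.IsEventuallyConstantFrom n₀ := fun j φ => by
      haveI := hiso n₀ le_rfl
      haveI := hiso j φ.le
      haveI : IsIso (F.map φ ≫ H.map (i j)) := by
        rw [← hi j, ← Category.assoc (F.map φ), colimit.w, hi n₀]
        infer_instance
      exact IsIso.of_isIso_comp_right _ (H.map (i j))
    haveI : IsIso (colimit.ι F n₀) := hF.isIso_ι_of_isColimit' (colimit.isColimit _) n₀ (𝟙 _)
    haveI : IsIso (colimit.ι F n₀ ≫ e.hom ≫ H.map θ) := by rw [hi]; exact hiso n₀ le_rfl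
    haveI : IsIso (e.hom ≫ H.map θ) := IsIso.of_isIso_comp_left (colimit.ι F n₀) _
    exact IsIso.of_isIso_comp_left e.hom _
  refine ⟨inv θ ≫ c, isomorphic_distinguished _ hZ _ (Triangle.isoMk _ _ (Iso.refl _) (Iso.refl _) (asIso θ).symm
    ((Category.comp_id _).trans (Category.id_comp _).symm) ?_ ?_)⟩
  · show Sigma.desc i ≫ inv θ = 𝟙 _ ≫ g
    rw [show Sigma.desc i = g ≫ θ from hθ, Category.assoc, IsIso.hom_inv_id, Category.comp_id, Category.id_comp]
  · show (inv θ ≫ c) ≫ (shiftFunctor (DCoh.D X) (1 : ℤ)).map (𝟙 _) = inv θ ≫ c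
    rw [CategoryTheory.Functor.map_id, Category.comp_id]

/-- Truncations from maps which are isomorphisms in a range. -/
theorem isIso_truncGE_of_mIso {K L : DCoh.D X} (α : K ⟶ L) {m : ℤ} (h : MIso m α) :
    IsIso (((DerivedCategory.TStructure.t : CategoryTheory.Triangulated.TStructure (DCoh.D X)).truncGE (m + 1)).map α) :=
  (isIso_truncGE_map_iff_homology α (m + 1)).2 fun i hi => ((mIso_iff m α).1 h).1 i (by omega)

/-- The converse: homotopy colimits of perfect objects with truncations stabilising are pseudo-coherent. -/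
theorem pc_of_tower (K : DCoh.D X) (E : ℕ → DCoh.D X) (i : ∀ n, E n ⟶ K) (hE : ∀ n, DCoh.IsPerfect (E n))
    (h : ∀ n : ℕ, IsIso (((DerivedCategory.TStructure.t : CategoryTheory.Triangulated.TStructure (DCoh.D X)).truncGE (-(n : ℤ))).map (i n)))
    (m : ℤ) : DCoh.IsPseudoCoherentD m K := by
  let n := (-m).toNat
  obtain ⟨D, g, k, hD⟩ := distinguished_cocone_triangle (i n)
  have hiso := (isIso_truncGE_map_iff_homology (i n) _).1 (h n)
  have hD0 : AboveZero m D := by
    have hm : MIso (-(n : ℤ)) (i n) :=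
      (mIso_iff _ _).2 ⟨fun q hq => hiso q hq.le, by haveI := hiso _ le_rfl; infer_instance⟩
    exact ((MIso.cone _ hD hm).mono (by omega) : AboveZero m D)
  refine isPseudoCoherentD_obj₂ _ hD (isPseudoCoherentD_of_isPerfect' (hE n) m) ?_
  exact (isPseudoCoherentD_iff _ _).2 fun x => ⟨⊤, trivial, pcOn_of_aboveZero (AboveZero.restrict _ hD0)⟩

end Groth.Agent.DCohMore
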