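import Groth.Agent.DCohLib.PerfCrit
import Groth.Agent.DCohLib.PerfCoh
import Groth.Agent.DCohLib.ExtTensor
import Groth.Agent.DCohLib.TorTest
import Groth.Agent.DCohMore.RpushBdd
import Groth.Agent.DevLib.Power

/-!
# The tensor product of a perfect object with a module
-/

set_option autoImplicit false
set_option linter.style.haveILetI false
set_option linter.unusedSectionVars false

universe u

open CategoryTheory CategoryTheory.Limits AlgebraicGeometry MonoidalCategory
open CategoryTheory.Pretriangulated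

attribute [local instance] HasDerivedCategory.standard

noncomputable section

namespace Groth.Agent.DCohMore

open Groth.Agent.DCohLib

variable {X : Scheme.{u}}

/-- Restriction commutes with tensoring with a module, naturally. -/
def restrictTensorRightIso (V : X.Opens) (F : X.Modules) :
    DCoh.tensorRightMod F ⋙ Scheme.Modules.restrictFunctor V.ι ≅
      Scheme.Modules.restrictFunctor V.ι ⋙
        DCoh.tensorRightMod ((Scheme.Modules.restrictFunctor V.ι).obj F) :=
  (NatIso.ofComponents (F := Scheme.Modules.restrictFunctor V.ι ⋙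
      DCoh.tensorRightMod ((Scheme.Modules.restrictFunctor V.ι).obj F))
    (G := DCoh.tensorRightMod F ⋙ Scheme.Modules.restrictFunctor V.ι)
    (fun M => (restrictTensorIso V.ι M F).symm)
    fun g => restrictTensorIso_inv_natural_left V g F).symm

/-- Over a suitable open, tensoring a perfect complex with a module is computed by a complex of free modules. -/
theorem exists_local_tensorRight (P : CochainComplex X.Modules ℤ) (hP : DCoh.IsKFlat P)
    (hperf : DCoh.IsPerfect (DerivedCategory.Q.obj P)) (x : X) :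
    ∃ V : X.Opens, x ∈ V ∧ ∃ (E : CochainComplex (V : Scheme.{u}).Modules ℤ) (a b : ℤ),
      DCoh.VanishesOutside E a b ∧
      (∀ i : ℤ, ∃ n : ℕ, Nonempty (E.X i ≅ FlatMod.freeMod (V : Scheme.{u}) n)) ∧
      ∀ (F : X.Modules) (i : ℤ), Nonempty ((Scheme.Modules.restrictFunctor V.ι).obj
          ((((DCoh.tensorRightMod F).mapHomologicalComplex (ComplexShape.up ℤ)).obj P).homology i) ≅
        (((DCoh.tensorRightMod ((Scheme.Modules.restrictFunctor V.ι).obj F)).mapHomologicalComplex
          (ComplexShape.up ℤ)).obj E).homology i) := by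
  obtain ⟨V, hx, E, β, hβ, hE, hfree⟩ := exists_local_free_map hperf x
  obtain ⟨⟨a, b, hab⟩, -⟩ := id hE
  refine ⟨V, hx, E, a, b, hab, hfree, fun F i => ⟨?_⟩⟩
  let Fv := (Scheme.Modules.restrictFunctor V.ι).obj F
  haveI := quasiIso_tensorRightMod_map Fv β hβ (isKFlat_of_strictlyPerfect hE) (isKFlat_resCx V.ι hP)
  exact (((((DCoh.tensorRightMod F).mapHomologicalComplex (ComplexShape.up ℤ)).obj P).sc i).mapHomologyIso
      (Scheme.Modules.restrictFunctor V.ι)).symm ≪≫
    (HomologicalComplex.homologyFunctor _ _ i).mapIso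
      ((NatIso.mapHomologicalComplex (restrictTensorRightIso V F) (ComplexShape.up ℤ)).app P) ≪≫
    (asIso (HomologicalComplex.homologyMap
      (((DCoh.tensorRightMod Fv).mapHomologicalComplex (ComplexShape.up ℤ)).map β) i)).symm

/-- A perfect object on a quasi-compact scheme has finite tor amplitude. -/
theorem exists_torAmplitude_of_perfect [CompactSpace X] (E : DCoh.D X) (hE : DCoh.IsPerfect E) :
    ∃ a b : ℤ, a ≤ b ∧ DCoh.HasTorAmplitudeIn a b E := by
  classical
  let P := (resX X).obj (DerivedCategory.Q.objPreimage E)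
  have hP : DCoh.IsKFlat P := isKFlat_resX _
  choose V hV E₀ a b hab hfree hiso using
    exists_local_tensorRight P hP (isPerfect_iso (resXIso E).symm hE)
  obtain ⟨t, ht⟩ := (isCompact_univ (X := X)).elim_finite_subcover (fun x => ((V x : X.Opens) : Set X))
    (fun x => (V x).2) (fun x _ => Set.mem_iUnion.2 ⟨x, hV x⟩)
  obtain ⟨A, hA⟩ := (t.image a).bddBelow
  obtain ⟨B, hB⟩ := (t.image b).bddAbove
  refine ⟨min A B, B, min_le_right _ _, fun F _ i hi => ?_⟩
  refine IsZero.of_iso ?_ ((DerivedCategory.homologyFunctor X.Modules i).mapIso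
    ((DCoh.LTensorMod F).mapIso (resXIso E).symm ≪≫ lTensorModIso F P hP) ≪≫
    (DerivedCategory.homologyFunctorFactors X.Modules i).app _)
  refine isZero_of_local fun y => ?_
  obtain ⟨x, hx, hy⟩ := Set.mem_iUnion₂.1 (ht (Set.mem_univ y))
  refine ⟨V x, (V x).ι, inferInstance, ⟨y, hy⟩, rfl, IsZero.of_iso ?_ (hiso x F i).some⟩
  refine (HomologicalComplex.exactAt_iff_isZero_homology _ _).1 (HomologicalComplex.ExactAt.of_isZero ?_)
  refine (DCoh.tensorRightMod _).map_isZero (hab x i (hi.imp (fun h => ?_) fun h => ?_))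
  · exact lt_of_lt_of_le h ((min_le_left _ _).trans (hA (Finset.mem_image_of_mem a hx)))
  · exact lt_of_le_of_lt (hB (Finset.mem_image_of_mem b hx)) h

theorem isCoh_of_isZero [IsLocallyNoetherian X] {Z : X.Modules} (hZ : IsZero Z) : Coh.IsCoh Z :=
  isCoh_of_isFinLocFree (isFinLocFree_of_isZero hZ)

theorem isCoh_sigma_fin [IsLocallyNoetherian X] (M : X.Modules) (hM : Coh.IsCoh M) :
    ∀ n : ℕ, Coh.IsCoh (∐ fun _ : Fin n => M)
  | 0 => isCoh_of_isZero ((IsZero.iff_id_eq_zero _).2 (Limits.Sigma.hom_ext _ _ fun j => j.elim0))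
  | n + 1 => by
    haveI : HasFiniteBiproducts X.Modules := HasFiniteBiproducts.of_hasFiniteProducts
    let f : Fin (n + 1) → X.Modules := fun _ => M
    let g : Fin n → X.Modules := fun _ => M
    let e : (∐ f) ≅ M ⊞ (∐ g) :=
      { hom := Limits.Sigma.desc (Fin.cases (biprod.inl : M ⟶ M ⊞ ∐ g) fun i => Sigma.ι g i ≫ biprod.inr)
        inv := biprod.desc (Sigma.ι f 0) (Limits.Sigma.desc fun i => Sigma.ι f i.succ)
        hom_inv_id := Sigma.hom_ext _ _ fun j => by
          refine Fin.cases ?_ (fun i => ?_) j <;> simp [f, g]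
        inv_hom_id := biprod.hom_ext' _ _ (by simp [f]) (by
          rw [biprod.inr_desc_assoc, Category.comp_id]
          exact Sigma.hom_ext _ _ fun i => by simp [f, g]) }
    exact isCoh_iso e.symm (Groth.Agent.DevLib.isCoh_biprod hM (isCoh_sigma_fin M hM n))

theorem isCoh_tensorRight_free [IsLocallyNoetherian X] (G : X.Modules) (hG : Coh.IsCoh G) (n : ℕ)
    {Z : X.Modules} (e : Z ≅ FlatMod.freeMod X n) : Coh.IsCoh ((DCoh.tensorRightMod G).obj Z) := by
  haveI : PreservesColimitsOfSize.{u, u} ((ModSite.tensorBi X.sheaf).flip.obj G) :=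
    Groth.Agent.ModTensor.preservesColimitsOfSize_tensorBi X.sheaf G
  let T : X.Modules ⥤ X.Modules := (DCoh.tensorBi (X := X)).flip.obj G
  haveI : PreservesColimitsOfSize.{u, u} T := ‹_›
  haveI : PreservesColimitsOfSize.{0, 0} T := preservesColimitsOfSize_shrink.{0, u, 0, u} _
  let u₁ : T.obj (Coh.structureModule X) ≅ G :=
    ((Groth.Agent.ModTensor.tensorSymm X.sheaf (Coh.structureModule X)).app G).symm ≪≫
      (Groth.Agent.ModTensor.tensorUnitRight X.sheaf).app G
  exact isCoh_iso ((T.mapIso e) ≪≫ PreservesCoproduct.iso T _ ≪≫ Limits.Sigma.mapIso fun _ => u₁).symm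
    (isCoh_sigma_fin G hG n)

/-- The tensor product of a perfect object with a coherent module has coherent cohomology. -/
theorem isCohD_lTensorMod [IsLocallyNoetherian X] (E : DCoh.D X) (hE : DCoh.IsPerfect E) (G : X.Modules)
    (hG : Coh.IsCoh G) [DCoh.HasLTensorMod G] : DCoh.IsCohD ((DCoh.LTensorMod G).obj E) := fun i => by
  let P := (resX X).obj (DerivedCategory.Q.objPreimage E)
  have hP : DCoh.IsKFlat P := isKFlat_resX _
  refine isCoh_iso ((DerivedCategory.homologyFunctor X.Modules i).mapIso
    ((DCoh.LTensorMod G).mapIso (resXIso E).symm ≪≫ lTensorModIso G P hP) ≪≫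
    (DerivedCategory.homologyFunctorFactors X.Modules i).app _).symm (isCoh_of_local fun x => ?_)
  obtain ⟨V, hx, E₀, a, b, -, hfree, hiso⟩ := exists_local_tensorRight P hP (isPerfect_iso (resXIso E).symm hE) x
  refine ⟨V, hx, isCoh_iso (hiso G i).some.symm (isCoh_homology (fun j => ?_) i)⟩
  obtain ⟨n, ⟨e⟩⟩ := hfree j
  exact isCoh_tensorRight_free _ (ProjBundleLib.isCoh_restrict_open hG.1 hG.2 V) n e

/-- The tensor product with a module is supported on the support of the module. -/
theorem support_lTensorMod_subset (E : DCoh.D X) (G : X.Modules) [DCoh.HasLTensorMod G] (i : ℤ) :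
    CohB1.support (DCoh.HD ((DCoh.LTensorMod G).obj E) i) ⊆ CohB1.support G := by
  intro x hx
  by_contra hG
  refine hx ?_
  let P := (resX X).obj (DerivedCategory.Q.objPreimage E)
  let K := ((DCoh.tensorRightMod G).mapHomologicalComplex (ComplexShape.up ℤ)).obj P
  let e : DCoh.HD ((DCoh.LTensorMod G).obj E) i ≅ K.homology i :=
    (DerivedCategory.homologyFunctor X.Modules i).mapIso
      ((DCoh.LTensorMod G).mapIso (resXIso E).symm ≪≫ lTensorModIso G P (isKFlat_resX _)) ≪≫
    (DerivedCategory.homologyFunctorFactors X.Modules i).app _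
  haveI : Subsingleton ((stkF x).obj G) := not_not.1 hG
  have h0 : IsZero ((stkF x).obj (K.X i)) :=
    ((tensorLeft ((stkF x).obj (P.X i))).map_isZero (ModuleCat.isZero_of_subsingleton _) :
      IsZero ((tensorRight ((stkF x).obj G)).obj ((stkF x).obj (P.X i)))).of_iso
      ((stalkTensorRightIso x G).app (P.X i))
  have h1 : IsZero ((stkF x).obj (K.homology i)) := by
    refine IsZero.of_iso ?_ ((K.sc i).mapHomologyIso (stkF x)).symm
    exact ShortComplex.exact_iff_isZero_homology _ |>.1 (ShortComplex.exact_of_isZero_X₂ _ h0)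
  exact ModuleCat.subsingleton_of_isZero (h1.of_iso ((stkF x).mapIso e))

end Groth.Agent.DCohMore
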