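import Groth.Agent.DCohMore.CompactPerf
import Groth.Agent.DCohMore.PerfVanish
import Groth.Agent.DCohMore.TensorCoh
import Groth.Agent.DCohMore.BvdBStep
import Groth.Agent.DCohMore.HocolimPC

/-!
# Boundedness detected by maps from a perfect generator

A vanishing of the maps from a perfect generator into the shifts in a range of degrees gives the same
for all perfect objects.
-/

set_option autoImplicit false
set_option linter.style.haveILetI false
set_option backward.isDefEq.respectTransparency false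

universe u

open CategoryTheory Limits AlgebraicGeometry Pretriangulated ZeroObject
attribute [local instance] HasDerivedCategory.standard

noncomputable section

namespace Groth.Agent.DCohMore

open Groth.Agent.DCohLib

/-- A half line of integers. -/
def Ray (up : Bool) (N i : ℤ) : Prop := if up then N ≤ i else i ≤ N

theorem ray_add (up : Bool) (N i c : ℤ) : Ray up N (i + c) ↔ Ray up (N - c) i := by
  cases up <;> simp [Ray] <;> omega

theorem ray_inter (up : Bool) (N₁ N₂ : ℤ) : ∃ N, ∀ i, Ray up N i → Ray up N₁ i ∧ Ray up N₂ i := by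
  cases up
  · exact ⟨min N₁ N₂, fun i hi => by simp [Ray] at hi ⊢; omega⟩
  · exact ⟨max N₁ N₂, fun i hi => by simp [Ray] at hi ⊢; omega⟩

theorem ray_win (up : Bool) (N a b : ℤ) :
    ∃ N', ∀ i, Ray up N' i → ∀ k, a ≤ k → k ≤ b → Ray up N (i + k) := by
  cases up
  · exact ⟨N - b, fun i hi k h1 h2 => by simp [Ray] at hi ⊢; omega⟩
  · exact ⟨N - a, fun i hi k h1 h2 => by simp [Ray] at hi ⊢; omega⟩

variable {X : Scheme.{u}}

/-- The cohomology vanishes on a half line. -/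
def Bd (up : Bool) (K : DCoh.D X) : Prop := ∃ N, ∀ i, Ray up N i → IsZero (DCoh.HD K i)

/-- The maps from every perfect object into the shifts vanish on a half line. -/
def Van (up : Bool) (E : DCoh.D X) : Prop :=
  ∀ P : DCoh.D X, DCoh.IsPerfect P → ∃ N, ∀ i, Ray up N i → ∀ φ : P ⟶ E⟦i⟧, φ = 0

theorem bd_true_iff (K : DCoh.D X) : Bd true K ↔ ∃ b : ℤ, K.IsLE b := by
  constructor
  · rintro ⟨N, h⟩
    exact ⟨N - 1, (DerivedCategory.isLE_iff _ _).2 fun i hi => h i (by simp [Ray]; omega)⟩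
  · rintro ⟨b, h⟩
    exact ⟨b + 1, fun i hi => DerivedCategory.isZero_of_isLE K b i (by simp [Ray] at hi; omega)⟩

theorem bd_false_iff (K : DCoh.D X) : Bd false K ↔ ∃ a : ℤ, K.IsGE a := by
  constructor
  · rintro ⟨N, h⟩
    exact ⟨N + 1, (DerivedCategory.isGE_iff _ _).2 fun i hi => h i (by simp [Ray]; omega)⟩
  · rintro ⟨a, h⟩
    exact ⟨a - 1, fun i hi => DerivedCategory.isZero_of_isGE K a i (by simp [Ray] at hi; omega)⟩

/-- The cohomology of a shift. -/
def hdShift (K : DCoh.D X) (n i : ℤ) : DCoh.HD (K⟦n⟧) i ≅ DCoh.HD K (n + i) :=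
  ((DerivedCategory.homologyFunctor X.Modules 0).shiftIso n i (n + i) rfl).app K

theorem Bd.of_iso {up : Bool} {K L : DCoh.D X} (h : Bd up K) (e : K ≅ L) : Bd up L := by
  obtain ⟨N, h⟩ := h
  exact ⟨N, fun i hi => (h i hi).of_iso ((DerivedCategory.homologyFunctor X.Modules i).mapIso e.symm)⟩

theorem Bd.obj₂ {up : Bool} (T : Triangle (DCoh.D X)) (hT : T ∈ distTriang _) (h₁ : Bd up T.obj₁)
    (h₃ : Bd up T.obj₃) : Bd up T.obj₂ := by
  obtain ⟨N₁, h₁⟩ := h₁
  obtain ⟨N₃, h₃⟩ := h₃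
  obtain ⟨N, hN⟩ := ray_inter up N₁ N₃
  exact ⟨N, fun i hi => (DerivedCategory.HomologySequence.exact₂ T hT i).isZero_of_both_zeros
    ((h₁ i (hN i hi).1).eq_of_src _ _) ((h₃ i (hN i hi).2).eq_of_tgt _ _)⟩

theorem Bd.obj₃ {up : Bool} (T : Triangle (DCoh.D X)) (hT : T ∈ distTriang _) (h₁ : Bd up T.obj₁)
    (h₂ : Bd up T.obj₂) : Bd up T.obj₃ := by
  obtain ⟨N₁, h₁⟩ := h₁
  obtain ⟨N₂, h₂⟩ := h₂
  obtain ⟨N, hN⟩ := ray_inter up (N₁ - 1) N₂
  exact ⟨N, fun i hi => (DerivedCategory.HomologySequence.exact₃ T hT i (i + 1) rfl).isZero_of_both_zeros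
    ((h₂ i (hN i hi).2).eq_of_src _ _) ((h₁ (i + 1) ((ray_add up N₁ i 1).2 (hN i hi).1)).eq_of_tgt _ _)⟩

theorem bd_of_isPerfect [CompactSpace X] (up : Bool) {P : DCoh.D X} (hP : DCoh.IsPerfect P) : Bd up P := by
  obtain ⟨a, b, hab, h⟩ := exists_torAmplitude_of_perfect P hP
  obtain ⟨E, hE, -, ⟨e⟩⟩ := hasFlatAmplitudeIn_of_hasTorAmplitudeIn hab h
  refine Bd.of_iso ?_ e
  cases up
  · exact ⟨a - 1, fun i hi => ((HomologicalComplex.exactAt_iff_isZero_homology _ _).1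
      (HomologicalComplex.ExactAt.of_isZero (hE i (Or.inl (by simp [Ray] at hi; omega))))).of_iso
      ((DerivedCategory.homologyFunctorFactors _ i).app E)⟩
  · exact ⟨b + 1, fun i hi => ((HomologicalComplex.exactAt_iff_isZero_homology _ _).1
      (HomologicalComplex.ExactAt.of_isZero (hE i (Or.inr (by simp [Ray] at hi; omega))))).of_iso
      ((DerivedCategory.homologyFunctorFactors _ i).app E)⟩

/-- Bounded objects have vanishing maps. -/
theorem van_of_bd [CompactSpace X] [QuasiSeparatedSpace X] {up : Bool} {E : DCoh.D X} (hq : DCoh.IsQCohD E)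
    (h : Bd up E) : Van up E := fun P hP => by
  obtain ⟨a, b, -, hwin⟩ := exists_window hP
  obtain ⟨N, hN⟩ := h
  obtain ⟨N', hN'⟩ := ray_win up N a b
  exact ⟨N', fun i hi φ => hwin _ (isQCohD_shift' hq i)
    (fun k h1 h2 => (hN _ (hN' i hi k h1 h2)).of_iso (hdShift E i k)) φ⟩

/-- The morphisms into an object are parametrised by a small type. -/
theorem exists_small_homs (P Y : DCoh.D X) :
    ∃ (κ : Type u) (s : κ → (P ⟶ Y)), Function.Surjective s := by
  obtain ⟨I, hI, ⟨eY⟩⟩ := Groth.Agent.KInj.exists_kInjective_iso (hres_modules X) Y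
  haveI := hI
  let K := DerivedCategory.Q.objPreimage P
  let eP : DerivedCategory.Q.obj K ≅ P := DerivedCategory.Q.objObjPreimageIso P
  let eq := DerivedCategory.quotientCompQhIso X.Modules
  refine ⟨(K ⟶ I), fun g => eP.inv ≫ (eq.app K).inv ≫
    DerivedCategory.Qh.map ((HomotopyCategory.quotient _ _).map g) ≫ eY.hom, fun φ => ?_⟩
  obtain ⟨g', hg'⟩ := (CochainComplex.IsKInjective.Qh_map_bijective
    ((HomotopyCategory.quotient X.Modules (ComplexShape.up ℤ)).obj K) I).surjective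
      ((eq.app K).hom ≫ eP.hom ≫ φ ≫ eY.inv)
  obtain ⟨g, rfl⟩ := (HomotopyCategory.quotient X.Modules (ComplexShape.up ℤ)).map_surjective g'
  refine ⟨g, ?_⟩
  dsimp only
  rw [hg']
  simp

theorem bd_coproduct {up : Bool} {I : Type u} (K : I → DCoh.D X) [HasCoproduct K] (N : ℤ)
    (h : ∀ k i, Ray up N i → IsZero (DCoh.HD (K k) i)) : Bd up (∐ K) := by
  refine ⟨N, fun i hi => ?_⟩
  let F := fun k => DerivedCategory.Q.objPreimage (K k)
  let c₀ : Cofan F := Cofan.mk (∐ F) (Sigma.ι F)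
  let hc₀ : IsColimit c₀ := coproductIsCoproduct F
  obtain ⟨hQ⟩ := nonempty_isColimit_Q K hc₀ fun k => (DerivedCategory.Q.objObjPreimageIso (K k)).symm
  obtain ⟨e⟩ := exists_homology_coprod F hc₀ i
  refine IsZero.of_iso ?_ ((DerivedCategory.homologyFunctor X.Modules i).mapIso
      ((coproductIsCoproduct K).coconePointUniqueUpToIso hQ) ≪≫
    (DerivedCategory.homologyFunctorFactors X.Modules i).app c₀.pt ≪≫ e)
  refine (IsZero.iff_id_eq_zero _).2 (Sigma.hom_ext _ _ fun k => IsZero.eq_of_src ?_ _ _)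
  exact (h k i hi).of_iso (((DerivedCategory.homologyFunctorFactors X.Modules i).app (F k)).symm ≪≫
    (DerivedCategory.homologyFunctor X.Modules i).mapIso (DerivedCategory.Q.objObjPreimageIso (K k)))

variable [CompactSpace X] [QuasiSeparatedSpace X]

set_option maxHeartbeats 1000000 in
/-- One step of the tower killing the maps from the shifts of a perfect object. -/
theorem exists_kill_step {G : DCoh.D X} (hG : DCoh.IsPerfect G) (up : Bool) (Y : DCoh.D X)
    (hYq : DCoh.IsQCohD Y) (hYb : Bd (!up) Y) :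
    ∃ (Y' : DCoh.D X) (f : Y ⟶ Y'), DCoh.IsQCohD Y' ∧ Bd (!up) Y' ∧
      (∀ (j : ℤ) (a : G⟦j⟧ ⟶ Y), a ≫ f = 0) ∧
      ∀ E : DCoh.D X, (∃ N, ∀ i, Ray up N i → ∀ φ : G ⟶ E⟦i⟧, φ = 0) →
        ∃ N, ∀ i, Ray up N i → ∀ φ : Y ⟶ E⟦i⟧, ∃ φ' : Y' ⟶ E⟦i⟧, f ≫ φ' = φ := by
  obtain ⟨M, hM⟩ := van_of_bd hYq hYb G hG
  choose κ s hs using fun j : ℤ => exists_small_homs (G⟦j⟧) Y
  let I : Type u := Σ j : {j : ℤ // ¬ Ray (!up) M (-j)}, κ j.1
  let Gf : I → DCoh.D X := fun k => G⟦k.1.1⟧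
  haveI := hasCoproduct_D' Gf
  let y : (∐ Gf) ⟶ Y := Sigma.desc fun k => s k.1.1 k.2
  obtain ⟨Y', f, z, hT⟩ := distinguished_cocone_triangle y
  have hGq : ∀ j : ℤ, DCoh.IsQCohD (G⟦j⟧) := fun j => isQCohD_shift' (isQCohD_of_isPerfect hG) j
  have hCq : DCoh.IsQCohD (∐ Gf) := isQCohD_coproduct Gf fun k => hGq k.1.1
  have hCb : Bd (!up) (∐ Gf) := by
    obtain ⟨Ng, hNg⟩ := bd_of_isPerfect (!up) hG
    cases up
    · refine bd_coproduct Gf (Ng + M) fun k i hi => (hNg _ ?_).of_iso (hdShift G k.1.1 i)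
      have h := k.1.2
      simp [Ray] at h hi ⊢
      omega
    · refine bd_coproduct Gf (Ng + M) fun k i hi => (hNg _ ?_).of_iso (hdShift G k.1.1 i)
      have h := k.1.2
      simp [Ray] at h hi ⊢
      omega
  refine ⟨Y', f, isQCohD_obj₃' _ hT hCq hYq, Bd.obj₃ _ hT hCb hYb, fun j a => ?_, fun E hE => ?_⟩
  · by_cases hj : Ray (!up) M (-j)
    · rw [eq_zero_of_shift j a (hM _ hj), zero_comp]
    · obtain ⟨k, rfl⟩ := hs j a
      have h1 : s j k = Sigma.ι Gf ⟨⟨j, hj⟩, k⟩ ≫ y := (Sigma.ι_desc (f := Gf) (fun k : I => s k.1.1 k.2) ⟨⟨j, hj⟩, k⟩).symm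
      rw [h1, Category.assoc]
      exact (congrArg (Sigma.ι Gf ⟨⟨j, hj⟩, k⟩ ≫ ·) (comp_distTriang_mor_zero₁₂ _ hT)).trans comp_zero
  · obtain ⟨Ne, hNe⟩ := hE
    refine ⟨Ne - M, fun i hi φ => ?_⟩
    have hy : y ≫ φ = 0 := Sigma.hom_ext _ _ fun k => by
      rw [comp_zero]
      refine eq_zero_of_shift k.1.1 _ fun ψ => ?_
      rw [← cancel_mono (((shiftFunctorAdd' (DCoh.D X) i (-k.1.1) (i - k.1.1) (by omega)).app E).inv), zero_comp]
      refine hNe _ ?_ _
      have h := k.1.2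
      cases up <;> simp [Ray] at h hi ⊢ <;> omega
    obtain ⟨φ', hφ'⟩ := Triangle.yoneda_exact₂ _ hT φ hy
    exact ⟨φ', hφ'.symm⟩

set_option maxHeartbeats 1000000 in
/-- A perfect generator detects the vanishing for all perfect objects. -/
theorem van_of_generator {G : DCoh.D X} (hG : DCoh.IsPerfect G)
    (hgen : ∀ E : DCoh.D X, DCoh.IsQCohD E → (∀ (n : ℤ) (φ : G⟦n⟧ ⟶ E), φ = 0) → IsZero E)
    (up : Bool) (E : DCoh.D X) (hE : ∃ N, ∀ i, Ray up N i → ∀ φ : G ⟶ E⟦i⟧, φ = 0) : Van up E := by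
  classical
  intro P hP
  let St := {Y : DCoh.D X // DCoh.IsQCohD Y ∧ Bd (!up) Y}
  choose nY nf hnq hnb hkill hfac using fun s : St => exists_kill_step hG up s.1 s.2.1 s.2.2
  let st : ℕ → St := fun n => Nat.rec ⟨P, isQCohD_of_isPerfect hP, bd_of_isPerfect (!up) hP⟩
    (fun _ s => ⟨nY s, hnq s, hnb s⟩) n
  let Y : ULift.{u} ℕ → DCoh.D X := fun n => (st n.down).1
  let f : ∀ n : ℕ, Y ⟨n⟩ ⟶ Y ⟨n + 1⟩ := fun n => nf (st n)
  haveI := hasCoproduct_D' Y
  have hYq : ∀ n, DCoh.IsQCohD (Y n) := fun n => (st n.down).2.1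
  let sh : (∐ Y) ⟶ ∐ Y := Sigma.desc fun n => f n.down ≫ Sigma.ι Y ⟨n.down + 1⟩
  let d : (∐ Y) ⟶ ∐ Y := 𝟙 _ - sh
  obtain ⟨L, g, c, hT⟩ := distinguished_cocone_triangle d
  let π : ∀ n, (∐ Y) ⟶ Y n := fun n => sigmaProj (coproductIsCoproduct Y) n
  have hπs : ∀ n, Sigma.ι Y n ≫ π n = 𝟙 _ := fun n => inj_sigmaProj_self (coproductIsCoproduct Y) n
  have hπn : ∀ {i j : ULift.{u} ℕ}, j ≠ i → Sigma.ι Y j ≫ π i = 0 := fun h =>
    inj_sigmaProj_ne (coproductIsCoproduct Y) h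
  have hd0 : d ≫ π ⟨0⟩ = π ⟨0⟩ := by
    have : sh ≫ π ⟨0⟩ = 0 := Sigma.hom_ext _ _ fun n => by
      rw [Sigma.ι_desc_assoc, Category.assoc, hπn (fun h => absurd (congrArg ULift.down h) (Nat.succ_ne_zero _)),
        comp_zero, comp_zero]
    rw [Preadditive.sub_comp, this, Category.id_comp, sub_zero]
  have hd1 : ∀ n : ℕ, d ≫ π ⟨n + 1⟩ = π ⟨n + 1⟩ - π ⟨n⟩ ≫ f n := fun n => by
    have : sh ≫ π ⟨n + 1⟩ = π ⟨n⟩ ≫ f n := Sigma.hom_ext _ _ fun k => by
      rw [Sigma.ι_desc_assoc, Category.assoc]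
      by_cases hk : k = ⟨n⟩
      · subst hk
        rw [hπs, Category.comp_id, ← Category.assoc, hπs, Category.id_comp]
      · rw [hπn (fun h => hk (ULift.ext _ _ (Nat.succ_injective (congrArg ULift.down h)))), comp_zero,
          ← Category.assoc, hπn hk, zero_comp]
    rw [Preadditive.sub_comp, this, Category.id_comp]
  have habs : ∀ {Q : DCoh.D X}, DCoh.IsPerfect Q → ∀ α : Q ⟶ ∐ Y,
      ∃ T : Finset (ULift.{u} ℕ), α ≫ sigmaTrunc (coproductIsCoproduct Y) T = α := fun hQ α =>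
    absorbs_of_isPerfect hQ Y hYq α
  -- the homotopy colimit vanishes
  have hL : IsZero L := by
    refine hgen L (isQCohD_obj₃' _ hT (isQCohD_coproduct Y hYq) (isQCohD_coproduct Y hYq)) fun n φ => ?_
    have hc : φ ≫ c = 0 := by
      obtain ⟨η, hη⟩ : ∃ η : G⟦-(1 : ℤ) + n⟧ ⟶ ∐ Y, (shiftFunctor (DCoh.D X) (1 : ℤ)).map η =
          ((shiftFunctorAdd' (DCoh.D X) (-(1 : ℤ) + n) 1 n (by omega)).app G).inv ≫ φ ≫ c :=
        (shiftFunctor (DCoh.D X) (1 : ℤ)).map_surjective _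
      have hη0 : η = 0 := by
        have hηd : η ≫ d = 0 := by
          apply (shiftFunctor (DCoh.D X) (1 : ℤ)).map_injective
          rw [Functor.map_comp, hη, Functor.map_zero, Category.assoc, Category.assoc]
          exact (congrArg (fun t => _ ≫ φ ≫ t) (comp_distTriang_mor_zero₃₁ _ hT)).trans (by simp)
        obtain ⟨T, hTη⟩ := habs (isPerfect_shift hG _) η
        rw [← hTη]
        have hk : ∀ k : ℕ, η ≫ π ⟨k⟩ = 0 := fun k => by
          induction k with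
          | zero => rw [← hd0, ← Category.assoc, hηd, zero_comp]
          | succ k ih =>
            have h2 : η ≫ d ≫ π ⟨k + 1⟩ = 0 := by rw [← Category.assoc, hηd, zero_comp]
            rw [hd1, Preadditive.comp_sub, ← Category.assoc η (π ⟨k⟩), ih, zero_comp, sub_zero] at h2
            exact h2
        rw [sigmaTrunc, Preadditive.comp_sum]
        refine Finset.sum_eq_zero fun k _ => ?_
        rw [← Category.assoc]
        exact (congrArg (· ≫ _) (hk k.down)).trans zero_comp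
      rw [hη0, Functor.map_zero] at hη
      rw [← cancel_epi ((shiftFunctorAdd' (DCoh.D X) (-(1 : ℤ) + n) 1 n (by omega)).app G).inv, comp_zero]
      exact hη.symm
    obtain ⟨α, hα⟩ := Triangle.coyoneda_exact₃ _ hT φ hc
    obtain ⟨T, hTα⟩ := habs (isPerfect_shift hG n) α
    rw [hα]
    show α ≫ g = 0
    rw [← hTα, sigmaTrunc, Preadditive.comp_sum, Preadditive.sum_comp]
    refine Finset.sum_eq_zero fun k _ => ?_
    have hg : Sigma.ι Y k ≫ g = f k.down ≫ Sigma.ι Y ⟨k.down + 1⟩ ≫ g := by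
      have h0 : Sigma.ι Y k ≫ d ≫ g = 0 :=
        (congrArg (Sigma.ι Y k ≫ ·) (comp_distTriang_mor_zero₁₂ _ hT)).trans comp_zero
      simpa [d, sh, Preadditive.sub_comp, Preadditive.comp_sub, sub_eq_zero] using h0
    have hk : (α ≫ π k) ≫ f k.down = 0 := hkill (st k.down) n (α ≫ π k)
    show (α ≫ π k ≫ Sigma.ι Y k) ≫ g = 0
    rw [Category.assoc, Category.assoc, hg, ← Category.assoc (π k), ← Category.assoc α, ← Category.assoc α, hk,
      zero_comp]
  haveI : IsIso d := (Triangle.isZero₃_iff_isIso₁ _ hT).1 hL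
  -- a finite stage kills the identity
  let a : P ⟶ ∐ Y := Sigma.ι Y ⟨0⟩ ≫ inv d
  obtain ⟨T, hTa⟩ := habs hP a
  obtain ⟨n, hn⟩ : ∃ n : ℕ, (⟨n⟩ : ULift.{u} ℕ) ∉ T :=
    (Infinite.exists_notMem_finset (T.image ULift.down)).imp fun n hn h => hn (Finset.mem_image_of_mem ULift.down h)
  let F : ∀ n : ℕ, P ⟶ Y ⟨n⟩ := fun n => Nat.rec (𝟙 P) (fun k g => g ≫ f k) n
  have hF : ∀ k, a ≫ π ⟨k⟩ = F k := fun k => by
    induction k with
    | zero => rw [← hd0, Category.assoc, IsIso.inv_hom_id_assoc]; exact hπs _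
    | succ k ih =>
      have h2 : a ≫ d ≫ π ⟨k + 1⟩ = 0 := by
        rw [Category.assoc, IsIso.inv_hom_id_assoc]
        exact hπn (fun h => absurd (congrArg ULift.down h).symm (Nat.succ_ne_zero _))
      rw [hd1, Preadditive.comp_sub, sub_eq_zero, ← Category.assoc, ih] at h2
      exact h2
  have hFn : F n = 0 := by
    rw [← hF, ← hTa, sigmaTrunc, Preadditive.comp_sum, Preadditive.sum_comp]
    refine Finset.sum_eq_zero fun k hk => ?_
    show (a ≫ π k ≫ Sigma.ι Y k) ≫ π ⟨n⟩ = 0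
    simp only [Category.assoc]
    rw [@hπn ⟨n⟩ k (fun h => hn (h ▸ hk))]
    simp
  -- factor through the finite stages
  have hfacn : ∀ k : ℕ, ∃ N, ∀ i, Ray up N i → ∀ φ : P ⟶ E⟦i⟧, ∃ φ' : Y ⟨k⟩ ⟶ E⟦i⟧, F k ≫ φ' = φ := by
    intro k
    induction k with
    | zero => exact ⟨0, fun i _ φ => ⟨φ, Category.id_comp φ⟩⟩
    | succ k ih =>
      obtain ⟨N₁, h₁⟩ := ih
      obtain ⟨N₂, h₂⟩ := hfac (st k) E hE
      obtain ⟨N, hN⟩ := ray_inter up N₁ N₂
      refine ⟨N, fun i hi φ => ?_⟩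
      obtain ⟨φ₁, rfl⟩ := h₁ i (hN i hi).1 φ
      obtain ⟨φ₂, rfl⟩ := h₂ i (hN i hi).2 φ₁
      exact ⟨φ₂, Category.assoc _ _ _⟩
  obtain ⟨N, hN⟩ := hfacn n
  refine ⟨N, fun i hi φ => ?_⟩
  obtain ⟨φ', rfl⟩ := hN i hi φ
  rw [hFn, zero_comp]

end Groth.Agent.DCohMore
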