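import Groth.Agent.FittSheafLib.Basic
import Groth.Agent.FittLib.Minor
import Groth.Agent.ClSubLib.Annihilator
import Groth.Agent.QCohLib.FPSections
import Groth.Agent.S9216

/-!
# A finitely presented closed subscheme carrying a module of finite presentation
-/

set_option autoImplicit false
set_option linter.style.haveILetI false
set_option linter.unusedSectionVars false

universe u v

open CategoryTheory CategoryTheory.Limits AlgebraicGeometry TopologicalSpace

noncomputable section

namespace Groth.Agent.DCohMore

open Groth.Agent.FittLib in
/-- The Fitting ideals of a module of finite presentation are finitely generated. -/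
theorem fg_fitt {R : Type u} [CommRing R] {M : Type v} [AddCommGroup M] [Module R M]
    [Module.FinitePresentation R M] (k : ℕ) : (Fitt.ideal R M k).FG := by
  classical
  obtain ⟨n, x, hx⟩ := Module.Finite.exists_fin (R := R) (M := M)
  have hsurj : Function.Surjective (Fintype.linearCombination R x) := by
    rw [← LinearMap.range_eq_top, Fintype.range_linearCombination, hx]
  obtain ⟨G, hG⟩ := Module.FinitePresentation.fg_ker (Fintype.linearCombination R x) hsurj
  rw [ideal_eq_D x hx, D_eq_span_gen x (G : Set (Fin n → R)) hG]
  refine Submodule.fg_span ?_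
  let V : Finset (Fin n → R) := G ∪ Finset.univ.image fun j => Pi.single j 1
  refine Set.Finite.subset ((Fintype.piFinset fun _ : Fin n => V).finite_toSet.image
    fun a => Matrix.det (Matrix.of a)) ?_
  rintro _ ⟨a, T, -, ha, hu, rfl⟩
  refine ⟨fun i => a i, Fintype.mem_piFinset.2 fun i => ?_, rfl⟩
  by_cases hi : i ∈ T
  · exact Finset.mem_union_left _ (Finset.mem_coe.1 (ha i hi))
  · obtain ⟨j, hj⟩ := hu i hi
    exact Finset.mem_union_right _ (Finset.mem_image.2 ⟨j, Finset.mem_univ _, hj.symm⟩)

variable {X : Scheme.{u}}

/-- A module of finite presentation lives on a closed subscheme of finite presentation with the same support. -/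
theorem exists_fp_model (F : X.Modules) [Coh.IsQCoh F] (hF : CohB1.IsFP F) (hft : CohB1.IsFT F) :
    ∃ (T : Scheme.{u}) (i : T ⟶ X), IsClosedImmersion i ∧ LocallyOfFinitePresentation i ∧
      Set.range i = CohB1.support F ∧
      Nonempty ((Scheme.Modules.pushforward i).obj ((Scheme.Modules.pullback i).obj F) ≅ F) := by
  let I := Fitt.sheafIdeal F 0
  have hI : ∀ U, (I.ideal U).FG := fun U => by
    haveI := QCohLib.finitePresentation_sections F hF U.2
    rw [FittSheafLib.sheafIdeal_ideal F hft 0 U]
    exact fg_fitt 0
  have hsupp : Set.range I.subschemeι = CohB1.support F := by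
    rw [Scheme.IdealSheafData.range_subschemeι]
    ext x
    refine not_iff_not.1 ?_
    rw [SetLike.mem_coe, FittSheafLib.notMem_support_iff F hft 0 x]
    constructor
    · rintro ⟨g, hg⟩
      rw [Set.range_eq_empty g, Submodule.span_empty] at hg
      exact fun h => h (Submodule.subsingleton_iff (X.presheaf.stalk x) |>.1 (subsingleton_of_bot_eq_top hg))
    · intro h
      haveI : Subsingleton (F.presheaf.stalk x) := not_not.1 h
      exact ⟨Fin.elim0, Subsingleton.elim _ _⟩
  refine ⟨_, I.subschemeι, inferInstance, S9216.lfp_subschemeι I hI, hsupp,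
    ClSubLib.exists_iso_push_of_killed _ F ?_⟩
  rw [Scheme.IdealSheafData.ker_subschemeι]
  intro U a ha m
  haveI := QCohLib.finite_sections F hft U.2
  rw [FittSheafLib.sheafIdeal_ideal F hft 0 U] at ha
  exact Module.mem_annihilator.1 (FittLib.ideal_zero_le_annihilator ha) m

end Groth.Agent.DCohMore
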