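import Groth.Agent.DCohMore.BCTwistMain
import Groth.Agent.DCohMore.SuppClosedFP
import Groth.Agent.DCohMore.BvdBStep
import Groth.Agent.DCohMore.ThickGen
import Groth.Agent.DCohMore.RpushPerf
import Groth.Agent.DCohMore.RHomQC
import Groth.Agent.DCohMore.RpushAffine
import Groth.Agent.GenBCLib.Descent
import Groth.Agent.HilbObsLib.Ideal
import Groth.Agent.ExactConstrLib.LocFree
import Groth.Agent.S1118

/-!
# Perfectness of direct images of flat modules of finite presentation with proper support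
-/

set_option autoImplicit false
set_option linter.style.haveILetI false
set_option linter.unusedSectionVars false
set_option backward.isDefEq.respectTransparency false
set_option maxHeartbeats 1000000

universe u

open CategoryTheory Limits AlgebraicGeometry TopologicalSpace Pretriangulated ZeroObject
attribute [local instance] HasDerivedCategory.standard

noncomputable section

namespace Groth.Agent.DCohMore

open Groth.Agent.DRingLib Groth.Agent.DCohLib

variable {X S : Scheme.{u}}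

/-- An exact functor sending a generator to a perfect object sends all perfect objects to perfect objects. -/
theorem isPerfect_obj_of_generator [CompactSpace X] [QuasiSeparatedSpace X] (F : DCoh.D X ⥤ DCoh.D S)
    (hF : ExTri F) (hF0 : ∀ Z : DCoh.D X, IsZero Z → IsZero (F.obj Z)) {G : DCoh.D X} (hG : DCoh.IsPerfect G)
    (hgen : ∀ E : DCoh.D X, DCoh.IsQCohD E → (∀ (n : ℤ) (φ : G⟦n⟧ ⟶ E), φ = 0) → IsZero E)
    (h : DCoh.IsPerfect (F.obj G)) {P : DCoh.D X} (hP : DCoh.IsPerfect P) : DCoh.IsPerfect (F.obj P) := by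
  obtain ⟨E, hE, ⟨r⟩⟩ := exists_built_retract hG hgen hP
  refine isPerfect_of_retract (r.map F) ?_
  clear r
  have h0 : ∀ Z : DCoh.D X, IsZero Z → DCoh.IsPerfect (F.obj Z) := fun Z hZ =>
    isPerfect_of_perfOn (perfOn_of_isZero (hF0 Z hZ))
  have hstep : ∀ K : DCoh.D X, DCoh.IsPerfect (F.obj K) ↔ DCoh.IsPerfect (F.obj (K⟦(1 : ℤ)⟧)) := fun K => by
    obtain ⟨c, hc⟩ := hF _ (contractible_distinguished₂ K)
    exact ⟨fun hK => isPerfect_obj₃ _ hc hK (h0 _ (isZero_zero _)),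
      fun hK => isPerfect_obj₁ _ hc (h0 _ (isZero_zero _)) hK⟩
  have hsh : ∀ n : ℤ, DCoh.IsPerfect (F.obj (G⟦n⟧)) := fun n => by
    induction n with
    | zero => exact isPerfect_iso (F.mapIso ((shiftFunctorZero _ ℤ).app G).symm) h
    | succ i ih =>
      exact isPerfect_iso (F.mapIso ((shiftFunctorAdd' _ (i : ℤ) 1 ((i : ℤ) + 1) rfl).app G).symm) ((hstep _).1 ih)
    | pred i ih =>
      exact (hstep _).2 (isPerfect_iso (F.mapIso
        ((shiftFunctorAdd' _ (-(i : ℤ) - 1) 1 (-(i : ℤ)) (by omega)).app G)) ih)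
  induction hE with
  | shift m => exact hsh m
  | zero Z hZ => exact h0 Z hZ
  | iso e _ ih => exact isPerfect_iso (F.mapIso e) ih
  | ext T hT _ _ ih₁ ih₃ =>
    obtain ⟨c, hc⟩ := hF T hT
    exact isPerfect_obj₂ _ hc ih₁ ih₃

/-- Tensor products with isomorphic modules agree. -/
theorem nonempty_lTensorMod_congr {M N : X.Modules} (e : M ≅ N) [DCoh.HasLTensorMod M] [DCoh.HasLTensorMod N]
    (E : DCoh.D X) : Nonempty ((DCoh.LTensorMod M).obj E ≅ (DCoh.LTensorMod N).obj E) := by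
  obtain ⟨a⟩ := nonempty_lTensorMod_single M E
  obtain ⟨b⟩ := nonempty_lTensorMod_single N E
  obtain ⟨c⟩ := nonempty_lTensor_of_iso (E := sgl₀ N) (E' := sgl₀ M)
    (DerivedCategory.Q.mapIso ((HomologicalComplex.single X.Modules (ComplexShape.up ℤ) 0).mapIso e))
  exact ⟨a ≪≫ c.app E ≪≫ b.symm⟩

/-- A generator pulls back along an affine morphism. -/
theorem generator_lpull {X₀ : Scheme.{u}} (q : X ⟶ X₀) [IsAffineHom q] [DCoh.HasLpull q] [DCoh.HasRpush q]
    (P : DCoh.D X₀)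
    (hgen : ∀ E : DCoh.D X₀, DCoh.IsQCohD E → (∀ (n : ℤ) (φ : P ⟶ E⟦n⟧), φ = 0) → IsZero E)
    (E : DCoh.D X) (hE : DCoh.IsQCohD E) (h : ∀ (n : ℤ) (φ : ((DCoh.Lpull q).obj P)⟦n⟧ ⟶ E), φ = 0) :
    IsZero E := by
  have hR : DCoh.IsQCohD ((DCoh.Rpush q).obj E) := isQCohD_rpush q E hE
  haveI : (DCoh.Rpush q).IsRightAdjoint := (lpullRpushAdj q).isRightAdjoint
  have hz : IsZero ((DCoh.Rpush q).obj E) := hgen _ hR fun n => by
    intro φ
    haveI : SiteCmp.HasRpushD (ModSite.RMor.ofScheme q) := ‹DCoh.HasRpush q›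
    obtain ⟨_, _⟩ := SiteCmpLib.exists_triangulated_rpushD (ModSite.RMor.ofScheme q)
    let eS : (DCoh.Rpush q).obj (E⟦n⟧) ≅ ((DCoh.Rpush q).obj E)⟦n⟧ :=
      ((SiteCmp.RpushD (ModSite.RMor.ofScheme q)).commShiftIso n).app E
    suffices h1 : ∀ ψ : P ⟶ ((DCoh.Rpush q).obj E)⟦n⟧, ψ = 0 from h1 φ
    intro ψ
    rw [← cancel_mono eS.inv, zero_comp]
    apply ((lpullRpushAdj q).homEquiv _ _).symm.injective
    have h2 : ∀ χ : (DCoh.Lpull q).obj P ⟶ E⟦n⟧, χ = 0 := hom_shift_left h n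
    exact (h2 _).trans (h2 _).symm
  have h0' : DCoh.IsQCohD (0 : DCoh.D X) := fun k =>
    (PullbackMod.isQCoh_and_isFP_of_isFinLocFree _ (isFinLocFree_of_isZero
      ((DerivedCategory.homologyFunctor X.Modules k).map_isZero (isZero_zero _)))).1
  haveI := isIso_of_isIso_rpush q hE h0' (0 : E ⟶ 0)
    ⟨0, hz.eq_of_src _ _, ((DCoh.Rpush q).map_isZero (isZero_zero _)).eq_of_src _ _⟩
  exact (isZero_zero _).of_iso (asIso (0 : E ⟶ 0))

/-- The proper case over an affine base. -/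
theorem isPerfect_rpush_lTensorMod_proper {A : CommRingCat.{u}} (f : X ⟶ Spec A) [IsProper f]
    [LocallyOfFinitePresentation f] [DCoh.HasRpush f] (E : DCoh.D X) (hE : DCoh.IsPerfect E) (G : X.Modules)
    (hGq : Coh.IsQCoh G) (hG : CohB1.IsFP G) (hflat : FlatMod.IsFlatOver f G) [DCoh.HasLTensorMod G] :
    DCoh.IsPerfect ((DCoh.Rpush f).obj ((DCoh.LTensorMod G).obj E)) := by
  haveI := hGq
  obtain ⟨R, φ, X₀, f₀, q, F₀, hR, hp₀, hsq, hq₀, hfp₀, hfl₀, ⟨eG⟩⟩ :=
    GenBCLib.exists_noetherian_family f G hG hflat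
  haveI := hR
  haveI := hp₀
  haveI := hq₀
  haveI : IsAffineHom (Spec.map φ) := isAffineHom_of_isAffine _
  haveI : IsAffineHom q := MorphismProperty.of_isPullback (P := @IsAffineHom) hsq.flip inferInstance
  haveI : CompactSpace X₀ := QuasiCompact.compactSpace_of_compactSpace f₀
  haveI : QuasiSeparatedSpace X₀ := quasiSeparatedSpace_of_quasiSeparated f₀
  haveI : CompactSpace X := QuasiCompact.compactSpace_of_compactSpace f
  haveI : QuasiSeparatedSpace X := quasiSeparatedSpace_of_quasiSeparated f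
  obtain ⟨P, hP, -, hgen⟩ := gen_main (X := X₀) Set.univ isClosed_univ (by simp)
  haveI := hasLpull q
  haveI := BC.hasRpush q
  haveI := hasLpull (Spec.map φ)
  haveI := BC.hasRpush f₀
  haveI : LocallyOfFiniteType f₀ := inferInstance
  have huniv : ClSub.IsProperOver f₀ (Set.univ : Set X₀) :=
    (ClSubLib.isProperOver_iff f₀ (𝟙 X₀) (Set.range_id)).2 (by rwa [Category.id_comp])
  have hft₀ : CohB1.IsFT F₀ := ExactConstrLib.isFT_of_isFP hfp₀
  have h0 : DCoh.IsPerfect ((DCoh.Rpush f₀).obj ((DCoh.LTensorMod F₀).obj P)) :=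
    isPerfect_rpush_lTensorMod' f₀ P hP F₀ ⟨hq₀, hft₀⟩ hfl₀
      (ClSubLib.isProperOver_subset f₀ huniv (PullbackMod.isClosed_support_of_isFT hft₀) (Set.subset_univ _))
  obtain ⟨eBC⟩ := BC.nonempty_twisted_baseChange f₀ (Spec.map φ) f q hsq F₀ hq₀ hfl₀ P (isQCohD_of_isPerfect hP)
  obtain ⟨t⟩ := nonempty_lTensorMod_congr eG ((DCoh.Lpull q).obj P)
  refine isPerfect_obj_of_generator (DCoh.LTensorMod G ⋙ DCoh.Rpush f)
    ((BC.exTri_lTensorMod G).comp (BC.exTri_rpush f)) (fun Z hZ => ?_) (isPerfect_lpull q P hP)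
    (fun E' hE' h => generator_lpull q P (fun W hW h' => hgen W hW (fun _ x _ => trivial) h') E' hE' h)
    (isPerfect_iso (eBC ≪≫ (DCoh.Rpush f).mapIso t) (isPerfect_lpull _ _ h0)) hE
  haveI : (DCoh.Rpush f).IsRightAdjoint := haveI := hasLpull f; (lpullRpushAdj f).isRightAdjoint
  exact (DCoh.Rpush f).map_isZero (BC.isZero_lTensorMod G hZ)

/-- Tensor products with direct images from a closed subscheme. -/
theorem nonempty_lTensorMod_pushforward {T : Scheme.{u}} (i : T ⟶ X) [IsClosedImmersion i] [DCoh.HasRpush i]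
    [DCoh.HasLpull i] (M : T.Modules) (hM : Coh.IsQCoh M) [DCoh.HasLTensorMod M]
    [DCoh.HasLTensorMod ((Scheme.Modules.pushforward i).obj M)] (E : DCoh.D X) (hE : DCoh.IsQCohD E) :
    Nonempty ((DCoh.LTensorMod ((Scheme.Modules.pushforward i).obj M)).obj E ≅
      (DCoh.Rpush i).obj ((DCoh.LTensorMod M).obj ((DCoh.Lpull i).obj E))) := by
  haveI := hM
  let K := (resX X).obj (DerivedCategory.Q.objPreimage E)
  have hK : DCoh.IsKFlat K := isKFlat_resX _
  let eK : DerivedCategory.Q.obj K ≅ E := resXIso E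
  let F := sgl₀ ((Scheme.Modules.pushforward i).obj M)
  let N := (pullCx i).obj K
  have hN : DCoh.IsKFlat N := isKFlat_pullback i hK
  haveI := BC.isIso_rhoN_app i 0 M
  let ρ : DerivedCategory.Q.obj F ≅ (DCoh.Rpush i).obj (DerivedCategory.Q.obj (sgl₀ M)) :=
    asIso ((BC.rhoN i 0).app M)
  obtain ⟨a⟩ := nonempty_lTensorMod_single ((Scheme.Modules.pushforward i).obj M) (DerivedCategory.Q.obj K)
  obtain ⟨s⟩ := nonempty_symCxSch K F
  obtain ⟨r⟩ := Groth.Agent.S1118.result i (DerivedCategory.Q.obj (sgl₀ M)) (isQCohD_sgl₀ M hM) K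
    (TildeD.isQCohD_of_iso eK.symm hE) N ⟨(lpullIsoK i K hK).symm⟩
  obtain ⟨s'⟩ := nonempty_symCxSch (sgl₀ M) N
  obtain ⟨b⟩ := nonempty_lTensorMod_single M (DerivedCategory.Q.obj N)
  exact ⟨(DCoh.LTensorMod _).mapIso eK.symm ≪≫ a ≪≫ lTensorIso F K hK ≪≫ DerivedCategory.Q.mapIso s ≪≫
    ((lTensorQIso K hK).app F).symm ≪≫ (DCoh.LTensorCx K).mapIso ρ ≪≫ r ≪≫
    (DCoh.Rpush i).mapIso ((lTensorQIso N hN).app (sgl₀ M) ≪≫ DerivedCategory.Q.mapIso s' ≪≫
      (lTensorIso (sgl₀ M) N hN).symm ≪≫ b.symm ≪≫ (DCoh.LTensorMod M).mapIso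
        ((lpullIsoK i K hK).symm ≪≫ (DCoh.Lpull i).mapIso eK))⟩

/-- The general case over an affine base. -/
theorem isPerfect_rpush_lTensorMod_affine {A : CommRingCat.{u}} (f : X ⟶ Spec A) [LocallyOfFinitePresentation f]
    [QuasiCompact f] [QuasiSeparated f] [DCoh.HasRpush f] (E : DCoh.D X) (hE : DCoh.IsPerfect E) (G : X.Modules)
    (hG : CohB1.IsFP G) (hflat : FlatMod.IsFlatOver f G) (hsupp : ClSub.IsProperOver f (CohB1.support G))
    [DCoh.HasLTensorMod G] :
    DCoh.IsPerfect ((DCoh.Rpush f).obj ((DCoh.LTensorMod G).obj E)) := by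
  haveI hGq : Coh.IsQCoh G := FibreDepth.isQCoh_of_isFP G hG
  obtain ⟨T, i, hi, hlfp, hr, ⟨e⟩⟩ := exists_fp_model G hG (ExactConstrLib.isFT_of_isFP hG)
  haveI := hi
  haveI := hlfp
  haveI : IsProper (i ≫ f) := (ClSubLib.isProperOver_iff f i hr).1 hsupp
  let M := (Scheme.Modules.pullback i).obj G
  haveI : Coh.IsQCoh M := PullbackMod.isQCoh_pullback i G
  have hflatM : FlatMod.IsFlatOver (i ≫ f) M :=
    (HilbObsLib.isFlatOver_pushforward_iff i f M).1 (isFlatOver_of_iso f e.symm hflat)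
  haveI := hasLpull i
  haveI := BC.hasRpush i
  haveI := BC.hasRpush (i ≫ f)
  obtain ⟨c⟩ := nonempty_rpushCompIso i f
  obtain ⟨a⟩ := nonempty_lTensorMod_congr e.symm E
  obtain ⟨b⟩ := nonempty_lTensorMod_pushforward i M ‹_› E (isQCohD_of_isPerfect hE)
  exact isPerfect_iso (((DCoh.Rpush f).mapIso (a ≪≫ b)) ≪≫ c.app _).symm
    (isPerfect_rpush_lTensorMod_proper (i ≫ f) _ (isPerfect_lpull i E hE) M ‹_› (PullbackMod.isFP_pullback i G hG) hflatM)

/-- Derived direct images of perfect objects tensored with flat modules of finite presentation with proper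
support are perfect. -/
theorem isPerfect_rpush_lTensorMod_fp (f : X ⟶ S) [LocallyOfFinitePresentation f] [QuasiCompact f]
    [QuasiSeparated f] [DCoh.HasRpush f] (E : DCoh.D X) (hE : DCoh.IsPerfect E) (G : X.Modules)
    (hG : CohB1.IsFP G) (hflat : FlatMod.IsFlatOver f G) (hsupp : ClSub.IsProperOver f (CohB1.support G))
    [DCoh.HasLTensorMod G] :
    DCoh.IsPerfect ((DCoh.Rpush f).obj ((DCoh.LTensorMod G).obj E)) := by
  refine isPerfect_of_local fun x => ?_
  obtain ⟨_, ⟨V : S.Opens, hV, rfl⟩, hx, -⟩ :=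
    S.isBasis_affineOpens.exists_subset_of_mem_open (a := x) (Set.mem_univ x) isOpen_univ
  let fV := (f ∣_ V) ≫ hV.isoSpec.hom
  have hpb : IsPullback (f ⁻¹ᵁ V).ι fV f (hV.isoSpec.inv ≫ V.ι) :=
    (isPullback_morphismRestrict f V).flip.of_iso (Iso.refl _) (Iso.refl _) hV.isoSpec
      (Iso.refl _) (by simp) (by simp [fV]) (by simp) (by simp)
  haveI : QuasiCompact fV := MorphismProperty.of_isPullback (P := @QuasiCompact) hpb ‹_›
  haveI : QuasiSeparated fV := MorphismProperty.of_isPullback (P := @QuasiSeparated) hpb ‹_›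
  haveI : LocallyOfFinitePresentation fV :=
    MorphismProperty.of_isPullback (P := @LocallyOfFinitePresentation) hpb ‹_›
  let U := f ⁻¹ᵁ V
  let GU := (Scheme.Modules.restrictFunctor U.ι).obj G
  have hsU : CohB1.support GU = U.ι.base ⁻¹' CohB1.support G := Set.ext fun x =>
    not_congr ((Scheme.Modules.restrictStalkNatIso U.ι x).app G).addCommGroupIsoToAddEquiv.toEquiv.subsingleton_congr
  have hflU : FlatMod.IsFlatOver fV GU :=
    isFlatOver_of_iso fV ((Scheme.Modules.restrictFunctorIsoPullback U.ι).app G).symm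
      (BC.isFlatOver_pullback_chart f U.ι fV (hV.isoSpec.inv ≫ V.ι) hpb.w G hflat)
  have hsuppU : ClSub.IsProperOver fV (CohB1.support GU) := by
    rw [hsU]
    exact ClSubLib.isProperOver_baseChange f _ U.ι fV hpb hsupp
  haveI := BC.hasRpush fV
  haveI := BC.hasRpush (f ∣_ V)
  haveI := hasLpull hV.isoSpec.hom
  haveI := BC.hasRpush hV.isoSpec.hom
  haveI : DCoh.HasRpush ((f ∣_ V) ≫ hV.isoSpec.hom) := ‹DCoh.HasRpush fV›
  have h := isPerfect_rpush_lTensorMod_affine fV ((DCoh.restrictD U.ι).obj E) (isPerfect_restrict U.ι hE) GU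
    (isFP_restrict U.ι hG) hflU hsuppU
  obtain ⟨eV⟩ := Groth.Agent.DCohLib.nonempty_restrictD_rpush f V
  obtain ⟨t⟩ := nonempty_restrict_lTensorMod U E G
  obtain ⟨c⟩ := nonempty_rpushCompIso (f ∣_ V) hV.isoSpec.hom
  refine ⟨V, V.ι, inferInstance, ⟨x, hx⟩, rfl, ?_⟩
  have h1 : DCoh.IsPerfect ((DCoh.Rpush (f ∣_ V)).obj ((DCoh.LTensorMod GU).obj ((DCoh.restrictD U.ι).obj E))) := by
    let K := (DCoh.Rpush (f ∣_ V)).obj ((DCoh.LTensorMod GU).obj ((DCoh.restrictD U.ι).obj E))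
    refine isPerfect_iso ?_ (isPerfect_restrict hV.isoSpec.hom h)
    exact (DCoh.restrictD hV.isoSpec.hom).mapIso ((c.app _).symm ≪≫ (rpushIsoRestrict hV.isoSpec).app _) ≪≫
      ((restrictDEquiv hV.isoSpec).counitIso.app K)
  exact isPerfect_iso ((eV.app _) ≪≫ (DCoh.Rpush (f ∣_ V)).mapIso t).symm h1

end Groth.Agent.DCohMore
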