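import Groth.Agent.DCohMore.RHomCoh
import Groth.Agent.DCohLib.PerfCrit
import Groth.Agent.DCohLib.FreeLocus
import Groth.Agent.RegLocal.GlobalDim

/-!
# Bounded complexes with coherent cohomology on regular schemes are perfect
-/

set_option autoImplicit false
set_option backward.isDefEq.respectTransparency false
set_option linter.style.haveILetI false
set_option linter.unusedSectionVars false
set_option maxHeartbeats 1000000

universe u

open CategoryTheory CategoryTheory.Limits AlgebraicGeometry TopologicalSpace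

attribute [local instance] HasDerivedCategory.standard

noncomputable section

namespace Groth.Agent.DCohMore

open Groth.Agent.DCohLib

variable {U : Scheme.{u}} {P : CochainComplex U.Modules ℤ}

/-- A high enough syzygy over a local ring of finite global dimension is free. -/
theorem free_stalk_syzygy (hP : ∀ n, FlatMod.IsFinLocFree (P.X n)) (w : U) (d : ℕ)
    (hgl : ∀ M : ModuleCat.{u} (U.presheaf.stalk w), HasProjectiveDimensionLT M (d + 1)) (a : ℤ)
    (hex : ∀ i, a - d ≤ i → i < a → P.ExactAt i) :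
    Module.Free (U.presheaf.stalk w) ((cokernel (P.d (a - d - 1) (a - d))).presheaf.stalk w) := by
  have h : ∀ (k n : ℕ), k + n = d → ∀ j : ℤ, j = a - k →
      HasProjectiveDimensionLT ((stkF w).obj (cokernel (P.d (j - 1) j))) (n + 1) := by
    intro k
    induction k with
    | zero =>
      intro n hn j _
      obtain rfl : n = d := by omega
      exact hgl _
    | succ k ih =>
      intro n hn j hj
      let f : cokernel (P.d (j - 1) j) ⟶ P.X (j + 1) := cokernel.desc _ (P.d j (j + 1)) (P.d_comp_d _ _ _)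
      let S₀ := P.sc' (j - 1) j (j + 1)
      let eH : kernel f ≅ P.homology j := S₀.homologyIsoKernelDesc.symm ≪≫
        (P.homologyIsoSc' (j - 1) j (j + 1) (by simp) (by simp)).symm
      haveI : Mono f := Preadditive.mono_of_kernel_zero (by
        apply IsZero.eq_of_src
        exact ((hex j (by omega) (by omega)).isZero_homology).of_iso eH)
      let S : ShortComplex U.Modules := ShortComplex.mk f (cokernel.π (P.d j (j + 1))) (by
        rw [← cancel_epi (cokernel.π (P.d (j - 1) j))]
        simp [f])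
      have hS : S.ShortExact :=
        { exact := by
            rw [ShortComplex.exact_iff_exact_up_to_refinements]
            intro W x hx
            obtain ⟨W', p, hp, y, hy⟩ := (ShortComplex.exact_of_g_is_cokernel
              (ShortComplex.mk _ _ (cokernel.condition (P.d j (j + 1))))
              (cokernelIsCokernel _)).exact_up_to_refinements x hx
            exact ⟨W', p, hp, y ≫ cokernel.π _, by simpa [S, f] using hy⟩
          mono_f := inferInstanceAs (Mono f)
          epi_g := inferInstanceAs (Epi (cokernel.π (P.d j (j + 1)))) }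
      have hS' := hS.map_of_exact (stkF w)
      haveI : Module.Free (U.presheaf.stalk w) ((P.X (j + 1)).presheaf.stalk w) :=
        (free_finite_stalk_of_flf (hP (j + 1)) w).1
      haveI : Module.Projective (U.presheaf.stalk w) ((stkF w).obj (P.X (j + 1))) :=
        inferInstanceAs (Module.Projective (U.presheaf.stalk w) ((P.X (j + 1)).presheaf.stalk w))
      haveI : CategoryTheory.Projective ((stkF w).obj (P.X (j + 1))) :=
        (IsProjective.iff_projective _).1 ‹_›
      have h3 := ih (n + 1) (by omega) (j + 1) (by push_cast at hj; omega)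
      rw [add_sub_cancel_right] at h3
      haveI : HasProjectiveDimensionLT (S.map (stkF w)).X₂ 1 :=
        inferInstanceAs (HasProjectiveDimensionLT ((stkF w).obj (P.X (j + 1))) 1)
      exact hS'.hasProjectiveDimensionLT_X₁ (n + 1)
        (hasProjectiveDimensionLT_of_ge _ 1 (n + 1) (by omega)) h3
  have h1 := h d 0 (by omega) (a - d) rfl
  haveI : CategoryTheory.Projective ((stkF w).obj (cokernel (P.d (a - d - 1) (a - d)))) :=
    projective_iff_hasProjectiveDimensionLT_one.2 h1
  haveI : Module.Projective (U.presheaf.stalk w) ((cokernel (P.d (a - d - 1) (a - d))).presheaf.stalk w) :=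
    (IsProjective.iff_projective ((stkF w).obj (cokernel (P.d (a - d - 1) (a - d))))).2 ‹_›
  haveI := isQCoh_coker_d hP (a - d - 1) (a - d)
  haveI := FlatLocus.finite_stalk _ (isFP_coker_d hP (a - d - 1) (a - d)) w
  exact Module.free_of_flat_of_isLocalRing

/-- Approximating by a strictly perfect complex with locally free cokernel in degree `i`. -/
theorem perfOn_of_approx' {G E : CochainComplex U.Modules ℤ} (β : G ⟶ E) (hG : DCoh.IsStrictlyPerfect G)
    (i : ℤ) [E.IsStrictlyGE i] (hc : FlatMod.IsFinLocFree (cokernel (G.d (i - 1) i)))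
    (hβ : ∀ n, i ≤ n → IsIso (HomologicalComplex.homologyMap β n)) :
    PerfOn (DerivedCategory.Q.obj E) := by
  obtain ⟨⟨c, d, hcd⟩, hGf⟩ := hG
  let γ : G.truncGE i ⟶ E := CochainComplex.truncGEMap β i ≫ inv (E.πTruncGE i)
  have hγ : G.πTruncGE i ≫ γ = β := by
    show G.πTruncGE i ≫ CochainComplex.truncGEMap β i ≫ inv (E.πTruncGE i) = β
    rw [← Category.assoc]
    erw [HomologicalComplex.πTruncGE_naturality]
    erw [Category.assoc, IsIso.hom_inv_id, Category.comp_id]
  haveI : QuasiIso γ := ⟨fun n => by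
    by_cases hn : i ≤ n
    · haveI : QuasiIsoAt (G.πTruncGE i) n := by
        obtain ⟨k, rfl⟩ : ∃ k : ℕ, i + k = n := ⟨(n - i).toNat, by omega⟩
        exact inferInstanceAs (QuasiIsoAt (HomologicalComplex.πTruncGE G _)
          ((ComplexShape.embeddingUpIntGE i).f k))
      rw [← quasiIsoAt_iff_comp_left (G.πTruncGE i) γ, hγ, quasiIsoAt_iff_isIso_homologyMap]
      exact hβ n hn
    · rw [quasiIsoAt_iff_exactAt γ n (ShortComplex.exact_of_isZero_X₂ _
        (CochainComplex.isZero_of_isStrictlyGE (G.truncGE i) i n (by omega)))]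
      exact ShortComplex.exact_of_isZero_X₂ _ (CochainComplex.isZero_of_isStrictlyGE E i n (by omega))⟩
  haveI : IsIso (DerivedCategory.Q.map γ) :=
    (DerivedCategory.isIso_Q_map_iff_quasiIso (C := U.Modules) _).2 ‹_›
  refine ⟨G.truncGE i, ⟨⟨i, d + (i - d).toNat, fun n hn => ?_⟩, fun n => ?_⟩,
    ⟨asIso (DerivedCategory.Q.map γ)⟩⟩
  · rcases hn with hn | hn
    · exact CochainComplex.isZero_of_isStrictlyGE _ i n hn
    · exact (hcd n (Or.inr (by omega))).of_iso (CochainComplex.truncGEXIso G i n (by omega))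
  · rcases lt_trichotomy n i with hn | hn | hn
    · exact isFinLocFree_of_isZero (CochainComplex.isZero_of_isStrictlyGE (G.truncGE i) i n hn)
    · subst hn
      exact isFinLocFree_iso (((colimit.isColimit _).coconePointUniqueUpToIso
        (G.opcyclesIsCokernel (n - 1) n (by simp))) ≪≫ (CochainComplex.truncGEXIsoOpcycles G n).symm) hc
    · exact isFinLocFree_iso (CochainComplex.truncGEXIso G i n hn).symm (hGf n)

theorem isPerfect_of_regular {X : Scheme.{u}} [IsLocallyNoetherian X]
    (hreg : ∀ x : X, IsRegularLocalRing (X.presheaf.stalk x))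
    (K : DCoh.D X) (a b : ℤ) [K.IsGE a] [K.IsLE b] (hK : DCoh.IsCohD K) : DCoh.IsPerfect K := by
  refine isPerfect_of_local fun x => ?_
  haveI := hreg x
  obtain ⟨d, hd⟩ : ∃ d : ℕ, ringKrullDim (X.presheaf.stalk x) = d :=
    ⟨_, IsRegularLocalRing.spanFinrank_maximalIdeal.symm⟩
  let i₀ : ℤ := a - d
  obtain ⟨V, hx, G, α, hG, hα⟩ := (isPseudoCoherentD_iff _ K).1 (isPseudoCoherentD_of_coh K b hK (i₀ - 1)) x
  let F := DerivedCategory.Q.objPreimage K
  let eF : DerivedCategory.Q.obj F ≅ K := DerivedCategory.Q.objObjPreimageIso K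
  haveI : F.IsGE a := by
    rw [← DerivedCategory.isGE_Q_obj_iff]
    exact DerivedCategory.TStructure.t.isGE_of_iso eF.symm a
  haveI : QuasiIso (F.πTruncGE a) := (F.quasiIso_πTruncGE_iff a).mpr inferInstance
  haveI : IsIso (DerivedCategory.Q.map (F.πTruncGE a)) :=
    (DerivedCategory.isIso_Q_map_iff_quasiIso (C := X.Modules) _).2 inferInstance
  let F₁ := (resCx V.ι).obj (F.truncGE a)
  let e₁ : DerivedCategory.Q.obj F₁ ≅ (DCoh.restrictD V.ι).obj K :=
    (restrictDQ V.ι _).symm ≪≫ (DCoh.restrictD V.ι).mapIso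
      ((asIso (DerivedCategory.Q.map (F.πTruncGE a))).symm ≪≫ eF)
  obtain ⟨W, hW, β, hβ⟩ := exists_open_represent hG (α ≫ e₁.inv) (⟨x, hx⟩ : V)
  let G₁ := (resCx W.ι).obj G
  let F₂ := (resCx W.ι).obj F₁
  have hm : MIso (i₀ - 1) (DerivedCategory.Q.map β) := by
    have hQ : DerivedCategory.Q.map β = (restrictDQ W.ι G).inv ≫
        (DCoh.restrictD W.ι).map (α ≫ e₁.inv) ≫ (restrictDQ W.ι F₁).hom := by
      rw [hβ]
      simp [restrictDQ]
    rw [hQ]
    exact (mIso_of_isIso _ _).comp
      (((hα.comp (mIso_of_isIso _ e₁.inv)).restrict W.ι).comp (mIso_of_isIso _ _))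
  have hiso : ∀ n, i₀ ≤ n → IsIso (HomologicalComplex.homologyMap β n) := fun n hn =>
    (map_homologyFunctor_Q β n).1.1 (((mIso_iff _ _).1 hm).1 n (by omega))
  have hF₂ : ∀ n, n < a → IsZero (F₂.X n) := fun n hn =>
    isZero_resCx W.ι (isZero_resCx V.ι (CochainComplex.isZero_of_isStrictlyGE (F.truncGE a) a n hn))
  have hG₁ : DCoh.IsStrictlyPerfect G₁ := isStrictlyPerfect_restrict W.ι hG
  have hex : ∀ n, a - d ≤ n → n < a → G₁.ExactAt n := fun n h1 h2 => by
    haveI : IsIso (HomologicalComplex.homologyMap β n) := hiso n h1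
    rw [HomologicalComplex.exactAt_iff_isZero_homology]
    exact (ShortComplex.isZero_homology_of_isZero_X₂ (F₂.sc n) (hF₂ n h2)).of_iso
      (asIso (HomologicalComplex.homologyMap β n))
  -- the stalk at `x`
  let w : (W : Scheme.{u}) := ⟨⟨x, hx⟩, hW⟩
  let j : (W : Scheme.{u}) ⟶ X := W.ι ≫ V.ι
  let σ : X.presheaf.stalk x ≅ (W : Scheme.{u}).presheaf.stalk w := asIso (j.stalkMap w)
  haveI : IsRegularLocalRing ((W : Scheme.{u}).presheaf.stalk w) :=
    IsRegularLocalRing.of_ringEquiv σ.commRingCatIsoToRingEquiv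
  have hd' : ringKrullDim ((W : Scheme.{u}).presheaf.stalk w) = d := by
    rw [← ringKrullDim_eq_of_ringEquiv σ.commRingCatIsoToRingEquiv, hd]
  obtain ⟨W', hW', hfree⟩ := exists_nhd_flf_coker hG₁.2 w i₀
    (free_stalk_syzygy hG₁.2 w d (RegLocal.hasProjectiveDimensionLT _ d hd') a hex)
  refine ⟨W', W'.ι ≫ j, inferInstance, ⟨w, hW'⟩, rfl, isPerfect_of_perfOn ?_⟩
  let F₃ := (resCx W'.ι).obj F₂
  haveI : F₃.IsStrictlyGE i₀ :=
    (CochainComplex.isStrictlyGE_iff _ _).2 fun n hn => isZero_resCx W'.ι (hF₂ n (by omega))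
  have h3 := perfOn_of_approx' ((resCx W'.ι).map β) (isStrictlyPerfect_restrict W'.ι hG₁) i₀
    (isFinLocFree_iso (PreservesCokernel.iso (Scheme.Modules.restrictFunctor W'.ι) (G₁.d (i₀ - 1) i₀)) hfree)
    (fun n hn => by
      haveI : QuasiIsoAt β n := (quasiIsoAt_iff_isIso_homologyMap _ _).2 (hiso n hn)
      exact (quasiIsoAt_iff_isIso_homologyMap _ _).1 inferInstance)
  exact h3.of_iso ((restrictDQ W'.ι F₂).symm ≪≫ (DCoh.restrictD W'.ι).mapIso ((restrictDQ W.ι F₁).symm ≪≫
      (DCoh.restrictD W.ι).mapIso e₁ ≪≫ ((restrictDComp W.ι V.ι).app K).symm) ≪≫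
    ((restrictDComp W'.ι j).app K).symm)

end Groth.Agent.DCohMore
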