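import Groth.Agent.DCohMore.BCNat
import Groth.Agent.DCohMore.TensorCoh
import Groth.Agent.DCohLib.TensorMod
import Groth.Agent.DCohLib.TensorPull
import Groth.Agent.DCohLib.LpullTensor
import Groth.Agent.DCohLib.FlatCoker
import Groth.Agent.SiteBase.Projection

/-!
# The comparison of derived inverse images and derived tensor products with a module
-/

set_option autoImplicit false
set_option linter.style.haveILetI false
set_option linter.unusedSectionVars false
set_option backward.isDefEq.respectTransparency false
set_option maxHeartbeats 1000000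

universe u

open CategoryTheory Limits AlgebraicGeometry TopologicalSpace
attribute [local instance] HasDerivedCategory.standard

noncomputable section

namespace Groth.Agent.DCohMore.BC

open Groth.Agent.DCohLib

variable {X Y : Scheme.{u}}

/-- Tensor products with a module, on complexes. -/
abbrev tensCx (M : X.Modules) : CochainComplex X.Modules ℤ ⥤ CochainComplex X.Modules ℤ :=
  (DCoh.tensorRightMod M).mapHomologicalComplex (ComplexShape.up ℤ)

/-- The natural map from the derived tensor product of a complex to the tensor product. -/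
def tensNat (M : X.Modules) [DCoh.HasLTensorMod M] :
    DerivedCategory.Q ⋙ DCoh.LTensorMod M ⟶ tensCx M ⋙ DerivedCategory.Q :=
  Functor.whiskerRight (DerivedCategory.quotientCompQhIso X.Modules).inv (DCoh.LTensorMod M) ≫
    (Functor.associator _ _ _).hom ≫
    Functor.whiskerLeft (HomotopyCategory.quotient X.Modules (ComplexShape.up ℤ)) (lTensorModCounit M) ≫
    (Functor.associator _ _ _).inv ≫
    Functor.whiskerRight ((DCoh.tensorRightMod M).mapHomotopyCategoryFactors (ComplexShape.up ℤ)).hom
      DerivedCategory.Qh ≫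
    (Functor.associator _ _ _).hom ≫
    Functor.whiskerLeft (tensCx M) (DerivedCategory.quotientCompQhIso X.Modules).hom

theorem isIso_tensNat_app (M : X.Modules) [DCoh.HasLTensorMod M] (P : CochainComplex X.Modules ℤ)
    (hP : DCoh.IsKFlat P) : IsIso ((tensNat M).app P) := by
  haveI := isIso_lTensorModCounit_app M P hP
  simp only [tensNat, NatTrans.comp_app, Functor.whiskerLeft_app, Functor.whiskerRight_app,
    Functor.associator_hom_app, Functor.associator_inv_app]
  infer_instance

theorem isIso_lpullNat_app_kFlat (f : Y ⟶ X) [DCoh.HasLpull f] (P : CochainComplex X.Modules ℤ)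
    (hP : DCoh.IsKFlat P) : IsIso ((lpullNat f).app P) :=
  isIso_lpullNat_app f P (isIso_lpullCounit_app_of_isKFlat f P hP)

/-- Tensor products with a module commute with inverse images. -/
def tensorPullIso (g : Y ⟶ X) (M : X.Modules) :
    DCoh.tensorRightMod M ⋙ Scheme.Modules.pullback g ≅
      Scheme.Modules.pullback g ⋙ DCoh.tensorRightMod ((Scheme.Modules.pullback g).obj M) :=
  NatIso.ofComponents
    (fun N => ((pullTensorBiIsoSch g).app N).app M)
    fun {N N'} φ => by
      have h := congrArg (fun t => t.app M) ((pullTensorBiIsoSch g).hom.naturality φ)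
      exact h

/-- The same, on complexes. -/
def tensorPullCxIso (g : Y ⟶ X) (M : X.Modules) :
    tensCx M ⋙ DCohLib.pullCx g ≅ DCohLib.pullCx g ⋙ tensCx ((Scheme.Modules.pullback g).obj M) :=
  NatIso.ofComponents (fun K => HomologicalComplex.Hom.isoOfComponents
      (fun n => (tensorPullIso g M).app (K.X n))
      fun i j _ => ((tensorPullIso g M).hom.naturality (K.d i j)).symm)
    fun {K L} φ => by
      ext n : 1
      exact (tensorPullIso g M).hom.naturality (φ.f n)

/-- The resolution is invisible in the derived category. -/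
def resQ (X : Scheme.{u}) : resX X ⋙ DerivedCategory.Q ≅ DerivedCategory.Q :=
  NatIso.ofComponents (fun K =>
      haveI : IsIso (DerivedCategory.Q.map ((resXπ X).app K)) :=
        haveI := quasiIso_resXπ K
        inferInstance
      asIso (DerivedCategory.Q.map ((resXπ X).app K)))
    fun {K L} φ => by
      show DerivedCategory.Q.map ((resX X).map φ) ≫ DerivedCategory.Q.map ((resXπ X).app L) =
        DerivedCategory.Q.map ((resXπ X).app K) ≫ DerivedCategory.Q.map φ
      rw [← DerivedCategory.Q.map_comp, ← DerivedCategory.Q.map_comp, (resXπ X).naturality φ]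
      rfl

section Theta

variable (g : Y ⟶ X) [DCoh.HasLpull g] (M : X.Modules) [DCoh.HasLTensorMod M]
  [DCoh.HasLTensorMod ((Scheme.Modules.pullback g).obj M)]

/-- The comparison on a K-flat complex. -/
def thetaP (P : CochainComplex X.Modules ℤ) (hP : DCoh.IsKFlat P) :
    (DCoh.Lpull g).obj ((DCoh.LTensorMod M).obj (DerivedCategory.Q.obj P)) ⟶
      (DCoh.LTensorMod ((Scheme.Modules.pullback g).obj M)).obj ((DCoh.Lpull g).obj (DerivedCategory.Q.obj P)) :=
  haveI := isIso_tensNat_app ((Scheme.Modules.pullback g).obj M) _ (isKFlat_pullback g hP)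
  haveI := isIso_lpullNat_app_kFlat g P hP
  (DCoh.Lpull g).map ((tensNat M).app P) ≫ (lpullNat g).app ((tensCx M).obj P) ≫
    DerivedCategory.Q.map ((tensorPullCxIso g M).hom.app P) ≫
    inv ((tensNat ((Scheme.Modules.pullback g).obj M)).app ((DCohLib.pullCx g).obj P)) ≫
    (DCoh.LTensorMod _).map (inv ((lpullNat g).app P))

theorem thetaP_natural {P P' : CochainComplex X.Modules ℤ} (hP : DCoh.IsKFlat P) (hP' : DCoh.IsKFlat P')
    (α : P ⟶ P') :
    (DCoh.Lpull g).map ((DCoh.LTensorMod M).map (DerivedCategory.Q.map α)) ≫ thetaP g M P' hP' =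
      thetaP g M P hP ≫ (DCoh.LTensorMod _).map ((DCoh.Lpull g).map (DerivedCategory.Q.map α)) := by
  haveI := isIso_tensNat_app ((Scheme.Modules.pullback g).obj M) _ (isKFlat_pullback g hP)
  haveI := isIso_lpullNat_app_kFlat g P hP
  haveI := isIso_tensNat_app ((Scheme.Modules.pullback g).obj M) _ (isKFlat_pullback g hP')
  haveI := isIso_lpullNat_app_kFlat g P' hP'
  have a1 := (tensNat M).naturality α
  have a2 := (lpullNat g).naturality ((tensCx M).map α)
  have a3 := congrArg DerivedCategory.Q.map ((tensorPullCxIso g M).hom.naturality α)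
  have a4 := (tensNat ((Scheme.Modules.pullback g).obj M)).naturality ((DCohLib.pullCx g).map α)
  have a5 := (lpullNat g).naturality α
  simp only [Functor.comp_map, Functor.map_comp] at a1 a2 a3 a4 a5
  simp only [thetaP, Category.assoc]
  rw [← Functor.map_comp_assoc, a1, Functor.map_comp_assoc, reassoc_of% a2, reassoc_of% a3]
  congr 3
  rw [IsIso.eq_inv_comp, ← reassoc_of% a4, IsIso.hom_inv_id_assoc, ← Functor.map_comp, ← Functor.map_comp]
  congr 1
  rw [IsIso.eq_inv_comp, ← reassoc_of% a5, IsIso.hom_inv_id, Category.comp_id]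

/-- The comparison on the resolutions. -/
def thetaRes :
    DerivedCategory.Q ⋙ DCoh.LTensorMod M ⋙ DCoh.Lpull g ⟶
      DerivedCategory.Q ⋙ DCoh.Lpull g ⋙ DCoh.LTensorMod ((Scheme.Modules.pullback g).obj M) :=
  Functor.whiskerRight (resQ X).inv (DCoh.LTensorMod M ⋙ DCoh.Lpull g) ≫
    (show (resX X ⋙ DerivedCategory.Q) ⋙ DCoh.LTensorMod M ⋙ DCoh.Lpull g ⟶
        (resX X ⋙ DerivedCategory.Q) ⋙ DCoh.Lpull g ⋙ DCoh.LTensorMod ((Scheme.Modules.pullback g).obj M) from
      { app := fun C => thetaP g M ((resX X).obj C) (isKFlat_resX C)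
        naturality := fun C C' α => thetaP_natural g M _ _ ((resX X).map α) }) ≫
    Functor.whiskerRight (resQ X).hom (DCoh.Lpull g ⋙ DCoh.LTensorMod ((Scheme.Modules.pullback g).obj M))

/-- The comparison `Lg^* (E ⊗^L M) ⟶ Lg^* E ⊗^L g^* M`. -/
def theta :
    DCoh.LTensorMod M ⋙ DCoh.Lpull g ⟶ DCoh.Lpull g ⋙ DCoh.LTensorMod ((Scheme.Modules.pullback g).obj M) :=
  letI : Localization.Lifting DerivedCategory.Q (HomologicalComplex.quasiIso X.Modules (ComplexShape.up ℤ))
      (DerivedCategory.Q ⋙ DCoh.LTensorMod M ⋙ DCoh.Lpull g) (DCoh.LTensorMod M ⋙ DCoh.Lpull g) := ⟨Iso.refl _⟩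
  letI : Localization.Lifting DerivedCategory.Q (HomologicalComplex.quasiIso X.Modules (ComplexShape.up ℤ))
      (DerivedCategory.Q ⋙ DCoh.Lpull g ⋙ DCoh.LTensorMod ((Scheme.Modules.pullback g).obj M))
      (DCoh.Lpull g ⋙ DCoh.LTensorMod ((Scheme.Modules.pullback g).obj M)) := ⟨Iso.refl _⟩
  Localization.liftNatTrans DerivedCategory.Q (HomologicalComplex.quasiIso X.Modules (ComplexShape.up ℤ))
    _ _ _ _ (thetaRes g M)

theorem theta_app_Q (C : CochainComplex X.Modules ℤ) :
    (theta g M).app (DerivedCategory.Q.obj C) = (thetaRes g M).app C := by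
  letI : Localization.Lifting DerivedCategory.Q (HomologicalComplex.quasiIso X.Modules (ComplexShape.up ℤ))
      (DerivedCategory.Q ⋙ DCoh.LTensorMod M ⋙ DCoh.Lpull g) (DCoh.LTensorMod M ⋙ DCoh.Lpull g) := ⟨Iso.refl _⟩
  letI : Localization.Lifting DerivedCategory.Q (HomologicalComplex.quasiIso X.Modules (ComplexShape.up ℤ))
      (DerivedCategory.Q ⋙ DCoh.Lpull g ⋙ DCoh.LTensorMod ((Scheme.Modules.pullback g).obj M))
      (DCoh.Lpull g ⋙ DCoh.LTensorMod ((Scheme.Modules.pullback g).obj M)) := ⟨Iso.refl _⟩
  refine (Localization.liftNatTrans_app DerivedCategory.Q _ _ _ _ _ (thetaRes g M) C).trans ?_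
  exact (Category.id_comp _).trans (Category.comp_id _)

theorem map_theta_app_Q_iso {H : Type*} [Category H] (F : DCoh.D Y ⥤ H) (C : CochainComplex X.Modules ℤ)
    (h : IsIso (F.map ((lpullNat g).app ((tensCx M).obj ((resX X).obj C))))) :
    IsIso (F.map ((theta g M).app (DerivedCategory.Q.obj C))) := by
  haveI := h
  haveI := isIso_tensNat_app M _ (isKFlat_resX C)
  haveI : ∀ Z, IsIso ((resQ X).inv.app Z) := fun Z => inferInstance
  rw [theta_app_Q]
  simp only [thetaRes, thetaP, NatTrans.comp_app, Functor.whiskerRight_app, Functor.map_comp]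
  infer_instance

theorem isIso_lpullNat_app_open [IsOpenImmersion g] (C : CochainComplex X.Modules ℤ) :
    IsIso ((lpullNat g).app C) := by
  haveI : PreservesFiniteLimits (Scheme.Modules.restrictFunctor g) := inferInstance
  haveI : PreservesFiniteLimits (Scheme.Modules.pullback g) :=
    preservesFiniteLimits_of_natIso (Scheme.Modules.restrictFunctorIsoPullback g)
  haveI := isIso_lpullNat_app_kFlat g _ (isKFlat_resX C)
  haveI := quasiIso_resXπ C
  haveI : (Scheme.Modules.pullback g).PreservesHomology := by
    haveI : PreservesColimitsOfSize.{u, u} (Scheme.Modules.pullback g) :=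
      (Scheme.Modules.pullbackPushforwardAdjunction g).leftAdjoint_preservesColimits
    haveI : PreservesColimitsOfSize.{0, 0} (Scheme.Modules.pullback g) := preservesColimitsOfSize_shrink.{0, u, 0, u} _
    haveI : PreservesFiniteColimits (Scheme.Modules.pullback g) := PreservesColimitsOfSize.preservesFiniteColimits _
    infer_instance
  haveI : QuasiIso ((DCohLib.pullCx g).map ((resXπ X).app C)) :=
    HomologicalComplex.quasiIso_map_of_preservesHomology _ (Scheme.Modules.pullback g)
  have n := (lpullNat g).naturality ((resXπ X).app C)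
  simp only [Functor.comp_map] at n
  exact IsIso.of_isIso_fac_left n

/-- Restriction commutes with derived tensor products. -/
theorem isIso_theta_open [IsOpenImmersion g] : IsIso (theta g M) := by
  haveI : ∀ E, IsIso ((theta g M).app E) := fun E => by
    let e := DerivedCategory.Q.objObjPreimageIso E
    refine (NatTrans.isIso_app_iff_of_iso (theta g M) e).1 ?_
    exact (map_theta_app_Q_iso g M (𝟭 _) _ (by
      haveI := isIso_lpullNat_app_open g ((tensCx M).obj ((resX X).obj (DerivedCategory.Q.objPreimage E)))
      infer_instance))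
  exact NatIso.isIso_of_isIso_app _

end Theta

end Groth.Agent.DCohMore.BC
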