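import Groth.Agent.DCohMore.TwistEquiv
import Groth.Agent.AmpleEmb.TwistOne
import Groth.Agent.ProjTwistLib.Ample
import Groth.Agent.ProjCoh.Twist

/-!
# Twisting sheaves on projective space as multiplication data
-/

set_option autoImplicit false
set_option linter.style.haveILetI false
set_option linter.unusedSectionVars false
set_option maxHeartbeats 1000000

universe u

open CategoryTheory CategoryTheory.Limits AlgebraicGeometry TopologicalSpace Opposite

attribute [local instance] HasDerivedCategory.standard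

noncomputable section

namespace Groth.Agent.DCohMore.TwistFam

variable (n : ℕ) (R : Type u) [CommRing R]

/-- Multiplication by the coordinates on the twisting sheaves of projective space. -/
def projMul : ProjCoh.MulData (CohB1.ProjSpace n R) (Fin (n + 1)) :=
  ProjCoh.twistMulData (CohB1.polyGrading n R) (AmpleEmb.coordForm n R) (AmpleEmb.iSup_stdOpen n R)

theorem projMul_F (d : ℤ) : (projMul n R).F d = Twist.twistProjSpace n R d := rfl

theorem isAffineOpen_projMul (i : Fin (n + 1)) : IsAffineOpen ((projMul n R).U i) :=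
  AmpleEmb.isAffineOpen_stdOpen n R i

theorem hasUnit_twist (m : ℤ) (x : CohB1.ProjSpace n R) :
    ProjTwistLib.HasUnit (CohB1.polyGrading n R) m x :=
  ProjTwistLib.hasUnit_one_of_cover (top_le_iff.1 ((AmpleEmb.iSup_stdOpen n R).ge.trans
    (iSup_le fun a => le_iSup (fun f : CohB1.polyGrading n R 1 => Proj.basicOpen (CohB1.polyGrading n R) (f : MvPolynomial (Fin (n + 1)) R))
      (AmpleEmb.coordForm n R a)))) m x

/-- `O(0) ≅ O`. -/
def projMulZero : (projMul n R).F 0 ≅ Coh.structureModule (CohB1.ProjSpace n R) :=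
  (ProjTwistLib.nonempty_zero_iso (𝒜 := CohB1.polyGrading n R)).some

theorem isQCoh_projMul (d : ℤ) : Coh.IsQCoh ((projMul n R).F d) :=
  (projMul n R).isQCoh_F (DCohLib.isQCoh_of_iso' (projMulZero n R).symm inferInstance)
    (isAffineOpen_projMul n R) d

/-- `O(a) ⊗ O(b) ≅ O` for `a + b = 0`. -/
def projMulInv {a b : ℤ} (h : a + b = 0) :
    CohB1.tensorMod ((projMul n R).F a) ((projMul n R).F b) ≅ Coh.structureModule (CohB1.ProjSpace n R) :=
  ProjTwistLib.mulIso h (hasUnit_twist n R a) ≪≫ projMulZero n R

/-- The twists of `O`, `O(-1)`, …, `O(-n)` generate. -/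
theorem isZero_of_proj_orth (K : DCoh.D (CohB1.ProjSpace n R)) (hK : DCoh.IsQCohD K)
    (h : ∀ (d : ℕ), d ≤ n → ∀ (m : ℤ) (φ : (DCoh.inD (CohB1.ProjSpace n R) (Twist.twistProjSpace n R (-(d : ℤ))))⟦m⟧ ⟶ K), φ = 0) :
    IsZero K :=
  isZero_of_twists (projMul n R) (isAffineOpen_projMul n R) (isQCoh_projMul n R) (projMulZero n R) K hK 0
    fun e he => orth_lTensorMod (B := (projMul n R).F (-(e : ℤ))) (projMulInv n R (by omega)) (projMulInv n R (by omega)) K
      (h e (by simpa using Nat.lt_succ_iff.1 (by simpa using he)))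

end Groth.Agent.DCohMore.TwistFam
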