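import Groth.Agent.DCohMore.TwistEquiv
import Groth.Agent.DCohMore.TwistProj
import Groth.Agent.DCohMore.FlatDescent
import Groth.Agent.DCohLib.LpullTensor
import Groth.Agent.GenSeesawLib.TwistBC
import Groth.Agent.PicLib.Group
import Groth.Agent.ProjSmoothLib.Basic
import Groth.Agent.CurveLib.Inv
import Groth.Prelude.Def_KRR

/-!
# The twists on projective space over a scheme, and their charts
-/

set_option autoImplicit false
set_option linter.style.haveILetI false
set_option linter.unusedSectionVars false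
set_option maxHeartbeats 1000000
set_option backward.isDefEq.respectTransparency false

universe u v₁ v₂ v₃ u₁ u₂ u₃

open CategoryTheory CategoryTheory.Limits AlgebraicGeometry TopologicalSpace Opposite
open Groth.Agent.DCohLib Groth.Agent.PicLib

attribute [local instance] HasDerivedCategory.standard

noncomputable section

namespace Groth.Agent.DCohMore.TwistOver

section Comp

variable {C : Type u₁} [Category.{v₁} C] [Abelian C] {D : Type u₂} [Category.{v₂} D] [Abelian D]
  {E : Type u₃} [Category.{v₃} E] [Abelian E]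
  [HasDerivedCategory C] [HasDerivedCategory D] [HasDerivedCategory E]

/-- Derived functors of exact functors compose. -/
theorem nonempty_mapD_comp (F : C ⥤ D) (G : D ⥤ E) (H : C ⥤ E) [F.Additive] [G.Additive] [H.Additive]
    [PreservesFiniteLimits F] [PreservesFiniteColimits F] [PreservesFiniteLimits G] [PreservesFiniteColimits G]
    [PreservesFiniteLimits H] [PreservesFiniteColimits H] (η : F ⋙ G ≅ H) :
    Nonempty (F.mapDerivedCategory ⋙ G.mapDerivedCategory ≅ H.mapDerivedCategory) := by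
  let c := ComplexShape.up ℤ
  let e₀ : F.mapHomologicalComplex c ⋙ G.mapHomologicalComplex c ≅ H.mapHomologicalComplex c :=
    NatIso.ofComponents
      (fun K => HomologicalComplex.Hom.isoOfComponents (fun p => η.app (K.X p))
        (fun i j _ => (η.hom.naturality (K.d i j)).symm))
      fun {K L} f => HomologicalComplex.hom_ext _ _ fun p => η.hom.naturality (f.f p)
  let e₁ : DerivedCategory.Q ⋙ F.mapDerivedCategory ⋙ G.mapDerivedCategory ≅
      DerivedCategory.Q ⋙ H.mapDerivedCategory :=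
    (Functor.associator _ _ _).symm ≪≫ Functor.isoWhiskerRight F.mapDerivedCategoryFactors _ ≪≫
      Functor.associator _ _ _ ≪≫ Functor.isoWhiskerLeft _ G.mapDerivedCategoryFactors ≪≫
      (Functor.associator _ _ _).symm ≪≫ Functor.isoWhiskerRight e₀ _ ≪≫ H.mapDerivedCategoryFactors.symm
  letI : Localization.Lifting DerivedCategory.Q (HomologicalComplex.quasiIso C c)
      (DerivedCategory.Q ⋙ H.mapDerivedCategory) (F.mapDerivedCategory ⋙ G.mapDerivedCategory) := ⟨e₁⟩
  letI : Localization.Lifting DerivedCategory.Q (HomologicalComplex.quasiIso C c)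
      (DerivedCategory.Q ⋙ H.mapDerivedCategory) H.mapDerivedCategory := ⟨Iso.refl _⟩
  exact ⟨Localization.liftNatIso DerivedCategory.Q (HomologicalComplex.quasiIso C c)
    (DerivedCategory.Q ⋙ H.mapDerivedCategory) (DerivedCategory.Q ⋙ H.mapDerivedCategory) _ _ (Iso.refl _)⟩

end Comp

theorem isInvertible_twist {n : ℕ} {R : Type u} [CommRing R] (d : ℤ) :
    PicF.IsInvertible (Twist.twistProjSpace n R d) :=
  ProjTwistLib.isInvertible_of_hasUnit (TwistFam.hasUnit_twist n R d)

theorem cls_twist_mul {n : ℕ} {R : Type u} [CommRing R] (d e : ℤ) :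
    cls (isInvertible_twist (n := n) (R := R) d) * cls (isInvertible_twist (n := n) (R := R) e) =
      cls (isInvertible_twist (n := n) (R := R) (d + e)) :=
  (cls_eq_cls _ _).2 ⟨ProjTwistLib.mulIso (𝒜 := CohB1.polyGrading n R) (m := d) (n := e) rfl
    (TwistFam.hasUnit_twist n R d)⟩

variable (r : ℕ) (S : Scheme.{u})

/-- The twisting sheaves. -/
abbrev O (d : ℤ) : (KRR.PY r S).Modules := Twist.twistOver r S d

theorem isFinLocFree_O (d : ℤ) : FlatMod.IsFinLocFree (O r S d) :=
  CurveLib.isFinLocFree_of_isInvertible (AmpleLib.isInvertible_pullback _ (isInvertible_twist d))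

theorem nonempty_mul {a b c : ℤ} (h : a + b = c) :
    Nonempty (((DCoh.tensorBi (X := KRR.PY r S)).obj (O r S a)).obj (O r S b) ≅ O r S c) := by
  subst h
  let p := pullback.fst (CohB1.ProjSpace.toSpec r (ULift.{u} ℤ)) (specULiftZIsTerminal.from S)
  exact ⟨(((pullTensorBiIsoSch p).app ((TwistFam.projMul r (ULift.{u} ℤ)).F a)).app
      ((TwistFam.projMul r (ULift.{u} ℤ)).F b)).symm ≪≫
    (Scheme.Modules.pullback p).mapIso
      (ProjTwistLib.mulIso rfl (TwistFam.hasUnit_twist r (ULift.{u} ℤ) a))⟩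

theorem nonempty_zero : Nonempty (O r S 0 ≅ Coh.structureModule (KRR.PY r S)) :=
  ⟨(Scheme.Modules.pullback (pullback.fst (CohB1.ProjSpace.toSpec r (ULift.{u} ℤ))
      (specULiftZIsTerminal.from S))).mapIso (TwistFam.projMulZero r (ULift.{u} ℤ)) ≪≫
    pullStructureIso _⟩

/-- Tensoring on the left by a twist. -/
abbrev T (d : ℤ) : (KRR.PY r S).Modules ⥤ (KRR.PY r S).Modules :=
  (DCoh.tensorBi (X := KRR.PY r S)).obj (O r S d)

/-- Tensoring on the left and on the right agree. -/
theorem nonempty_T_right (d : ℤ) : Nonempty (T r S d ≅ DCoh.tensorRightMod (O r S d)) :=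
  ⟨(ModTensor.tensorSymm (KRR.PY r S).sheaf (O r S d)).symm⟩

theorem nonempty_T_zero : Nonempty (T r S 0 ≅ 𝟭 _) := by
  obtain ⟨e⟩ := nonempty_T_right r S 0
  obtain ⟨z⟩ := nonempty_zero r S
  exact ⟨e ≪≫ (ModSite.tensorBi (KRR.PY r S).sheaf).flip.mapIso z ≪≫
    ModTensor.tensorUnitRight (KRR.PY r S).sheaf⟩

theorem nonempty_T_comp {a b c : ℤ} (h : a + b = c) : Nonempty (T r S a ⋙ T r S b ≅ T r S c) := by
  obtain ⟨ea⟩ := nonempty_T_right r S a
  obtain ⟨eb⟩ := nonempty_T_right r S b
  obtain ⟨ec⟩ := nonempty_T_right r S c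
  obtain ⟨m⟩ := nonempty_mul r S h
  exact ⟨Functor.isoWhiskerRight ea _ ≪≫ Functor.isoWhiskerLeft _ eb ≪≫
    ModTensor.tensorAssoc (KRR.PY r S).sheaf (O r S a) (O r S b) ≪≫
    (ModSite.tensorBi (KRR.PY r S).sheaf).flip.mapIso m ≪≫ ec.symm⟩

theorem isEquivalence_T (d : ℤ) : (T r S d).IsEquivalence := by
  obtain ⟨e₁⟩ := nonempty_T_comp r S (add_neg_cancel d)
  obtain ⟨e₂⟩ := nonempty_T_comp r S (neg_add_cancel d)
  obtain ⟨z⟩ := nonempty_T_zero r S
  exact Functor.IsEquivalence.mk' (T r S (-d)) (e₁ ≪≫ z).symm (e₂ ≪≫ z)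

instance preservesFiniteLimits_T (d : ℤ) : PreservesFiniteLimits (T r S d) :=
  haveI := isEquivalence_T r S d
  inferInstance

instance preservesFiniteColimits_T (d : ℤ) : PreservesFiniteColimits (T r S d) :=
  haveI := isEquivalence_T r S d
  inferInstance

/-- The derived twist. -/
abbrev F (d : ℤ) : DCoh.D (KRR.PY r S) ⥤ DCoh.D (KRR.PY r S) := (T r S d).mapDerivedCategory

theorem nonempty_F_comp {a b c : ℤ} (h : a + b = c) : Nonempty (F r S a ⋙ F r S b ≅ F r S c) := by
  obtain ⟨e⟩ := nonempty_T_comp r S h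
  exact nonempty_mapD_comp _ _ _ e

theorem nonempty_F_zero : Nonempty (F r S 0 ≅ 𝟭 _) := by
  obtain ⟨e⟩ := nonempty_T_comp r S (show (0 : ℤ) + 0 = 0 by simp)
  obtain ⟨z⟩ := nonempty_T_zero r S
  obtain ⟨η⟩ := TwistFam.nonempty_mapD_comp_id (T r S 0) (T r S 0) (e ≪≫ z)
  obtain ⟨c⟩ := nonempty_F_comp r S (show (0 : ℤ) + 0 = 0 by simp)
  exact ⟨c.symm ≪≫ η⟩

/-- The derived twist is the derived tensor product. -/
theorem nonempty_F_lTensorMod (d : ℤ) [DCoh.HasLTensorMod (O r S d)] (K : DCoh.D (KRR.PY r S)) :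
    Nonempty ((F r S d).obj K ≅ (DCoh.LTensorMod (O r S d)).obj K) := by
  obtain ⟨e⟩ := nonempty_T_right r S d
  let P := (resX (KRR.PY r S)).obj (DerivedCategory.Q.objPreimage K)
  exact ⟨(F r S d).mapIso (resXIso K).symm ≪≫ (T r S d).mapDerivedCategoryFactors.app P ≪≫
    DerivedCategory.Q.mapIso ((NatIso.mapHomologicalComplex e (ComplexShape.up ℤ)).app P) ≪≫
    (lTensorModIso (O r S d) P (isKFlat_resX _)).symm ≪≫ (DCoh.LTensorMod (O r S d)).mapIso (resXIso K)⟩

/-- Charts: projective space over an affine scheme mapping to the base. -/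
theorem exists_chart {A : Type u} [CommRing A] (g : Spec (CommRingCat.of A) ⟶ S) :
    ∃ g' : CohB1.ProjSpace r A ⟶ KRR.PY r S,
      IsPullback g' (CohB1.ProjSpace.toSpec r A) (KRR.pr r S) g ∧
      ∀ d, Nonempty ((Scheme.Modules.pullback g').obj (O r S d) ≅ Twist.twistProjSpace r A d) := by
  letI : Algebra (ULift.{u} ℤ) A :=
    ((Int.castRingHom A).comp (ULift.ringEquiv : ULift.{u} ℤ ≃+* ℤ).toRingHom).toAlgebra
  let p := pullback.fst (CohB1.ProjSpace.toSpec r (ULift.{u} ℤ)) (specULiftZIsTerminal.from S)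
  have h2 := GenSeesawLib.isPullback_bcMap r (ULift.{u} ℤ) A
  let g' : CohB1.ProjSpace r A ⟶ KRR.PY r S :=
    pullback.lift (GenSeesawLib.bcMap r (ULift.{u} ℤ) A) (CohB1.ProjSpace.toSpec r A ≫ g)
      (by rw [h2.w, Category.assoc]; exact congrArg (CohB1.ProjSpace.toSpec r A ≫ ·)
            (specULiftZIsTerminal.hom_ext _ _))
  have hfst : g' ≫ p = GenSeesawLib.bcMap r (ULift.{u} ℤ) A := pullback.lift_fst _ _ _
  have hsnd : g' ≫ KRR.pr r S = CohB1.ProjSpace.toSpec r A ≫ g := pullback.lift_snd _ _ _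
  refine ⟨g', IsPullback.of_right ?_ hsnd (IsPullback.of_hasPullback _ _), fun d => ?_⟩
  · rw [hfst, show g ≫ specULiftZIsTerminal.from S =
      Spec.map (CommRingCat.ofHom (algebraMap (ULift.{u} ℤ) A)) from specULiftZIsTerminal.hom_ext _ _]
    exact h2
  · let ψ : Multiplicative ℤ →* Pic (CohB1.ProjSpace r A) :=
      (pull (GenSeesawLib.bcMap r (ULift.{u} ℤ) A)).comp (MonoidHom.mk'
        (fun d => cls (isInvertible_twist (n := r) (R := ULift.{u} ℤ) d.toAdd))
        fun _ _ => (cls_twist_mul _ _).symm)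
    let φ : Multiplicative ℤ →* Pic (CohB1.ProjSpace r A) :=
      MonoidHom.mk' (fun d => cls (isInvertible_twist (n := r) (R := A) d.toAdd))
        fun _ _ => (cls_twist_mul _ _).symm
    have hψ : ψ = φ := by
      refine MonoidHom.ext_mint ?_
      refine (pull_cls _ (isInvertible_twist _)).trans ((cls_eq_cls _ _).2 ?_)
      exact (GenSeesawLib.nonempty_iso_pullback_twistOne r (ULift.{u} ℤ) A).map Iso.symm
    obtain ⟨e⟩ := (cls_eq_cls _ _).1
      ((pull_cls _ (isInvertible_twist d)).symm.trans (DFunLike.congr_fun hψ (Multiplicative.ofAdd d)))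
    exact ⟨(Scheme.Modules.pullbackComp g' p).app _ ≪≫ (Scheme.Modules.pullbackCongr hfst).app _ ≪≫ e⟩

/-- A module tensored on the right of a K-flat complex stays K-flat when it is flat. -/
theorem isKFlat_tensorRight {X : Scheme.{u}} {P : CochainComplex X.Modules ℤ} (hP : DCoh.IsKFlat P)
    {G : X.Modules} (hG : FlatMod.IsFinLocFree G) :
    DCoh.IsKFlat (((DCoh.tensorRightMod G).mapHomologicalComplex (ComplexShape.up ℤ)).obj P) :=
  isKFlat_of_iso (totSingleIso P G).symm
    (isKFlat_tensorCx hP (isKFlat_of_strictlyPerfect (isStrictlyPerfect_single hG)))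

/-- Derived inverse image commutes with twists. -/
theorem nonempty_lpull_F {A : Type u} [CommRing A] (g' : CohB1.ProjSpace r A ⟶ KRR.PY r S)
    [DCoh.HasLpull g'] (d : ℤ) [DCoh.HasLTensorMod (Twist.twistProjSpace r A d)]
    (e : (Scheme.Modules.pullback g').obj (O r S d) ≅ Twist.twistProjSpace r A d) (K : DCoh.D (KRR.PY r S)) :
    Nonempty ((DCoh.Lpull g').obj ((F r S d).obj K) ≅
      (DCoh.LTensorMod (Twist.twistProjSpace r A d)).obj ((DCoh.Lpull g').obj K)) := by
  obtain ⟨t⟩ := nonempty_T_right r S d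
  let P := (resX (KRR.PY r S)).obj (DerivedCategory.Q.objPreimage K)
  have hP : DCoh.IsKFlat P := isKFlat_resX _
  exact ⟨(DCoh.Lpull g').mapIso ((F r S d).mapIso (resXIso K).symm ≪≫
      (T r S d).mapDerivedCategoryFactors.app P ≪≫
      DerivedCategory.Q.mapIso ((NatIso.mapHomologicalComplex t (ComplexShape.up ℤ)).app P)) ≪≫
    lpullIsoK g' _ (isKFlat_tensorRight hP (isFinLocFree_O r S d)) ≪≫
    DerivedCategory.Q.mapIso (pullTensorRightModIso g' P (O r S d) ≪≫
      (NatIso.mapHomologicalComplex ((ModSite.tensorBi (CohB1.ProjSpace r A).sheaf).flip.mapIso e)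
        (ComplexShape.up ℤ)).app _) ≪≫
    (lTensorModIso (Twist.twistProjSpace r A d) _ (isKFlat_pullback g' hP)).symm ≪≫
    (DCoh.LTensorMod (Twist.twistProjSpace r A d)).mapIso
      ((lpullIsoK g' P hP).symm ≪≫ (DCoh.Lpull g').mapIso (resXIso K))⟩

end Groth.Agent.DCohMore.TwistOver
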