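import Groth.Agent.DCohMore.BCGeneral

/-!
# Tor-independent base change for quasi-compact quasi-separated morphisms
-/

set_option autoImplicit false
set_option linter.style.haveILetI false
set_option linter.unusedSectionVars false
set_option backward.isDefEq.respectTransparency false

universe u

open CategoryTheory Limits AlgebraicGeometry TopologicalSpace
attribute [local instance] HasDerivedCategory.standard

noncomputable section

namespace Groth.Agent.DCohMore.BC

open Groth.Agent.DCohLib

variable {X S : Scheme.{u}}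

/-- Base change along affine morphisms. -/
theorem bcp_affineHom (f : X ⟶ S) [IsAffineHom f] : BCP f :=
  bcp_of_charts f fun s =>
    haveI : IsAffine ((f ⁻¹ᵁ s.opensRange : X.Opens) : Scheme.{u}) := (isAffineOpen_opensRange s).preimage f
    bca_affine _

/-- Base change along quasi-compact separated morphisms. -/
theorem bcp_separated (f : X ⟶ S) [QuasiCompact f] [IsSeparated f] : BCP f :=
  bcp_of_charts f <| by
    intro R _ s _
    let fW := (f ∣_ s.opensRange) ≫ s.isoOpensRange.inv
    haveI : IsSeparated (f ∣_ s.opensRange) := IsZariskiLocalAtTarget.restrict ‹IsSeparated f› _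
    haveI : QuasiCompact (f ∣_ s.opensRange) := IsZariskiLocalAtTarget.restrict ‹QuasiCompact f› _
    haveI : IsSeparated fW := inferInstanceAs (IsSeparated ((f ∣_ s.opensRange) ≫ s.isoOpensRange.inv))
    haveI : QuasiCompact fW := inferInstanceAs (QuasiCompact ((f ∣_ s.opensRange) ≫ s.isoOpensRange.inv))
    haveI : QuasiSeparated fW := inferInstance
    apply bca_of_opens (R := R) fW
    intro A _ j _
    haveI : IsAffineHom (j ≫ fW) := isAffineHom_of_isAffine _
    haveI : IsAffineHom j := IsAffineHom.of_comp j fW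
    exact @bcp_affineHom _ _ j _

/-- Base change along quasi-compact quasi-separated morphisms. -/
theorem bcp_qcqs (f : X ⟶ S) [QuasiCompact f] [QuasiSeparated f] : BCP f :=
  bcp_of_charts f <| by
    intro R _ s _
    let fW := (f ∣_ s.opensRange) ≫ s.isoOpensRange.inv
    haveI : QuasiSeparated (f ∣_ s.opensRange) := IsZariskiLocalAtTarget.restrict ‹QuasiSeparated f› _
    haveI : QuasiCompact (f ∣_ s.opensRange) := IsZariskiLocalAtTarget.restrict ‹QuasiCompact f› _
    haveI : QuasiSeparated fW := inferInstanceAs (QuasiSeparated ((f ∣_ s.opensRange) ≫ s.isoOpensRange.inv))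
    haveI : QuasiCompact fW := inferInstanceAs (QuasiCompact ((f ∣_ s.opensRange) ≫ s.isoOpensRange.inv))
    haveI : QuasiSeparatedSpace ((f ⁻¹ᵁ s.opensRange : X.Opens) : Scheme.{u}) :=
      AlgebraicGeometry.quasiSeparatedSpace_of_quasiSeparated fW
    apply bca_of_opens (R := R) fW
    intro A _ j _
    haveI : QuasiCompact j := quasiCompact_of_compactSpace j
    exact @bcp_separated _ _ j _ _

/-- The usual statement: some identification exists, and for it base change holds. -/
theorem exists_iso_baseChange {X' S' : Scheme.{u}} (f : X ⟶ S) [QuasiCompact f] [QuasiSeparated f] (g : S' ⟶ S)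
    (f' : X' ⟶ S') (g' : X' ⟶ X) (hsq : IsPullback g' f' f g) (ht : TI f g)
    [DCoh.HasRpush f] [DCoh.HasRpush g] [DCoh.HasLpull g] [DCoh.HasRpush f'] [DCoh.HasRpush g']
    [DCoh.HasLpull g'] (adjg : DCoh.Lpull g ⊣ DCoh.Rpush g) (adjg' : DCoh.Lpull g' ⊣ DCoh.Rpush g') :
    ∃ e : DCoh.Rpush g' ⋙ DCoh.Rpush f ≅ DCoh.Rpush f' ⋙ DCoh.Rpush g,
      ∀ E : DCoh.D X, DCoh.IsQCohD E → IsIso (DCoh.baseChangeApp adjg adjg' e E) := by
  haveI := hasRpush (g' ≫ f)
  haveI := hasRpush (f' ≫ g)
  obtain ⟨c₁⟩ := nonempty_rpushCompIso g' f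
  obtain ⟨c₂⟩ := nonempty_rpushCompIso f' g
  let e : DCoh.Rpush g' ⋙ DCoh.Rpush f ≅ DCoh.Rpush f' ⋙ DCoh.Rpush g :=
    c₁ ≪≫ eqToIso (by simp only [hsq.w]) ≪≫ c₂.symm
  exact ⟨e, fun E hE => bcp_qcqs f g g' f' hsq ht adjg adjg' e E hE⟩

end Groth.Agent.DCohMore.BC
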