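import Groth.Agent.DCohMore.BCTheta

/-!
# The top cohomology of derived inverse images, and of the comparison with tensor products
-/

set_option autoImplicit false
set_option linter.style.haveILetI false
set_option linter.unusedSectionVars false
set_option backward.isDefEq.respectTransparency false
set_option maxHeartbeats 1000000

universe u

open CategoryTheory Limits AlgebraicGeometry TopologicalSpace
attribute [local instance] HasDerivedCategory.standard

noncomputable section

namespace Groth.Agent.DCohMore.BC

open Groth.Agent.DCohLib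

theorem quasiIsoAt_map_top {A B : Type*} [Category A] [Category B] [Abelian A] [Abelian B]
    (F : A ⥤ B) [F.Additive] (hF : PreservesFiniteColimits F) {N L : CochainComplex A ℤ} (φ : N ⟶ L) (k : ℤ)
    (hN : IsZero (N.X (k + 1))) (hL₁ : IsZero (L.X (k - 1))) (hL₂ : IsZero (L.X (k + 1)))
    (h : QuasiIsoAt φ k) : QuasiIsoAt ((F.mapHomologicalComplex (ComplexShape.up ℤ)).map φ) k := by
  haveI := hF
  rw [quasiIsoAt_iff' _ (k - 1) k (k + 1) (by simp) (by simp),
    ShortComplex.quasiIso_iff_of_zeros'] at h ⊢
  · exact (ShortComplex.exact_and_epi_g_iff_of_iso (ShortComplex.isoMk (Iso.refl _) (Iso.refl _) (Iso.refl _)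
      ((Category.id_comp _).trans (Category.comp_id _).symm) ((Category.id_comp _).trans (Category.comp_id _).symm))).2
      ((ShortComplex.exact_and_epi_g_iff_g_is_cokernel (ShortComplex.mk (F.map (N.d (k - 1) k)) (F.map (φ.f k))
        (by rw [← F.map_comp, ← φ.comm, hL₁.eq_of_src (L.d (k - 1) k) 0, comp_zero, F.map_zero]))).2
        ⟨CokernelCofork.mapIsColimit _ ((ShortComplex.exact_and_epi_g_iff_g_is_cokernel _).1 h).some F⟩)
  all_goals first
    | exact (F.map_isZero hN).eq_of_tgt _ _
    | exact (F.map_isZero hL₁).eq_of_src _ _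
    | exact (F.map_isZero hL₂).eq_of_tgt _ _
    | exact hN.eq_of_tgt _ _
    | exact hL₁.eq_of_src _ _
    | exact hL₂.eq_of_tgt _ _

theorem isZero_single_X {A : Type*} [Category A] [Abelian A] (M : A) (k n : ℤ) (h : n ≠ k) :
    IsZero (((CochainComplex.singleFunctor A k).obj M).X n) :=
  HomologicalComplex.isZero_single_obj_X _ _ _ _ h

theorem isIso_homology_Q_map {X : Scheme.{u}} {N L : CochainComplex X.Modules ℤ} (φ : N ⟶ L) (k : ℤ)
    [QuasiIsoAt φ k] : IsIso ((DerivedCategory.homologyFunctor X.Modules k).map (DerivedCategory.Q.map φ)) := by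
  haveI : IsIso ((HomologicalComplex.homologyFunctor X.Modules (ComplexShape.up ℤ) k).map φ) :=
    (quasiIsoAt_iff_isIso_homologyMap φ k).1 inferInstance
  exact (NatIso.isIso_map_iff (DerivedCategory.homologyFunctorFactors X.Modules k) φ).2 this

variable {X Y : Scheme.{u}} (g : Y ⟶ X) [DCoh.HasLpull g]

/-- The derived inverse image of a module has the inverse image as its top cohomology. -/
theorem isIso_homology_lpullNat_single (k : ℤ) (M : X.Modules) :
    IsIso ((DerivedCategory.homologyFunctor Y.Modules k).map
      ((lpullNat g).app ((CochainComplex.singleFunctor X.Modules k).obj M))) := by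
  obtain ⟨N, π, hπ, hfl, hN⟩ := exists_bdd_flat_resolution X.sheaf ((CochainComplex.singleFunctor X.Modules k).obj M) k
    fun n hn => isZero_single_X M k n (by omega)
  haveI : QuasiIso (C := X.Modules) π := hπ
  have hK : DCoh.IsKFlat (X := X) N := (DCohLib.isKFlat_iff N).2 (Groth.Agent.KFlat.isKFlat_of_bddAbove X.sheaf N k hN hfl)
  haveI := isIso_lpullNat_app_kFlat g N hK
  haveI : IsIso (DerivedCategory.Q.map (C := CochainComplex X.Modules ℤ) π) := inferInstance
  haveI : QuasiIsoAt ((DCohLib.pullCx g).map π) k :=
    quasiIsoAt_map_top (Scheme.Modules.pullback g)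
      (haveI : PreservesColimitsOfSize.{u, u} (Scheme.Modules.pullback g) :=
        (Scheme.Modules.pullbackPushforwardAdjunction g).leftAdjoint_preservesColimits
       haveI : PreservesColimitsOfSize.{0, 0} (Scheme.Modules.pullback g) := preservesColimitsOfSize_shrink.{0, u, 0, u} _
       PreservesColimitsOfSize.preservesFiniteColimits _)
      π k (hN _ (by omega)) (isZero_single_X M k _ (by omega)) (isZero_single_X M k _ (by omega)) inferInstance
  haveI := isIso_homology_Q_map ((DCohLib.pullCx g).map π) k
  have n := congrArg (DerivedCategory.homologyFunctor Y.Modules k).map ((lpullNat g).naturality π)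
  simp only [Functor.comp_map, Functor.map_comp] at n
  exact IsIso.of_isIso_fac_left n

theorem isIso_homology_lamN (k : ℤ) (M : X.Modules) :
    IsIso ((DerivedCategory.homologyFunctor Y.Modules k).map ((lamN g k).app M)) := by
  haveI := isIso_homology_lpullNat_single g k M
  simp only [lamN, NatTrans.comp_app, Functor.whiskerLeft_app, Functor.whiskerRight_app,
    Functor.associator_hom_app, Functor.associator_inv_app, Functor.map_comp]
  infer_instance

/-- On the structure sheaf in one degree the comparison is an isomorphism in that degree. -/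
theorem isIso_homology_theta_unit (M : X.Modules) [DCoh.HasLTensorMod M]
    [DCoh.HasLTensorMod ((Scheme.Modules.pullback g).obj M)] (k : ℤ) :
    IsIso ((DerivedCategory.homologyFunctor Y.Modules k).map
      ((theta g M).app ((TT X k).obj (Coh.structureModule X)))) := by
  let F := DerivedCategory.homologyFunctor Y.Modules k
  let S := (CochainComplex.singleFunctor X.Modules k).obj (Coh.structureModule X)
  let P := (resX X).obj S
  have hS : DCoh.IsKFlat S := isKFlat_of_flat_bddAbove S k (fun n hn => isZero_single_X _ k n (by omega)) fun n => by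
    rcases eq_or_ne n k with rfl | hn
    · exact isFlat_congr (HomologicalComplex.singleObjXSelf _ _ _).symm
        ((isFlat_iff _).2 (SiteBase.ExtZeroPre.isFlat_unit X.sheaf))
    · exact (isFlat_iff _).2 (ModTensor.isFlat_of_isZero X.sheaf (isZero_single_X _ k n hn))
  refine map_theta_app_Q_iso g M F S ?_
  haveI : QuasiIso ((resXπ X).app S) := quasiIso_resXπ S
  haveI hq : QuasiIso ((tensCx M).map ((resXπ X).app S)) :=
    quasiIso_tensorRightMod_map M _ inferInstance (isKFlat_resX S) hS
  haveI : IsIso (DerivedCategory.Q.map ((tensCx M).map ((resXπ X).app S))) := inferInstance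
  haveI : QuasiIso ((tensCx ((Scheme.Modules.pullback g).obj M)).map ((DCohLib.pullCx g).map ((resXπ X).app S))) :=
    quasiIso_tensorRightMod_map _ _ (quasiIso_pullCx_map g _ (isKFlat_resX S) hS)
      (isKFlat_pullback g (isKFlat_resX S)) (isKFlat_pullback g hS)
  haveI : QuasiIso ((DCohLib.pullCx g).map ((tensCx M).map ((resXπ X).app S))) :=
    (quasiIso_iff_of_arrow_mk_iso _ _
      (((Functor.mapArrowFunctor _ _).mapIso (tensorPullCxIso g M)).app (Arrow.mk ((resXπ X).app S)))).2 this
  haveI := isIso_homology_lpullNat_single g k ((DCoh.tensorRightMod M).obj (Coh.structureModule X))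
  haveI : IsIso (F.map ((lpullNat g).app ((tensCx M).obj S))) :=
    ((NatIso.isIso_map_iff (Iso.refl F) _).1 ((NatTrans.isIso_app_iff_of_iso (Functor.whiskerRight (lpullNat g) F)
      ((HomologicalComplex.singleMapHomologicalComplex (DCoh.tensorRightMod M) (ComplexShape.up ℤ) k).symm.app
        (Coh.structureModule X))).1 ‹_›))
  haveI : IsIso (F.map (DerivedCategory.Q.map ((DCohLib.pullCx g).map ((tensCx M).map ((resXπ X).app S))))) := inferInstance
  have n := congrArg F.map ((lpullNat g).naturality ((tensCx M).map ((resXπ X).app S)))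
  simp only [Functor.comp_map, Functor.map_comp, Functor.id_obj] at n
  exact IsIso.of_isIso_fac_right n.symm

end Groth.Agent.DCohMore.BC
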