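import Groth.Agent.DCohMore.BCCore

/-!
# The twisted transform at a generator
-/

set_option autoImplicit false
set_option linter.style.haveILetI false
set_option linter.unusedSectionVars false

noncomputable section

namespace Groth.Agent.DCohMore.BC

open CategoryTheory

section Surj

variable {X S X' S' : Type*} [Category X] [Category S] [Category X'] [Category S']
  {Rf : X ⥤ S} {Rf' : X' ⥤ S'} {Rg : S' ⥤ S} {Rg' : X' ⥤ X} {Lg : S ⥤ S'} {Lg' : X ⥤ X'}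

/-- The factorization needs universality at a single object only. -/
theorem exists_factor_bc' (adjg : Lg ⊣ Rg) (adjg' : Lg' ⊣ Rg') (e : Rg' ⋙ Rf ≅ Rf' ⋙ Rg) {N : S} {K : X}
    (u : N ⟶ Rf.obj K) (P : X') (hu : ∀ v : N ⟶ Rf.obj (Rg'.obj P), ∃ h : K ⟶ Rg'.obj P, v = u ≫ Rf.map h)
    (y : Lg.obj N ⟶ Rf'.obj P) :
    ∃ h : Lg'.obj K ⟶ P, y = Lg.map u ≫ (bc adjg adjg' e).app K ≫ Rf'.map h := by
  obtain ⟨h₀, hh⟩ := hu (adjg.homEquiv _ _ y ≫ e.inv.app P)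
  refine ⟨(adjg'.homEquiv _ _).symm h₀, (adjg.homEquiv _ _).injective ?_⟩
  have h1 : adjg'.unit.app K ≫ Rg'.map ((adjg'.homEquiv _ _).symm h₀) = h₀ :=
    (adjg'.homEquiv_unit _ _ _).symm.trans (Equiv.apply_symm_apply _ _)
  have h2 := e.hom.naturality ((adjg'.homEquiv _ _).symm h₀)
  simp only [Functor.comp_map] at h2
  calc adjg.homEquiv _ _ y = (adjg.homEquiv _ _ y ≫ e.inv.app P) ≫ e.hom.app P := by simp
    _ = u ≫ Rf.map h₀ ≫ e.hom.app P := by rw [hh, Category.assoc]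
    _ = u ≫ Rf.map (adjg'.unit.app K) ≫ e.hom.app (Lg'.obj K) ≫ Rg.map (Rf'.map ((adjg'.homEquiv _ _).symm h₀)) := by
      rw [← h2, ← Rf.map_comp_assoc, h1]
    _ = u ≫ adjg.unit.app (Rf.obj K) ≫ Rg.map ((bc adjg adjg' e).app K) ≫
        Rg.map (Rf'.map ((adjg'.homEquiv _ _).symm h₀)) := by
      rw [reassoc_of% (unit_bc adjg adjg' e K)]
    _ = _ := by simp [adjg.homEquiv_unit]

end Surj

variable {AX AS AX' AS' DX DS DX' DS' : Type*} [Category AX] [Category AS] [Category AX'] [Category AS']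
  [Category DX] [Category DS] [Category DX'] [Category DS']
  {pf : AX ⥤ AS} {pf' : AX' ⥤ AS'} {pg : AS ⥤ AS'} {pg' : AX ⥤ AX'}
  {TX : AX ⥤ DX} {TS : AS ⥤ DS} {TX' : AX' ⥤ DX'} {TS' : AS' ⥤ DS'}
  {Rf : DX ⥤ DS} {Rf' : DX' ⥤ DS'} {Lg : DS ⥤ DS'} {Lg' : DX ⥤ DX'}

/-- The twisted transform is an isomorphism at a generator. -/
theorem isIso_twist_at_generator [TX.Full] [TS.Full] [TS.Faithful] [TX'.Full] [TS'.Full] [TS'.Faithful]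
    (τ : Rf ⋙ Lg ⟶ Lg' ⋙ Rf')
    (ρ : pf ⋙ TS ⟶ TX ⋙ Rf) (ρ' : pf' ⋙ TS' ⟶ TX' ⋙ Rf')
    (l : TS ⋙ Lg ⟶ pg ⋙ TS') (l' : TX ⋙ Lg' ⟶ pg' ⋙ TX')
    (O M : AX) (M' : AX') (o : AS) [IsIso (ρ.app O)] [IsIso (ρ.app M)] [IsIso (ρ'.app (pg'.obj O))] [IsIso (ρ'.app M')]
    [IsIso (l.app o)] [IsIso (l.app (pf.obj M))] [IsIso (l'.app O)]
    (u : TS.obj o ⟶ Rf.obj (TX.obj O))
    (hu : ∀ (P : DX) (v : TS.obj o ⟶ Rf.obj P), ∃ h : TX.obj O ⟶ P, v = u ≫ Rf.map h)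
    (hτ : ∀ (P : DX') (y : Lg.obj (TS.obj o) ⟶ Rf'.obj P),
      ∃ h : Lg'.obj (TX.obj O) ⟶ P, y = Lg.map u ≫ τ.app (TX.obj O) ≫ Rf'.map h)
    (θ : Lg'.obj (TX.obj M) ⟶ TX'.obj M') (r : pg'.obj M ⟶ M') [IsIso r]
    (hθ : ∀ s : O ⟶ M, Lg'.map (TX.map s) ≫ θ = l'.app O ≫ TX'.map (pg'.map s ≫ r))
    (c : pg.obj (pf.obj O) ⟶ pf'.obj (pg'.obj O)) (cM : pg.obj (pf.obj M) ⟶ pf'.obj (pg'.obj M)) [IsIso cM]
    (hc : ∀ s : O ⟶ M, pg.map (pf.map s) ≫ cM = c ≫ pf'.map (pg'.map s))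
    (hwc : ∀ η : o ⟶ pf.obj O, TS.map η ≫ ρ.app O = u → ∀ y : pg.obj o ⟶ pf'.obj (pg'.obj O),
      ∃ h : pg'.obj O ⟶ pg'.obj O, y = pg.map η ≫ c ≫ pf'.map h)
    (hcancel : ∀ h : pg'.obj O ⟶ pg'.obj O, ∀ w : pg.obj o ⟶ pf'.obj (pg'.obj O),
      (∀ y : pg.obj o ⟶ pf'.obj (pg'.obj O), ∃ h₁, y = w ≫ pf'.map h₁) → w ≫ pf'.map h = w → h = 𝟙 _)
    (hcomm : ∀ a b : pg'.obj O ⟶ pg'.obj O, a ≫ b = b ≫ a)
    (hk : ∀ h : pg'.obj O ⟶ pg'.obj O, IsIso h →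
      ∃ k : pg'.obj M ⟶ pg'.obj M, IsIso k ∧ ∀ s : O ⟶ M, h ≫ pg'.map s = pg'.map s ≫ k)
    (hdetect : ∀ (Z : AS') (a b : pg.obj (pf.obj M) ⟶ Z),
      (∀ y : o ⟶ pf.obj M, pg.map y ≫ a = pg.map y ≫ b) → a = b) :
    IsIso (τ.app (TX.obj M) ≫ Rf'.map θ) := by
  let Φ : TS'.obj (pg.obj (pf.obj M)) ⟶ TS'.obj (pf'.obj M') :=
    inv (l.app (pf.obj M)) ≫ Lg.map (ρ.app M) ≫ τ.app (TX.obj M) ≫ Rf'.map θ ≫ inv (ρ'.app M')
  let φ := TS'.preimage Φ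
  have hΦ : TS'.map φ = Φ := TS'.map_preimage _
  have hsq : Lg.map (ρ.app M) ≫ τ.app (TX.obj M) ≫ Rf'.map θ =
      l.app (pf.obj M) ≫ TS'.map φ ≫ ρ'.app M' := by
    simp [hΦ, Φ]
  let η := TS.preimage (u ≫ inv (ρ.app O))
  have hη : TS.map η ≫ ρ.app O = u := by simp [η]
  have hgen : ∀ y : o ⟶ pf.obj M, ∃ s : O ⟶ M, y = η ≫ pf.map s := fun y => by
    obtain ⟨h, hh⟩ := hu _ (TS.map y ≫ ρ.app M)
    refine ⟨TX.preimage h, TS.map_injective ((cancel_mono (ρ.app M)).1 ?_)⟩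
    have := ρ.naturality (TX.preimage h)
    simp only [Functor.comp_map, Functor.map_preimage] at this
    rw [hh, TS.map_comp, Category.assoc, this, ← Category.assoc, hη]
  let w₁ := TS'.preimage (inv (l.app o) ≫ Lg.map u ≫ τ.app (TX.obj O) ≫ Rf'.map (l'.app O) ≫
    inv (ρ'.app (pg'.obj O)))
  have hw₁ : l.app o ≫ TS'.map w₁ ≫ ρ'.app (pg'.obj O) = Lg.map u ≫ τ.app (TX.obj O) ≫ Rf'.map (l'.app O) := by
    simp [w₁]
  have key : ∀ s : O ⟶ M, pg.map (η ≫ pf.map s) ≫ φ = w₁ ≫ pf'.map (pg'.map s ≫ r) := fun s => by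
    apply TS'.map_injective
    rw [← cancel_epi (l.app o), ← cancel_mono (ρ'.app M')]
    simp only [Category.assoc, TS'.map_comp]
    have a1 := l.naturality (η ≫ pf.map s)
    have a5 := ρ'.naturality (pg'.map s ≫ r)
    have a2 := ρ.naturality s
    have a3 := τ.naturality (TX.map s)
    simp only [Functor.comp_map] at a1 a2 a3 a5
    rw [← reassoc_of% a1, ← hsq, a5, reassoc_of% hw₁, ← Lg.map_comp_assoc, TS.map_comp, Category.assoc, a2,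
      ← Category.assoc (TS.map η), hη, Lg.map_comp, Category.assoc, reassoc_of% a3]
    simp only [← Functor.map_comp, hθ]
  have hgen₁ : ∀ y : pg.obj o ⟶ pf'.obj (pg'.obj O), ∃ h : pg'.obj O ⟶ pg'.obj O, y = w₁ ≫ pf'.map h := fun y => by
    obtain ⟨h₀, hh₀⟩ := hτ _ (l.app o ≫ TS'.map y ≫ ρ'.app (pg'.obj O))
    refine ⟨TX'.preimage (inv (l'.app O) ≫ h₀), TS'.map_injective ?_⟩
    rw [← cancel_epi (l.app o), ← cancel_mono (ρ'.app (pg'.obj O))]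
    have a5 := ρ'.naturality (TX'.preimage (inv (l'.app O) ≫ h₀))
    simp only [Functor.comp_map, Functor.map_preimage] at a5
    simp only [Category.assoc, TS'.map_comp]
    rw [hh₀, a5, reassoc_of% hw₁, ← Rf'.map_comp, IsIso.hom_inv_id_assoc]
  obtain ⟨h₂, hh₂⟩ := hgen₁ (pg.map η ≫ c)
  obtain ⟨h₃, hh₃⟩ := hwc η hη w₁
  have h₂₃ : h₂ ≫ h₃ = 𝟙 _ := hcancel _ w₁ hgen₁ (by
    rw [Functor.map_comp, ← Category.assoc, ← hh₂, Category.assoc]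
    exact hh₃.symm)
  haveI : IsIso h₂ := ⟨h₃, h₂₃, (hcomm _ _).trans h₂₃⟩
  obtain ⟨k, hkiso, hk'⟩ := hk h₂ ‹_›
  haveI := hkiso
  have hφ : φ ≫ pf'.map (inv r ≫ k) = cM := by
    refine hdetect _ _ _ fun y => ?_
    obtain ⟨s, rfl⟩ := hgen y
    rw [reassoc_of% (key s), ← Functor.map_comp, Category.assoc, IsIso.hom_inv_id_assoc, ← hk' s, Functor.map_comp,
      ← Category.assoc, ← hh₂, Category.assoc, ← hc s, pg.map_comp, Category.assoc]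
  haveI : IsIso φ := by
    haveI : IsIso (φ ≫ pf'.map (inv r ≫ k)) := by rw [hφ]; infer_instance
    exact IsIso.of_isIso_comp_right φ (pf'.map (inv r ≫ k))
  have : τ.app (TX.obj M) ≫ Rf'.map θ = inv (Lg.map (ρ.app M)) ≫ l.app (pf.obj M) ≫ TS'.map φ ≫ ρ'.app M' := by
    rw [IsIso.eq_inv_comp]
    exact hsq
  rw [this]
  infer_instance

end Groth.Agent.DCohMore.BC
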