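import Groth.Agent.DCohMore.BCAffine
import Groth.Agent.DCohMore.BCTwistCore
import Groth.Agent.DCohMore.BCTop
import Groth.Agent.DCohMore.RelPerfTerms
import Groth.Agent.BCLib.TensorQCoh
import Groth.Agent.TorLib.Symm

/-!
# The twisted transform of affine schemes at the structure sheaf
-/

set_option autoImplicit false
set_option linter.style.haveILetI false
set_option linter.unusedSectionVars false
set_option backward.isDefEq.respectTransparency false
set_option maxHeartbeats 2000000

universe u

open CategoryTheory Limits AlgebraicGeometry TopologicalSpace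
attribute [local instance] HasDerivedCategory.standard

noncomputable section

namespace Groth.Agent.DCohMore.BC

open Groth.Agent.DCohLib

variable {X : Scheme.{u}}

/-- An endomorphism of the structure sheaf acts on every module. -/
def scalarNat (h : Coh.structureModule X ⟶ Coh.structureModule X) : 𝟭 X.Modules ⟶ 𝟭 X.Modules :=
  (ModTensor.tensorUnitRight X.sheaf).inv ≫ (DCoh.tensorBi (X := X)).flip.map h ≫
    (ModTensor.tensorUnitRight X.sheaf).hom

theorem isIso_scalarNat (h : Coh.structureModule X ⟶ Coh.structureModule X) [IsIso h] (M : X.Modules) :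
    IsIso ((scalarNat h).app M) := by
  simp only [scalarNat, NatTrans.comp_app]
  infer_instance

theorem scalarNat_app_unit (h : Coh.structureModule X ⟶ Coh.structureModule X) :
    (scalarNat h).app (Coh.structureModule X) = h := by
  let O := Coh.structureModule X
  let N : (DCoh.tensorBi (X := X)).obj O ≅ 𝟭 X.Modules :=
    (ModTensor.tensorSymm X.sheaf O).symm ≪≫ ModTensor.tensorUnitRight X.sheaf
  let q : O ≅ O := ((ModTensor.tensorUnitRight X.sheaf).app O).symm ≪≫ N.app O
  have h1 : ((DCoh.tensorBi (X := X)).obj O).map h = N.hom.app O ≫ h ≫ N.inv.app O := by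
    have := N.hom.naturality h
    simp only [Functor.id_map, Functor.id_obj] at this
    rw [← reassoc_of% this, Iso.hom_inv_id_app]
    exact (Category.comp_id _).symm
  show (ModTensor.tensorUnitRight X.sheaf).inv.app O ≫ ((DCoh.tensorBi (X := X)).obj O).map h ≫
    (ModTensor.tensorUnitRight X.sheaf).hom.app O = h
  rw [h1]
  have hq : q.hom ≫ h ≫ q.inv = h := by rw [← Category.assoc, unit_end_comm q.hom h, Category.assoc, q.hom_inv_id, Category.comp_id]
  refine Eq.trans ?_ hq
  simp [q, O]

theorem exists_scalar {G : X.Modules} {A : X.Modules} (i : A ≅ Coh.structureModule X) (h : A ⟶ A) (hh : IsIso h) :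
    ∃ k : G ⟶ G, IsIso k ∧ ∀ s : A ⟶ G, h ≫ s = s ≫ k := by
  let h₀ := i.inv ≫ h ≫ i.hom
  haveI := hh
  refine ⟨(scalarNat h₀).app G, isIso_scalarNat h₀ G, fun s => ?_⟩
  have n := (scalarNat h₀).naturality (i.inv ≫ s)
  simp only [Functor.id_map, Functor.id_obj, scalarNat_app_unit] at n
  rw [← cancel_epi i.inv]
  simpa [h₀] using n.symm

theorem nonempty_unit_tensor (G : X.Modules) :
    Nonempty ((DCoh.tensorRightMod G).obj (Coh.structureModule X) ≅ G) :=
  ⟨((ModTensor.tensorSymm X.sheaf G).app (Coh.structureModule X)) ≪≫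
    (ModTensor.tensorUnitRight X.sheaf).app G⟩

/-- The tensor product of a module placed in one degree. -/
theorem nonempty_lTensorMod_TT_unit (G : X.Modules) [DCoh.HasLTensorMod G] (k : ℤ) :
    Nonempty ((DCoh.LTensorMod G).obj ((TT X k).obj (Coh.structureModule X)) ≅
      (TT X k).obj ((DCoh.tensorRightMod G).obj (Coh.structureModule X))) := by
  have hS : DCoh.IsKFlat ((CochainComplex.singleFunctor X.Modules k).obj (Coh.structureModule X)) :=
    isKFlat_of_flat_bddAbove _ k (fun n hn => isZero_single_X _ k n (by omega)) fun n => by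
      rcases eq_or_ne n k with rfl | hn
      · exact isFlat_congr (HomologicalComplex.singleObjXSelf _ _ _).symm
          ((isFlat_iff _).2 (SiteBase.ExtZeroPre.isFlat_unit X.sheaf))
      · exact (isFlat_iff _).2 (ModTensor.isFlat_of_isZero X.sheaf (isZero_single_X _ k n hn))
  haveI := isIso_tensNat_app G _ hS
  exact ⟨asIso ((tensNat G).app _) ≪≫ DerivedCategory.Q.mapIso
    ((HomologicalComplex.singleMapHomologicalComplex (DCoh.tensorRightMod G) (ComplexShape.up ℤ) k).app _)⟩

/-- Goodness of a comparison of derived inverse images and tensor products. -/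
def Good {X X' : Scheme.{u}} {g' : X' ⟶ X} [DCoh.HasLpull g'] {G : X.Modules} {G' : X'.Modules}
    [DCoh.HasLTensorMod G] [DCoh.HasLTensorMod G']
    (θ : DCoh.LTensorMod G ⋙ DCoh.Lpull g' ⟶ DCoh.Lpull g' ⋙ DCoh.LTensorMod G') : Prop :=
  ∀ k : ℤ, IsIso ((DerivedCategory.homologyFunctor X'.Modules k).map
    (θ.app ((TT X k).obj (Coh.structureModule X))))

theorem good_theta {X X' : Scheme.{u}} (g' : X' ⟶ X) [DCoh.HasLpull g'] (G : X.Modules) [DCoh.HasLTensorMod G]
    [DCoh.HasLTensorMod ((Scheme.Modules.pullback g').obj G)] : Good (theta g' G) :=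
  fun k => isIso_homology_theta_unit g' G k

variable {R A B : Type u} [CommRing R] [CommRing A] [CommRing B] (φ : R →+* A) (ψ : R →+* B)
variable {X' : Scheme.{u}} {g' : X' ⟶ Spec (CommRingCat.of A)} {f' : X' ⟶ Spec (CommRingCat.of B)}

/-- A derived inverse image of the direct image of a flat module has no higher terms. -/
theorem isIso_lamN_pushforward_flat (k : ℤ) [DCoh.HasLpull (TildeLpull.specMap ψ)]
    (M : (Spec (CommRingCat.of A)).Modules) [Coh.IsQCoh M] (hM : FlatMod.IsFlatOver (TildeLpull.specMap φ) M) :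
    IsIso ((lamN (TildeLpull.specMap ψ) k).app ((Scheme.Modules.pushforward (TildeLpull.specMap φ)).obj M)) := by
  let f := TildeLpull.specMap φ
  let g := TildeLpull.specMap ψ
  haveI : IsAffineHom f := isAffineHom_of_isAffine _
  haveI : Coh.IsQCoh ((Scheme.Modules.pushforward f).obj M) := QCohLib.isQCoh_pushforward M f
  haveI : IsIso (Scheme.Modules.fromTildeΓ (R := CommRingCat.of A) M) :=
    @Scheme.Modules.isIso_fromTildeΓ_of_isQuasicoherent (CommRingCat.of A) _ ‹Coh.IsQCoh M›
  haveI : IsIso (Scheme.Modules.fromTildeΓ (R := CommRingCat.of R) ((Scheme.Modules.pushforward f).obj M)) :=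
    @Scheme.Modules.isIso_fromTildeΓ_of_isQuasicoherent (CommRingCat.of R) _
      ‹Coh.IsQCoh ((Scheme.Modules.pushforward f).obj M)›
  let N := (moduleSpecΓFunctor (R := CommRingCat.of A)).obj M
  let iM : (tilde.functor (CommRingCat.of A)).obj N ≅ M := asIso (Scheme.Modules.fromTildeΓ (R := CommRingCat.of A) M)
  have hN : Module.Flat R ((ModuleCat.restrictScalars.{u} φ).obj N) :=
    (isFlatOver_tilde_iff (A := CommRingCat.of A) φ N).1
      (isFlatOver_of_iso (TildeLpull.specMap φ) iM.symm hM)
  let M₀ := (moduleSpecΓFunctor (R := CommRingCat.of R)).obj ((Scheme.Modules.pushforward f).obj M)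
  haveI : Module.Flat R M₀ := @Module.Flat.of_linearEquiv _ _ _ _ _ _ _ _ hN
    ((TildePullback.pushforwardΓIso (CommRingCat.ofHom φ)).app M).toLinearEquiv
  have hM₀ : ∀ i : ℕ, 0 < i → Subsingleton (@DRing.Tor R _ i B M₀ _ ψ.toModule _ _) := fun i hi => by
    letI : Module R B := ψ.toModule
    obtain ⟨n, rfl⟩ : ∃ n, i = n + 1 := ⟨i - 1, by omega⟩
    obtain ⟨q⟩ := TorLib.tor_symm (A := R) (n + 1) B M₀
    haveI := TorLib.subsingleton_tor_of_flat (A := R) M₀ B n
    exact q.toEquiv.subsingleton
  have h1 := isIso_lamN_app g k _ (isIso_lpullCounit_single_tilde ψ M₀ k hM₀)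
  exact (NatTrans.isIso_app_iff_of_iso (lamN g k)
    (show (tilde.functor (CommRingCat.of R)).obj M₀ ≅ (Scheme.Modules.pushforward f).obj M from
      asIso (Scheme.Modules.fromTildeΓ (R := CommRingCat.of R) ((Scheme.Modules.pushforward f).obj M)))).1 h1

/-- The twisted transform of affine schemes, at the structure sheaf placed in one degree. -/
theorem isIso_twist_affine_generator (hsq : IsPullback g' f' (TildeLpull.specMap φ) (TildeLpull.specMap ψ))
    (G : (Spec (CommRingCat.of A)).Modules) [Coh.IsQCoh G] (hG : FlatMod.IsFlatOver (TildeLpull.specMap φ) G)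
    (G' : X'.Modules)
    [DCoh.HasLTensorMod G] [DCoh.HasLTensorMod G']
    [DCoh.HasRpush (TildeLpull.specMap φ)] [DCoh.HasRpush (TildeLpull.specMap ψ)]
    [DCoh.HasLpull (TildeLpull.specMap ψ)] [DCoh.HasRpush f'] [DCoh.HasRpush g'] [DCoh.HasLpull g']
    (θ : DCoh.LTensorMod G ⋙ DCoh.Lpull g' ⟶ DCoh.Lpull g' ⋙ DCoh.LTensorMod G') (hθ : Good θ)
    (adjg : DCoh.Lpull (TildeLpull.specMap ψ) ⊣ DCoh.Rpush (TildeLpull.specMap ψ))
    (adjg' : DCoh.Lpull g' ⊣ DCoh.Rpush g')
    (e : DCoh.Rpush g' ⋙ DCoh.Rpush (TildeLpull.specMap φ) ≅ DCoh.Rpush f' ⋙ DCoh.Rpush (TildeLpull.specMap ψ))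
    (k : ℤ) :
    IsIso ((bc adjg adjg' e).app ((DCoh.LTensorMod G).obj ((TT _ k).obj (Coh.structureModule _))) ≫
      (DCoh.Rpush f').map (θ.app ((TT _ k).obj (Coh.structureModule _)))) := by
  let f := TildeLpull.specMap φ
  let g := TildeLpull.specMap ψ
  haveI : IsAffineHom f := isAffineHom_of_isAffine _
  haveI : IsAffineHom g := isAffineHom_of_isAffine _
  haveI : IsAffineHom f' := MorphismProperty.of_isPullback (P := @IsAffineHom) hsq inferInstance
  haveI : IsAffineHom g' := MorphismProperty.of_isPullback (P := @IsAffineHom) hsq.flip inferInstance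
  haveI := hasLpull f
  let O := Coh.structureModule (Spec (CommRingCat.of A))
  let o := Coh.structureModule (Spec (CommRingCat.of R))
  let iX' : (Scheme.Modules.pullback g').obj O ≅ Coh.structureModule X' := pullStructureIso g'
  let M := (DCoh.tensorRightMod G).obj O
  haveI : Coh.IsQCoh O := CohBase.isQCoh_structureModule
  haveI : Coh.IsQCoh M := BCLib.isQCoh_tmod O G
  haveI hqO' : Coh.IsQCoh ((Scheme.Modules.pullback g').obj O) :=
    (SheafOfModules.isQuasicoherent X'.ringCatSheaf).prop_of_iso iX'.symm CohBase.isQCoh_structureModule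
  haveI : Coh.IsQCoh ((Scheme.Modules.pullback g').obj M) := PullbackMod.isQCoh_pullback g' M
  haveI : Coh.IsQCoh ((Scheme.Modules.pushforward f).obj M) := QCohLib.isQCoh_pushforward M f
  haveI := isIso_rhoN_app f k O
  haveI := isIso_rhoN_app f k M
  haveI := isIso_rhoN_app f' k ((Scheme.Modules.pullback g').obj O)
  have flat : ∀ Y : Scheme.{u}, FlatMod.IsFlat (Coh.structureModule Y) := fun Y =>
    (isFlat_iff _).2 (SiteBase.ExtZeroPre.isFlat_unit Y.sheaf)
  haveI := isIso_lamN_app_flat g k o (flat _)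
  haveI hlO : IsIso ((lamN g' k).app O) := isIso_lamN_app_flat g' k O (flat _)
  -- the twisted target
  obtain ⟨t⟩ := nonempty_lTensorMod_TT_unit G k
  let M' := (DCoh.tensorRightMod G').obj ((Scheme.Modules.pullback g').obj O)
  have hS : DCoh.IsKFlat ((CochainComplex.singleFunctor X'.Modules k).obj ((Scheme.Modules.pullback g').obj O)) :=
    isKFlat_of_flat_bddAbove _ k (fun n hn => isZero_single_X _ k n (by omega)) fun n => by
      rcases eq_or_ne n k with rfl | hn
      · exact isFlat_congr ((HomologicalComplex.singleObjXSelf _ _ _).symm)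
          (isFlat_congr iX'.symm (flat _))
      · exact (isFlat_iff _).2 (ModTensor.isFlat_of_isZero X'.sheaf (isZero_single_X _ k n hn))
  haveI := isIso_tensNat_app G' _ hS
  let t' : (DCoh.LTensorMod G').obj ((DCoh.Lpull g').obj ((TT _ k).obj O)) ≅ (TT X' k).obj M' :=
    (DCoh.LTensorMod G').mapIso (@asIso _ _ _ _ ((lamN g' k).app O) hlO) ≪≫ asIso ((tensNat G').app _) ≪≫
      DerivedCategory.Q.mapIso
        ((HomologicalComplex.singleMapHomologicalComplex (DCoh.tensorRightMod G') (ComplexShape.up ℤ) k).app _)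
  let θM : (DCoh.Lpull g').obj ((TT _ k).obj M) ⟶ (TT X' k).obj M' :=
    (DCoh.Lpull g').map t.inv ≫ θ.app _ ≫ t'.hom
  -- the comparison of the two top cohomologies
  let H := DerivedCategory.homologyFunctor X'.Modules k
  let ν : TT X' k ⋙ H ≅ 𝟭 X'.Modules :=
    Functor.isoWhiskerRight (DerivedCategory.singleFunctorIsoCompQ X'.Modules k).symm H ≪≫
      DerivedCategory.singleFunctorCompHomologyFunctorIso X'.Modules k
  haveI := isIso_homology_lamN g' k M
  haveI : IsIso (H.map ((lamN g' k).app M)) := ‹_›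
  haveI : IsIso (H.map (θ.app ((TT _ k).obj O))) := hθ k
  haveI : IsIso (H.map θM) := by
    simp only [θM, Functor.map_comp]
    infer_instance
  let r : (Scheme.Modules.pullback g').obj M ⟶ M' :=
    ν.inv.app _ ≫ inv (H.map ((lamN g' k).app M)) ≫ H.map θM ≫ ν.hom.app _
  haveI : IsIso r := inferInstance
  have hr : ∀ s : O ⟶ M, (DCoh.Lpull g').map ((TT _ k).map s) ≫ θM =
      (lamN g' k).app O ≫ (TT X' k).map ((Scheme.Modules.pullback g').map s ≫ r) := fun s => by
    obtain ⟨w, hw⟩ := (TT X' k).map_surjective (inv ((lamN g' k).app O) ≫ (DCoh.Lpull g').map ((TT _ k).map s) ≫ θM)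
    have hw' : (lamN g' k).app O ≫ (TT X' k).map w = (DCoh.Lpull g').map ((TT _ k).map s) ≫ θM := by
      rw [hw, IsIso.hom_inv_id_assoc]
    rw [← hw']
    congr 2
    have h1 : H.map ((DCoh.Lpull g').map ((TT _ k).map s)) ≫ H.map ((lamN g' k).app M) =
        H.map ((lamN g' k).app O) ≫ H.map ((TT X' k).map ((Scheme.Modules.pullback g').map s)) := by
      rw [← Functor.map_comp, ← Functor.map_comp]
      exact congrArg H.map ((lamN g' k).naturality s)
    have h2 : H.map ((lamN g' k).app O) ≫ H.map ((TT X' k).map w) =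
        H.map ((DCoh.Lpull g').map ((TT _ k).map s)) ≫ H.map θM := by
      rw [← Functor.map_comp, ← Functor.map_comp]
      exact congrArg H.map hw'
    have n1 : H.map ((TT X' k).map w) ≫ ν.hom.app M' = ν.hom.app _ ≫ w := ν.hom.naturality w
    have n3 : ∀ {Z : X'.Modules} (q : H.obj ((TT X' k).obj ((Scheme.Modules.pullback g').obj M)) ⟶ Z),
        ν.inv.app _ ≫ H.map ((TT X' k).map ((Scheme.Modules.pullback g').map s)) ≫ q =
          (Scheme.Modules.pullback g').map s ≫ ν.inv.app _ ≫ q := fun q => by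
      rw [← Category.assoc, ← Category.assoc]
      exact congrArg (· ≫ q) (ν.inv.naturality ((Scheme.Modules.pullback g').map s)).symm
    have h3 : H.map ((lamN g' k).app O) ≫ H.map ((TT X' k).map w) =
        H.map ((lamN g' k).app O) ≫ H.map ((TT X' k).map ((Scheme.Modules.pullback g').map s)) ≫
          inv (H.map ((lamN g' k).app M)) ≫ H.map θM := by
      rw [h2, ← Category.assoc (H.map ((lamN g' k).app O)), ← h1, Category.assoc, IsIso.hom_inv_id_assoc]
    rw [cancel_epi] at h3
    have h4 : w = ν.inv.app _ ≫ H.map ((TT X' k).map w) ≫ ν.hom.app M' := by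
      rw [n1]
      exact (ν.inv_hom_id_app_assoc _ w).symm
    rw [h4, h3]
    simp only [r, Category.assoc]
    exact n3 _
  haveI hqM' : Coh.IsQCoh M' := (SheafOfModules.isQuasicoherent X'.ringCatSheaf).prop_of_iso (asIso r) ‹_›
  haveI := isIso_rhoN_app f' k M'
  haveI : IsIso ((lamN g k).app ((Scheme.Modules.pushforward f).obj M)) :=
    isIso_lamN_pushforward_flat φ ψ k M (isFlatOver_of_iso _ (nonempty_unit_tensor G).some.symm hG)
  -- the universal element
  let adjf := lpullRpushAdj f
  haveI := isIso_lamN_app_flat f k o (flat _)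
  let j : (DCoh.Lpull f).obj ((TT _ k).obj o) ≅ (TT _ k).obj O :=
    asIso ((lamN f k).app o) ≪≫ (TT _ k).mapIso (pullStructureIso f)
  let u := adjf.unit.app ((TT _ k).obj o) ≫ (DCoh.Rpush f).map j.hom
  have hu : ∀ (P : DCoh.D (Spec (CommRingCat.of A))) (v : (TT _ k).obj o ⟶ (DCoh.Rpush f).obj P),
      ∃ h : (TT _ k).obj O ⟶ P, v = u ≫ (DCoh.Rpush f).map h := fun P v => by
    refine ⟨j.inv ≫ (adjf.homEquiv _ _).symm v, ?_⟩
    simp only [u, Category.assoc, ← Functor.map_comp, Iso.hom_inv_id_assoc]
    exact ((adjf.homEquiv _ _).apply_symm_apply v).symm.trans (adjf.homEquiv_unit _ _ _)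
  let e₀ : Scheme.Modules.pushforward g' ⋙ Scheme.Modules.pushforward f ≅
      Scheme.Modules.pushforward f' ⋙ Scheme.Modules.pushforward g :=
    Scheme.Modules.pushforwardComp g' f ≪≫ Scheme.Modules.pushforwardCongr hsq.w ≪≫
      (Scheme.Modules.pushforwardComp f' g).symm
  let c₀ := bc (Scheme.Modules.pullbackPushforwardAdjunction g) (Scheme.Modules.pullbackPushforwardAdjunction g') e₀
  haveI : IsIso (c₀.app M) := by
    have := Groth.Agent.S12131.result f g g' f' hsq M
    exact this
  have key : IsIso ((bc adjg adjg' e).app ((TT _ k).obj M) ≫ (DCoh.Rpush f').map θM) := by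
    refine isIso_twist_at_generator (bc adjg adjg' e) (rhoN f k) (rhoN f' k) (lamN g k) (lamN g' k) O M M' o u hu
      (fun P y => exists_factor_bc adjg adjg' e u hu P y) θM r hr (c₀.app O) (c₀.app M) (fun s => c₀.naturality s)
      (fun η hη y => ?_) (fun h w hw hwh => ?_) (fun a b => end_comm iX' a b) (fun h hh => ?_) (fun Z a b hab => ?_)
    · haveI : Coh.IsQCoh ((Scheme.Modules.pushforward g').obj ((Scheme.Modules.pullback g').obj O)) :=
        QCohLib.isQCoh_pushforward _ g'
      haveI := isIso_rhoN_app f k ((Scheme.Modules.pushforward g').obj ((Scheme.Modules.pullback g').obj O))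
      refine exists_factor_bc' (Scheme.Modules.pullbackPushforwardAdjunction g)
        (Scheme.Modules.pullbackPushforwardAdjunction g') e₀ η _ (fun v => ?_) y
      obtain ⟨h, hh⟩ := hu _ ((TT _ k).map v ≫ (rhoN f k).app _)
      refine ⟨(TT _ k).preimage h, (TT _ k).map_injective ((cancel_mono ((rhoN f k).app _)).1 ?_)⟩
      have n : (TT _ k).map ((Scheme.Modules.pushforward f).map ((TT _ k).preimage h)) ≫
          (rhoN f k).app ((Scheme.Modules.pushforward g').obj ((Scheme.Modules.pullback g').obj O)) =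
          (rhoN f k).app O ≫ (DCoh.Rpush f).map h := by
        refine ((rhoN f k).naturality ((TT _ k).preimage h)).trans ?_
        exact congrArg (fun z => (rhoN f k).app O ≫ (DCoh.Rpush f).map z) ((TT _ k).map_preimage h)
      calc _ = u ≫ (DCoh.Rpush f).map h := hh
        _ = (TT _ k).map η ≫ (rhoN f k).app O ≫ (DCoh.Rpush f).map h := by rw [← hη, Category.assoc]
        _ = _ := by rw [← n, Functor.map_comp, Category.assoc]
    · let one : (Scheme.Modules.pullback g).obj o ⟶
          (Scheme.Modules.pushforward f').obj ((Scheme.Modules.pullback g').obj O) :=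
        (pullStructureIso g).hom ≫ secHom _ (iX'.inv.app ⊤ (1 : Γ(X', ⊤)))
      obtain ⟨h₁, h1eq⟩ := hw one
      have e1 : one ≫ (Scheme.Modules.pushforward f').map h = one := by
        rw [h1eq, Category.assoc, ← Functor.map_comp, end_comm iX' h₁ h, Functor.map_comp, reassoc_of% hwh]
      rw [← cancel_epi iX'.inv, Category.comp_id]
      refine hom_unit_ext ?_
      have e2 := congrArg (fun z => ((pullStructureIso g).inv ≫ z).app ⊤ (1 : Γ(Spec (CommRingCat.of B), ⊤))) e1
      simp only [one, Category.assoc, Iso.inv_hom_id_assoc, Scheme.Modules.Hom.comp_app, ConcreteCategory.comp_apply,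
        secHom_app_one] at e2
      rw [show (homOfLE (le_top : (⊤ : (Spec (CommRingCat.of B)).Opens) ≤ ⊤)) = 𝟙 _ from Subsingleton.elim _ _] at e2
      erw [op_id, ((Scheme.Modules.pushforward f').obj ((Scheme.Modules.pullback g').obj O)).presheaf.map_id] at e2
      exact e2
    · obtain ⟨k', hk', hks⟩ := exists_scalar (G := (Scheme.Modules.pullback g').obj M) iX' h hh
      exact ⟨k', hk', fun s => hks _⟩
    · apply ((Scheme.Modules.pullbackPushforwardAdjunction g).homEquiv _ _).injective
      refine hom_ext_qcoh _ _ fun y => ?_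
      rw [← Adjunction.homEquiv_naturality_left, ← Adjunction.homEquiv_naturality_left, hab y]
  have n : (DCoh.Lpull g).map ((DCoh.Rpush f).map t.inv) ≫ (bc adjg adjg' e).app _ =
      (bc adjg adjg' e).app ((TT _ k).obj M) ≫ (DCoh.Rpush f').map ((DCoh.Lpull g').map t.inv) :=
    (bc adjg adjg' e).naturality t.inv
  simp only [θM, Functor.map_comp] at key
  rw [← Category.assoc, ← n, Category.assoc] at key
  have key' := (isIso_comp_left_iff _ _).1 key
  rw [← Category.assoc] at key'
  exact (isIso_comp_right_iff _ ((DCoh.Rpush f').map t'.hom)).1 key'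

end Groth.Agent.DCohMore.BC
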