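import Groth.Agent.DCohMore.BCTwist
import Groth.Agent.DCohMore.BCTwistAffine
import Groth.Agent.DCohMore.BCMain
import Groth.Agent.DCohMore.RpushPerf
import Groth.Agent.DCohMore.ProjLoc
import Groth.Agent.S1118

/-!
# Derived tensor products with a module and twisted comparisons on open subschemes
-/

set_option autoImplicit false
set_option linter.style.haveILetI false
set_option linter.unusedSectionVars false
set_option backward.isDefEq.respectTransparency false
set_option maxHeartbeats 1000000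

universe u

open CategoryTheory Limits AlgebraicGeometry TopologicalSpace Pretriangulated
attribute [local instance] HasDerivedCategory.standard

noncomputable section

namespace Groth.Agent.DCohMore.BC

open Groth.Agent.DCohLib

variable {X X' U U' S : Scheme.{u}}

/-- Derived tensor products with a module are triangulated up to the connecting map. -/
theorem exTri_lTensorMod (G : X.Modules) [DCoh.HasLTensorMod G] : ExTri (DCoh.LTensorMod G) := by
  refine exTri_of_resolved _ (fun {P Q} _ => DCoh.IsKFlat P ∧ DCoh.IsKFlat Q) (fun T hT => ?_) fun {P Q} φ hφ => ?_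
  · obtain ⟨P, Q, φ, hP, hQ, -, -, ⟨e⟩⟩ := exists_resolved T hT
    exact ⟨P, Q, φ, ⟨hP, hQ⟩, ⟨e.symm⟩⟩
  · haveI := isIso_tensNat_app G _ hφ.2
    haveI := isIso_tensNat_app G _ (isKFlat_cone φ hφ.1 hφ.2)
    haveI := isIso_tensNat_app G _ (isKFlat_shift hφ.1 1)
    let S := CochainComplex.mappingCone.triangleRotateShortComplex φ
    haveI : IsIso ((tensNat G).app S.X₁) := isIso_tensNat_app G _ hφ.2
    haveI : IsIso ((tensNat G).app S.X₂) := isIso_tensNat_app G _ (isKFlat_cone φ hφ.1 hφ.2)
    haveI : IsIso ((tensNat G).app S.X₃) := isIso_tensNat_app G _ (isKFlat_shift hφ.1 1)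
    refine exists_triangle_of_iso (asIso ((tensNat G).app S.X₁)) (asIso ((tensNat G).app S.X₂))
      (asIso ((tensNat G).app S.X₃)) ((tensNat G).naturality S.f) ((tensNat G).naturality S.g)
      (exists_triangle_of_shortExact (S := S.map (tensCx G)) ?_)
    exact HomologicalComplex.shortExact_of_degreewise_shortExact _
      fun n => ((CochainComplex.mappingCone.triangleRotateShortComplexSplitting φ n).map
        (DCoh.tensorRightMod G)).shortExact

/-- Derived tensor products with a module commute with sums. -/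
theorem preservesCoproduct_lTensorMod (G : X.Modules) [DCoh.HasLTensorMod G] {κ : Type u} (W : κ → DCoh.D X) :
    PreservesColimit (Discrete.functor W) (DCoh.LTensorMod G) := by
  let F := fun k => (resX X).obj (DerivedCategory.Q.objPreimage (W k))
  have hF : ∀ k, DCoh.IsKFlat (F k) := fun k => isKFlat_resX _
  let eM := fun k => (resXIso (W k)).symm
  obtain ⟨hQ⟩ := nonempty_isColimit_Q W (coproductIsCoproduct F : IsColimit (Cofan.mk (∐ F) (Sigma.ι F))) eM
  haveI : PreservesColimitsOfShape (Discrete κ) (DCoh.tensorRightMod G) :=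
    haveI : PreservesColimitsOfShape (Discrete κ) ((ModSite.tensorBi X.sheaf).obj G) :=
      (ModTensor.preservesColimitsOfSize_tensorBi_obj X.sheaf G).preservesColimitsOfShape
    preservesColimitsOfShape_of_natIso (ModTensor.tensorSymm X.sheaf G).symm
  haveI := preservesCoproduct_mapCx (κ := κ) (DCoh.tensorRightMod G)
  obtain ⟨hψ⟩ := nonempty_isColimit_comp_Q (tensCx G) F
  haveI : ∀ k, IsIso ((tensNat G).app (F k)) := fun k => isIso_tensNat_app G _ (hF k)
  haveI : IsIso ((tensNat G).app (∐ F)) := isIso_tensNat_app G _ (isKFlat_sigma F hF)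
  let e := fun k => (DCoh.LTensorMod G).mapIso (eM k) ≪≫ asIso ((tensNat G).app (F k))
  let e₀ := asIso ((tensNat G).app (∐ F))
  refine preservesColimit_of_preserves_colimit_cocone hQ
    ((isColimitMapCoconeCofanMkEquiv (DCoh.LTensorMod G) _ _).symm (IsColimit.ofIsoColimit
      ((IsColimit.precomposeHomEquiv (Discrete.natIso fun ⟨k⟩ => e k) _).symm hψ) ?_))
  refine Cofan.ext e₀.symm fun k => ?_
  show ((e k).hom ≫ DerivedCategory.Q.map ((tensCx G).map (Sigma.ι F k))) ≫ e₀.inv =
    (DCoh.LTensorMod G).map ((eM k).hom ≫ DerivedCategory.Q.map (Sigma.ι F k))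
  refine (Iso.comp_inv_eq e₀).2 ?_
  rw [Functor.map_comp, Category.assoc]
  refine Eq.trans ?_ (congrArg (_ ≫ ·) ((tensNat G).naturality (Sigma.ι F k))).symm
  exact Category.assoc _ _ _

theorem isQCohD_lTensorMod (G : X.Modules) [DCoh.HasLTensorMod G] (hG : Coh.IsQCoh G) (E : DCoh.D X)
    (hE : DCoh.IsQCohD E) : DCoh.IsQCohD ((DCoh.LTensorMod G).obj E) :=
  TildeD.isQCohD_of_iso (nonempty_lTensorMod_single G E).some.symm
    (TildeD.isQCohD_lTensorCx _ (isQCohD_sgl₀ G hG) E hE)

/-- Tensor products of direct images come from the source. -/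
theorem exists_iso_rpush (j : U ⟶ X) [QuasiCompact j] [QuasiSeparated j] [DCoh.HasRpush j] (G : X.Modules)
    [DCoh.HasLTensorMod G] (hG : Coh.IsQCoh G) (N : DCoh.D U) (hN : DCoh.IsQCohD N) :
    ∃ N' : DCoh.D U, Nonempty ((DCoh.LTensorMod G).obj ((DCoh.Rpush j).obj N) ≅ (DCoh.Rpush j).obj N') := by
  haveI := hasLpull j
  let P := (resX X).obj (sgl₀ G)
  have hP : DCoh.IsKFlat P := isKFlat_resX _
  let eP : DerivedCategory.Q.obj P ≅ DerivedCategory.Q.obj (sgl₀ G) := @asIso _ _ _ _ _ (isIso_Q_resXπ (sgl₀ G))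
  obtain ⟨r⟩ := Groth.Agent.S1118.result j N hN (sgl₀ G) (isQCohD_sgl₀ G hG) ((pullCx j).obj P)
    ⟨(lpullIsoK j P hP).symm ≪≫ (DCoh.Lpull j).mapIso eP⟩
  exact ⟨_, ⟨(nonempty_lTensorMod_single G _).some ≪≫ r⟩⟩

/-- The twisted comparison on open subschemes. -/
theorem good_restrict {g' : X' ⟶ X} {g'' : U' ⟶ U} (j : U ⟶ X) [IsOpenImmersion j] (j' : U' ⟶ X')
    [IsOpenImmersion j'] [DCoh.HasLpull g'] [DCoh.HasLpull g''] [DCoh.HasLpull j] [DCoh.HasLpull j']
    [DCoh.HasRpush j] (G : X.Modules) (G' : X'.Modules) [DCoh.HasLTensorMod G] [DCoh.HasLTensorMod G']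
    [IsIso (theta j G)] [IsIso (theta j' G')]
    (adjj : DCoh.Lpull j ⊣ DCoh.Rpush j) [IsIso adjj.counit]
    (c : DCoh.Lpull j ⋙ DCoh.Lpull g'' ≅ DCoh.Lpull g' ⋙ DCoh.Lpull j')
    (θ : DCoh.LTensorMod G ⋙ DCoh.Lpull g' ⟶ DCoh.Lpull g' ⋙ DCoh.LTensorMod G') (hθ : Good θ) :
    Good (descend adjj (restrictEta c (asIso (theta j G)) (asIso (theta j' G')) θ)) := fun k => by
  let O := Coh.structureModule X
  let θU := descend adjj (restrictEta c (asIso (theta j G)) (asIso (theta j' G')) θ)
  haveI : IsIso ((lamN j k).app O) :=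
    isIso_lamN_app_flat j k O ((isFlat_iff _).2 (SiteBase.ExtZeroPre.isFlat_unit X.sheaf))
  let s : (DCoh.Lpull j).obj ((TT X k).obj O) ≅ (TT U k).obj (Coh.structureModule U) :=
    asIso ((lamN j k).app O) ≪≫ (TT U k).mapIso (pullStructureIso j)
  let H := DerivedCategory.homologyFunctor U'.Modules k
  refine (NatTrans.isIso_app_iff_of_iso (Functor.whiskerRight θU H) s).1 ?_
  show IsIso (H.map (θU.app ((DCoh.Lpull j).obj ((TT X k).obj O))))
  rw [descend_app_obj]
  refine isIso_map_restrictEta H c _ _ θ _ ?_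
  refine (NatIso.isIso_map_iff (Functor.isoWhiskerRight (lpullRestrictNatIso j') H) _).2 ?_
  refine (NatIso.isIso_map_iff (TildeD.nu (Scheme.Modules.restrictFunctor j') k) _).2 ?_
  haveI := hθ k
  exact inferInstanceAs (IsIso ((Scheme.Modules.restrictFunctor j').map
    ((DerivedCategory.homologyFunctor X'.Modules k).map (θ.app ((TT X k).obj O)))))

/-- Flatness over the base on a chart. -/
theorem isFlatOver_pullback_chart {W XW : Scheme.{u}} (f : X ⟶ S) (k' : XW ⟶ X) [IsOpenImmersion k'] (fW : XW ⟶ W)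
    (s : W ⟶ S) [IsOpenImmersion s] (h : k' ≫ f = fW ≫ s) (G : X.Modules) (hG : FlatMod.IsFlatOver f G) :
    FlatMod.IsFlatOver fW ((Scheme.Modules.pullback k').obj G) := by
  refine isFlatOver_of_iso fW ((Scheme.Modules.restrictFunctorIsoPullback k').app G) fun x => ?_
  refine (isFlatOverAt_comp_iff fW s _ x).1 ?_
  rw [← h]
  exact (isFlatOverAt_restrict_iff k' f G x).2 (hG _)

theorem isFlatOver_pullback_open (f : X ⟶ S) (j : U ⟶ X) [IsOpenImmersion j] (G : X.Modules)
    (hG : FlatMod.IsFlatOver f G) : FlatMod.IsFlatOver (j ≫ f) ((Scheme.Modules.pullback j).obj G) :=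
  isFlatOver_of_iso _ ((Scheme.Modules.restrictFunctorIsoPullback j).app G)
    fun x => (isFlatOverAt_restrict_iff j f G x).2 (hG _)

end Groth.Agent.DCohMore.BC
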