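import Groth.Agent.DCohMore.TwistProj
import Groth.Agent.DCohMore.BCTwistOps
import Groth.Agent.DCohMore.RpushQC
import Groth.Agent.ProjTwist.Vanish
import Groth.Agent.QCohLib.Push
import Groth.Agent.S0024
import Groth.Agent.AmpleLib.GenLocus

/-!
# Direct images of twisting sheaves on projective space over an affine base
-/

set_option autoImplicit false
set_option linter.style.haveILetI false
set_option linter.unusedSectionVars false
set_option maxHeartbeats 1000000
set_option backward.isDefEq.respectTransparency false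

universe u

open CategoryTheory CategoryTheory.Limits AlgebraicGeometry TopologicalSpace Opposite
open Groth.Agent.DCohLib

attribute [local instance] HasDerivedCategory.standard

noncomputable section

namespace Groth.Agent.DCohMore.TwistFam

/-- Maps from shifts of the structure sheaf to a module are cohomology classes. -/
theorem hom_single_eq_zero {X : Scheme.{u}} (G : X.Modules) (n : ℤ)
    (h : 0 < n ∨ Subsingleton (Coh.HH X G (-n).toNat))
    (φ : (DCoh.inD X (Coh.structureModule X))⟦n⟧ ⟶ DCoh.inD X G) : φ = 0 := by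
  let O := Coh.structureModule X
  by_cases hn : 0 < n
  · haveI : ((DCoh.inD X O)⟦n⟧).IsLE (-n) :=
      DerivedCategory.TStructure.t.isLE_shift _ 0 n (-n) (by omega)
    exact DerivedCategory.TStructure.t.zero_of_isLE_of_isGE φ (-n) 0 (by omega) inferInstance inferInstance
  · replace h : Subsingleton (Coh.HH X G (-n).toNat) := h.resolve_left hn
    haveI : IsGrothendieckAbelian.{u} X.Modules :=
      ModTensor.isGrothendieckAbelian_mod (C := TopologicalSpace.Opens X) X.sheaf
    haveI : HasExt.{u} X.Modules := inferInstance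
    obtain ⟨e⟩ := SiteBase.nonempty_ext_unit_H X.ringCatSheaf G (-n).toNat
    haveI : Subsingleton (Abelian.Ext.{u} O G (-n).toNat) := by
      haveI : Subsingleton (Sheaf.H.{u} ((SheafOfModules.toSheaf X.ringCatSheaf).obj G) (-n).toNat) := h
      exact e.toEquiv.subsingleton
    haveI : Subsingleton (ShiftedHom (DCoh.inD X O) (DCoh.inD X G) ((-n).toNat : ℤ)) :=
      (Abelian.Ext.homEquiv (X := O) (Y := G) (n := (-n).toNat)).symm.subsingleton
    let m : ℤ := ((-n).toNat : ℤ)
    let a : ((DCoh.inD X O)⟦n⟧)⟦m⟧ ≅ DCoh.inD X O :=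
      ((shiftFunctorCompIsoId (DCoh.D X) n m (by simp [m]; omega)).app _)
    apply (shiftFunctor (DCoh.D X) m).map_injective
    rw [Functor.map_zero, ← cancel_epi a.inv, comp_zero]
    exact Subsingleton.elim (α := ShiftedHom (DCoh.inD X O) (DCoh.inD X G) m) _ _

/-- A cohomology sheaf on an affine scheme vanishes when no shifted structure sheaf maps to it. -/
theorem isZero_HD_of_orth {R : CommRingCat.{u}} (V : DCoh.D (Spec R)) (hV : DCoh.IsQCohD V)
    [PreservesFiniteLimits (tilde.functor R)] (q : ℤ)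
    (h : ∀ φ : ((DCoh.tildeD R).obj (Dual.inD R R))⟦-q⟧ ⟶ V, φ = 0) : IsZero (DCoh.HD V q) := by
  let S := (DerivedCategory.singleFunctor (ModuleCat.{u} R) q).obj (ModuleCat.of R R)
  let s : S ≅ (Dual.inD R R)⟦-q⟧ :=
    (((DerivedCategory.singleFunctors (ModuleCat.{u} R)).shiftIso (-q) q 0 (by omega)).app (ModuleCat.of R R)).symm
  let W := (DCoh.tildeD R).obj S
  have hsub : Subsingleton (W ⟶ V) := by
    refine ⟨fun a b => ?_⟩
    let c : W ≅ ((DCoh.tildeD R).obj (Dual.inD R R))⟦-q⟧ :=
      (DCoh.tildeD R).mapIso s ≪≫ ((DCoh.tildeD R).commShiftIso (-q)).app _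
    rw [← cancel_epi c.inv, h (c.inv ≫ a), h (c.inv ≫ b)]
  obtain ⟨N, ⟨eN⟩⟩ := @TildeD.qcoh_exists_tilde R (DCoh.HD V q) (hV q)
  refine IsZero.of_iso ((tilde.functor R).map_isZero ?_) eN.symm
  haveI : Subsingleton ((DCoh.tildeD R).obj S ⟶ V) := hsub
  haveI : Subsingleton ((DerivedCategory.homologyFunctor (Spec R).Modules q).obj W ⟶
      (DerivedCategory.homologyFunctor (Spec R).Modules q).obj V) :=
    @Equiv.subsingleton _ _ (Equiv.ofBijective _ (TildeD.homology_map_bijective_qcoh R q V hV)).symm hsub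
  let c : (DerivedCategory.homologyFunctor (Spec R).Modules q).obj W ≅ (tilde.functor R).obj (ModuleCat.of R R) :=
    (TildeD.nuT R q).app S ≪≫ (tilde.functor R).mapIso
      ((DerivedCategory.singleFunctorCompHomologyFunctorIso (ModuleCat.{u} R) q).app (ModuleCat.of R R))
  haveI : Subsingleton ((tilde.functor R).obj (ModuleCat.of R R) ⟶ (tilde.functor R).obj N) :=
    (Iso.homCongr c (eN.symm : (DerivedCategory.homologyFunctor (Spec R).Modules q).obj V ≅ _)).symm.subsingleton
  haveI : Subsingleton (ModuleCat.of R R ⟶ N) :=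
    (tilde.fullyFaithfulFunctor (R := R)).homEquiv.subsingleton
  refine (IsZero.iff_id_eq_zero _).2 (ModuleCat.hom_ext (LinearMap.ext fun z => ?_))
  simpa using congr($(Subsingleton.elim (ModuleCat.ofHom (LinearMap.toSpanSingleton R _ z)) 0) (1 : R))

/-- The derived inverse image of the structure sheaf. -/
theorem nonempty_lpull_structure {X Y : Scheme.{u}} (f : X ⟶ Y) [DCoh.HasLpull f] :
    Nonempty ((DCoh.Lpull f).obj (DCoh.inD Y (Coh.structureModule Y)) ≅ DCoh.inD X (Coh.structureModule X)) :=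
  haveI : IsIso ((BC.lamN f 0).app (Coh.structureModule Y)) :=
    BC.isIso_lamN_app_flat f 0 _ ((isFlat_iff _).2 (SiteBase.ExtZeroPre.isFlat_unit Y.sheaf))
  ⟨asIso ((BC.lamN f 0).app (Coh.structureModule Y)) ≪≫ (BC.TT X 0).mapIso (pullStructureIso f)⟩

/-- A cohomology sheaf of a direct image to an affine scheme vanishes with the cohomology group. -/
theorem isZero_HD_rpush_single {X : Scheme.{u}} {R : CommRingCat.{u}} (f : X ⟶ Spec R) [QuasiCompact f]
    [QuasiSeparated f] [DCoh.HasRpush f] (G : X.Modules) (hG : Coh.IsQCoh G) (q : ℤ)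
    (h : q < 0 ∨ Subsingleton (Coh.HH X G q.toNat)) :
    IsZero (DCoh.HD ((DCoh.Rpush f).obj (DCoh.inD X G)) q) := by
  haveI := hasLpull f
  haveI : PreservesFiniteLimits (tilde.functor R) := TildeD.preservesFiniteLimits_tilde
  refine isZero_HD_of_orth _ (isQCohD_rpush f _ (TildeD.isQCohD_of_iso ((DerivedCategory.singleFunctorIsoCompQ X.Modules 0).app G).symm (isQCohD_sgl₀ G hG))) q fun φ => ?_
  let o : (DCoh.tildeD R).obj (Dual.inD R R) ≅ DCoh.inD (Spec R) (Coh.structureModule _) :=
    ((tilde.functor R).mapDerivedCategorySingleFunctor 0).app _ ≪≫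
      (DerivedCategory.singleFunctor (Spec R).Modules 0).mapIso tildeSelf
  let T := ((DCoh.tildeD R).obj (Dual.inD R R))⟦-q⟧
  let a : T ≅ (DCoh.inD (Spec R) (Coh.structureModule _))⟦-q⟧ := (shiftFunctor _ (-q)).mapIso o
  let sY := ((DerivedCategory.singleFunctors (Spec R).Modules).shiftIso (-q) q 0 (by omega)).app (Coh.structureModule _)
  let sX := ((DerivedCategory.singleFunctors X.Modules).shiftIso (-q) q 0 (by omega)).app (Coh.structureModule X)
  haveI : IsIso ((BC.lamN f q).app (Coh.structureModule (Spec R))) :=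
    BC.isIso_lamN_app_flat f q _ ((isFlat_iff _).2 (SiteBase.ExtZeroPre.isFlat_unit (Spec R).sheaf))
  let b : (DCoh.Lpull f).obj ((DCoh.inD (Spec R) (Coh.structureModule _))⟦-q⟧) ≅
      (DCoh.inD X (Coh.structureModule X))⟦-q⟧ :=
    (DCoh.Lpull f).mapIso sY ≪≫ asIso ((BC.lamN f q).app (Coh.structureModule (Spec R))) ≪≫
      (BC.TT X q).mapIso (pullStructureIso f) ≪≫ sX.symm
  rw [← cancel_epi a.inv, comp_zero]
  apply ((lpullRpushAdj f).homEquiv _ _).symm.injective
  rw [← cancel_epi b.inv]
  refine (hom_single_eq_zero G (-q) ?_ _).trans (hom_single_eq_zero G (-q) ?_ _).symm <;>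
    (rcases h with h | h
     · exact Or.inl (by omega)
     · exact Or.inr (by rwa [neg_neg]))

variable (n : ℕ) (R : Type u) [CommRing R]

/-- Twists in the window have zero direct image. -/
theorem isZero_rpush_twist [DCoh.HasRpush (CohB1.ProjSpace.toSpec n R)] (d : ℤ) (h₀ : d < 0) (hn : -(n : ℤ) ≤ d) :
    IsZero ((DCoh.Rpush (CohB1.ProjSpace.toSpec n R)).obj
      (DCoh.inD (CohB1.ProjSpace n R) (Twist.twistProjSpace n R d))) :=
  isZero_of_isZero_HD fun q => isZero_HD_rpush_single _ _ (isQCoh_projMul n R d) q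
    (Or.inr (ProjTwist.subsingleton_HH n R d q.toNat (by omega) (by omega)))

/-- A morphism to an affine scheme which is bijective on global functions pushes `O` to `O`. -/
theorem nonempty_push_structure {X : Scheme.{u}} {R : CommRingCat.{u}} (f : X ⟶ Spec R) [QuasiCompact f]
    [QuasiSeparated f] [IsIso f.appTop] :
    Nonempty ((Scheme.Modules.pushforward f).obj (Coh.structureModule X) ≅ Coh.structureModule (Spec R)) := by
  let P := (Scheme.Modules.pushforward f).obj (Coh.structureModule X)
  haveI : Coh.IsQCoh P := QCohLib.isQCoh_pushforward (M := Coh.structureModule X) f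
  let u : Coh.structureModule (Spec R) ⟶ P := secHom P (1 : Γ(X, ⊤))
  let ev : (TildeD.OSpec R ⟶ Coh.structureModule (Spec R)) → Γ(Spec R, ⊤) := fun x =>
    AmpleLib.sec (L := Coh.structureModule (Spec R)) (tildeSelf.inv ≫ x)
  let ev' : (TildeD.OSpec R ⟶ P) → Γ(X, ⊤) := fun x => AmpleLib.sec (L := P) (tildeSelf.inv ≫ x)
  have hev : Function.Bijective ev := by
    refine ⟨fun a b hab => ?_, fun r => ⟨tildeSelf.hom ≫ secHom (Coh.structureModule (Spec R)) (show Γ(Coh.structureModule (Spec R), ⊤) from r), ?_⟩⟩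
    · rw [← cancel_epi tildeSelf.inv, ← AmpleLib.secHom_sec (tildeSelf.inv ≫ a)]
      exact (congrArg _ hab).trans (AmpleLib.secHom_sec _)
    · show AmpleLib.sec (L := Coh.structureModule (Spec R)) (tildeSelf.inv ≫ tildeSelf.hom ≫ secHom (Coh.structureModule (Spec R)) _) = _
      rw [Iso.inv_hom_id_assoc, AmpleLib.sec_secHom]
  have hev' : Function.Bijective ev' := by
    refine ⟨fun a b hab => ?_, fun r => ⟨tildeSelf.hom ≫ secHom P (show Γ(P, ⊤) from r), ?_⟩⟩
    · rw [← cancel_epi tildeSelf.inv, ← AmpleLib.secHom_sec (tildeSelf.inv ≫ a)]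
      exact (congrArg _ hab).trans (AmpleLib.secHom_sec _)
    · show AmpleLib.sec (L := P) (tildeSelf.inv ≫ tildeSelf.hom ≫ secHom (P) _) = _
      rw [Iso.inv_hom_id_assoc, AmpleLib.sec_secHom]
  have hc : ev' ∘ (fun x => x ≫ u) = (fun r => f.appTop r) ∘ ev := by
    funext x
    show u.app ⊤ (ev x) = _
    rw [AmpleLib.app_eq, AmpleLib.sec_secHom, AmpleLib.resT, res_self]
    show (show Γ(X, ⊤) from f.appTop (ev x)) * (1 : Γ(X, ⊤)) = _
    exact mul_one _
  haveI : IsIso u := TildeD.isIso_of_bijective_qcoh R u ((Function.Bijective.of_comp_iff' hev' _).1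
    (hc ▸ (ConcreteCategory.bijective_of_isIso f.appTop).comp hev))
  exact ⟨(asIso u).symm⟩

/-- The direct image of the structure sheaf of projective space. -/
theorem nonempty_rpush_structure [DCoh.HasRpush (CohB1.ProjSpace.toSpec n R)] :
    Nonempty ((DCoh.Rpush (CohB1.ProjSpace.toSpec n R)).obj
        (DCoh.inD (CohB1.ProjSpace n R) (Coh.structureModule (CohB1.ProjSpace n R))) ≅
      DCoh.inD (Spec (CommRingCat.of R)) (Coh.structureModule _)) := by
  let π := CohB1.ProjSpace.toSpec n R
  let X := CohB1.ProjSpace n R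
  let S := Spec (CommRingCat.of R)
  let O := Coh.structureModule X
  let K := (DCoh.Rpush π).obj (DCoh.inD X O)
  have hneg : ∀ q : ℤ, q ≠ 0 → IsZero (DCoh.HD K q) := fun q hq =>
    isZero_HD_rpush_single π O inferInstance q (by
      rcases lt_or_gt_of_ne hq with h | h
      · exact Or.inl h
      · haveI : Subsingleton (Coh.HH X ((projMul n R).F 0) q.toNat) :=
          ProjTwist.subsingleton_HH n R 0 q.toNat (by omega) (by omega)
        exact Or.inr (ProjCoh.subsingleton_of_iso (projMulZero n R) q.toNat))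
  haveI : K.IsGE 0 := (DerivedCategory.isGE_iff _ _).2 fun q hq => hneg q (by omega)
  haveI : K.IsLE 0 := (DerivedCategory.isLE_iff _ _).2 fun q hq => hneg q (by omega)
  obtain ⟨W, ⟨eW⟩⟩ := DerivedCategory.exists_iso_singleFunctor_obj_of_isGE_of_isLE K 0
  obtain ⟨h0⟩ := nonempty_HD_zero_rpush π (DCoh.inD X O)
  let eO : DCoh.HD (DCoh.inD X O) 0 ≅ O :=
    (DerivedCategory.singleFunctorCompHomologyFunctorIso X.Modules 0).app O
  let P := (Scheme.Modules.pushforward π).obj O
  haveI : IsIso π.appTop := Groth.Agent.S0024.result n R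
  obtain ⟨eu⟩ := nonempty_push_structure π
  exact ⟨eW ≪≫ (DerivedCategory.singleFunctor S.Modules 0).mapIso
    (((DerivedCategory.singleFunctorCompHomologyFunctorIso S.Modules 0).app W).symm ≪≫
      (DerivedCategory.homologyFunctor S.Modules 0).mapIso eW.symm ≪≫ h0 ≪≫
      (Scheme.Modules.pushforward π).mapIso eO ≪≫ eu)⟩

end Groth.Agent.DCohMore.TwistFam
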