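import Groth.Agent.DCohMore.TwistFam
import Groth.Agent.DCohMore.BCTwistOps
import Groth.Agent.CMRegLib.Koszul
import Groth.Agent.PullFlat.Invertible
import Groth.Agent.DCohLib.TensorPerf

/-!
# Twists of objects of the derived category by multiplication data and by invertible modules
-/

set_option autoImplicit false
set_option linter.style.haveILetI false
set_option linter.unusedSectionVars false
set_option maxHeartbeats 1000000
set_option backward.isDefEq.respectTransparency false

universe u v₁ v₂ u₁ u₂

open CategoryTheory CategoryTheory.Limits AlgebraicGeometry TopologicalSpace Opposite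
open Groth.Agent.DCohLib Groth.Agent.PullbackMod Groth.Agent.CMRegLib

attribute [local instance] HasDerivedCategory.standard

noncomputable section

namespace Groth.Agent.DCohMore.TwistFam

section Equiv

variable {C : Type u₁} [Category.{v₁} C] [Abelian C] {D : Type u₂} [Category.{v₂} D] [Abelian D]
  [HasDerivedCategory C] [HasDerivedCategory D]
  (F : C ⥤ D) (G : D ⥤ C) [F.Additive] [G.Additive] [PreservesFiniteLimits F] [PreservesFiniteColimits F]
  [PreservesFiniteLimits G] [PreservesFiniteColimits G]

/-- Composites of derived functors of exact functors with composite the identity. -/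
theorem nonempty_mapD_comp_id (η : F ⋙ G ≅ 𝟭 C) :
    Nonempty (F.mapDerivedCategory ⋙ G.mapDerivedCategory ≅ 𝟭 (DerivedCategory C)) := by
  let c := ComplexShape.up ℤ
  let e₀ : F.mapHomologicalComplex c ⋙ G.mapHomologicalComplex c ≅ 𝟭 _ :=
    NatIso.ofComponents
      (fun K => HomologicalComplex.Hom.isoOfComponents (fun p => η.app (K.X p))
        (fun i j _ => (η.hom.naturality (K.d i j)).symm))
      fun {K L} f => HomologicalComplex.hom_ext _ _ fun p => η.hom.naturality (f.f p)
  let e₁ : DerivedCategory.Q ⋙ F.mapDerivedCategory ⋙ G.mapDerivedCategory ≅ DerivedCategory.Q :=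
    (Functor.associator _ _ _).symm ≪≫ Functor.isoWhiskerRight F.mapDerivedCategoryFactors _ ≪≫
      Functor.associator _ _ _ ≪≫ Functor.isoWhiskerLeft _ G.mapDerivedCategoryFactors ≪≫
      (Functor.associator _ _ _).symm ≪≫ Functor.isoWhiskerRight e₀ _ ≪≫ Functor.leftUnitor _
  letI : Localization.Lifting DerivedCategory.Q (HomologicalComplex.quasiIso C c) DerivedCategory.Q
      (F.mapDerivedCategory ⋙ G.mapDerivedCategory) := ⟨e₁⟩
  letI : Localization.Lifting DerivedCategory.Q (HomologicalComplex.quasiIso C c) DerivedCategory.Q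
      (𝟭 (DerivedCategory C)) := ⟨Functor.rightUnitor _⟩
  exact ⟨Localization.liftNatIso DerivedCategory.Q (HomologicalComplex.quasiIso C c) DerivedCategory.Q
    DerivedCategory.Q _ _ (Iso.refl _)⟩

end Equiv

variable {X : Scheme.{u}} {ι : Type}

open Groth.Agent.ModTensor in
/-- If no shift of the inverse module maps to an object, its twist receives no map from shifts of the
structure sheaf. -/
theorem orth_lTensorMod {A B : X.Modules} (e : CohB1.tensorMod B A ≅ Coh.structureModule X)
    (e' : CohB1.tensorMod A B ≅ Coh.structureModule X) [DCoh.HasLTensorMod A] (K : DCoh.D X)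
    (h : ∀ (m : ℤ) (φ : (DCoh.inD X B)⟦m⟧ ⟶ K), φ = 0) : Orth ((DCoh.LTensorMod A).obj K) := by
  let T := (ModSite.tensorBi X.sheaf).flip
  let F := DCoh.tensorRightMod A
  let G := DCoh.tensorRightMod B
  let η : F ⋙ G ≅ 𝟭 X.Modules := tensorAssoc X.sheaf A B ≪≫ T.mapIso e' ≪≫ tensorUnitRight X.sheaf
  let η' : G ⋙ F ≅ 𝟭 X.Modules := tensorAssoc X.sheaf B A ≪≫ T.mapIso e ≪≫ tensorUnitRight X.sheaf
  haveI : F.IsEquivalence := Functor.IsEquivalence.mk' G η.symm η'
  haveI : G.IsEquivalence := Functor.IsEquivalence.mk' F η'.symm η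
  haveI : PreservesFiniteLimits F := inferInstance
  haveI : PreservesFiniteColimits F := inferInstance
  haveI : PreservesFiniteLimits G := inferInstance
  haveI : PreservesFiniteColimits G := inferInstance
  obtain ⟨E⟩ := nonempty_mapD_comp_id F G η
  obtain ⟨E'⟩ := nonempty_mapD_comp_id G F η'
  haveI : G.mapDerivedCategory.IsEquivalence := Functor.IsEquivalence.mk' F.mapDerivedCategory E'.symm E
  let P := (resX X).obj (DerivedCategory.Q.objPreimage K)
  let eF : (DCoh.LTensorMod A).obj K ≅ F.mapDerivedCategory.obj K :=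
    (DCoh.LTensorMod A).mapIso (resXIso K).symm ≪≫ lTensorModIso A P (isKFlat_resX _) ≪≫
      (F.mapDerivedCategoryFactors.app P).symm ≪≫ F.mapDerivedCategory.mapIso (resXIso K)
  refine orth_of_iso eF.symm fun n φ => G.mapDerivedCategory.map_injective ?_
  rw [Functor.map_zero]
  let eO : G.mapDerivedCategory.obj (DCoh.inD X (Coh.structureModule X)) ≅ DCoh.inD X B :=
    (G.mapDerivedCategorySingleFunctor 0).app (Coh.structureModule X) ≪≫
      (DerivedCategory.singleFunctor X.Modules 0).mapIso
        (tensComm X.sheaf (Coh.structureModule X) B ≪≫ tensorStructureIso B)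
  let a : (DCoh.inD X B)⟦n⟧ ≅ G.mapDerivedCategory.obj ((DCoh.inD X (Coh.structureModule X))⟦n⟧) :=
    (shiftFunctor _ n).mapIso eO.symm ≪≫ ((G.mapDerivedCategory.commShiftIso n).app _).symm
  rw [← cancel_epi a.hom, ← cancel_mono (E.hom.app K), comp_zero, zero_comp, Category.assoc]
  exact h n _

/-- The twists of a complex by multiplication data. -/
def fam (T : ProjCoh.MulData X ι) (P : CochainComplex X.Modules ℤ) : MFam X ι where
  K d := ((DCoh.tensorRightMod (T.F d)).mapHomologicalComplex (ComplexShape.up ℤ)).obj P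
  μ i d :=
    { f := fun p => ((T.tensor (P.X p)).μ i d)
      comm' := fun p q _ => ((((DCoh.tensorBi (X := X)).map (P.d p q))).naturality (T.μ i d)) }
  comm a b d := HomologicalComplex.hom_ext _ _ fun p => mulData_comm (T.tensor (P.X p)) a b d

/-- The charts of multiplication data with affine members. -/
def chartsOf (T : ProjCoh.MulData X ι) (hU : ∀ i, IsAffineOpen (T.U i)) : Charts X ι where
  U := T.U
  affine := hU
  cover x := Opens.mem_iSup.1 (show x ∈ iSup T.U by rw [T.cover]; trivial)
  t := T.t
  t_open := T.t_open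

theorem good_fam (T : ProjCoh.MulData X ι) (hU : ∀ i, IsAffineOpen (T.U i)) (P : CochainComplex X.Modules ℤ)
    (m : ℤ) : Good (chartsOf T hU) (fam T P) m where
  bij i d _ x hx p := (ConcreteCategory.isIso_iff_bijective _).2 ((T.tensor (P.X p)).bij i d x hx)
  ratio i a d _ x hx p := ModuleCat.hom_ext (LinearMap.ext fun z => (T.tensor (P.X p)).ratio i a d x hx z)

/-- The twists compute derived tensor products. -/
def famIso (T : ProjCoh.MulData X ι) (K : DCoh.D X) (d : ℤ) [DCoh.HasLTensorMod (T.F d)] :
    DerivedCategory.Q.obj ((fam T ((resX X).obj (DerivedCategory.Q.objPreimage K))).K d) ≅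
      (DCoh.LTensorMod (T.F d)).obj K :=
  (lTensorModIso (T.F d) _ (isKFlat_resX _)).symm ≪≫ (DCoh.LTensorMod (T.F d)).mapIso (resXIso K)

theorem isQCohD_fam (T : ProjCoh.MulData X ι) (K : DCoh.D X) (hK : DCoh.IsQCohD K) (d : ℤ)
    (hF : Coh.IsQCoh (T.F d)) :
    DCoh.IsQCohD (DerivedCategory.Q.obj ((fam T ((resX X).obj (DerivedCategory.Q.objPreimage K))).K d)) :=
  TildeD.isQCohD_of_iso (famIso T K d).symm (BC.isQCohD_lTensorMod _ hF K hK)

variable [Fintype ι] [DecidableEq ι]

/-- A window of twists without maps from the structure sheaf detects zero. -/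
theorem isZero_of_twists (T : ProjCoh.MulData X ι) (hU : ∀ i, IsAffineOpen (T.U i))
    (hF : ∀ d, Coh.IsQCoh (T.F d)) (h0 : T.F 0 ≅ Coh.structureModule X) (K : DCoh.D X) (hK : DCoh.IsQCohD K)
    (a : ℤ) (hw : ∀ e : ℕ, e < Fintype.card ι → Orth ((DCoh.LTensorMod (T.F (a + e))).obj K)) : IsZero K := by
  let P := (resX X).obj (DerivedCategory.Q.objPreimage K)
  have hz := isZero_of_window (chartsOf T hU) (fam T P) (good_fam T hU P)
    (fun d => isQCohD_fam T K hK d (hF d)) a (fun e he => orth_of_iso (famIso T K _).symm (hw e he)) 0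
  let η₀ : DCoh.tensorRightMod (T.F 0) ≅ 𝟭 X.Modules :=
    (ModSite.tensorBi X.sheaf).flip.mapIso h0 ≪≫ ModTensor.tensorUnitRight X.sheaf
  let e : (fam T P).K 0 ≅ P :=
    HomologicalComplex.Hom.isoOfComponents (fun p => η₀.app (P.X p)) (fun p q _ => (η₀.hom.naturality (P.d p q)).symm)
  exact hz.of_iso ((resXIso K).symm ≪≫ DerivedCategory.Q.mapIso e.symm)

end Groth.Agent.DCohMore.TwistFam
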