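import Groth.Agent.DCohMore.ApproxExtend

/-! Approximation by perfect objects with supports on quasi-compact quasi-separated schemes. -/

set_option autoImplicit false
set_option linter.style.haveILetI false
set_option backward.isDefEq.respectTransparency false

universe u

open CategoryTheory Limits AlgebraicGeometry Pretriangulated ZeroObject
attribute [local instance] HasDerivedCategory.standard

noncomputable section

namespace Groth.Agent.DCohMore

open Groth.Agent.DRingLib Groth.Agent.DCohLib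

/-- Approximation by perfect objects supported in a subset. -/
def Appr (X : Scheme.{u}) (T : Set X) : Prop :=
  ∃ r : ℤ, ∀ (m : ℤ) (E : DCoh.D X), DCoh.IsQCohD E → DCoh.IsPseudoCoherentD (m - r) E →
    (∀ i : ℤ, m - r ≤ i → CohB1.support (DCoh.HD E i) ⊆ T) →
    ∃ (P : DCoh.D X) (α : P ⟶ E), DCoh.IsPerfect P ∧ Sup T P ∧ MIso m α

theorem Appr.of_isEmpty {X : Scheme.{u}} [IsEmpty X] (T : Set X) : Appr X T :=
  ⟨0, fun m E _ _ _ => ⟨E, 𝟙 E, isPerfect_of_local fun x => isEmptyElim x, Sup.of_empty _, mIso_of_isIso _ _⟩⟩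

theorem Appr.of_iso {X Y : Scheme.{u}} (e : X ≅ Y) {T : Set Y} (h : Appr X (e.hom.base ⁻¹' T)) : Appr Y T := by
  obtain ⟨r, hr⟩ := h
  refine ⟨r, fun m E hE hpc hs => ?_⟩
  obtain ⟨P, α, hP, hPT, hα⟩ := hr m ((DCoh.restrictD e.hom).obj E) (TildeD.isQCohD_restrict e.hom E hE)
    (isPseudoCoherentD_restrict e.hom hpc)
    (fun i hi x hx => hs i hi fun h => hx ((subsingleton_stalk_restrictD e.hom E i x).2 h))
  refine ⟨(DCoh.restrictD e.inv).obj P,
    (DCoh.restrictD e.inv).map α ≫ ((restrictDEquiv e).unitIso.app E).inv, isPerfect_restrict e.inv hP,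
    (hPT.restrict e.inv).mono fun y hy => ?_, (hα.restrict e.inv).comp (mIso_of_isIso _ _)⟩
  have hb : e.hom.base (e.inv.base y) = y := by rw [← Scheme.Hom.comp_apply, e.inv_hom_id]; rfl
  rw [← hb]
  exact hy

set_option maxHeartbeats 1000000 in
/-- The case of vanishing cohomology on the open. -/
theorem appr_base {X : Scheme.{u}} (U : X.Opens) {A : Type u} [CommRing A]
    [PreservesFiniteLimits (tilde.functor (CommRingCat.of A))]
    (j : Spec (CommRingCat.of A) ⟶ X) [IsOpenImmersion j] (hcov : U ⊔ j.opensRange = ⊤) (T : Set X)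
    (hT : IsClosed T) (gs ls : List A)
    (hW : ∀ x, x ∈ gOpen gs ↔ j.base x ∈ U) (hL : ∀ x, x ∈ gOpen ls ↔ j.base x ∉ T)
    (m : ℤ) (E : DCoh.D X) (hE : DCoh.IsQCohD E) (hpc : DCoh.IsPseudoCoherentD m E)
    (hs : ∀ i : ℤ, m - (gs ++ ls).length ≤ i → CohB1.support (DCoh.HD E i) ⊆ T)
    (hU : AboveZero (m - (gs ++ ls).length) ((DCoh.restrictD U.ι).obj E)) :
    ∃ (P : DCoh.D X) (α : P ⟶ E), DCoh.IsPerfect P ∧ Sup T P ∧ MIso m α := by
  let V := j.opensRange
  haveI : DCoh.HasRpush V.ι := Groth.Agent.KInj.hasRightDerivedFunctor (hres_modules _) _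
  obtain ⟨M, e₀, ⟨eM⟩⟩ := exists_model j E hE
  have hMpc : PC FFree m M := (TildePerf.isPseudoCoherentD_tilde_iff M m).1
    (isPseudoCoherentD_iso e₀.symm (isPseudoCoherentD_restrict j hpc))
  have hU' := (aboveZero_restrictD_iff U _ E).1 hU
  have hMt : TorsGE (gs ++ ls) (m - (gs ++ ls).length) M := torsGE_of_support j _ _ M E e₀ fun i hi x hx hxs => by
    rw [gOpen_append] at hx
    rcases hx with hx | hx
    · exact hU' i hi hxs ((hW x).1 hx)
    · exact (hL x).1 hx (hs i hi hxs)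
  obtain ⟨P, u, C, p, d, hu, hP, hPt, hC⟩ := exists_approx_affine (gs ++ ls) m M hMpc hMt
  have cover : ∀ x : X, x ∈ U ∨ x ∈ V := fun x => hcov.ge (Set.mem_univ x)
  have hZ : IsClosed (T ∩ (U : Set X)ᶜ) := hT.inter U.2.isClosed_compl
  obtain ⟨hQ, hQs⟩ := exists_chart_ext j (gs ++ ls) P hP hPt _ hZ
    (fun x hx => (cover x).resolve_left hx.2) (fun x hx => by
      rw [gOpen_append] at hx
      exact ⟨not_not.1 fun h => hx (Or.inr ((hL x).2 h)), fun h => hx (Or.inl ((hW x).2 h))⟩)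
  let Q := (DCoh.Rpush V.ι).obj ((chartD j).obj P)
  obtain ⟨q, hq⟩ := exists_map_of_restrict V hZ (fun x hx => (cover x).resolve_left hx.2) hQs
    (E := E) (((rpushRestrictId V).app _).hom ≫ (chartD j).map u ≫ eM.hom)
  refine ⟨Q, q, hQ, hQs.mono Set.inter_subset_left, ?_⟩
  obtain ⟨D, g, k, hD⟩ := distinguished_cocone_triangle q
  refine ⟨D, g, k, hD, fun i hi => isZero_of_local fun x => ?_⟩
  rcases cover x with hx | hx
  · refine ⟨_, U.ι, inferInstance, ⟨x, hx⟩, rfl, IsZero.of_iso ?_ (restrictHDIso U.ι D i).symm⟩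
    exact AboveZero.ext₂ _ (rot_of_distTriang _ ((DCoh.restrictD U.ι).map_distinguished _ hD))
      (hU.mono (by omega) : AboveZero m _)
      (aboveZero_zero _ ((shiftFunctor _ (1 : ℤ)).map_isZero
        ((isZero_restrictD_iff_support U Q).2 fun k => (hQs k).trans Set.inter_subset_right))) i hi
  · refine ⟨_, V.ι, inferInstance, ⟨x, hx⟩, rfl, IsZero.of_iso ?_ (restrictHDIso V.ι D i).symm⟩
    refine MIso.cone _ ((DCoh.restrictD V.ι).map_distinguished _ hD) ?_ i hi
    show MIso m ((DCoh.restrictD V.ι).map q)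
    rw [hq]
    exact (mIso_of_isIso _ _).comp (((TildePerf.mIso_tilde (A := A) ⟨_, _, _, hu, hC⟩).restrict
      j.isoOpensRange.inv).comp (mIso_of_isIso _ _))

set_option maxHeartbeats 1000000 in
theorem appr_step_core {X : Scheme.{u}} [CompactSpace X] (U : X.Opens) [QuasiCompact U.ι] {A : Type u} [CommRing A]
    (j : Spec (CommRingCat.of A) ⟶ X) [IsOpenImmersion j]
    (hcov : U ⊔ j.opensRange = ⊤) (T : Set X) (hT : IsClosed T) (gs ls : List A)
    (hW : ∀ x, x ∈ gOpen gs ↔ j.base x ∈ U) (hL : ∀ x, x ∈ gOpen ls ↔ j.base x ∉ T)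
    (h : Appr (U : Scheme.{u}) (U.ι.base ⁻¹' T)) : Appr X T := by
  obtain ⟨rU, hrU⟩ := h
  haveI := TildeD.preservesFiniteLimits_tilde (R := CommRingCat.of A)
  obtain ⟨s, hs⟩ : ∃ s : ℤ, s = (gs ++ ls).length := ⟨_, rfl⟩
  refine ⟨max rU 0 + s, fun m => ?_⟩
  suffices H : ∀ (k : ℕ) (E : DCoh.D X), DCoh.IsQCohD E → DCoh.IsPseudoCoherentD (m - (max rU 0 + s)) E →
      (∀ i : ℤ, m - (max rU 0 + s) ≤ i → CohB1.support (DCoh.HD E i) ⊆ T) →
      AboveZero (m - s + k) ((DCoh.restrictD U.ι).obj E) →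
      ∃ (P : DCoh.D X) (α : P ⟶ E), DCoh.IsPerfect P ∧ Sup T P ∧ MIso m α by
    intro E hE hpc hsupp
    obtain ⟨n, hn⟩ := TildePerf.exists_aboveZero_of_pc hpc
    exact H (n - (m - s)).toNat E hE hpc hsupp ((hn.restrict U.ι).mono (by omega))
  intro k
  induction k with
  | zero =>
    intro E hE hpc hsupp hU
    exact appr_base U j hcov T hT gs ls hW hL m E hE (isPseudoCoherentD_mono (by omega) hpc)
      (fun i hi => hsupp i (by omega)) (hU.mono (by omega))
  | succ k ih =>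
    intro E hE hpc hsupp hU
    obtain ⟨n, hn⟩ : ∃ n : ℤ, n = m - s + k := ⟨_, rfl⟩
    obtain ⟨Q, α, hQ, hQT, hα⟩ := hrU n ((DCoh.restrictD U.ι).obj E) (TildeD.isQCohD_restrict U.ι E hE)
      (isPseudoCoherentD_mono (by omega) (isPseudoCoherentD_restrict U.ι hpc))
      (fun i hi x hx => hsupp i (by omega) fun hh => hx ((subsingleton_stalk_restrictD U.ι E i x).2 hh))
    have hQn : AboveZero (n + 1) Q := fun i hi => by
      haveI := ((mIso_iff n α).1 hα).1 i (by omega)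
      exact (hU i (by omega)).of_iso (asIso ((DerivedCategory.homologyFunctor _ i).map α))
    obtain ⟨R, hR, hRT, ⟨eR⟩⟩ := exists_extend_global U j hcov T hT gs ls hW hL Q hQ hQT
    obtain ⟨R', w, χ, hR', hR'T, hw, hχ⟩ := exists_lift_map j U hcov T hT gs ls hW hL hR hRT hE
      (eR.hom ≫ biprod.snd ≫ α)
    obtain ⟨E', p, d, hE'⟩ := distinguished_cocone_triangle χ
    have hsnd : MIso n (biprod.snd : Q⟦(1 : ℤ)⟧ ⊞ Q ⟶ Q) :=
      ⟨_, _, _, rot_of_distTriang _ (binaryBiproductTriangle_distinguished (Q⟦(1 : ℤ)⟧) Q),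
        (aboveZero_shift_iff _ _ _).2 ((aboveZero_shift_iff _ _ _).2 (hQn.mono (by omega)))⟩
    have hU' : AboveZero n ((DCoh.restrictD U.ι).obj E') := by
      refine MIso.cone _ ((DCoh.restrictD U.ι).map_distinguished _ hE') ?_
      show MIso n ((DCoh.restrictD U.ι).map χ)
      rw [hχ]
      exact (mIso_of_isIso _ _).comp ((mIso_of_isIso _ _).comp (hsnd.comp hα))
    obtain ⟨P₂, α₂, hP₂, hP₂T, C₂, p₂, d₂, hT₂, hC₂⟩ := ih E' (isQCohD_obj₃' _ hE' (isQCohD_of_isPerfect hR') hE)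
      (isPseudoCoherentD_obj₃ _ hE' (isPseudoCoherentD_of_isPerfect' hR' _) hpc)
      (support_obj₃ hT _ hE' hR'T _ hsupp) (hU'.mono (by omega))
    obtain ⟨P, u, d', h₁₃⟩ := distinguished_cocone_triangle₁ (p ≫ p₂)
    let o := Triangulated.someOctahedron' (rfl : p ≫ p₂ = _) hE' hT₂ h₁₃
    exact ⟨P, u, isPerfect_obj₂ _ o.mem hR' hP₂, sup_obj₂ hT _ o.mem hR'T hP₂T, C₂, p ≫ p₂, d', h₁₃, hC₂⟩

theorem appr_step {X : Scheme.{u}} [CompactSpace X] [QuasiSeparatedSpace X] (U : X.Opens)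
    (hUc : IsCompact (U : Set X)) {A : Type u} [CommRing A] (j : Spec (CommRingCat.of A) ⟶ X) [IsOpenImmersion j]
    (hcov : U ⊔ j.opensRange = ⊤) (T : Set X) (hT : IsClosed T) (hTc : IsCompact Tᶜ)
    (h : Appr (U : Scheme.{u}) (U.ι.base ⁻¹' T)) : Appr X T := by
  haveI : QuasiCompact j := quasiCompact_of_compactSpace j
  haveI : QuasiCompact U.ι := by
    haveI : CompactSpace (U : Scheme.{u}) := isCompact_iff_compactSpace.1 hUc
    exact quasiCompact_of_compactSpace U.ι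
  obtain ⟨gs, hgs⟩ := exists_gOpen_eq (j ⁻¹ᵁ U : Set (Spec (CommRingCat.of A))) (j ⁻¹ᵁ U).2
    (QuasiCompact.isCompact_preimage (f := j) U U.2 hUc)
  obtain ⟨ls, hls⟩ := exists_gOpen_eq (j.base ⁻¹' Tᶜ) (hT.isOpen_compl.preimage j.continuous)
    (QuasiCompact.isCompact_preimage (f := j) Tᶜ hT.isOpen_compl hTc)
  exact appr_step_core U j hcov T hT gs ls (fun x => Set.ext_iff.1 hgs x) (fun x => Set.ext_iff.1 hls x) h

/-- Approximation by perfect objects holds on quasi-compact quasi-separated schemes. -/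
theorem appr_main {X : Scheme.{u}} [CompactSpace X] [QuasiSeparatedSpace X] (T : Set X) (hT : IsClosed T)
    (hTc : IsCompact Tᶜ) : Appr X T := by
  suffices H : ∀ S : X.Opens, IsCompact (S : Set X) → Appr (S : Scheme.{u}) (S.ι.base ⁻¹' T) by
    refine Appr.of_iso X.topIso (T := T) ?_
    have e : X.topIso.hom.base ⁻¹' T = (⊤ : X.Opens).ι.base ⁻¹' T := rfl
    rw [e]
    exact H ⊤ isCompact_univ
  intro S hS
  refine compact_open_induction_on S hS ?_ ?_
  · haveI : IsEmpty ((⊥ : X.Opens) : Scheme.{u}) := ⟨fun x => x.2⟩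
    exact Appr.of_isEmpty _
  · intro S hS U hSgen
    let Y : X.Opens := S ⊔ U.1
    have hY : IsCompact (Y : Set X) := hS.union U.2.isCompact
    haveI : CompactSpace (Y : Scheme.{u}) := isCompact_iff_compactSpace.1 hY
    haveI : QuasiSeparatedSpace (Y : Scheme.{u}) := quasiSeparatedSpace_of_quasiSeparated Y.ι
    have hr : Set.range U.2.fromSpec ⊆ Set.range Y.ι := by
      rw [IsAffineOpen.range_fromSpec, Scheme.Opens.range_ι]
      exact fun x hx => Or.inr hx
    let j : Spec (CommRingCat.of Γ(X, U.1)) ⟶ (Y : Scheme.{u}) := IsOpenImmersion.lift Y.ι U.2.fromSpec hr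
    have hj : j ≫ Y.ι = U.2.fromSpec := IsOpenImmersion.lift_fac _ _ _
    haveI : IsOpenImmersion (j ≫ Y.ι) := by rw [hj]; infer_instance
    haveI : IsOpenImmersion j := IsOpenImmersion.of_comp j Y.ι
    let S' : Y.toScheme.Opens := Y.ι ⁻¹ᵁ S
    have hS' : IsCompact (S' : Set (Y : Scheme.{u})) := by
      rw [Y.ι.isOpenEmbedding.isEmbedding.isCompact_iff]
      refine (congrArg IsCompact ?_).mpr hS
      exact (Set.image_preimage_eq_inter_range).trans
        (Set.inter_eq_left.2 (by rw [Scheme.Opens.range_ι]; exact le_sup_left))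
    haveI : QuasiCompact Y.ι := quasiCompact_of_compactSpace Y.ι
    refine appr_step S' hS' j ?_ _ (hT.preimage Y.ι.continuous) ?_ ?_
    · refine eq_top_iff.2 fun y _ => ?_
      rcases (y.2 : y.1 ∈ S ⊔ U.1) with h | h
      · exact Or.inl h
      · refine Or.inr ?_
        obtain ⟨z, hz⟩ : y.1 ∈ Set.range U.2.fromSpec := by rw [IsAffineOpen.range_fromSpec]; exact h
        refine ⟨z, Y.ι.isOpenEmbedding.injective ?_⟩
        rw [← Scheme.Hom.comp_apply, hj]
        exact hz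
    · exact QuasiCompact.isCompact_preimage (f := Y.ι) Tᶜ hT.isOpen_compl hTc
    · haveI : IsIso (Y.ι ∣_ S) := by
        haveI : Surjective (Y.ι ∣_ S) := ⟨fun x => ⟨⟨⟨x.1, Or.inl x.2⟩, x.2⟩, S.ι.isOpenEmbedding.injective (by
          simpa using congrArg (fun g : (Y.ι ⁻¹ᵁ S : Scheme.{u}) ⟶ X => g ⟨⟨x.1, Or.inl x.2⟩, x.2⟩)
            (morphismRestrict_ι Y.ι S))⟩⟩
        haveI : Epi (Y.ι ∣_ S).base := (TopCat.epi_iff_surjective _).2 (Y.ι ∣_ S).surjective
        exact IsOpenImmersion.isIso _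
      refine Appr.of_iso (asIso (Y.ι ∣_ S)).symm ?_
      refine (congrArg (Appr (S : Scheme.{u})) ?_).mpr hSgen
      ext x
      show Y.ι.base (S'.ι.base ((inv (Y.ι ∣_ S)).base x)) ∈ T ↔ S.ι.base x ∈ T
      rw [← Scheme.Hom.comp_apply S'.ι, ← morphismRestrict_ι Y.ι S, ← Scheme.Hom.comp_apply, IsIso.inv_hom_id_assoc]

end Groth.Agent.DCohMore
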