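import Groth.Agent.DCohMore.RelAmp
import Groth.Agent.DerSchH7.Local
import Groth.Agent.DRingLib.PerfTor

/-! Local finiteness of relative tor dimension, stalkwise. -/

set_option autoImplicit false
set_option backward.isDefEq.respectTransparency false

universe u

open CategoryTheory Limits AlgebraicGeometry
attribute [local instance] HasDerivedCategory.standard

noncomputable section

namespace Groth.Agent.DCohMore

open Groth.Agent.DRingLib Groth.Agent.DCohLib Groth.Agent.DerSchH7

variable {X U S : Scheme.{u}} (j : U ⟶ X) [IsOpenImmersion j] (f : X ⟶ S)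

/-- The stalk over the base of a restriction. -/
def restrictStalkOverBaseIso (x : U) (M : X.Modules) :
    (DerSch.stalkOver (j ≫ f) x).obj ((Scheme.Modules.restrictFunctor j).obj M) ≅
      (DerSch.stalkOver f (j.base x)).obj M :=
  LinearEquiv.toModuleIso
    (X₁ := (DerSch.stalkOver (j ≫ f) x).obj ((Scheme.Modules.restrictFunctor j).obj M))
    (X₂ := (DerSch.stalkOver f (j.base x)).obj M)
    { ((Scheme.Modules.restrictStalkNatIso j x).app M).addCommGroupIsoToAddEquiv with
      map_smul' := fun r m => by
        have hc : ((j ≫ f).stalkMap x).hom r =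
            (j.stalkMap x).hom ((f.stalkMap (j.base x)).hom r) := by
          rw [Scheme.Hom.stalkMap_comp]
          rfl
        change ((Scheme.Modules.restrictFunctor j).obj M).presheaf.stalk x at m
        show (Scheme.Modules.restrictStalkNatIso j x).hom.app M
            (((j ≫ f).stalkMap x).hom r • m) =
          (f.stalkMap (j.base x)).hom r •
            (id ((Scheme.Modules.restrictStalkNatIso j x).hom.app M m) : ↑(M.presheaf.stalk (j.base x)))
        rw [hc]
        exact (restrictStalk_smul j M x (j.stalkMap x (f.stalkMap (j.base x) r)) m).trans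
          (congrArg (· • _) ((asIso (j.stalkMap x)).commRingCatIsoToRingEquiv.symm_apply_apply _)) }

/-- The stalk functor over the base after a restriction. -/
def restrictStalkOverBaseNatIso (x : U) :
    Scheme.Modules.restrictFunctor j ⋙ DerSch.stalkOver (j ≫ f) x ≅
      (DerSch.stalkOver f (j.base x) : X.Modules ⥤ _) :=
  NatIso.ofComponents (restrictStalkOverBaseIso j f x) fun {M N} φ => by
    ext m
    exact ConcreteCategory.congr_hom ((Scheme.Modules.restrictStalkNatIso j x).hom.naturality φ) m

/-- The stalk complex over the base of a restriction. -/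
def restrictStalkCxOverIso (x : U) (F : CochainComplex X.Modules ℤ) :
    (DerSch.stalkCxOver (j ≫ f) x).obj ((resCx j).obj F) ≅ (DerSch.stalkCxOver f (j.base x)).obj F :=
  HomologicalComplex.Hom.isoOfComponents (fun n => (restrictStalkOverBaseNatIso j f x).app (F.X n))
    (fun n m _ => ((restrictStalkOverBaseNatIso j f x).hom.naturality (F.d n m)).symm)

theorem hasTorAmplitudeAt_restrict_iff (x : U) (F : CochainComplex X.Modules ℤ) (a b : ℤ) :
    DerSch.HasTorAmplitudeAt (j ≫ f) a b ((resCx j).obj F) x ↔
      DerSch.HasTorAmplitudeAt f a b F (j.base x) :=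
  ⟨amp_of_iso (DerivedCategory.Q.mapIso (restrictStalkCxOverIso j f x F)),
    amp_of_iso (DerivedCategory.Q.mapIso (restrictStalkCxOverIso j f x F)).symm⟩

theorem locFiniteTorAmplitude_congr {F G : CochainComplex X.Modules ℤ} (e : DCoh.toD X F ≅ DCoh.toD X G)
    (h : DerSch.LocFiniteTorAmplitude f F) : DerSch.LocFiniteTorAmplitude f G := fun x => by
  obtain ⟨V, a, b, hx, hV⟩ := h x
  exact ⟨V, a, b, hx, fun x' hx' => hasTorAmplitudeAt_congr f e (hV x' hx')⟩

theorem locHasFiniteRelTorDim_iff [Flat f] {F : CochainComplex X.Modules ℤ} {K : DCoh.D X}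
    (e : DCoh.toD X F ≅ K) :
    DCoh.LocHasFiniteRelTorDim f K ↔ DerSch.LocFiniteTorAmplitude f F := by
  constructor
  · intro h x
    obtain ⟨V, a, b, hx, hV⟩ := h x
    exact ⟨V, a, b, hx, fun x' hx' => (hasTorAmplitudeAt_restrict_iff V.ι f ⟨x', hx'⟩ F a b).1
      (hasTorAmplitude_of_relFlatAmplitude (hV F ⟨e⟩) ⟨x', hx'⟩)⟩
  · intro h x
    obtain ⟨V, a, b, hx, hV⟩ := h x
    refine ⟨V, a, b, hx, fun F' ⟨e'⟩ => relFlatAmplitude_of_hasTorAmplitude (V.ι ≫ f) fun y => ?_⟩
    exact (hasTorAmplitudeAt_restrict_iff V.ι f y F' a b).2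
      (hasTorAmplitudeAt_congr f (e ≪≫ e'.symm) (hV _ y.2))

theorem locHasFiniteRelTorDim_iff_preimage [Flat f] (K : DCoh.D X) :
    DCoh.LocHasFiniteRelTorDim f K ↔
      DerSch.LocFiniteTorAmplitude f (DerivedCategory.Q.objPreimage K) :=
  locHasFiniteRelTorDim_iff f (DerivedCategory.Q.objObjPreimageIso K)

end Groth.Agent.DCohMore
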