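import Groth.Agent.DCohMore.GoodMain
import Groth.Agent.DCohMore.ApproxGlobal
import Groth.Agent.DCohMore.PerfHom
import Groth.Agent.DCohMore.RelTorLoc
import Groth.Agent.DCohMore.RelPerfBC
import Groth.Agent.DCohMore.AffinePushPC
import Groth.Agent.DCohMore.RelPerfTerms
import Groth.Agent.DCohLib.Summand

/-!
# Pseudo-coherence and relative perfectness under flat proper direct images
-/

set_option autoImplicit false
set_option linter.style.haveILetI false
set_option linter.unusedSectionVars false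
set_option backward.isDefEq.respectTransparency false

universe u

open CategoryTheory Limits AlgebraicGeometry Pretriangulated ZeroObject TopologicalSpace
attribute [local instance] HasDerivedCategory.standard

noncomputable section

namespace Groth.Agent.DCohMore

open Groth.Agent.DRingLib Groth.Agent.DCohLib

variable {X S : Scheme.{u}}

theorem isPseudoCoherentD_of_aboveZero {m : ℤ} {K : DCoh.D X} (h : AboveZero m K) :
    DCoh.IsPseudoCoherentD m K :=
  (isPseudoCoherentD_iff _ _).2 fun _ => ⟨⊤, trivial, pcOn_of_aboveZero (h.restrict _)⟩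

theorem hasFiniteTorAmplitude_of_loc [CompactSpace X] (f : X ⟶ S) {F : CochainComplex X.Modules ℤ}
    (h : DerSch.LocFiniteTorAmplitude f F) : DerSch.HasFiniteTorAmplitude f F := by
  choose V a b hx hV using h
  obtain ⟨t, ht⟩ := isCompact_univ.elim_finite_subcover (fun x => (V x : Set X)) (fun x => (V x).2)
    (fun x _ => Set.mem_iUnion.2 ⟨x, hx x⟩)
  obtain ⟨a', ha'⟩ := (t.image a).bddBelow
  obtain ⟨b', hb'⟩ := (t.image b).bddAbove
  refine ⟨a', b', fun x' => ?_⟩
  obtain ⟨x, hxt, hx'⟩ := Set.mem_iUnion₂.1 (ht (Set.mem_univ x'))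
  obtain ⟨E, hE, hfl, e⟩ := hV x x' hx'
  have h1 : a' ≤ a x := ha' (Finset.mem_coe.2 (Finset.mem_image_of_mem a hxt))
  have h2 : b x ≤ b' := hb' (Finset.mem_coe.2 (Finset.mem_image_of_mem b hxt))
  exact ⟨E, fun i hi => hE i (hi.imp (fun h => by omega) fun h => by omega), hfl, e⟩

theorem locHasFiniteRelTorDim_iso (f : X ⟶ S) {K L : DCoh.D X} (e : K ≅ L)
    (h : DCoh.LocHasFiniteRelTorDim f K) : DCoh.LocHasFiniteRelTorDim f L := fun x => by
  obtain ⟨V, a, b, hx, hV⟩ := h x
  exact ⟨V, a, b, hx, fun F' ⟨i⟩ => hV F' ⟨i ≪≫ e.symm⟩⟩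

theorem pc_rpush_affine [IsAffine S] (f : X ⟶ S) [IsProper f] [Flat f] [LocallyOfFinitePresentation f]
    [DCoh.HasRpush f] (E : DCoh.D X) (hE : ∀ m : ℤ, DCoh.IsPseudoCoherentD m E) (m : ℤ) :
    DCoh.IsPseudoCoherentD m ((DCoh.Rpush f).obj E) := by
  haveI : CompactSpace X := QuasiCompact.compactSpace_of_compactSpace f
  haveI : QuasiSeparatedSpace X := quasiSeparatedSpace_of_quasiSeparated f
  obtain ⟨N, hN⟩ := exists_isLE_rpush_qcoh f
  obtain ⟨r, hr⟩ := appr_main (X := X) (Set.univ) isClosed_univ (by rw [Set.compl_univ]; exact isCompact_empty)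
  have hEq : DCoh.IsQCohD E := isQCohD_of_pc hE
  obtain ⟨P, α, hP, -, hα⟩ := hr (m - N) E hEq (hE _) fun i _ => Set.subset_univ _
  obtain ⟨D, g, k, hT, hD⟩ := hα
  have hDq : DCoh.IsQCohD D := isQCohD_obj₃' _ hT (isQCohD_of_isPerfect hP) hEq
  haveI : D.IsLE (m - N - 1) := (DerivedCategory.isLE_iff _ _).2 fun i hi => hD i (by omega)
  have hRD : ((DCoh.Rpush f).obj D).IsLE (m - N - 1 + N) := hN D _ hDq inferInstance
  obtain ⟨c, hT'⟩ := exists_rpush_triangle f _ _ _ hT
  refine isPseudoCoherentD_obj₂ _ hT' (((isPerfect_iff_pc _).1 (isPerfect_rpush_proper f P hP)).1 m) ?_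
  exact isPseudoCoherentD_of_aboveZero fun i hi => (DerivedCategory.isLE_iff _ _).1 hRD i (by omega)

/-- Direct images of pseudo-coherent objects along flat proper morphisms of finite presentation. -/
theorem pc_rpush_proper (f : X ⟶ S) [IsProper f] [Flat f] [LocallyOfFinitePresentation f]
    [DCoh.HasRpush f] (E : DCoh.D X) (hE : ∀ m : ℤ, DCoh.IsPseudoCoherentD m E) (m : ℤ) :
    DCoh.IsPseudoCoherentD m ((DCoh.Rpush f).obj E) := by
  refine isPseudoCoherentD_of_local fun s => ?_
  obtain ⟨_, ⟨V : S.Opens, hV, rfl⟩, hs, -⟩ :=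
    S.isBasis_affineOpens.exists_subset_of_mem_open (a := s) (Set.mem_univ s) isOpen_univ
  haveI : IsAffine (V : Scheme.{u}) := hV
  haveI : DCoh.HasRpush (f ∣_ V) := Groth.Agent.KInj.hasRightDerivedFunctor (hres_modules _) _
  haveI : LocallyOfFinitePresentation (f ∣_ V) := IsZariskiLocalAtTarget.restrict ‹_› V
  haveI : Flat (f ∣_ V) := IsZariskiLocalAtTarget.restrict ‹_› V
  haveI : IsProper (f ∣_ V) := IsZariskiLocalAtTarget.restrict ‹_› V
  obtain ⟨eV⟩ := Groth.Agent.DCohLib.nonempty_restrictD_rpush f V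
  exact ⟨_, V.ι, inferInstance, ⟨s, hs⟩, rfl, isPseudoCoherentD_iso (eV.app E).symm
    (pc_rpush_affine (f ∣_ V) _ (fun k => isPseudoCoherentD_restrict _ (hE k)) m)⟩

theorem isPerfect_rpush_relPerf_affine [IsAffine S] (f : X ⟶ S) [IsProper f] [Flat f]
    [LocallyOfFinitePresentation f] [DCoh.HasRpush f] (E : DCoh.D X)
    (hE : ∀ m : ℤ, DCoh.IsPseudoCoherentD m E) (htor : DCoh.LocHasFiniteRelTorDim f E) :
    DCoh.IsPerfect ((DCoh.Rpush f).obj E) := by
  haveI : CompactSpace X := QuasiCompact.compactSpace_of_compactSpace f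
  haveI := hasLpull f
  let F := DerivedCategory.Q.objPreimage E
  let eF : DerivedCategory.Q.obj F ≅ E := DerivedCategory.Q.objObjPreimageIso E
  obtain ⟨a, b, hab⟩ := hasFiniteTorAmplitude_of_loc f ((locHasFiniteRelTorDim_iff_preimage f E).1 htor)
  refine isPerfect_iso ((DCoh.Rpush f).mapIso eF) ?_
  have hpc : ∀ m : ℤ, DCoh.IsPseudoCoherentD m ((DCoh.Rpush f).obj (DerivedCategory.Q.obj F)) :=
    fun m => isPseudoCoherentD_iso ((DCoh.Rpush f).mapIso eF).symm (pc_rpush_proper f E hE m)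
  obtain ⟨c, hc, hamp⟩ := exists_torAmplitude_rpush f (DerivedCategory.Q.obj F)
    (TildeD.isQCohD_of_iso eF.symm (isQCohD_of_pc hE)) a (max a b) (le_max_left _ _) fun N _ P hP hPe => by
      obtain ⟨eP⟩ := hPe
      let e : (DCoh.LTensorCx ((pullCx f).obj P)).obj (DerivedCategory.Q.obj F) ≅
          DerivedCategory.Q.obj ((DCoh.tensorCx.obj F).obj ((pullCx f).obj P)) :=
        (lTensorQIso _ (isKFlat_pullback f hP)).app F
      have hz : ∀ i : ℤ, i < a ∨ max a b < i →
          IsZero (DCoh.HD ((DCoh.LTensorCx ((pullCx f).obj P)).obj (DerivedCategory.Q.obj F)) i) :=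
        fun i hi => ((HomologicalComplex.exactAt_iff_isZero_homology _ _).1
          (exactAt_tensor_pullback_of_amplitude f F hab N P hP eP i (hi.imp_right fun h => by omega))).of_iso
          ((DerivedCategory.homologyFunctor X.Modules i).mapIso e ≪≫
            (DerivedCategory.homologyFunctorFactors X.Modules i).app _)
      exact ⟨(DerivedCategory.isGE_iff _ _).2 fun i hi => hz i (Or.inl hi),
        (DerivedCategory.isLE_iff _ _).2 fun i hi => hz i (Or.inr hi)⟩
  exact isPerfect_of_torAmplitude hpc a c hc hamp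

/-- Relatively perfect objects have perfect direct image along flat proper morphisms of finite presentation. -/
theorem isPerfect_rpush_relPerf (f : X ⟶ S) [IsProper f] [Flat f] [LocallyOfFinitePresentation f]
    [DCoh.HasRpush f] (E : DCoh.D X) (hE : ∀ m : ℤ, DCoh.IsPseudoCoherentD m E)
    (htor : DCoh.LocHasFiniteRelTorDim f E) :
    DCoh.IsPerfect ((DCoh.Rpush f).obj E) := by
  refine isPerfect_of_local fun s => ?_
  obtain ⟨_, ⟨V : S.Opens, hV, rfl⟩, hs, -⟩ :=
    S.isBasis_affineOpens.exists_subset_of_mem_open (a := s) (Set.mem_univ s) isOpen_univ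
  haveI : IsAffine (V : Scheme.{u}) := hV
  haveI : DCoh.HasRpush (f ∣_ V) := Groth.Agent.KInj.hasRightDerivedFunctor (hres_modules _) _
  haveI : LocallyOfFinitePresentation (f ∣_ V) := IsZariskiLocalAtTarget.restrict ‹_› V
  haveI : Flat (f ∣_ V) := IsZariskiLocalAtTarget.restrict ‹_› V
  haveI : IsProper (f ∣_ V) := IsZariskiLocalAtTarget.restrict ‹_› V
  obtain ⟨eV⟩ := Groth.Agent.DCohLib.nonempty_restrictD_rpush f V
  haveI := hasLpull (f ⁻¹ᵁ V).ι
  have htor' : DCoh.LocHasFiniteRelTorDim (f ∣_ V) ((DCoh.restrictD (f ⁻¹ᵁ V).ι).obj E) :=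
    locHasFiniteRelTorDim_iso (f ∣_ V) ((lpullRestrictNatIso (f ⁻¹ᵁ V).ι).app E)
      (locHasFiniteRelTorDim_lpull (isPullback_morphismRestrict f V).flip _ htor)
  exact ⟨_, V.ι, inferInstance, ⟨s, hs⟩, rfl, isPerfect_iso (eV.app E).symm
    (isPerfect_rpush_relPerf_affine (f ∣_ V) _ (fun k => isPseudoCoherentD_restrict _ (hE k))
      htor')⟩

end Groth.Agent.DCohMore
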