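import Groth.Agent.DCohMore.ApproxAffine
import Groth.Agent.TildePerf.Amp

/-! Affine models and lifting of morphisms for the global approximation by perfect objects. -/

set_option autoImplicit false
set_option linter.style.haveILetI false
set_option backward.isDefEq.respectTransparency false

universe u

open CategoryTheory Limits AlgebraicGeometry Pretriangulated ZeroObject
attribute [local instance] HasDerivedCategory.standard

noncomputable section

namespace Groth.Agent.DCohMore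

open Groth.Agent.DRingLib Groth.Agent.DCohLib

section Sup

variable {X : Scheme.{u}}

theorem sup_obj₂ {T : Set X} (hT : IsClosed T) (S : Triangle (DCoh.D X)) (hS : S ∈ distTriang _)
    (h₁ : Sup T S.obj₁) (h₃ : Sup T S.obj₃) : Sup T S.obj₂ := by
  rw [sup_iff hT] at h₁ h₃ ⊢
  exact Triangle.isZero₂_of_isZero₁₃ _ ((DCoh.restrictD (complOpen hT).ι).map_distinguished S hS) h₁ h₃

theorem sup_obj₁ {T : Set X} (hT : IsClosed T) (S : Triangle (DCoh.D X)) (hS : S ∈ distTriang _)
    (h₂ : Sup T S.obj₂) (h₃ : Sup T S.obj₃) : Sup T S.obj₁ := by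
  rw [sup_iff hT] at h₂ h₃ ⊢
  exact Triangle.isZero₁_of_isZero₂₃ _ ((DCoh.restrictD (complOpen hT).ι).map_distinguished S hS) h₂ h₃

/-- Supports of the cohomology from a degree on, seen by restriction to an open. -/
theorem aboveZero_restrictD_iff (W : X.Opens) (a : ℤ) (K : DCoh.D X) :
    AboveZero a ((DCoh.restrictD W.ι).obj K) ↔
      ∀ i : ℤ, a ≤ i → CohB1.support (DCoh.HD K i) ⊆ (W : Set X)ᶜ := by
  refine ⟨fun h i hi x hx hW => hx ?_, fun h i hi => ?_⟩
  · have hz : IsZero ((Scheme.Modules.restrictFunctor W.ι).obj (DCoh.HD K i)) :=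
      (h i hi).of_iso (restrictHDIso W.ι K i).symm
    exact ((Scheme.Modules.restrictStalkNatIso W.ι ⟨x, hW⟩).app (DCoh.HD K i)).addCommGroupIsoToAddEquiv.toEquiv.subsingleton_congr.1
      (subsingleton_stalk_of_isZero hz _)
  · refine (isZero_of_stalks fun y => ?_ : IsZero ((Scheme.Modules.restrictFunctor W.ι).obj _)).of_iso
      (restrictHDIso W.ι K i)
    exact ((Scheme.Modules.restrictStalkNatIso W.ι y).app _).addCommGroupIsoToAddEquiv.toEquiv.subsingleton_congr.2
      (not_not.1 fun hs => h i hi hs y.2)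

/-- Being supported in a closed subset from a degree on passes to cones of maps from supported objects. -/
theorem support_obj₃ {T : Set X} (hT : IsClosed T) (S : Triangle (DCoh.D X)) (hS : S ∈ distTriang _)
    (h₁ : Sup T S.obj₁) (a : ℤ) (h₂ : ∀ i : ℤ, a ≤ i → CohB1.support (DCoh.HD S.obj₂ i) ⊆ T) :
    ∀ i : ℤ, a ≤ i → CohB1.support (DCoh.HD S.obj₃ i) ⊆ T := by
  let O := complOpen hT
  have hO : (O : Set X)ᶜ = T := compl_compl T
  rw [sup_iff hT] at h₁
  have h : AboveZero a ((DCoh.restrictD O.ι).obj S.obj₃) :=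
    AboveZero.ext₂ _ (rot_of_distTriang _ ((DCoh.restrictD O.ι).map_distinguished S hS))
      ((aboveZero_restrictD_iff O a S.obj₂).2 fun i hi => by rw [hO]; exact h₂ i hi)
      (aboveZero_zero _ ((shiftFunctor _ (1 : ℤ)).map_isZero h₁))
  intro i hi
  have := (aboveZero_restrictD_iff O a S.obj₃).1 h i hi
  rwa [hO] at this

/-- A morphism from an object supported in a closed subset of an open is determined on the open. -/
theorem exists_map_of_restrict (V : X.Opens) {Q E : DCoh.D X} {Z : Set X} (hZ : IsClosed Z)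
    (hZV : Z ⊆ (V : Set X)) (hQ : Sup Z Q) (f : (DCoh.restrictD V.ι).obj Q ⟶ (DCoh.restrictD V.ι).obj E) :
    ∃ q : Q ⟶ E, (DCoh.restrictD V.ι).map q = f := by
  haveI : DCoh.HasRpush V.ι := Groth.Agent.KInj.hasRightDerivedFunctor (hres_modules _) _
  haveI := hasLpull V.ι
  let adj := (lpullRpushAdj V.ι).ofNatIsoLeft (lpullRestrictNatIso V.ι)
  haveI : IsIso adj.counit := adj.isIso_counit_of_iso (rpushRestrictId V)
  let η := adj.unit.app E
  obtain ⟨C, π, d, hη⟩ := distinguished_cocone_triangle η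
  haveI : IsIso ((DCoh.restrictD V.ι).map η) := by
    haveI : IsIso ((DCoh.restrictD V.ι).map η ≫ adj.counit.app ((DCoh.restrictD V.ι).obj E)) := by
      rw [adj.left_triangle_components E]; exact IsIso.id _
    exact IsIso.of_isIso_comp_right _ (adj.counit.app ((DCoh.restrictD V.ι).obj E))
  have hCV : IsZero ((DCoh.restrictD V.ι).obj C) :=
    (Triangle.isZero₃_iff_isIso₁ _ ((DCoh.restrictD V.ι).map_distinguished _ hη)).2 ‹_›
  let O := complOpen hZ
  haveI : DCoh.HasRpush O.ι := Groth.Agent.KInj.hasRightDerivedFunctor (hres_modules _) _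
  haveI := hasLpull O.ι
  obtain ⟨eC⟩ := nonempty_iso_rpush_restrict O (V : Set X)ᶜ V.2.isClosed_compl
    (Set.compl_subset_compl.2 hZV) C ((isZero_restrictD_iff_support V C).1 hCV)
  let adjO := (lpullRpushAdj O.ι).ofNatIsoLeft (lpullRestrictNatIso O.ι)
  have hg : adj.homEquiv Q _ f ≫ π = 0 := by
    rw [← cancel_mono eC.hom, zero_comp]
    exact (adjO.homEquiv _ _).symm.injective (((sup_iff hZ Q).1 hQ).eq_of_src _ _)
  obtain ⟨q, hq⟩ := Triangle.coyoneda_exact₂ _ hη (adj.homEquiv Q _ f) hg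
  refine ⟨q, ?_⟩
  have h5 : (adj.homEquiv _ _).symm (q ≫ η) = (DCoh.restrictD V.ι).map q :=
    (adj.homEquiv_naturality_left_symm _ _).trans
      ((congrArg ((DCoh.restrictD V.ι).map q ≫ ·)
        ((adj.homEquiv_counit _ _ _).trans (adj.left_triangle_components _))).trans (Category.comp_id _))
  exact h5.symm.trans ((congrArg (adj.homEquiv _ _).symm hq).symm.trans ((adj.homEquiv _ _).symm_apply_apply f))

end Sup

section Model

variable {X : Scheme.{u}} {A : Type u} [CommRing A] (j : Spec (CommRingCat.of A) ⟶ X) [IsOpenImmersion j]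
  [PreservesFiniteLimits (tilde.functor (CommRingCat.of A))]

/-- The derived category of the ring inside that of the image of an affine chart. -/
abbrev chartD : Dual.D A ⥤ DCoh.D (j.opensRange : Scheme.{u}) :=
  DCoh.tildeD (CommRingCat.of A) ⋙ DCoh.restrictD j.isoOpensRange.inv

theorem faithful_chartD : (chartD j).Faithful := by
  haveI : (DCoh.tildeD (CommRingCat.of A)).Faithful := (TildeD.main (CommRingCat.of A)).2.1
  haveI : (DCoh.restrictD j.isoOpensRange.inv).Faithful :=
    inferInstanceAs (restrictDEquiv j.isoOpensRange.symm).functor.Faithful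
  infer_instance

theorem full_chartD : (chartD j).Full := by
  haveI : (DCoh.tildeD (CommRingCat.of A)).Full := (TildeD.main (CommRingCat.of A)).1
  haveI : (DCoh.restrictD j.isoOpensRange.inv).Full :=
    inferInstanceAs (restrictDEquiv j.isoOpensRange.symm).functor.Full
  infer_instance

/-- Objects with quasi-coherent cohomology have models on affine charts. -/
theorem exists_model (K : DCoh.D X) (hK : DCoh.IsQCohD K) :
    ∃ (M : Dual.D A) (_ : (DCoh.tildeD (CommRingCat.of A)).obj M ≅ (DCoh.restrictD j).obj K),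
      Nonempty ((chartD j).obj M ≅ (DCoh.restrictD j.opensRange.ι).obj K) := by
  obtain ⟨M, ⟨e⟩⟩ := ((TildeD.main (CommRingCat.of A)).2.2 _).1 (TildeD.isQCohD_restrict j K hK)
  exact ⟨M, e, ⟨(DCoh.restrictD j.isoOpensRange.inv).mapIso e ≪≫ ((restrictDComp _ j).app K).symm ≪≫
    (restrictDCongr j.isoOpensRange_inv_comp).app K⟩⟩

theorem torsGE_of_support (l : List A) (a : ℤ) (M : Dual.D A) (K : DCoh.D X)
    (e : (DCoh.tildeD (CommRingCat.of A)).obj M ≅ (DCoh.restrictD j).obj K)
    (h : ∀ i : ℤ, a ≤ i → ∀ x ∈ gOpen l, j.base x ∉ CohB1.support (DCoh.HD K i)) : TorsGE l a M := by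
  intro f hf i hi x
  refine (tors_module_iff l ((hdA A i).obj M)).2 (fun p hp => (subsingleton_stalk_HD_tilde M i p).1 ?_) f hf x
  exact (((stkF p).mapIso ((DerivedCategory.homologyFunctor _ i).mapIso e)).toLinearEquiv.toEquiv.subsingleton_congr).2
    ((subsingleton_stalk_restrictD j K i p).2 (not_not.1 (h i hi p hp)))

theorem tors_of_support (l : List A) (M : Dual.D A) (K : DCoh.D X)
    (e : (DCoh.tildeD (CommRingCat.of A)).obj M ≅ (DCoh.restrictD j).obj K)
    (h : ∀ (i : ℤ), ∀ x ∈ gOpen l, j.base x ∉ CohB1.support (DCoh.HD K i)) : Tors l M :=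
  fun f hf i x => torsGE_of_support j l i M K e (fun k _ => h k) f hf i le_rfl x

/-- A torsion perfect object of a chart extends by zero. -/
theorem exists_chart_ext [DCoh.HasRpush j.opensRange.ι] (l : List A) (G : Dual.D A) (hG : Perf FProj G)
    (hGt : Tors l G) (Z : Set X) (hZ : IsClosed Z) (hZj : Z ⊆ (j.opensRange : Set X))
    (hZl : ∀ x, x ∉ gOpen l → j.base x ∈ Z) :
    DCoh.IsPerfect ((DCoh.Rpush j.opensRange.ι).obj ((chartD j).obj G)) ∧
      Sup Z ((DCoh.Rpush j.opensRange.ι).obj ((chartD j).obj G)) := by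
  let V := j.opensRange
  have hS : Sup (V.ι.base ⁻¹' Z) ((chartD j).obj G) :=
    (Sup.restrict j.isoOpensRange.inv (T := (gOpen l : Set (Spec (CommRingCat.of A)))ᶜ)
      ((tors_iff_support l G).1 hGt)).mono fun y hy => by
        show V.ι.base y ∈ Z
        rw [show V.ι.base y = j.base (j.isoOpensRange.inv.base y) by
          rw [← Scheme.Hom.comp_apply, j.isoOpensRange_inv_comp]]
        exact hZl _ hy
  refine ⟨isPerfect_rpush_of_support V _ (isPerfect_restrict _ (TildePerf.perfect_tilde hG)) (V.ι.base ⁻¹' Z) ?_ hS,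
    sup_rpush_restrict V hZ _ hS⟩
  show IsClosed (V.ι.base '' (V.ι.base ⁻¹' Z))
  rw [Set.image_preimage_eq_of_subset (by rw [Scheme.Opens.range_ι]; exact hZj)]
  exact hZ

set_option maxHeartbeats 1000000 in
/-- Lifting of a morphism given on an open, after changing the source away from it. -/
theorem exists_lift_map (U : X.Opens) [QuasiCompact U.ι]
    (hcov : U ⊔ j.opensRange = ⊤) (T : Set X) (hT : IsClosed T) (gs ls : List A)
    (hW : ∀ x, x ∈ gOpen gs ↔ j.base x ∈ U) (hL : ∀ x, x ∈ gOpen ls ↔ j.base x ∉ T)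
    {R E : DCoh.D X} (hR : DCoh.IsPerfect R) (hRT : Sup T R) (hE : DCoh.IsQCohD E)
    (ψ : (DCoh.restrictD U.ι).obj R ⟶ (DCoh.restrictD U.ι).obj E) :
    ∃ (R' : DCoh.D X) (w : R' ⟶ R) (χ : R' ⟶ E), DCoh.IsPerfect R' ∧ Sup T R' ∧
      IsIso ((DCoh.restrictD U.ι).map w) ∧
      (DCoh.restrictD U.ι).map χ = (DCoh.restrictD U.ι).map w ≫ ψ := by
  let V := j.opensRange
  haveI : DCoh.HasRpush U.ι := Groth.Agent.KInj.hasRightDerivedFunctor (hres_modules _) _
  haveI : DCoh.HasRpush V.ι := Groth.Agent.KInj.hasRightDerivedFunctor (hres_modules _) _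
  haveI := hasLpull U.ι
  haveI := hasLpull V.ι
  haveI := faithful_chartD j
  haveI := full_chartD j
  let adj := (lpullRpushAdj U.ι).ofNatIsoLeft (lpullRestrictNatIso U.ι)
  haveI : IsIso adj.counit := adj.isIso_counit_of_iso (rpushRestrictId U)
  let adjV := (lpullRpushAdj V.ι).ofNatIsoLeft (lpullRestrictNatIso V.ι)
  let η := adj.unit.app E
  obtain ⟨C, π, d, hη⟩ := distinguished_cocone_triangle η
  haveI : IsIso ((DCoh.restrictD U.ι).map η) := by
    haveI : IsIso ((DCoh.restrictD U.ι).map η ≫ adj.counit.app ((DCoh.restrictD U.ι).obj E)) := by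
      rw [adj.left_triangle_components E]; exact IsIso.id _
    exact IsIso.of_isIso_comp_right _ (adj.counit.app ((DCoh.restrictD U.ι).obj E))
  have hCU : ∀ i : ℤ, CohB1.support (DCoh.HD C i) ⊆ (U : Set X)ᶜ := (isZero_restrictD_iff_support U C).1
    ((Triangle.isZero₃_iff_isIso₁ _ ((DCoh.restrictD U.ι).map_distinguished _ hη)).2 ‹_›)
  have cover : ∀ x : X, x ∈ U ∨ x ∈ V := fun x => hcov.ge (Set.mem_univ x)
  have hCq : DCoh.IsQCohD C := isQCohD_obj₃' _ hη hE
    (isQCohD_rpush U.ι _ (TildeD.isQCohD_restrict U.ι E hE))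
  obtain ⟨eC⟩ := nonempty_iso_rpush_restrict V _ U.2.isClosed_compl (fun x hx => (cover x).resolve_left hx) C hCU
  obtain ⟨C₀, e₀, ⟨eC'⟩⟩ := exists_model j C hCq
  have hC₀ : Tors gs C₀ := tors_of_support j gs C₀ C e₀ fun i x hx hs => hCU i hs ((hW x).1 hx)
  obtain ⟨R₀, r₀, ⟨eR⟩⟩ := exists_model j R (isQCohD_of_isPerfect hR)
  have hR₀ : Perf FProj R₀ :=
    (TildePerf.perfect_tilde_iff R₀).1 (isPerfect_iso r₀.symm (isPerfect_restrict j hR))
  have hR₀t : Tors ls R₀ := tors_of_support j ls R₀ R r₀ fun i x hx hs => (hL x).1 hx (hRT i hs)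
  let ψ' : R ⟶ (DCoh.Rpush U.ι).obj ((DCoh.restrictD U.ι).obj E) := adj.homEquiv _ _ ψ
  let f' : (DCoh.restrictD V.ι).obj R ⟶ (DCoh.restrictD V.ι).obj C := (adjV.homEquiv _ _).symm ((ψ' ≫ π) ≫ eC.hom)
  obtain ⟨φ, hφ⟩ := (chartD j).map_surjective (eR.hom ≫ f' ≫ eC'.inv)
  obtain ⟨P', α, β, hP', hPt', -, hαβ⟩ := exists_tors_factor gs ls hR₀ hR₀t hC₀ φ
  have hZ : IsClosed (T ∩ (U : Set X)ᶜ) := hT.inter U.2.isClosed_compl
  obtain ⟨hQ, hQs⟩ := exists_chart_ext j (gs ++ ls) P' hP' hPt' _ hZ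
    (fun x hx => (cover x).resolve_left hx.2) (fun x hx => by
      rw [gOpen_append] at hx
      exact ⟨not_not.1 fun h => hx (Or.inr ((hL x).2 h)), fun h => hx (Or.inl ((hW x).2 h))⟩)
  let Q := (DCoh.Rpush V.ι).obj ((chartD j).obj P')
  let a : R ⟶ Q := adjV.homEquiv _ _ (eR.inv ≫ (chartD j).map α)
  let b : Q ⟶ (DCoh.Rpush V.ι).obj ((DCoh.restrictD V.ι).obj C) :=
    (DCoh.Rpush V.ι).map ((chartD j).map β ≫ eC'.hom)
  have hab : a ≫ b = (ψ' ≫ π) ≫ eC.hom := by
    refine ((adjV.homEquiv_naturality_right _ _).symm).trans ?_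
    have h : (eR.inv ≫ (chartD j).map α) ≫ (chartD j).map β ≫ eC'.hom = f' := by
      rw [Category.assoc, ← Functor.map_comp_assoc, hαβ, hφ]
      simp
    exact (congrArg (adjV.homEquiv _ _) h).trans ((adjV.homEquiv _ _).apply_symm_apply _)
  obtain ⟨R', w, d', hw⟩ := distinguished_cocone_triangle₁ a
  have h0 : (w ≫ ψ') ≫ π = 0 := by
    rw [← cancel_mono eC.hom, zero_comp, Category.assoc, Category.assoc, ← Category.assoc ψ', ← hab, ← Category.assoc,
      show w ≫ a = 0 from comp_distTriang_mor_zero₁₂ _ hw, zero_comp]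
  obtain ⟨χ, hχ⟩ := Triangle.coyoneda_exact₂ _ hη (w ≫ ψ') h0
  refine ⟨R', w, χ, isPerfect_obj₁ _ hw hR hQ, sup_obj₁ hT _ hw hRT (hQs.mono Set.inter_subset_left), ?_, ?_⟩
  · exact (Triangle.isZero₃_iff_isIso₁ _ ((DCoh.restrictD U.ι).map_distinguished _ hw)).1
      ((isZero_restrictD_iff_support U Q).2 fun i => (hQs i).trans Set.inter_subset_right)
  · have h4 : (adj.homEquiv _ _).symm (w ≫ ψ') = (DCoh.restrictD U.ι).map w ≫ ψ :=
      (adj.homEquiv_naturality_left_symm _ _).trans (congrArg ((DCoh.restrictD U.ι).map w ≫ ·)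
        ((adj.homEquiv _ _).symm_apply_apply ψ))
    have h5 : (adj.homEquiv _ _).symm (χ ≫ η) = (DCoh.restrictD U.ι).map χ :=
      (adj.homEquiv_naturality_left_symm _ _).trans
        ((congrArg ((DCoh.restrictD U.ι).map χ ≫ ·)
          ((adj.homEquiv_counit _ _ _).trans (adj.left_triangle_components _))).trans (Category.comp_id _))
    exact h5.symm.trans ((congrArg (adj.homEquiv _ _).symm hχ).symm.trans h4)

end Model

end Groth.Agent.DCohMore
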