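import Groth.Agent.DCohMore.PerfVanish
import Groth.Agent.DCohMore.ApproxModel
import Groth.Agent.DCohLib.MVTriangle
import Groth.Agent.S11114
import Groth.Agent.DRingLib.PerfMisc
import Groth.Agent.TildePerf.Amp
/-!
Objects whose sections over affine opens have cohomology in a range.
-/

set_option autoImplicit false
set_option backward.isDefEq.respectTransparency false
set_option linter.style.haveILetI false
set_option maxHeartbeats 1000000

universe u

open CategoryTheory CategoryTheory.Limits AlgebraicGeometry TopologicalSpace Opposite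
open CategoryTheory.Pretriangulated

attribute [local instance] HasDerivedCategory.standard

noncomputable section

namespace Groth.Agent.DCohMore

open Groth.Agent.DCohLib

variable {X : Scheme.{u}}

/-- Sections over an open lift along the differential. -/
def SecExact (I : CochainComplex X.Modules ℤ) (V : X.Opens) (i : ℤ) : Prop :=
  ∀ s : Γ(I.X i, V), (I.d i (i + 1)).app V s = 0 → ∃ t : Γ(I.X (i - 1), V), (I.d (i - 1) i).app V t = s

theorem secExact_of_exactAt (I : CochainComplex X.Modules ℤ) (U : X.Opens) (i : ℤ)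
    (h : (((DCoh.gammaAb (U : Scheme.{u})).mapHomologicalComplex (ComplexShape.up ℤ)).obj
      ((resCx U.ι).obj I)).ExactAt i) : SecExact I U i := by
  rw [HomologicalComplex.exactAt_iff' _ (i - 1) i (i + 1) (by simp) (by simp)] at h
  have h' := (ShortComplex.ab_exact_iff _).1 h
  have key : ∀ W : X.Opens, W = U.ι ''ᵁ ⊤ → SecExact I W i := by
    rintro W rfl s hs
    exact h' s hs
  exact key U (U.ι_image_top).symm

theorem secExact_signed {I : CochainComplex X.Modules ℤ} {W : X.Opens} {q : ℤ} (h : SecExact I W q) (v : ℤˣ)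
    (a b c : ℤ) (ha : a = q) (hb : b = q + 1) (hc : c = q - 1) (x : Γ(I.X a, W))
    (hx : (v • I.d a b).app W x = 0) : ∃ y : Γ(I.X c, W), (v • I.d c a).app W y = x := by
  subst ha hb hc
  rcases Int.units_eq_one_or v with rfl | rfl
  · simp only [one_smul] at hx ⊢
    exact h x hx
  · simp only [Units.neg_smul, one_smul] at hx ⊢
    have hx' : -((I.d a (a + 1)).app W x) = 0 := hx
    obtain ⟨y, hy⟩ := h x (neg_eq_zero.1 hx')
    refine ⟨-y, ?_⟩
    show -((I.d (a - 1) a).app W (-y)) = x
    rw [map_neg, neg_neg, hy]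

/-- The map out of the ring sending one to a given element. -/
def fromOne {R : Type u} [CommRing R] (M : ModuleCat.{u} R) (m : M) : ModuleCat.of R R ⟶ M :=
  ModuleCat.ofHom (LinearMap.toSpanSingleton R M m)

theorem fromOne_one {R : Type u} [CommRing R] (M : ModuleCat.{u} R) (m : M) : (fromOne M m).hom (1 : R) = m :=
  one_smul R m

/-- A resolution with exact sections over affine opens in the range of vanishing. -/
theorem exists_resolution_secExact [∀ U : X.Opens, DCoh.HasRΓ (U : Scheme.{u})] (K : DCoh.D X) :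
    ∃ (I : CochainComplex X.Modules ℤ), I.IsKInjective ∧ Nonempty (K ≅ DerivedCategory.Q.obj I) ∧
      ∀ (U : X.Opens) (i : ℤ),
        IsZero ((DerivedCategory.homologyFunctor AddCommGrpCat.{u} i).obj
          ((DCoh.RΓ (U : Scheme.{u})).obj ((DCoh.restrictD U.ι).obj K))) →
        (((DCoh.gammaAb (U : Scheme.{u})).mapHomologicalComplex (ComplexShape.up ℤ)).obj
          ((resCx U.ι).obj I)).ExactAt i := by
  obtain ⟨I, hI, -, ⟨e⟩⟩ := exists_injective_resolution X K
  haveI := hI
  refine ⟨I, hI, ⟨e⟩, fun U i h => ?_⟩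
  haveI := isKInjective_restrict U I
  rw [HomologicalComplex.exactAt_iff_isZero_homology]
  refine h.of_iso (((DerivedCategory.homologyFunctorFactors AddCommGrpCat.{u} i).app _).symm ≪≫
    (DerivedCategory.homologyFunctor AddCommGrpCat.{u} i).mapIso (rgammaInjIso (U : Scheme.{u}) ((resCx U.ι).obj I) ≪≫
      (DCoh.RΓ (U : Scheme.{u})).mapIso ((restrictDQ U.ι I).symm ≪≫ (DCoh.restrictD U.ι).mapIso e.symm)))

/-- Restriction along an isomorphism as an equivalence of modules. -/
def restrictModEquiv {Y Z : Scheme.{u}} (e : Y ≅ Z) : Z.Modules ≌ Y.Modules :=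
  CategoryTheory.Equivalence.mk (Scheme.Modules.restrictFunctor e.hom) (Scheme.Modules.restrictFunctor e.inv)
    (Scheme.Modules.restrictFunctorId.symm ≪≫ Scheme.Modules.restrictFunctorCongr e.inv_hom_id.symm ≪≫
      Scheme.Modules.restrictFunctorComp e.inv e.hom)
    ((Scheme.Modules.restrictFunctorComp e.hom e.inv).symm ≪≫ Scheme.Modules.restrictFunctorCongr e.hom_inv_id ≪≫
      Scheme.Modules.restrictFunctorId)

theorem isKInjective_resCx_fromSpec {V : X.Opens} (hV : IsAffineOpen V) (I : CochainComplex X.Modules ℤ)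
    [I.IsKInjective] : CochainComplex.IsKInjective ((resCx hV.fromSpec).obj I) := by
  haveI := isKInjective_restrict V I
  let E := restrictModEquiv hV.isoSpec.symm
  haveI : CochainComplex.IsKInjective ((E.functor.mapHomologicalComplex (ComplexShape.up ℤ)).obj ((resCx V.ι).obj I)) :=
    haveI : E.symm.inverse.Additive := inferInstanceAs (Scheme.Modules.restrictFunctor hV.isoSpec.inv).Additive
    haveI : E.functor.Additive := inferInstanceAs (Scheme.Modules.restrictFunctor hV.isoSpec.inv).Additive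
    Groth.Agent.KInj.isKInjective_map_of_adjunction E.symm.toAdjunction _
  refine @CochainComplex.isKInjective_of_iso _ _ _
    ((E.functor.mapHomologicalComplex (ComplexShape.up ℤ)).obj ((resCx V.ι).obj I)) _
    (HomologicalComplex.Hom.isoOfComponents
      (fun n => (Scheme.Modules.restrictFunctorComp hV.isoSpec.inv V.ι).symm.app (I.X n) ≪≫
        (Scheme.Modules.restrictFunctorCongr hV.isoSpec_inv_ι).app (I.X n)) fun a b _ => ?_) inferInstance
  exact ((Scheme.Modules.restrictFunctorComp hV.isoSpec.inv V.ι).symm ≪≫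
    Scheme.Modules.restrictFunctorCongr hV.isoSpec_inv_ι).hom.naturality (I.d a b) |>.symm

theorem eq_zero_of_secExact {V : X.Opens} (hV : IsAffineOpen V) (I : CochainComplex X.Modules ℤ) [I.IsKInjective]
    (q : ℤ) (h : SecExact I V q)
    (φ : RlimCrit.sgl 0 (TildeD.OSpec Γ(X, V)) ⟶ (DCoh.restrictD hV.fromSpec).obj (DerivedCategory.Q.obj (I⟦q⟧))) :
    φ = 0 := by
  let j := hV.fromSpec
  let A : CommRingCat.{u} := Γ(X, V)
  let J := (resCx j).obj (I⟦q⟧)
  haveI : CochainComplex.IsKInjective J := isKInjective_resCx_fromSpec hV (I⟦q⟧)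
  let e := restrictDQ j (I⟦q⟧)
  let ec := DerivedCategory.quotientCompQhIso (Spec A).Modules
  rw [← cancel_mono e.hom, zero_comp]
  obtain ⟨b, hb⟩ := (CochainComplex.IsKInjective.Qh_map_bijective
    ((HomotopyCategory.quotient _ _).obj _) J).surjective (ec.hom.app _ ≫ (φ ≫ e.hom) ≫ ec.inv.app J)
  obtain ⟨a, rfl⟩ := (HomotopyCategory.quotient _ _).map_surjective b
  -- the chain map is null homotopic
  let S := (HomologicalComplex.single (Spec A).Modules (ComplexShape.up ℤ) 0).obj (TildeD.OSpec A)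
  let s₀ : TildeD.OSpec A ⟶ J.X 0 := (HomologicalComplex.singleObjXSelf (ComplexShape.up ℤ) 0 _).inv ≫ a.f 0
  have hs₀ : s₀ ≫ J.d 0 1 = 0 := by
    rw [Category.assoc, a.comm 0 1, HomologicalComplex.single_obj_d, zero_comp, comp_zero]
  let adj := tilde.adjunction (R := A)
  let v := (adj.homEquiv (ModuleCat.of A A) (J.X 0) s₀).hom (1 : A)
  have hv : (J.d 0 1).app ⊤ v = 0 := by
    have h1 := adj.homEquiv_naturality_right s₀ (J.d 0 1)
    rw [hs₀] at h1
    have h2 := congrArg (fun t : ModuleCat.of A A ⟶ _ => t.hom (1 : A)) h1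
    refine Eq.trans ?_ (h2.symm.trans ?_)
    · rfl
    · rw [Adjunction.homEquiv_unit, Functor.map_zero, comp_zero]; rfl
  have hJ : ∀ W : X.Opens, W = V → ∀ x : Γ(I.X (0 + q), W), (q.negOnePow • I.d (0 + q) (1 + q)).app W x = 0 →
      ∃ y : Γ(I.X (-1 + q), W), (q.negOnePow • I.d (-1 + q) (0 + q)).app W y = x := by
    intro W hW x hx
    subst hW
    exact secExact_signed h _ _ _ _ (zero_add q) (add_comm 1 q) (by omega) x hx
  obtain ⟨w, hw⟩ : ∃ w : Γ(J.X (-1), ⊤), (J.d (-1) 0).app ⊤ w = v :=
    hJ (j ''ᵁ ⊤) (by rw [Scheme.Hom.image_top_eq_opensRange, hV.opensRange_fromSpec]) v hv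
  let w' : ↑((moduleSpecΓFunctor (R := A)).obj (J.X (-1))) := w
  let t₀ : TildeD.OSpec A ⟶ J.X (-1) :=
    (adj.homEquiv (ModuleCat.of A A) (J.X (-1))).symm
      (fromOne ((moduleSpecΓFunctor (R := A)).obj (J.X (-1))) w')
  have ht : t₀ ≫ J.d (-1) 0 = s₀ := by
    apply (adj.homEquiv (ModuleCat.of A A) (J.X 0)).injective
    rw [adj.homEquiv_naturality_right, Equiv.apply_symm_apply]
    refine ModuleCat.hom_ext (LinearMap.ext_ring ?_)
    refine Eq.trans ?_ hw
    exact congrArg ((J.d (-1) 0).app ⊤) (fromOne_one ((moduleSpecΓFunctor (R := A)).obj (J.X (-1))) w')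
  let hh : ∀ m n, (ComplexShape.up ℤ).Rel n m → (S.X m ⟶ J.X n) := fun m n hmn =>
    if hm : m = 0 then (HomologicalComplex.singleObjXIsoOfEq (ComplexShape.up ℤ) 0 _ m hm).hom ≫ t₀ ≫
      (J.XIsoOfEq (show (-1 : ℤ) = n by simp only [ComplexShape.up_Rel] at hmn; omega)).hom
    else 0
  have ea : a = Homotopy.nullHomotopicMap' hh := by
    apply HomologicalComplex.from_single_hom_ext
    rw [Homotopy.nullHomotopicMap'_f (show (ComplexShape.up ℤ).Rel (-1) 0 by simp)
      (show (ComplexShape.up ℤ).Rel 0 1 by simp), HomologicalComplex.single_obj_d, zero_comp, zero_add]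
    simp only [hh, dif_pos, HomologicalComplex.XIsoOfEq_rfl, Iso.refl_hom, Category.comp_id, Category.assoc, ht, s₀]
    exact (Iso.hom_inv_id_assoc _ _).symm
  have hq : (HomotopyCategory.quotient _ _).map a = 0 :=
    (HomotopyCategory.quotient_map_eq_zero_iff a).2 ⟨(Homotopy.ofEq ea).trans (Homotopy.nullHomotopy' hh)⟩
  rw [hq, Functor.map_zero] at hb
  rw [← cancel_epi (ec.hom.app _), ← cancel_mono (ec.inv.app J), comp_zero, zero_comp, Category.assoc]
  exact hb.symm

end Groth.Agent.DCohMore
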