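import Groth.Agent.DCohMore.BvdBStep
import Groth.Agent.DRingLib.SplitNear

/-! Approximation by torsion perfect objects in the derived category of a ring. -/

set_option autoImplicit false
set_option linter.style.haveILetI false
set_option backward.isDefEq.respectTransparency false

universe u

open CategoryTheory Limits Pretriangulated AlgebraicGeometry ZeroObject
attribute [local instance] HasDerivedCategory.standard

noncomputable section

namespace Groth.Agent.DCohMore

open Groth.Agent.DRingLib Groth.Agent.DCohLib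

variable {A : Type u} [CommRing A]

/-- Maps to objects without cohomology from the given degree on are zero. -/
def Low (a : ℤ) (P : Dual.D A) : Prop :=
  ∀ C : Dual.D A, AboveZero a C → ∀ φ : P ⟶ C, φ = 0

theorem aboveZero_shift {C : Dual.D A} {a : ℤ} (h : AboveZero a C) (k b : ℤ) (hb : a ≤ b + k) :
    AboveZero b (C⟦k⟧) := fun i hi =>
  (h (k + i) (by omega)).of_iso
    (((DerivedCategory.homologyFunctor (ModuleCat.{u} A) 0).shiftIso k i (k + i) rfl).app C)

theorem low_inD (P : ModuleCat.{u} A) [Projective P] : Low 0 (Dual.inD A P) := fun C hC φ => by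
  refine (DComplLib.bijective_toH0 P C).1 ?_
  haveI := ModuleCat.subsingleton_of_isZero (hC 0 le_rfl)
  exact (hC 0 le_rfl).eq_of_tgt _ _

/-- A map from a perfect object to a torsion object factors through a torsion perfect object, with bounds. -/
theorem exists_tors_factor_low (l : List A) : ∀ {P C : Dual.D A}, Perf FProj P →
    Tors l C → ∀ φ : P ⟶ C, ∀ a : ℤ, Low a P →
      ∃ (P' : Dual.D A) (α : P ⟶ P') (β : P' ⟶ C), Perf FProj P' ∧ Tors l P' ∧
        (∀ n : ℤ, AboveZero n P → AboveZero n P') ∧ Low (a - l.length) P' ∧ α ≫ β = φ := by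
  induction l with
  | nil => exact fun {P C} hP _ φ a ha => ⟨P, 𝟙 P, φ, hP, fun f hf => absurd hf List.not_mem_nil,
      fun _ h => h, by simpa using ha, Category.id_comp φ⟩
  | cons f l ih =>
    intro P C hP hC φ a ha
    obtain ⟨P', α, β, hP', hT', hA', hL', rfl⟩ := ih hP (fun g hg => hC g (List.mem_cons_of_mem _ hg)) φ a ha
    obtain ⟨n, hn⟩ := killed_of_perf f hP' C (fun g hg => hC g (by rw [List.mem_singleton.1 hg]; exact List.mem_cons_self ..)) β
    obtain ⟨Q, p, d, hQ⟩ := distinguished_cocone_triangle (f ^ n • 𝟙 P')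
    have hn' : (f ^ n • 𝟙 P') ≫ β = 0 := by rw [Linear.smul_comp, Category.id_comp, hn]
    obtain ⟨γ, hγ⟩ := Triangle.yoneda_exact₂ _ hQ β hn'
    refine ⟨Q, α ≫ p, γ, Perf.obj₃ projClass_fProj _ hQ hP' hP', fun g hg => ?_, fun m hm i hi =>
      (DerivedCategory.HomologySequence.exact₃ _ hQ i (i + 1) rfl).isZero_of_both_zeros
        ((hA' m hm i hi).eq_of_src _ _) ((hA' m hm (i + 1) (by omega)).eq_of_tgt _ _), ?_,
      (Category.assoc _ _ _).trans (congrArg (α ≫ ·) hγ.symm)⟩
    · rcases List.mem_cons.1 hg with rfl | hg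
      · exact tors_cone_smul hQ g (List.mem_singleton.2 rfl)
      · exact Tors.obj₃ (l := [g]) _ hQ (fun g' hg' => by rw [List.mem_singleton.1 hg']; exact hT' g hg)
          (fun g' hg' => by rw [List.mem_singleton.1 hg']; exact hT' g hg) g (List.mem_singleton.2 rfl)
    · intro D hD ψ
      have h1 : p ≫ ψ = 0 := hL' D (fun i hi => hD i (by simp only [List.length_cons]; push_cast; omega)) _
      obtain ⟨θ, hθ⟩ := Triangle.yoneda_exact₃ _ hQ ψ h1
      have hθ0 : θ = 0 := by
        refine hom_shift_zero' (-1 : ℤ) (fun u => hL' _ (aboveZero_shift hD (-1) _ ?_) u) θ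
        simp only [List.length_cons]; push_cast; omega
      rw [hθ, hθ0, comp_zero]

/-- Torsion of the cohomology from a degree on. -/
def TorsGE (ls : List A) (a : ℤ) (M : Dual.D A) : Prop :=
  ∀ f ∈ ls, ∀ i : ℤ, a ≤ i → ∀ x : (hdA A i).obj M, ∃ n : ℕ, f ^ n • x = 0

theorem TorsGE.shift {ls : List A} {a : ℤ} {M : Dual.D A} (h : TorsGE ls a M) (k b : ℤ) (hb : a ≤ b + k) :
    TorsGE ls b (M⟦k⟧) := fun f hf i hi x => by
  let e : (hdA A i).obj (M⟦k⟧) ≅ (hdA A (k + i)).obj M :=
    ((DerivedCategory.homologyFunctor (ModuleCat.{u} A) 0).shiftIso k i (k + i) rfl).app M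
  obtain ⟨n, hn⟩ := h f hf (k + i) (by omega) (e.hom x)
  exact ⟨n, e.toLinearEquiv.injective ((map_smul e.hom.hom _ x).trans (hn.trans (map_zero e.hom.hom).symm))⟩

theorem tors_truncGE {ls : List A} {a : ℤ} {M : Dual.D A} (h : TorsGE ls a M) :
    Tors ls (((stdT A).truncGE a).obj M) := fun f hf i x => by
  rcases lt_or_ge i a with hi | hi
  · haveI : (((stdT A).truncGE a).obj M).IsGE a := inferInstanceAs ((stdT A).IsGE (((stdT A).truncGE a).obj M) a)
    haveI := ModuleCat.subsingleton_of_isZero (DerivedCategory.isZero_of_isGE (((stdT A).truncGE a).obj M) a i hi)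
    exact ⟨0, Subsingleton.elim _ _⟩
  · haveI := Groth.Agent.DRingLib.isIso_homology_truncGEπ M hi
    let e := asIso ((DerivedCategory.homologyFunctor (ModuleCat.{u} A) i).map (((stdT A).truncGEπ a).app M))
    obtain ⟨n, hn⟩ := h f hf i hi (e.inv x)
    exact ⟨n, e.symm.toLinearEquiv.injective ((map_smul e.inv.hom _ x).trans (hn.trans (map_zero e.inv.hom).symm))⟩

variable [PreservesFiniteLimits (tilde.functor (CommRingCat.of A))]

theorem exists_kill_zero (ls : List A) (M : Dual.D A) (a : ℤ) (ha : a ≤ 1 - (ls.length : ℤ)) (ha0 : a ≤ 0)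
    (hpc : PC FFree 0 M) (hM : AboveZero 1 M) (ht : TorsGE ls a M) :
    ∃ (P : Dual.D A) (u : P ⟶ M) (C : Dual.D A) (p : M ⟶ C) (d : C ⟶ P⟦(1 : ℤ)⟧),
      Triangle.mk u p d ∈ distTriang _ ∧ Perf FProj P ∧ Tors ls P ∧ AboveZero 1 P ∧ AboveZero 0 C := by
  haveI := TildePerf.finite_top (m := 0) (n := 0) le_rfl (M := M) hM
    ((TildePerf.isPseudoCoherentD_tilde_iff M 0).2 hpc)
  obtain ⟨k, g, hg⟩ := Module.Finite.exists_fin' A ((DerivedCategory.homologyFunctor (ModuleCat.{u} A) 0).obj M)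
  let P₀ : ModuleCat.{u} A := ModuleCat.of A (Fin k → A)
  haveI : Module.Projective A P₀ := inferInstanceAs (Module.Projective A (Fin k → A))
  haveI : Module.Finite A P₀ := inferInstanceAs (Module.Finite A (Fin k → A))
  haveI : Projective P₀ := (IsProjective.iff_projective _).1 inferInstance
  obtain ⟨φ, hφ⟩ := (DComplLib.bijective_toH0 P₀ M).2 (ModuleCat.ofHom g)
  let π := ((stdT A).truncGEπ a).app M
  haveI : (Dual.inD A P₀).IsLE 0 :=
    inferInstanceAs (((DerivedCategory.singleFunctor (ModuleCat.{u} A) 0).obj P₀).IsLE 0)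
  obtain ⟨P, α, β, hP, hPt, hPA, hPL, hαβ⟩ := exists_tors_factor_low ls
    (perf_inD projClass_fProj (M := P₀) ⟨inferInstance, inferInstance⟩) (tors_truncGE ht) (φ ≫ π) 0 (low_inD P₀)
  let S := ((stdT A).triangleLTGE a).obj M
  have hS : S ∈ distTriang _ := (stdT A).triangleLTGE_distinguished a M
  have hβ0 : β ≫ S.mor₃ = 0 := hPL _ (fun i hi => by
    haveI : S.obj₁.IsLE (a - 1) := inferInstanceAs ((stdT A).IsLE (((stdT A).truncLT a).obj M) (a - 1))
    exact aboveZero_shift (a := a) (fun j hj => DerivedCategory.isZero_of_isLE S.obj₁ (a - 1) j (by omega)) 1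
      (0 - (ls.length : ℤ)) (by omega) i hi) _
  obtain ⟨(u : P ⟶ M), hu⟩ := Triangle.coyoneda_exact₃ S hS β hβ0
  obtain ⟨C, p, d, hC⟩ := distinguished_cocone_triangle u
  have hP1 : AboveZero 1 P := hPA 1 fun i hi => DerivedCategory.isZero_of_isLE (Dual.inD A P₀) 0 i (by omega)
  refine ⟨P, u, C, p, d, hC, hP, hPt, hP1, fun i hi => ?_⟩
  refine (DerivedCategory.HomologySequence.exact₃ _ hC i (i + 1) rfl).isZero_X₂ ?_
    ((hP1 (i + 1) (by omega)).eq_of_tgt _ _)
  rcases hi.eq_or_lt with rfl | hi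
  · show (hdA A 0).map p = 0
    haveI := Groth.Agent.DRingLib.isIso_homology_truncGEπ M (m := a) (i := 0) (by omega)
    have hcomp : u ≫ p = 0 := comp_distTriang_mor_zero₁₂ _ hC
    refine ModuleCat.hom_ext (LinearMap.ext fun y => ?_)
    obtain ⟨v, rfl⟩ := hg y
    let z := (hdA A 0).map α ((DerivedCategory.singleFunctorCompHomologyFunctorIso (ModuleCat.{u} A) 0).inv.app P₀ v)
    have h1 : (hdA A 0).map u z = g v := by
      apply (asIso ((hdA A 0).map π)).toLinearEquiv.injective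
      show (hdA A 0).map π ((hdA A 0).map u z) = (hdA A 0).map π (g v)
      have h2 : g v = (DComplLib.toH0 P₀ M φ) v := by rw [hφ]; rfl
      rw [h2]
      show ((hdA A 0).map u ≫ (hdA A 0).map π) z = _
      rw [← Functor.map_comp, show u ≫ π = β from hu.symm]
      show _ = ((DerivedCategory.singleFunctorCompHomologyFunctorIso (ModuleCat.{u} A) 0).inv.app P₀ ≫
        (hdA A 0).map φ ≫ (hdA A 0).map π) v
      rw [← Functor.map_comp, ← hαβ, Functor.map_comp]
      rfl
    rw [← h1]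
    show ((hdA A 0).map u ≫ (hdA A 0).map p) z = 0
    rw [← Functor.map_comp, hcomp, Functor.map_zero]
    rfl
  · exact (hM i (by omega)).eq_of_src _ _

/-- Approximation of an object with torsion cohomology in a range by torsion perfect objects. -/
theorem exists_approx_affine' (ls : List A) (m a : ℤ) (ha : a ≤ 1 - (ls.length : ℤ)) (ha0 : a ≤ 0)
    (M : Dual.D A) (hpc : PC FFree m M) (ht : TorsGE ls (m + a) M) :
    ∃ (P : Dual.D A) (u : P ⟶ M) (C : Dual.D A) (p : M ⟶ C) (d : C ⟶ P⟦(1 : ℤ)⟧),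
      Triangle.mk u p d ∈ distTriang _ ∧ Perf FProj P ∧ Tors ls P ∧ AboveZero m C := by
  suffices H : ∀ (k : ℕ) (M : Dual.D A), PC FFree m M → TorsGE ls (m + a) M → AboveZero (m + k) M →
      ∃ (P : Dual.D A) (u : P ⟶ M) (C : Dual.D A) (p : M ⟶ C) (d : C ⟶ P⟦(1 : ℤ)⟧),
        Triangle.mk u p d ∈ distTriang _ ∧ Perf FProj P ∧ Tors ls P ∧ AboveZero m C by
    obtain ⟨n, hn⟩ := hpc.exists_aboveZero
    exact H (n - m).toNat M hpc ht fun i hi => hn i (by omega)
  intro k
  induction k with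
  | zero =>
    intro M _ _ hM
    exact ⟨0, 0, M, 𝟙 M, 0, contractible_distinguished₁ M, perf_of_isZero projClass_fProj (isZero_zero _),
      Tors.of_isZero (isZero_zero _), fun i hi => hM i (by omega)⟩
  | succ k ih =>
    intro M hpc ht hM
    obtain ⟨n, hn⟩ : ∃ n : ℤ, n = m + k := ⟨_, rfl⟩
    have hpc0 : PC FFree 0 (M⟦n⟧) := (TildePerf.isPseudoCoherentD_tilde_iff _ 0).1
      (isPseudoCoherentD_iso (((DCoh.tildeD (CommRingCat.of A)).commShiftIso n).app M).symm
        (isPseudoCoherentD_shift ((TildePerf.isPseudoCoherentD_tilde_iff M m).2 hpc) n (by omega)))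
    obtain ⟨P, u, C, p, d, hT, hP, hPt, hP1, hC⟩ := exists_kill_zero ls (M⟦n⟧) a ha ha0 hpc0
      (aboveZero_shift hM n 1 (by omega)) (ht.shift n _ (by omega))
    let e := (shiftEquiv (Dual.D A) n).unitIso.app M
    let T' := (Triangle.shiftFunctor (Dual.D A) (-n)).obj (Triangle.mk u p d)
    let T₁ := Triangle.mk (T'.mor₁ ≫ e.inv) (e.hom ≫ T'.mor₂) T'.mor₃
    have hT₁ : T₁ ∈ distTriang _ :=
      isomorphic_distinguished _ (Triangle.shift_distinguished _ hT (-n)) _
        (Triangle.isoMk _ _ (Iso.refl _) e (Iso.refl _)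
          (((Category.assoc _ _ _).trans (congrArg (T'.mor₁ ≫ ·) e.inv_hom_id)).trans
            ((Category.comp_id _).trans (Category.id_comp _).symm))
          (Category.comp_id _) ((congrArg (T'.mor₃ ≫ ·) ((shiftFunctor (Dual.D A) (1 : ℤ)).map_id _)).trans
            ((Category.comp_id _).trans (Category.id_comp _).symm)))
    have hP' : Perf FProj T₁.obj₁ := hP.shift (-n)
    have hpc' : PC FFree m T₁.obj₃ := (TildePerf.isPseudoCoherentD_tilde_iff _ m).1
      (isPseudoCoherentD_obj₃ _ ((DCoh.tildeD (CommRingCat.of A)).map_distinguished _ hT₁)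
        ((TildePerf.isPseudoCoherentD_tilde_iff _ _).2 ((isPseudoCoherent'_iff _).1 (pcPrime_of_perf hP') _))
        ((TildePerf.isPseudoCoherentD_tilde_iff _ _).2 hpc))
    have ht' : TorsGE ls (m + a) T₁.obj₃ := fun f hf i hi x => by
      obtain ⟨r, hr⟩ := (hPt.shift (-n)).shift 1 f hf i ((hdA A i).map T₁.mor₃ x)
      have h0 : (hdA A i).map T₁.mor₃ (f ^ r • x) = 0 := (map_smul _ _ _).trans hr
      obtain ⟨y, hy⟩ := (ShortComplex.moduleCat_exact_iff _).1
        (DerivedCategory.HomologySequence.exact₂ _ (rot_of_distTriang _ hT₁) i) _ h0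
      obtain ⟨s, hs⟩ := ht f hf i hi y
      refine ⟨s + r, ?_⟩
      change (hdA A i).map T₁.mor₂ y = _ at hy
      rw [pow_add, mul_smul, ← hy]
      exact (map_smul _ _ _).symm.trans ((congrArg _ hs).trans (map_zero _))
    obtain ⟨P₂, u₂, C₂, p₂, d₂, hT₂, hP₂, hPt₂, hC₂⟩ := ih T₁.obj₃ hpc' ht'
      (fun i hi => aboveZero_shift hC (-n) n (by omega) i (by omega))
    obtain ⟨E', u', d', h₁₃⟩ := distinguished_cocone_triangle₁ (T₁.mor₂ ≫ p₂)
    let o := Triangulated.someOctahedron' (rfl : T₁.mor₂ ≫ p₂ = _) hT₁ hT₂ h₁₃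
    exact ⟨E', u', C₂, T₁.mor₂ ≫ p₂, d', h₁₃, Perf.obj₂ projClass_fProj _ o.mem hP' hP₂,
      Tors.obj₂ _ o.mem (hPt.shift (-n)) hPt₂, hC₂⟩

/-- Approximation of an object with torsion cohomology in degrees at least `m - length`. -/
theorem exists_approx_affine (ls : List A) (m : ℤ) (M : Dual.D A) (hpc : PC FFree m M)
    (ht : TorsGE ls (m - ls.length) M) :
    ∃ (P : Dual.D A) (u : P ⟶ M) (C : Dual.D A) (p : M ⟶ C) (d : C ⟶ P⟦(1 : ℤ)⟧),
      Triangle.mk u p d ∈ distTriang _ ∧ Perf FProj P ∧ Tors ls P ∧ AboveZero m C :=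
  exists_approx_affine' ls m (-(ls.length : ℤ)) (by omega) (by omega) M hpc
    (by rwa [← sub_eq_add_neg])

end Groth.Agent.DCohMore
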