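import Groth.Agent.DCohMore.ApproxGlobal
import Groth.Agent.DCohMore.KoszulUnit

/-! Consequences of the approximation by perfect objects. -/

set_option autoImplicit false
set_option linter.style.haveILetI false
set_option backward.isDefEq.respectTransparency false

universe u

open CategoryTheory Limits AlgebraicGeometry Pretriangulated ZeroObject
attribute [local instance] HasDerivedCategory.standard

noncomputable section

namespace Groth.Agent.DCohMore

open Groth.Agent.DRingLib Groth.Agent.DCohLib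

section Affine

variable (X : Scheme.{u}) [IsAffine X]

/-- The tautological chart of an affine scheme. -/
abbrev affChart : Spec (CommRingCat.of Γ(X, ⊤)) ⟶ X := X.isoSpec.inv

theorem affChart_range : (affChart X).opensRange = ⊤ :=
  TopologicalSpace.Opens.ext (Set.range_eq_univ.2 fun x => ⟨X.isoSpec.hom.base x, by
    show (X.isoSpec.hom ≫ X.isoSpec.inv).base x = x
    rw [X.isoSpec.hom_inv_id]; rfl⟩)

theorem exists_gOpen_chart (U : X.Opens) (hU : IsCompact (U : Set X)) :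
    ∃ gs : List Γ(X, ⊤), ∀ x, x ∈ gOpen gs ↔ (affChart X).base x ∈ U := by
  haveI : QuasiCompact (affChart X) := inferInstance
  obtain ⟨gs, hgs⟩ := exists_gOpen_eq (A := Γ(X, ⊤)) (affChart X ⁻¹ᵁ U : Set (Spec (CommRingCat.of Γ(X, ⊤))))
    (affChart X ⁻¹ᵁ U).2 (QuasiCompact.isCompact_preimage (f := affChart X) U U.2 hU)
  exact ⟨gs, fun x => Set.ext_iff.1 hgs x⟩

/-- Lifting maps from a quasi-compact open of an affine scheme. -/
theorem exists_lift_affine (U : X.Opens) (hU : IsCompact (U : Set X)) {E E' : DCoh.D X} (hE : DCoh.IsPerfect E)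
    (hE' : DCoh.IsQCohD E') (α : (DCoh.restrictD U.ι).obj E ⟶ (DCoh.restrictD U.ι).obj E') :
    ∃ (E₁ : DCoh.D X) (β : E₁ ⟶ E) (γ : E₁ ⟶ E'), DCoh.IsPerfect E₁ ∧ IsIso ((DCoh.restrictD U.ι).map β) ∧
      (DCoh.restrictD U.ι).map β ≫ α = (DCoh.restrictD U.ι).map γ := by
  haveI := TildeD.preservesFiniteLimits_tilde (R := CommRingCat.of Γ(X, ⊤))
  haveI : QuasiCompact U.ι := by
    haveI : CompactSpace (U : Scheme.{u}) := isCompact_iff_compactSpace.1 hU
    exact quasiCompact_of_compactSpace U.ι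
  obtain ⟨gs, hgs⟩ := exists_gOpen_chart X U hU
  obtain ⟨R', w, χ, hR', -, hw, hχ⟩ := exists_lift_map (affChart X) U (by rw [affChart_range, sup_top_eq])
    Set.univ isClosed_univ gs [] hgs (fun x => by simp [mem_gOpen]) hE (fun i x _ => Set.mem_univ x) hE' α
  exact ⟨R', w, χ, hR', hw, hχ.symm⟩

/-- Extension with supports from a quasi-compact open of an affine scheme. -/
theorem exists_extend_affine (T : Set X) (hT : IsClosed T) (hTc : IsCompact Tᶜ) (U : X.Opens)
    (hU : IsCompact (U : Set X)) (F : DCoh.D (U : Scheme.{u})) (hF : DCoh.IsPerfect F)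
    (hFT : Sup (U.ι.base ⁻¹' T) F) :
    ∃ R : DCoh.D X, DCoh.IsPerfect R ∧ Sup T R ∧
      Nonempty ((DCoh.restrictD U.ι).obj R ≅ F⟦(1 : ℤ)⟧ ⊞ F) := by
  obtain ⟨gs, hgs⟩ := exists_gOpen_chart X U hU
  obtain ⟨ls, hls⟩ := exists_gOpen_chart X (complOpen hT) hTc
  exact exists_extend_global U (affChart X) (by rw [affChart_range, sup_top_eq]) T hT gs ls hgs hls F hF hFT

theorem exists_extend_cx (T : Set X) (hT : IsClosed T) (hTc : IsCompact Tᶜ) (U : X.Opens)
    (hU : IsCompact (U : Set X)) (F : DCoh.D (U : Scheme.{u})) (hF : DCoh.IsPerfect F)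
    (hFT : Sup (U.ι.base ⁻¹' T) F) [HasBinaryBiproduct F (F⟦(1 : ℤ)⟧)] :
    ∃ G : CochainComplex X.Modules ℤ, DCoh.IsPerfect (DCoh.toD X G) ∧ Sup T (DCoh.toD X G) ∧
      Nonempty (DerivedCategory.Q.obj ((DCoh.restrictCx U).obj G) ≅ F ⊞ F⟦(1 : ℤ)⟧) := by
  obtain ⟨R, hR, hRT, ⟨e⟩⟩ := exists_extend_affine X T hT hTc U hU F hF hFT
  exact ⟨DerivedCategory.Q.objPreimage R, isPerfect_iso (DerivedCategory.Q.objObjPreimageIso R).symm hR,
    sup_of_iso (DerivedCategory.Q.objObjPreimageIso R).symm hRT,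
    ⟨(restrictDQ U.ι _).symm ≪≫ (DCoh.restrictD U.ι).mapIso (DerivedCategory.Q.objObjPreimageIso R) ≪≫ e ≪≫
      biprod.braiding _ _⟩⟩

/-- The approximation on an affine scheme with explicit bounds. -/
theorem exists_approx_zeroLocus (fs : Finset Γ(X, ⊤)) (m : ℤ) (E : DCoh.D X) (hq : DCoh.IsQCohD E)
    (hpc : DCoh.IsPseudoCoherentD m E)
    (hsupp : ∀ i : ℤ, m - (fs.card : ℤ) + 1 ≤ i → CohB1.support (DCoh.HD E i) ⊆ X.zeroLocus (U := ⊤) (↑fs : Set Γ(X, ⊤))) :
    ∃ (P : DCoh.D X) (α : P ⟶ E), DCoh.IsPerfect P ∧ Sup (X.zeroLocus (U := ⊤) (↑fs : Set Γ(X, ⊤))) P ∧ MIso m α := by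
  classical
  haveI := TildeD.preservesFiniteLimits_tilde (R := CommRingCat.of Γ(X, ⊤))
  let j := affChart X
  let l := fs.toList
  obtain ⟨M, e₀, -⟩ := exists_model j E hq
  have hMpc : PC FFree m M := (TildePerf.isPseudoCoherentD_tilde_iff M m).1
    (isPseudoCoherentD_iso e₀.symm (isPseudoCoherentD_restrict j hpc))
  have hz : ∀ x, x ∈ gOpen l ↔ j.base x ∉ X.zeroLocus (U := ⊤) (↑fs : Set Γ(X, ⊤)) := fun x => by
    have : x ∈ PrimeSpectrum.zeroLocus (R := Γ(X, ⊤)) (↑fs : Set Γ(X, ⊤)) ↔ j.base x ∈ X.zeroLocus (U := ⊤) (↑fs : Set Γ(X, ⊤)) := by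
      rw [← X.isoSpec_inv_preimage_zeroLocus]
      rfl
    rw [← this, mem_gOpen]
    show (∃ f ∈ l, f ∉ x.asIdeal) ↔ ¬ ((↑fs : Set Γ(X, ⊤)) ⊆ ↑x.asIdeal)
    rw [Set.not_subset]
    simp [l]
  obtain ⟨a, ha, ha0, hMt⟩ : ∃ a : ℤ, a ≤ 1 - (l.length : ℤ) ∧ a ≤ 0 ∧ TorsGE l (m + a) M := by
    rcases l.eq_nil_or_concat with hl | ⟨l', b, hl⟩
    · exact ⟨0, by simp [hl], le_rfl, fun f hf => absurd hf (by simp [hl])⟩
    · refine ⟨1 - (l.length : ℤ), le_rfl, by simp [hl], torsGE_of_support j _ _ M E e₀ fun i hi x hx hxs => ?_⟩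
      exact (hz x).1 hx (hsupp i (by simp only [l, Finset.length_toList] at hi; omega) hxs)
  obtain ⟨P, u, C, p, d, hu, hP, hPt, hC⟩ := exists_approx_affine' l m a ha ha0 M hMpc hMt
  let T := DCoh.tildeD (CommRingCat.of Γ(X, ⊤))
  let b := X.isoSpec.hom
  refine ⟨(DCoh.restrictD b).obj (T.obj P),
    (DCoh.restrictD b).map (T.map u ≫ e₀.hom) ≫ ((restrictDEquiv X.isoSpec.symm).unitIso.app E).inv,
    isPerfect_restrict b (TildePerf.perfect_tilde hP),
    (Sup.restrict b ((tors_iff_support l P).1 hPt)).mono fun y hy => ?_,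
    ((((TildePerf.mIso_tilde (A := Γ(X, ⊤)) ⟨_, _, _, hu, hC⟩).comp (mIso_of_isIso _ _)).restrict b)).comp
      (mIso_of_isIso _ _)⟩
  have hy' := not_not.1 (fun h => hy ((hz _).2 h))
  have hb : j.base (b.base y) = y := by
    show (X.isoSpec.hom ≫ X.isoSpec.inv).base y = y
    rw [X.isoSpec.hom_inv_id]; rfl
  rwa [hb] at hy'

end Affine

section General

variable {X : Scheme.{u}}

/-- Approximation passes from an open containing the support. -/
theorem approx_of_open (U : X.Opens) (T : Set X) (hT : IsClosed T) (hTU : T ⊆ (U : Set X)) (E : DCoh.D X)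
    (m : ℤ) {P : DCoh.D (U : Scheme.{u})} (α : P ⟶ (DCoh.restrictD U.ι).obj E) (hP : DCoh.IsPerfect P)
    (hPT : Sup (U.ι.base ⁻¹' T) P) (hα : MIso m α)
    (hsupp : ∀ i : ℤ, m ≤ i → CohB1.support (DCoh.HD E i) ⊆ T) :
    ∃ (Q : DCoh.D X) (q : Q ⟶ E), DCoh.IsPerfect Q ∧ Sup T Q ∧ MIso m q := by
  haveI : DCoh.HasRpush U.ι := Groth.Agent.KInj.hasRightDerivedFunctor (hres_modules _) _
  let Q := (DCoh.Rpush U.ι).obj P
  have hQs : Sup T Q := sup_rpush_restrict U hT P hPT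
  have hQ : DCoh.IsPerfect Q := by
    refine isPerfect_rpush_of_support U P hP (U.ι.base ⁻¹' T) ?_ hPT
    show IsClosed (U.ι.base '' (U.ι.base ⁻¹' T))
    rw [Set.image_preimage_eq_of_subset (by rw [Scheme.Opens.range_ι]; exact hTU)]
    exact hT
  obtain ⟨q, hq⟩ := exists_map_of_restrict U hT hTU hQs (E := E) (((rpushRestrictId U).app P).hom ≫ α)
  refine ⟨Q, q, hQ, hQs, ?_⟩
  obtain ⟨D, g, k, hD⟩ := distinguished_cocone_triangle q
  refine ⟨D, g, k, hD, fun i hi => isZero_of_local fun x => ?_⟩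
  by_cases hx : x ∈ U
  · refine ⟨_, U.ι, inferInstance, ⟨x, hx⟩, rfl, IsZero.of_iso ?_ (restrictHDIso U.ι D i).symm⟩
    refine MIso.cone _ ((DCoh.restrictD U.ι).map_distinguished _ hD) ?_ i hi
    show MIso m ((DCoh.restrictD U.ι).map q)
    rw [hq]
    exact (mIso_of_isIso _ _).comp hα
  · let O := complOpen hT
    refine ⟨_, O.ι, inferInstance, ⟨x, fun h => hx (hTU h)⟩, rfl, IsZero.of_iso ?_ (restrictHDIso O.ι D i).symm⟩
    exact AboveZero.ext₂ _ (rot_of_distTriang _ ((DCoh.restrictD O.ι).map_distinguished _ hD))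
      ((aboveZero_restrictD_iff O m E).2 fun k hk => (hsupp k hk).trans (compl_compl T).symm.subset : AboveZero m _)
      (aboveZero_zero _ ((shiftFunctor _ (1 : ℤ)).map_isZero ((sup_iff hT Q).1 hQs))) i hi

/-- Approximation by perfect objects for all subsets with retrocompact complement. -/
theorem appr_of_open (U V : X.Opens) (hU : IsCompact (U : Set X)) (hV : IsAffineOpen V)
    (hUV : IsCompact ((U ⊓ V : X.Opens) : Set X)) (hcov : U ⊔ V = ⊤) (T : Set X) (hT : IsClosed T)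
    (hTc : IsRetrocompact Tᶜ) (h : Appr (U : Scheme.{u}) (U.ι.base ⁻¹' T)) : Appr X T := by
  haveI : CompactSpace X := ⟨by
    rw [show (Set.univ : Set X) = (U : Set X) ∪ (V : Set X) from (congrArg SetLike.coe hcov).symm]
    exact hU.union hV.isCompact⟩
  let j : Spec (CommRingCat.of Γ(X, V)) ⟶ X := hV.fromSpec
  haveI : IsOpenImmersion j := inferInstanceAs (IsOpenImmersion hV.fromSpec)
  have hr : j.opensRange = V := TopologicalSpace.Opens.ext hV.range_fromSpec
  have hc : ∀ W : Set X, IsCompact ((V : Set X) ∩ W) → IsCompact (j.base ⁻¹' W) := fun W hW => by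
    rw [j.isOpenEmbedding.isEmbedding.isCompact_iff, Set.image_preimage_eq_inter_range]
    refine (congrArg IsCompact ?_).mpr hW
    rw [Set.inter_comm]
    exact congrArg (· ∩ W) hV.range_fromSpec
  haveI : QuasiCompact U.ι := by
    refine IsZariskiLocalAtTarget.of_iSup_eq_top (P := @QuasiCompact) (fun b : Bool => cond b U V)
      (by rw [iSup_bool_eq]; exact hcov) fun b => ?_
    haveI : CompactSpace (U.ι ⁻¹ᵁ cond b U V : Scheme.{u}) := isCompact_iff_compactSpace.1 (by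
      rw [U.ι.isOpenEmbedding.isEmbedding.isCompact_iff]
      refine (congrArg IsCompact ?_).mpr (show IsCompact ((U : Set X) ∩ (cond b U V : X.Opens)) by
        cases b
        · exact hUV
        · simpa using hU)
      exact (Set.image_preimage_eq_inter_range).trans (by rw [Scheme.Opens.range_ι, Set.inter_comm]; rfl))
    rcases b with _ | _
    · haveI : IsAffine (V : Scheme.{u}) := hV
      haveI : CompactSpace (U.ι ⁻¹ᵁ V : Scheme.{u}) := ‹_›
      exact quasiCompact_of_compactSpace (U.ι ∣_ V)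
    · haveI : Surjective (U.ι ∣_ U) := ⟨fun y => ⟨⟨⟨y.1, y.2⟩, y.2⟩, U.ι.isOpenEmbedding.injective (by
        simpa using congrArg (fun g : (U.ι ⁻¹ᵁ U : Scheme.{u}) ⟶ X => g ⟨⟨y.1, y.2⟩, y.2⟩) (morphismRestrict_ι U.ι U))⟩⟩
      haveI : Epi (U.ι ∣_ U).base := (TopCat.epi_iff_surjective _).2 (U.ι ∣_ U).surjective
      haveI : IsIso (U.ι ∣_ U) := IsOpenImmersion.isIso _
      exact inferInstanceAs (QuasiCompact (U.ι ∣_ U))
  obtain ⟨gs, hgs⟩ := exists_gOpen_eq (j ⁻¹ᵁ U : Set (Spec (CommRingCat.of Γ(X, V)))) (j ⁻¹ᵁ U).2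
    (hc _ (by rw [Set.inter_comm]; exact hUV))
  obtain ⟨ls, hls⟩ := exists_gOpen_eq (j.base ⁻¹' Tᶜ) (hT.isOpen_compl.preimage j.continuous)
    (hc _ (by rw [Set.inter_comm]; exact hTc hV.isCompact V.2))
  exact appr_step_core U j (by rw [hr]; exact hcov) T hT gs ls (fun x => Set.ext_iff.1 hgs x)
    (fun x => Set.ext_iff.1 hls x) h

end General

section KoszulOrth

variable {A : Type u} [CommRing A] [PreservesFiniteLimits (tilde.functor (CommRingCat.of A))]
  (U : (Spec (CommRingCat.of A)).Opens) (fs : List A) [DCoh.HasRpush U.ι]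

/-- Objects orthogonal to the Koszul object are direct images from the complement. -/
theorem koszul_orthogonal_iff (hU : U = gOpen fs) (E : DCoh.D (Spec (CommRingCat.of A))) (hE : DCoh.IsQCohD E) :
    (∃ M : DCoh.D (U : Scheme.{u}), DCoh.IsQCohD M ∧ Nonempty (E ≅ (DCoh.Rpush U.ι).obj M)) ↔
      ∀ (n : ℤ) (φ : ((DCoh.tildeD (CommRingCat.of A)).obj (kosD fs))⟦n⟧ ⟶ E), φ = 0 := by
  haveI := hasLpull U.ι
  let adj := (lpullRpushAdj U.ι).ofNatIsoLeft (lpullRestrictNatIso U.ι)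
  constructor
  · rintro ⟨M, -, ⟨e⟩⟩ n φ
    rw [← cancel_mono e.hom, zero_comp]
    exact (adj.homEquiv _ _).symm.injective ((isZero_restrictD_kos U fs hU _).eq_of_src _ _)
  · intro h
    refine ⟨(DCoh.restrictD U.ι).obj E, TildeD.isQCohD_restrict U.ι E hE, ?_⟩
    obtain ⟨C, π, d, hT⟩ := distinguished_cocone_triangle (adj.unit.app E)
    haveI : IsIso (adj.unit.app E) := (Triangle.isZero₃_iff_isIso₁ _ hT).1 (isZero_of_isZero_HD fun i => by
      have h1 := koszul_cone U fs hU adj E hE (i + 1) π d hT (fun φ => h _ φ)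
      rwa [add_sub_cancel_right] at h1)
    exact ⟨asIso (adj.unit.app E)⟩

end KoszulOrth

end Groth.Agent.DCohMore
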