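import Groth.Agent.DCohMore.ApproxModel

/-! Extension of perfect objects up to a shift across an affine open. -/

set_option autoImplicit false
set_option linter.style.haveILetI false
set_option backward.isDefEq.respectTransparency false

universe u

open CategoryTheory Limits AlgebraicGeometry Pretriangulated ZeroObject
attribute [local instance] HasDerivedCategory.standard

noncomputable section

namespace Groth.Agent.DCohMore

open Groth.Agent.DRingLib Groth.Agent.DCohLib

set_option maxHeartbeats 1000000 in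
/-- A supported perfect object plus its shift extends across an affine open. -/
theorem exists_extend_global {X : Scheme.{u}} (U : X.Opens) {A : Type u} [CommRing A]
    (j : Spec (CommRingCat.of A) ⟶ X) [IsOpenImmersion j] (hcov : U ⊔ j.opensRange = ⊤) (T : Set X)
    (hT : IsClosed T) (gs ls : List A)
    (hW : ∀ x, x ∈ gOpen gs ↔ j.base x ∈ U) (hL : ∀ x, x ∈ gOpen ls ↔ j.base x ∉ T)
    (P : DCoh.D (U : Scheme.{u})) (hP : DCoh.IsPerfect P) (hPT : Sup (U.ι.base ⁻¹' T) P) :
    ∃ R : DCoh.D X, DCoh.IsPerfect R ∧ Sup T R ∧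
      Nonempty ((DCoh.restrictD U.ι).obj R ≅ P⟦(1 : ℤ)⟧ ⊞ P) := by
  haveI := TildeD.preservesFiniteLimits_tilde (R := CommRingCat.of A)
  let W := gOpen gs
  let V := j.opensRange
  let b : (V : Scheme.{u}) ⟶ Spec (CommRingCat.of A) := j.isoOpensRange.inv
  have hb : b ≫ j = V.ι := j.isoOpensRange_inv_comp
  have hbx : ∀ x : (V : Scheme.{u}), j.base (b.base x) = V.ι.base x := fun x => by
    rw [← Scheme.Hom.comp_apply, hb]
  have hk' : Set.range (W.ι ≫ j) ⊆ Set.range U.ι := by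
    rw [Scheme.Opens.range_ι]
    rintro _ ⟨x, rfl⟩
    exact (hW _).1 x.2
  let k := IsOpenImmersion.lift U.ι (W.ι ≫ j) hk'
  have hk : k ≫ U.ι = W.ι ≫ j := IsOpenImmersion.lift_fac _ _ _
  haveI : IsOpenImmersion (k ≫ U.ι) := by rw [hk]; infer_instance
  haveI : IsOpenImmersion k := IsOpenImmersion.of_comp k U.ι
  let hl : U ⊓ V ≤ U := inf_le_left
  let hr : U ⊓ V ≤ V := inf_le_right
  have hβ' : Set.range (X.homOfLE hr ≫ b) ⊆ Set.range W.ι := by
    rw [Scheme.Opens.range_ι]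
    rintro _ ⟨x, rfl⟩
    refine (hW _).2 ?_
    rw [Scheme.Hom.comp_apply, hbx, ← Scheme.Hom.comp_apply, X.homOfLE_ι]
    exact x.2.1
  let β := IsOpenImmersion.lift W.ι (X.homOfLE hr ≫ b) hβ'
  have hβ : β ≫ W.ι = X.homOfLE hr ≫ b := IsOpenImmersion.lift_fac _ _ _
  haveI : IsOpenImmersion (β ≫ W.ι) := by rw [hβ]; infer_instance
  haveI : IsOpenImmersion β := IsOpenImmersion.of_comp β W.ι
  have hβk : X.homOfLE hl = β ≫ k := by
    rw [← cancel_mono U.ι, Category.assoc, hk, ← Category.assoc, hβ, Category.assoc, hb, X.homOfLE_ι,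
      X.homOfLE_ι]
  let F := (DCoh.restrictD k).obj P
  obtain ⟨G, hG, hGt, ⟨eG⟩⟩ := exists_extend gs ls F (isPerfect_restrict k hP) fun i y hy hs => by
    refine (hL (W.ι.base y)).1 hy ?_
    rw [show j.base (W.ι.base y) = U.ι.base (k.base y) by
      rw [← Scheme.Hom.comp_apply, ← hk, Scheme.Hom.comp_apply]]
    exact hPT.restrict k i hs
  let A' := P⟦(1 : ℤ)⟧ ⊞ P
  let B := (DCoh.restrictD b).obj ((DCoh.tildeD (CommRingCat.of A)).obj G)
  haveI := preservesBinaryBiproducts_of_preservesBiproducts (DCoh.restrictD k)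
  let c : (DCoh.restrictD (X.homOfLE hl)).obj A' ≅ (DCoh.restrictD (X.homOfLE hr)).obj B :=
    (restrictDCongr hβk ≪≫ restrictDComp β k).app A' ≪≫
      (DCoh.restrictD β).mapIso ((DCoh.restrictD k).mapBiprod _ _ ≪≫
        biprod.mapIso (((DCoh.restrictD k).commShiftIso (1 : ℤ)).app P) (Iso.refl _) ≪≫ eG.symm) ≪≫
      ((restrictDComp β W.ι).app _).symm ≪≫ (restrictDCongr hβ).app _ ≪≫
      (restrictDComp (X.homOfLE hr) b).app _
  obtain ⟨F', ⟨eU⟩, ⟨eV⟩⟩ := exists_glue_two U V A' B c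
  have cover : ∀ x : X, x ∈ U ∨ x ∈ V := fun x => hcov.ge (Set.mem_univ x)
  refine ⟨F', isPerfect_of_local fun x => ?_, sup_of_cover fun x => ?_, ⟨eU⟩⟩
  · rcases cover x with hx | hx
    · exact ⟨_, U.ι, inferInstance, ⟨x, hx⟩, rfl, isPerfect_iso eU.symm
        (isPerfect_obj₂ _ (binaryBiproductTriangle_distinguished (P⟦(1 : ℤ)⟧) P) (isPerfect_shift hP 1) hP)⟩
    · exact ⟨_, V.ι, inferInstance, ⟨x, hx⟩, rfl,
        isPerfect_iso eV.symm (isPerfect_restrict b (TildePerf.perfect_tilde hG))⟩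
  · rcases cover x with hx | hx
    · exact ⟨_, U.ι, inferInstance, ⟨x, hx⟩, rfl, sup_of_iso eU.symm
        (sup_biprod (hT.preimage U.ι.continuous) (sup_shift (hT.preimage U.ι.continuous) hPT 1) hPT)⟩
    · refine ⟨_, V.ι, inferInstance, ⟨x, hx⟩, rfl, sup_of_iso eV.symm
        (Sup.mono (Sup.restrict b (T := (gOpen ls : Set (Spec (CommRingCat.of A)))ᶜ) ((tors_iff_support ls G).1 hGt))
          fun y hy => ?_)⟩
      show V.ι.base y ∈ T
      rw [← hbx y]
      exact not_not.1 fun hn => hy ((hL _).2 hn)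

end Groth.Agent.DCohMore
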