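import Groth.Agent.TildeLpull.Main
import Groth.Agent.SpSeqLib.ExtendMap
import Groth.Agent.DCohLib.PullQis
import Groth.Agent.DCohLib.TensorMod
import Groth.Agent.TildePerf.Mod
import Groth.Agent.TildeD.Exact
import Mathlib.CategoryTheory.Abelian.Projective.Extend
import Mathlib.CategoryTheory.Abelian.LeftDerived
import Mathlib.CategoryTheory.Monoidal.Tor

/-!
# Inverse images of quasi-coherent modules with vanishing Tor
-/

set_option autoImplicit false
set_option linter.style.haveILetI false
set_option linter.unusedSectionVars false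
set_option backward.isDefEq.respectTransparency false

universe u

open CategoryTheory Limits AlgebraicGeometry TopologicalSpace
attribute [local instance] HasDerivedCategory.standard

noncomputable section

namespace Groth.Agent.DCohMore.BC

section Abstract

universe v' u'

variable {C D : Type u'} [Category.{v'} C] [Category.{v'} D] [Abelian C] [Abelian D] [HasProjectiveResolutions C]

theorem mapExtendIso_naturality {ι ι' : Type} {c : ComplexShape ι} {c' : ComplexShape ι'}
    (G : C ⥤ D) [G.Additive] {K L : HomologicalComplex C c} (φ : K ⟶ L) (e : c.Embedding c') :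
    (G.mapHomologicalComplex c').map (HomologicalComplex.extendMap φ e) ≫ (SpSeqLib.mapExtendIso G L e).hom =
      (SpSeqLib.mapExtendIso G K e).hom ≫
        HomologicalComplex.extendMap ((G.mapHomologicalComplex c).map φ) e := by
  ext i'
  show G.map (HomologicalComplex.extend.mapX φ (e.r i')) ≫ (SpSeqLib.extendMapXIso G L (e.r i')).hom =
    (SpSeqLib.extendMapXIso G K (e.r i')).hom ≫
      HomologicalComplex.extend.mapX ((G.mapHomologicalComplex c).map φ) (e.r i')
  rcases e.r i' with - | i
  · exact (G.map_isZero (isZero_zero C)).eq_of_src _ _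
  · exact (Category.comp_id _).trans (Category.id_comp _).symm

/-- A right exact functor maps a resolution to a resolution when the higher derived functors vanish. -/
theorem quasiIso_map_π {Z : C} (P : ProjectiveResolution Z) (F : C ⥤ D) [F.Additive]
    (hz : PreservesFiniteColimits F) (h : ∀ n : ℕ, 0 < n → IsZero ((F.leftDerived n).obj Z)) :
    QuasiIso ((F.mapHomologicalComplex (ComplexShape.down ℕ)).map P.π ≫
      (HomologicalComplex.singleMapHomologicalComplex F (ComplexShape.down ℕ) 0).hom.app Z) where
  quasiIsoAt n := by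
    cases n with
    | zero =>
      rw [ChainComplex.quasiIsoAt₀_iff, ShortComplex.quasiIso_iff_of_zeros']
      · haveI := hz
        refine (ShortComplex.exact_and_epi_g_iff_of_iso ?_).2
          ((ShortComplex.exact_and_epi_g_iff_g_is_cokernel
            (ShortComplex.mk (F.map (P.complex.d 1 0)) (F.map (P.π.f 0))
              (by rw [← F.map_comp, P.complex_d_comp_π_f_zero, F.map_zero]))).2
            ⟨CokernelCofork.mapIsColimit _ (P.isColimitCokernelCofork) F⟩)
        refine ShortComplex.isoMk (Iso.refl _) (Iso.refl _) (Iso.refl _) (by simp) ?_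
        simp [HomologicalComplex.singleMapHomologicalComplex_hom_app_self, HomologicalComplex.singleObjXSelf,
          HomologicalComplex.singleObjXIsoOfEq]
        exact (Category.comp_id _).symm
      all_goals first | rfl | simp
    | succ m =>
      rw [quasiIsoAt_iff_exactAt' _ _ (ChainComplex.exactAt_succ_single_obj _ _),
        HomologicalComplex.exactAt_iff_isZero_homology]
      exact (h (m + 1) m.succ_pos).of_iso (P.isoLeftDerivedObj F (m + 1)).symm

/-- The same, on the cochain complexes extending the resolution. -/
theorem quasiIso_map_π' {Z : C} (P : ProjectiveResolution Z) (F : C ⥤ D) [F.Additive]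
    (hz : PreservesFiniteColimits F) (h : ∀ n : ℕ, 0 < n → IsZero ((F.leftDerived n).obj Z)) :
    QuasiIso ((F.mapHomologicalComplex (ComplexShape.up ℤ)).map P.π') := by
  haveI := quasiIso_map_π P F hz h
  haveI h1 : QuasiIso ((F.mapHomologicalComplex (ComplexShape.down ℕ)).map P.π) :=
    quasiIso_of_comp_right _ ((HomologicalComplex.singleMapHomologicalComplex F (ComplexShape.down ℕ) 0).hom.app Z)
  have e : (F.mapHomologicalComplex (ComplexShape.up ℤ)).map
        ((ComplexShape.embeddingDownNat.extendFunctor C).map P.π) =
      (SpSeqLib.mapExtendIso F _ ComplexShape.embeddingDownNat).hom ≫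
        HomologicalComplex.extendMap ((F.mapHomologicalComplex (ComplexShape.down ℕ)).map P.π)
          ComplexShape.embeddingDownNat ≫ (SpSeqLib.mapExtendIso F _ ComplexShape.embeddingDownNat).inv := by
    rw [← Category.assoc, Iso.eq_comp_inv]
    exact mapExtendIso_naturality F P.π ComplexShape.embeddingDownNat
  haveI h3 : QuasiIso (HomologicalComplex.extendMap ((F.mapHomologicalComplex (ComplexShape.down ℕ)).map P.π)
      ComplexShape.embeddingDownNat) := (HomologicalComplex.quasiIso_extendMap_iff _ _).2 h1
  rw [ProjectiveResolution.π', Functor.map_comp, e]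
  infer_instance

end Abstract

variable {R B : Type u} [CommRing R] [CommRing B] (φ : R →+* B)

/-- Extension followed by restriction of scalars is a tensor product. -/
def extResIso :
    ModuleCat.extendScalars.{u, u, u} φ ⋙ ModuleCat.restrictScalars.{u} φ ≅
      MonoidalCategory.tensorLeft (@ModuleCat.of R _ B _ φ.toModule) :=
  NatIso.ofComponents (fun M =>
    letI := φ.toAlgebra
    (LinearEquiv.toModuleIso (X₁ := (ModuleCat.extendScalars.{u, u, u} φ ⋙ ModuleCat.restrictScalars.{u} φ).obj M)
      (X₂ := (MonoidalCategory.tensorLeft (@ModuleCat.of R _ B _ φ.toModule)).obj M)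
      { __ := AddEquiv.refl _
        map_smul' := fun r x => by
          induction x using TensorProduct.induction_on with
          | zero => exact (smul_zero _).trans (smul_zero _).symm
          | tmul b m => rfl
          | add a b ha hb => exact (smul_add _ _ _).trans ((congrArg₂ (· + ·) ha hb).trans (smul_add _ _ _).symm) }))
    fun g => by
      ext : 1
      refine TensorProduct.ext' fun b m => ?_
      rfl

theorem isZero_leftDerived_extend (M : ModuleCat.{u} R)
    (h : ∀ i : ℕ, 0 < i → Subsingleton (@DRing.Tor R _ i B M _ φ.toModule _ _)) (n : ℕ) (hn : 0 < n) :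
    IsZero (((ModuleCat.extendScalars.{u, u, u} φ).leftDerived n).obj M) := by
  obtain ⟨P⟩ := (inferInstance : HasProjectiveResolution M).out
  refine IsZero.of_iso ?_ (P.isoLeftDerivedObj _ n)
  have h0 : IsZero ((((ModuleCat.extendScalars.{u, u, u} φ ⋙ ModuleCat.restrictScalars.{u} φ).mapHomologicalComplex
      (ComplexShape.down ℕ)).obj P.complex).homology n) := by
    refine IsZero.of_iso ?_ ((HomologicalComplex.homologyFunctor _ _ n).mapIso
      ((NatIso.mapHomologicalComplex (extResIso φ) (ComplexShape.down ℕ)).app P.complex))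
    refine IsZero.of_iso ?_ (P.isoLeftDerivedObj (MonoidalCategory.tensorLeft (@ModuleCat.of R _ B _ φ.toModule)) n).symm
    exact @ModuleCat.isZero_of_subsingleton _ _ _ (h n hn)
  rw [HomologicalComplex.homologyFunctor_obj, ← HomologicalComplex.exactAt_iff_isZero_homology]
  rw [← HomologicalComplex.exactAt_iff_isZero_homology, HomologicalComplex.exactAt_iff] at h0
  rw [HomologicalComplex.exactAt_iff]
  exact (ShortComplex.exact_map_iff_of_faithful _ (ModuleCat.restrictScalars.{u} φ)).1 h0

/-- Quasi-coherent modules with vanishing higher Tor are adapted to the inverse image. -/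
theorem isIso_lpullCounit_single_tilde (M : ModuleCat.{u} R) (k : ℤ)
    (h : ∀ i : ℕ, 0 < i → Subsingleton (@DRing.Tor R _ i B M _ φ.toModule _ _))
    [DCoh.HasLpull (TildeLpull.specMap φ)] :
    IsIso ((DCohLib.lpullCounit (TildeLpull.specMap φ)).app
      ((HomotopyCategory.quotient _ (ComplexShape.up ℤ)).obj
        ((CochainComplex.singleFunctor _ k).obj ((tilde.functor (CommRingCat.of R)).obj M)))) := by
  haveI := TildeD.preservesFiniteLimits_tilde (R := CommRingCat.of R)
  haveI := TildeD.preservesFiniteLimits_tilde (R := CommRingCat.of B)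
  haveI : (tilde.functor (CommRingCat.of R)).Additive := TildeKFlat.additive_til (CommRingCat.of R)
  haveI : (tilde.functor (CommRingCat.of B)).Additive := TildeKFlat.additive_til (CommRingCat.of B)
  haveI := TildeLpull.preservesHomology_tilde (CommRingCat.of R)
  haveI := TildeLpull.preservesHomology_tilde (CommRingCat.of B)
  obtain ⟨P⟩ := (inferInstance : HasProjectiveResolution M).out
  let C₀ := (TildeLpull.tilCx (CommRingCat.of R)).obj P.cochainComplex
  let π₀ := (TildeLpull.tilCx (CommRingCat.of R)).map P.π'
  let sh := shiftFunctor (CochainComplex (Spec (CommRingCat.of R)).Modules ℤ) (-k)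
  let C := sh.obj C₀
  let eS : (TildeLpull.tilCx (CommRingCat.of R)).obj ((CochainComplex.singleFunctor _ 0).obj M) ≅
      (CochainComplex.singleFunctor _ 0).obj ((tilde.functor (CommRingCat.of R)).obj M) :=
    (HomologicalComplex.singleMapHomologicalComplex (tilde.functor (CommRingCat.of R)) (ComplexShape.up ℤ) 0).app M
  let eK : sh.obj ((CochainComplex.singleFunctor _ 0).obj ((tilde.functor (CommRingCat.of R)).obj M)) ≅
      (CochainComplex.singleFunctor _ k).obj ((tilde.functor (CommRingCat.of R)).obj M) :=
    ((CochainComplex.singleFunctors (Spec (CommRingCat.of R)).Modules).shiftIso (-k) k 0 (by lia)).app _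
  let S := sh.obj ((TildeLpull.tilCx (CommRingCat.of R)).obj ((CochainComplex.singleFunctor _ 0).obj M))
  let π : C ⟶ S := sh.map π₀
  haveI hπ₀ : QuasiIso π₀ :=
    HomologicalComplex.quasiIso_map_of_preservesHomology P.π' (tilde.functor (CommRingCat.of R))
  haveI hπ : QuasiIso π := (CochainComplex.quasiIso_shift_iff π₀ (-k)).2 hπ₀
  have hC : DCoh.IsKFlat C := DCohLib.isKFlat_of_flat_bddAbove C k
    (fun n hn => (tilde.functor (CommRingCat.of R)).map_isZero
      (CochainComplex.isZero_of_isStrictlyLE P.cochainComplex 0 (n + -k) (by lia)))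
    fun n => TildeLpull.isFlat_tilCx P.cochainComplex (fun n =>
      haveI : Module.Projective R (P.cochainComplex.X n) :=
        (IsProjective.iff_projective _).2 (inferInstanceAs (Projective (P.cochainComplex.X n)))
      Module.Flat.of_projective) (n + -k)
  haveI h1 := quasiIso_map_π' P (ModuleCat.extendScalars.{u, u, u} φ)
    (haveI := (ModuleCat.extendRestrictScalarsAdj.{u, u, u} φ).leftAdjoint_preservesColimits
     inferInstance)
    (isZero_leftDerived_extend φ M h)
  haveI h2 : QuasiIso ((TildeLpull.tilCx (CommRingCat.of B)).map ((TildeLpull.extCx φ).map P.π')) :=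
    HomologicalComplex.quasiIso_map_of_preservesHomology _ (tilde.functor (CommRingCat.of B))
  haveI h3' : QuasiIso ((TildeLpull.pullCx φ).map π₀) :=
    (quasiIso_iff_of_arrow_mk_iso _ _
      (((Functor.mapArrowFunctor _ _).mapIso (TildeLpull.tilPullCxIso φ)).app (Arrow.mk P.π'))).2 h2
  haveI h3 : QuasiIso ((TildeLpull.pullCx φ).map π) :=
    (quasiIso_iff_of_arrow_mk_iso _ _
      (((Functor.mapArrowFunctor _ _).mapIso ((TildeLpull.pullCx φ).commShiftIso (-k))).app (Arrow.mk π₀))).2
      ((CochainComplex.quasiIso_shift_iff _ (-k)).2 h3')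
  have i1 := DCohLib.isIso_lpullCounit_app_of_isKFlat (TildeLpull.specMap φ) C hC
  let q := HomotopyCategory.quotient (Spec (CommRingCat.of R)).Modules (ComplexShape.up ℤ)
  have i2 : IsIso ((DerivedCategory.Qh ⋙ DCoh.Lpull (TildeLpull.specMap φ)).map (q.map π)) := by
    haveI : IsIso (DerivedCategory.Qh.map (q.map π)) := by
      rw [DerivedCategory.isIso_Qh_map_iff]
      exact (HomotopyCategory.quotient_map_mem_quasiIso_iff π).2 hπ
    exact @Functor.map_isIso _ _ _ _ _ _ (DCoh.Lpull (TildeLpull.specMap φ)) _ ‹_›
  have i3 : IsIso ((DCoh.pullKh (TildeLpull.specMap φ)).map (q.map π)) := by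
    show IsIso (DerivedCategory.Qh.map
      (((Scheme.Modules.pullback (TildeLpull.specMap φ)).mapHomotopyCategory _).map (q.map π)))
    rw [DerivedCategory.isIso_Qh_map_iff]
    exact (HomotopyCategory.quotient_map_mem_quasiIso_iff ((TildeLpull.pullCx φ).map π)).2 h3
  have nat := (DCohLib.lpullCounit (TildeLpull.specMap φ)).naturality (q.map π)
  have i4 : IsIso ((DCohLib.lpullCounit (TildeLpull.specMap φ)).app (q.obj S)) := by
    haveI : IsIso ((DerivedCategory.Qh ⋙ DCoh.Lpull (TildeLpull.specMap φ)).map (q.map π) ≫
        (DCohLib.lpullCounit (TildeLpull.specMap φ)).app (q.obj S)) := by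
      rw [nat]
      exact @IsIso.comp_isIso _ _ _ _ _ _ _ i1 i3
    exact @IsIso.of_isIso_comp_left _ _ _ _ _ _ _ i2 this
  exact ((NatTrans.isIso_app_iff_of_iso _ (q.mapIso (sh.mapIso eS ≪≫ eK)))).1 i4

end Groth.Agent.DCohMore.BC
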