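import Groth.Agent.DCohMore.BCCore
import Groth.Agent.DCohMore.BCNat
import Groth.Agent.DCohMore.BCTor
import Groth.Agent.DCohLib.ProjMap
import Groth.Agent.DCohLib.Adjoint
import Groth.Agent.SiteBase.Projection
import Groth.Agent.S12131

/-!
# The base change transform of affine schemes at the structure sheaf
-/

set_option autoImplicit false
set_option linter.style.haveILetI false
set_option linter.unusedSectionVars false
set_option backward.isDefEq.respectTransparency false
set_option maxHeartbeats 1000000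

universe u

open CategoryTheory Limits AlgebraicGeometry TopologicalSpace
attribute [local instance] HasDerivedCategory.standard

noncomputable section

namespace Groth.Agent.DCohMore.BC

open Groth.Agent.DCohLib

variable {X : Scheme.{u}}

theorem unit_end_comm (a b : Coh.structureModule X ⟶ Coh.structureModule X) : a ≫ b = b ≫ a := by
  have key : ∀ (h : Coh.structureModule X ⟶ Coh.structureModule X) (x : Γ(X, ⊤)),
      (show Γ(X, ⊤) from h.app ⊤ x) = x * (show Γ(X, ⊤) from h.app ⊤ (1 : Γ(X, ⊤))) := fun h x => by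
    have := Scheme.Modules.Hom.app_smul h x (1 : Γ(X, ⊤))
    change (show Γ(X, ⊤) from h.app ⊤ (x * 1 : Γ(X, ⊤))) = x * (show Γ(X, ⊤) from h.app ⊤ (1 : Γ(X, ⊤))) at this
    rwa [mul_one] at this
  refine hom_unit_ext ?_
  show b.app ⊤ (a.app ⊤ (1 : Γ(X, ⊤))) = a.app ⊤ (b.app ⊤ (1 : Γ(X, ⊤)))
  exact (key b _).trans ((mul_comm _ _).trans (key a _).symm)

theorem end_comm {M : X.Modules} (i : M ≅ Coh.structureModule X) (a b : M ⟶ M) : a ≫ b = b ≫ a := by
  have h : (i.inv ≫ a ≫ i.hom) ≫ i.inv ≫ b ≫ i.hom = (i.inv ≫ b ≫ i.hom) ≫ i.inv ≫ a ≫ i.hom :=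
    unit_end_comm _ _
  simpa using h

/-- An endomorphism of the structure sheaf surjective on global sections is invertible. -/
theorem isIso_end_of_surjective {M : X.Modules} (i : M ≅ Coh.structureModule X) (h : M ⟶ M)
    (hs : Function.Surjective (h.app ⊤)) : IsIso h := by
  obtain ⟨x, hx⟩ := hs (i.inv.app ⊤ (1 : Γ(X, ⊤)))
  let t : M ⟶ M := i.hom ≫ secHom M x
  have ht : i.inv ≫ t ≫ h = i.inv := hom_unit_ext (by
    simp only [t, Category.assoc, Iso.inv_hom_id_assoc]
    show h.app ⊤ ((secHom M x).app ⊤ (1 : Γ(X, ⊤))) = _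
    rw [secHom_app_one, show (homOfLE (le_top : (⊤ : X.Opens) ≤ ⊤)) = 𝟙 _ from Subsingleton.elim _ _]
    erw [op_id, M.presheaf.map_id]
    exact hx)
  have ht' : t ≫ h = 𝟙 M := by rw [← cancel_epi i.inv, ht, Category.comp_id]
  exact ⟨t, (end_comm i h t).trans ht', ht'⟩

/-- Maps out of quasi-coherent modules on an affine scheme are detected by global sections. -/
theorem hom_ext_qcoh {R : CommRingCat.{u}} {F G : (Spec R).Modules} [Coh.IsQCoh F] (a b : F ⟶ G)
    (h : ∀ y : Coh.structureModule (Spec R) ⟶ F, y ≫ a = y ≫ b) : a = b := by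
  rw [← cancel_epi F.fromTildeΓ]
  apply ((tilde.adjunction (R := R)).homEquiv _ _).injective
  ext x₀
  have hab : ∀ x : Γ(F, ⊤), a.app ⊤ x = b.app ⊤ x := fun x => by
    have := congrArg (fun z => z.app ⊤ (1 : Γ(Spec R, ⊤))) (h (secHom F x))
    simp only [Scheme.Modules.Hom.comp_app, ConcreteCategory.comp_apply, secHom_app_one] at this
    rw [show (homOfLE (le_top : (⊤ : (Spec R).Opens) ≤ ⊤)) = 𝟙 _ from Subsingleton.elim _ _] at this
    erw [op_id, F.presheaf.map_id] at this
    exact this
  simp only [Adjunction.homEquiv_unit, Functor.map_comp]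
  exact hab _

variable {R A B : Type u} [CommRing R] [CommRing A] [CommRing B] (φ : R →+* A) (ψ : R →+* B)

/-- The global sections of the direct image of the structure sheaf. -/
def pushUnitEquiv :
    (moduleSpecΓFunctor (R := CommRingCat.of R)).obj
        ((Scheme.Modules.pushforward (TildeLpull.specMap φ)).obj (Coh.structureModule _)) ≅
      @ModuleCat.of R _ A _ φ.toModule :=
  (TildePullback.pushforwardΓIso (CommRingCat.ofHom φ)).app _ ≪≫
    (ModuleCat.restrictScalars.{u} φ).mapIso
      ((moduleSpecΓFunctor (R := CommRingCat.of A)).mapIso tildeSelf.symm ≪≫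
        ((tilde.toTildeΓNatIso (R := CommRingCat.of A)).app (ModuleCat.of A A)).symm) ≪≫
    letI := φ.toModule
    LinearEquiv.toModuleIso (X₁ := (ModuleCat.restrictScalars.{u} φ).obj (ModuleCat.of A A))
      { __ := AddEquiv.refl A
        map_smul' := fun _ _ => rfl }

variable {X' : Scheme.{u}} {g' : X' ⟶ Spec (CommRingCat.of A)} {f' : X' ⟶ Spec (CommRingCat.of B)}

/-- The transform is an isomorphism at the structure sheaf placed in one degree. -/
theorem isIso_bc_affine_generator (hsq : IsPullback g' f' (TildeLpull.specMap φ) (TildeLpull.specMap ψ))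
    (htor : ∀ i : ℕ, 0 < i → Subsingleton (@DRing.Tor R _ i B A _ ψ.toModule _ φ.toModule))
    [DCoh.HasRpush (TildeLpull.specMap φ)] [DCoh.HasRpush (TildeLpull.specMap ψ)]
    [DCoh.HasLpull (TildeLpull.specMap ψ)] [DCoh.HasRpush f'] [DCoh.HasRpush g'] [DCoh.HasLpull g']
    (adjg : DCoh.Lpull (TildeLpull.specMap ψ) ⊣ DCoh.Rpush (TildeLpull.specMap ψ))
    (adjg' : DCoh.Lpull g' ⊣ DCoh.Rpush g')
    (e : DCoh.Rpush g' ⋙ DCoh.Rpush (TildeLpull.specMap φ) ≅ DCoh.Rpush f' ⋙ DCoh.Rpush (TildeLpull.specMap ψ))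
    (k : ℤ) :
    IsIso ((bc adjg adjg' e).app ((TT _ k).obj (Coh.structureModule _))) := by
  let f := TildeLpull.specMap φ
  let g := TildeLpull.specMap ψ
  haveI : IsAffineHom f := isAffineHom_of_isAffine _
  haveI : IsAffineHom f' := MorphismProperty.of_isPullback (P := @IsAffineHom) hsq inferInstance
  haveI := hasLpull f
  let O := Coh.structureModule (Spec (CommRingCat.of A))
  let o := Coh.structureModule (Spec (CommRingCat.of R))
  let iX' : (Scheme.Modules.pullback g').obj O ≅ Coh.structureModule X' := pullStructureIso g'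
  haveI : Coh.IsQCoh O := CohBase.isQCoh_structureModule
  haveI : Coh.IsQCoh ((Scheme.Modules.pullback g').obj O) :=
    (SheafOfModules.isQuasicoherent X'.ringCatSheaf).prop_of_iso iX'.symm CohBase.isQCoh_structureModule
  haveI : Coh.IsQCoh ((Scheme.Modules.pushforward f).obj O) := QCohLib.isQCoh_pushforward O f
  haveI := isIso_rhoN_app f k O
  haveI := isIso_rhoN_app f' k ((Scheme.Modules.pullback g').obj O)
  have flat : ∀ Y : Scheme.{u}, FlatMod.IsFlat (Coh.structureModule Y) := fun Y =>
    (isFlat_iff _).2 (SiteBase.ExtZeroPre.isFlat_unit Y.sheaf)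
  haveI := isIso_lamN_app_flat g k o (flat _)
  haveI := isIso_lamN_app_flat g' k O (flat _)
  haveI : IsIso ((lamN g k).app ((Scheme.Modules.pushforward f).obj O)) := by
    haveI : IsIso (Scheme.Modules.fromTildeΓ (R := CommRingCat.of R) ((Scheme.Modules.pushforward f).obj O)) :=
      @Scheme.Modules.isIso_fromTildeΓ_of_isQuasicoherent (CommRingCat.of R) _
        ‹Coh.IsQCoh ((Scheme.Modules.pushforward f).obj O)›
    let M := (moduleSpecΓFunctor (R := CommRingCat.of R)).obj ((Scheme.Modules.pushforward f).obj O)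
    have hM : ∀ i : ℕ, 0 < i → Subsingleton (@DRing.Tor R _ i B M _ ψ.toModule _ _) := fun i hi => by
      haveI := htor i hi
      exact (((CategoryTheory.Tor (ModuleCat.{u} R) i).obj (@ModuleCat.of R _ B _ ψ.toModule)).mapIso
        (pushUnitEquiv φ)).toLinearEquiv.toEquiv.subsingleton
    have h1 := isIso_lamN_app g k _ (isIso_lpullCounit_single_tilde ψ M k hM)
    exact (NatTrans.isIso_app_iff_of_iso (lamN g k) (show (tilde.functor (CommRingCat.of R)).obj M ≅ (Scheme.Modules.pushforward f).obj O from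
      asIso (Scheme.Modules.fromTildeΓ (R := CommRingCat.of R) ((Scheme.Modules.pushforward f).obj O)))).1 h1
  let adjf := lpullRpushAdj f
  haveI := isIso_lamN_app_flat f k o (flat _)
  let j : (DCoh.Lpull f).obj ((TT _ k).obj o) ≅ (TT _ k).obj O :=
    asIso ((lamN f k).app o) ≪≫ (TT _ k).mapIso (pullStructureIso f)
  let u := adjf.unit.app ((TT _ k).obj o) ≫ (DCoh.Rpush f).map j.hom
  have hu : ∀ (P : DCoh.D (Spec (CommRingCat.of A))) (v : (TT _ k).obj o ⟶ (DCoh.Rpush f).obj P),
      ∃ h : (TT _ k).obj O ⟶ P, v = u ≫ (DCoh.Rpush f).map h := fun P v => by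
    refine ⟨j.inv ≫ (adjf.homEquiv _ _).symm v, ?_⟩
    simp only [u, Category.assoc, ← Functor.map_comp, Iso.hom_inv_id_assoc]
    exact ((adjf.homEquiv _ _).apply_symm_apply v).symm.trans (adjf.homEquiv_unit _ _ _)
  let e₀ : Scheme.Modules.pushforward g' ⋙ Scheme.Modules.pushforward f ≅
      Scheme.Modules.pushforward f' ⋙ Scheme.Modules.pushforward g :=
    Scheme.Modules.pushforwardComp g' f ≪≫ Scheme.Modules.pushforwardCongr hsq.w ≪≫
      (Scheme.Modules.pushforwardComp f' g).symm
  let c₀ := bc (Scheme.Modules.pullbackPushforwardAdjunction g) (Scheme.Modules.pullbackPushforwardAdjunction g') e₀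
  haveI : IsIso (c₀.app O) := by
    have := Groth.Agent.S12131.result f g g' f' hsq O
    exact this
  refine isIso_at_generator (bc adjg adjg' e) (rhoN f k) (rhoN f' k) (lamN g k) (lamN g' k) O o u hu
    (fun P y => exists_factor_bc adjg adjg' e u hu P y) (c₀.app O) (fun s => c₀.naturality s)
    (fun a b => end_comm iX' a b) (fun Z a b hab => ?_) fun h r hr => ?_
  · apply ((Scheme.Modules.pullbackPushforwardAdjunction g).homEquiv _ _).injective
    refine hom_ext_qcoh _ _ fun y => ?_
    rw [← Adjunction.homEquiv_naturality_left, ← Adjunction.homEquiv_naturality_left, hab y]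
  · haveI : IsIso h := isIso_end_of_surjective iX' h fun x => ⟨r.app ⊤ x, by
      exact congr(($hr).app ⊤ x)⟩
    infer_instance

end Groth.Agent.DCohMore.BC
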