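import Mathlib.CategoryTheory.Adjunction.FullyFaithful
import Mathlib.CategoryTheory.Adjunction.Unique
import Mathlib.CategoryTheory.Functor.FullyFaithful

/-!
# Base change transforms attached to arbitrary identifications, and their pasting
-/

set_option autoImplicit false
set_option linter.unusedSectionVars false
set_option linter.style.haveILetI false

noncomputable section

namespace Groth.Agent.DCohMore.BC

open CategoryTheory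

variable {X S X' S' U U' W W' : Type*} [Category X] [Category S] [Category X'] [Category S'] [Category U] [Category U']
  [Category W] [Category W']

variable {Rf : X ⥤ S} {Rf' : X' ⥤ S'} {Rg : S' ⥤ S} {Rg' : X' ⥤ X} {Lg : S ⥤ S'} {Lg' : X ⥤ X'}

/-- The transform `Lg Rf ⟶ Rf' Lg'` attached to an identification. -/
def bc (adjg : Lg ⊣ Rg) (adjg' : Lg' ⊣ Rg') (e : Rg' ⋙ Rf ≅ Rf' ⋙ Rg) : Rf ⋙ Lg ⟶ Lg' ⋙ Rf' where
  app K := (adjg.homEquiv _ _).symm (Rf.map (adjg'.unit.app K) ≫ e.hom.app (Lg'.obj K))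
  naturality K K' φ := by
    show Lg.map (Rf.map φ) ≫ (adjg.homEquiv (Rf.obj K') (Rf'.obj (Lg'.obj K'))).symm _ =
      (adjg.homEquiv (Rf.obj K) (Rf'.obj (Lg'.obj K))).symm _ ≫ Rf'.map (Lg'.map φ)
    refine (adjg.homEquiv_naturality_left_symm _ _).symm.trans (Eq.trans ?_ (adjg.homEquiv_naturality_right_symm _ _))
    congr 1
    rw [← Functor.map_comp_assoc, ← Functor.id_map φ, adjg'.unit.naturality φ, Functor.comp_map, Functor.map_comp_assoc]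
    simp only [Functor.id_map]
    rw [Category.assoc]
    exact congrArg (Rf.map (adjg'.unit.app K) ≫ ·) (e.hom.naturality (Lg'.map φ))

theorem unit_bc (adjg : Lg ⊣ Rg) (adjg' : Lg' ⊣ Rg') (e : Rg' ⋙ Rf ≅ Rf' ⋙ Rg) (K : X) :
    adjg.unit.app (Rf.obj K) ≫ Rg.map ((bc adjg adjg' e).app K) =
      Rf.map (adjg'.unit.app K) ≫ e.hom.app (Lg'.obj K) :=
  (adjg.homEquiv_unit _ _ _).symm.trans ((adjg.homEquiv (Rf.obj K) (Rf'.obj (Lg'.obj K))).apply_symm_apply _)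

theorem bc_unique (adjg : Lg ⊣ Rg) (adjg' : Lg' ⊣ Rg') (e : Rg' ⋙ Rf ≅ Rf' ⋙ Rg) (K : X)
    (x : Lg.obj (Rf.obj K) ⟶ Rf'.obj (Lg'.obj K))
    (h : adjg.unit.app (Rf.obj K) ≫ Rg.map x = Rf.map (adjg'.unit.app K) ≫ e.hom.app (Lg'.obj K)) :
    (bc adjg adjg' e).app K = x := by
  apply (adjg.homEquiv _ _).injective
  rw [adjg.homEquiv_unit, adjg.homEquiv_unit]
  exact (unit_bc adjg adjg' e K).trans h.symm

/-- Pasting along the source. -/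
def pasteX {Rj : U ⥤ X} {Rj' : U' ⥤ X'} {Rg'' : U' ⥤ U} (e₁ : Rg'' ⋙ Rj ≅ Rj' ⋙ Rg')
    (e₂ : Rg' ⋙ Rf ≅ Rf' ⋙ Rg) : Rg'' ⋙ Rj ⋙ Rf ≅ (Rj' ⋙ Rf') ⋙ Rg :=
  (Functor.associator _ _ _).symm ≪≫ Functor.isoWhiskerRight e₁ Rf ≪≫ Functor.associator _ _ _ ≪≫
    Functor.isoWhiskerLeft Rj' e₂ ≪≫ (Functor.associator _ _ _).symm

theorem pasteX_app {Rj : U ⥤ X} {Rj' : U' ⥤ X'} {Rg'' : U' ⥤ U} (e₁ : Rg'' ⋙ Rj ≅ Rj' ⋙ Rg')
    (e₂ : Rg' ⋙ Rf ≅ Rf' ⋙ Rg) (M : U') :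
    (pasteX e₁ e₂).hom.app M = Rf.map (e₁.hom.app M) ≫ e₂.hom.app (Rj'.obj M) := by
  simp [pasteX]

theorem bc_pasteX {Rj : U ⥤ X} {Rj' : U' ⥤ X'} {Rg'' : U' ⥤ U} {Lg'' : U ⥤ U'} (adjg : Lg ⊣ Rg)
    (adjg' : Lg' ⊣ Rg') (adjg'' : Lg'' ⊣ Rg'') (e₁ : Rg'' ⋙ Rj ≅ Rj' ⋙ Rg') (e₂ : Rg' ⋙ Rf ≅ Rf' ⋙ Rg) (K : U) :
    (bc adjg adjg'' (pasteX e₁ e₂)).app K =
      (bc adjg adjg' e₂).app (Rj.obj K) ≫ Rf'.map ((bc adjg' adjg'' e₁).app K) := by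
  refine bc_unique adjg adjg'' (pasteX e₁ e₂) K _ ?_
  show adjg.unit.app (Rf.obj (Rj.obj K)) ≫ Rg.map ((bc adjg adjg' e₂).app (Rj.obj K) ≫
      Rf'.map ((bc adjg' adjg'' e₁).app K)) = Rf.map (Rj.map (adjg''.unit.app K)) ≫ (pasteX e₁ e₂).hom.app (Lg''.obj K)
  rw [Functor.map_comp, ← Category.assoc, unit_bc, pasteX_app, Category.assoc]
  have h := e₂.hom.naturality ((bc adjg' adjg'' e₁).app K)
  simp only [Functor.comp_map] at h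
  refine (congrArg (Rf.map _ ≫ ·) h.symm).trans ?_
  rw [← Category.assoc, ← Category.assoc, ← Functor.map_comp, ← Functor.map_comp, unit_bc]
  rfl

/-- Pasting along the base. -/
def pasteS {Rk : W ⥤ S} {Rk' : U ⥤ X} {Rh : W' ⥤ W} {Rh' : U' ⥤ U} {RfW : U ⥤ W} {RfW' : U' ⥤ W'}
    (eh : Rh' ⋙ RfW ≅ RfW' ⋙ Rh) (ek : Rk' ⋙ Rf ≅ RfW ⋙ Rk) : (Rh' ⋙ Rk') ⋙ Rf ≅ RfW' ⋙ Rh ⋙ Rk :=
  Functor.associator _ _ _ ≪≫ Functor.isoWhiskerLeft Rh' ek ≪≫ (Functor.associator _ _ _).symm ≪≫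
    Functor.isoWhiskerRight eh Rk ≪≫ Functor.associator _ _ _

theorem pasteS_app {Rk : W ⥤ S} {Rk' : U ⥤ X} {Rh : W' ⥤ W} {Rh' : U' ⥤ U} {RfW : U ⥤ W} {RfW' : U' ⥤ W'}
    (eh : Rh' ⋙ RfW ≅ RfW' ⋙ Rh) (ek : Rk' ⋙ Rf ≅ RfW ⋙ Rk) (M : U') :
    (pasteS eh ek).hom.app M = ek.hom.app (Rh'.obj M) ≫ Rk.map (eh.hom.app M) := by
  simp [pasteS]

theorem bc_pasteS {Rk : W ⥤ S} {Rk' : U ⥤ X} {Rh : W' ⥤ W} {Rh' : U' ⥤ U} {RfW : U ⥤ W} {RfW' : U' ⥤ W'}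
    {Lk : S ⥤ W} {Lk' : X ⥤ U} {Lh : W ⥤ W'} {Lh' : U ⥤ U'} (adjk : Lk ⊣ Rk) (adjk' : Lk' ⊣ Rk')
    (adjh : Lh ⊣ Rh) (adjh' : Lh' ⊣ Rh')
    (eh : Rh' ⋙ RfW ≅ RfW' ⋙ Rh) (ek : Rk' ⋙ Rf ≅ RfW ⋙ Rk) (K : X) :
    (bc (adjk.comp adjh) (adjk'.comp adjh') (pasteS eh ek)).app K =
      Lh.map ((bc adjk adjk' ek).app K) ≫ (bc adjh adjh' eh).app (Lk'.obj K) := by
  refine bc_unique (adjk.comp adjh) (adjk'.comp adjh') (pasteS eh ek) K _ ?_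
  have h1 := congrArg Rk.map (adjh.unit.naturality ((bc adjk adjk' ek).app K))
  have h2 := congrArg Rk.map (unit_bc adjh adjh' eh (Lk'.obj K))
  have h3 := ek.hom.naturality (adjh'.unit.app (Lk'.obj K))
  simp only [Functor.map_comp, Functor.id_map, Functor.comp_map] at h1 h2 h3
  rw [Adjunction.comp_unit_app, Adjunction.comp_unit_app]
  simp only [Functor.map_comp, Category.assoc, pasteS_app, Functor.comp_map, Functor.comp_obj]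
  rw [← reassoc_of% h1, h2, reassoc_of% (unit_bc adjk adjk' ek K), ← reassoc_of% h3]

/-- An identification over the composite decomposes when the second direct image is fully faithful. -/
theorem exists_pasteS {Rk : W ⥤ S} {Rk' : U ⥤ X} {Rh : W' ⥤ W} {Rh' : U' ⥤ U} {RfW : U ⥤ W} {RfW' : U' ⥤ W'}
    (hk : Rk.FullyFaithful) (ek : Rk' ⋙ Rf ≅ RfW ⋙ Rk) (E : (Rh' ⋙ Rk') ⋙ Rf ≅ RfW' ⋙ Rh ⋙ Rk) :
    ∃ eh : Rh' ⋙ RfW ≅ RfW' ⋙ Rh, pasteS eh ek = E := by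
  let E' : (Rh' ⋙ RfW) ⋙ Rk ≅ (RfW' ⋙ Rh) ⋙ Rk :=
    Functor.associator _ _ _ ≪≫ Functor.isoWhiskerLeft Rh' ek.symm ≪≫ (Functor.associator _ _ _).symm ≪≫ E ≪≫
      (Functor.associator _ _ _).symm
  haveI := hk.full
  haveI := hk.faithful
  refine ⟨Functor.fullyFaithfulCancelRight Rk E', ?_⟩
  ext M
  rw [pasteS_app, Functor.fullyFaithfulCancelRight_hom_app, Functor.map_preimage]
  simp [E']

/-- The transform does not depend on the choice of functors and adjunctions. -/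
theorem isIso_bc_transport {Rg₂ : S' ⥤ S} {Rg₂' : X' ⥤ X} {Lg₂ : S ⥤ S'} {Lg₂' : X ⥤ X'}
    (adjg : Lg ⊣ Rg) (adjg' : Lg' ⊣ Rg') (adjg₂ : Lg₂ ⊣ Rg₂) (adjg₂' : Lg₂' ⊣ Rg₂')
    (a : Rg ≅ Rg₂) (a' : Rg' ≅ Rg₂') (e : Rg' ⋙ Rf ≅ Rf' ⋙ Rg) (K : X) :
    IsIso ((bc adjg₂ adjg₂'
      (Functor.isoWhiskerRight a'.symm Rf ≪≫ e ≪≫ Functor.isoWhiskerLeft Rf' a)).app K) ↔
      IsIso ((bc adjg adjg' e).app K) := by
  let iL := (adjg.ofNatIsoRight a).leftAdjointUniq adjg₂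
  let iL' := (adjg'.ofNatIsoRight a').leftAdjointUniq adjg₂'
  have hu : ∀ M, adjg.unit.app M ≫ a.hom.app (Lg.obj M) ≫ Rg₂.map (iL.hom.app M) = adjg₂.unit.app M := fun M => by
    have := Adjunction.unit_leftAdjointUniq_hom_app (adjg.ofNatIsoRight a) adjg₂ M
    rw [← this]
    simp [iL, Adjunction.ofNatIsoRight]
  have hu' : ∀ M, adjg'.unit.app M ≫ a'.hom.app (Lg'.obj M) ≫ Rg₂'.map (iL'.hom.app M) = adjg₂'.unit.app M := fun M => by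
    have := Adjunction.unit_leftAdjointUniq_hom_app (adjg'.ofNatIsoRight a') adjg₂' M
    rw [← this]
    simp [iL', Adjunction.ofNatIsoRight]
  have key : (bc adjg₂ adjg₂' (Functor.isoWhiskerRight a'.symm Rf ≪≫ e ≪≫ Functor.isoWhiskerLeft Rf' a)).app K =
      iL.inv.app _ ≫ (bc adjg adjg' e).app K ≫ Rf'.map (iL'.hom.app K) := by
    refine bc_unique adjg₂ adjg₂' _ K _ ?_
    simp only [Iso.trans_hom, NatTrans.comp_app, Functor.isoWhiskerRight_hom, Iso.symm_hom, Functor.whiskerRight_app,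
      Functor.isoWhiskerLeft_hom, Functor.whiskerLeft_app]
    rw [← hu (Rf.obj K), ← hu' K]
    simp only [Functor.map_comp, Category.assoc]
    rw [← Rg₂.map_comp_assoc, Iso.hom_inv_id_app, Rg₂.map_id, Category.id_comp, ← a.hom.naturality_assoc,
      reassoc_of% (unit_bc adjg adjg' e K), ← Rf.map_comp_assoc (Rg₂'.map _), a'.inv.naturality, Functor.map_comp,
      Category.assoc, ← Rf.map_comp_assoc (a'.hom.app _), Iso.hom_inv_id_app, Rf.map_id, Category.id_comp]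
    have h4 := e.hom.naturality (iL'.hom.app K)
    have h5 := a.hom.naturality (Rf'.map (iL'.hom.app K))
    simp only [Functor.comp_map] at h4 h5
    rw [reassoc_of% h4, h5]
    rfl
  rw [key, isIso_comp_left_iff, isIso_comp_right_iff]

/-- The transform of a square of fully faithful direct images. -/
theorem isIso_bc_of_fullyFaithful {Rk : W ⥤ S} {Rk' : U ⥤ X} {RfW : U ⥤ W}
    {Lk : S ⥤ W} {Lk' : X ⥤ U} (adjk : Lk ⊣ Rk) (adjk' : Lk' ⊣ Rk') [Rk.Full] [Rk.Faithful]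
    (ek : Rk' ⋙ Rf ≅ RfW ⋙ Rk) (K : X) [IsIso (Lk.map (Rf.map (adjk'.unit.app K)))] :
    IsIso ((bc adjk adjk' ek).app K) := by
  show IsIso ((adjk.homEquiv _ _).symm _)
  rw [Adjunction.homEquiv_counit, Functor.map_comp]
  infer_instance

end Groth.Agent.DCohMore.BC
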