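import Groth.Agent.DCohMore.BCAffineQC
import Groth.Agent.DCohMore.SpecThomason
import Groth.Agent.DCohMore.AffinePushPC
import Groth.Agent.DCohMore.QCInduct
import Groth.Agent.S6508

/-!
# Base change along open immersions, for any identification
-/

set_option autoImplicit false
set_option linter.style.haveILetI false
set_option linter.unusedSectionVars false
set_option backward.isDefEq.respectTransparency false
set_option maxHeartbeats 1000000

universe u

open CategoryTheory Limits AlgebraicGeometry TopologicalSpace Pretriangulated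
attribute [local instance] HasDerivedCategory.standard

noncomputable section

namespace Groth.Agent.DCohMore.BC

open Groth.Agent.DCohLib

variable {X Y : Scheme.{u}}

/-- Derived direct images along open immersions are fully faithful. -/
theorem nonempty_fullyFaithful_rpush_open (j : X ⟶ Y) [IsOpenImmersion j] [DCoh.HasRpush j] :
    Nonempty (DCoh.Rpush j).FullyFaithful := by
  let W := j.opensRange
  let a := j.isoOpensRange
  haveI : DCoh.HasRpush W.ι := Groth.Agent.KInj.hasRightDerivedFunctor (hres_modules _) _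
  haveI : DCoh.HasRpush a.hom := Groth.Agent.KInj.hasRightDerivedFunctor (hres_modules _) _
  haveI := hasLpull W.ι
  haveI := hasLpull a.hom
  let adj := (lpullRpushAdj W.ι).ofNatIsoLeft (lpullRestrictNatIso W.ι)
  haveI : IsIso adj.counit := adj.isIso_counit_of_iso (rpushRestrictId W)
  haveI : DCoh.HasRpush (a.hom ≫ W.ι) := Groth.Agent.KInj.hasRightDerivedFunctor (hres_modules _) _
  obtain ⟨c⟩ := nonempty_rpushCompIso a.hom W.ι
  haveI : (DCoh.restrictD a.inv).Full := inferInstanceAs (restrictDEquiv a.symm).functor.Full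
  haveI : (DCoh.restrictD a.inv).Faithful := inferInstanceAs (restrictDEquiv a.symm).functor.Faithful
  haveI := adj.fullyFaithfulROfIsIsoCounit.full
  haveI := adj.fullyFaithfulROfIsIsoCounit.faithful
  let e : DCoh.restrictD a.inv ⋙ DCoh.Rpush W.ι ≅ DCoh.Rpush j :=
    Functor.isoWhiskerRight (rpushIsoRestrict a).symm (DCoh.Rpush W.ι) ≪≫ c ≪≫
      eqToIso (by simp only [a, W, j.isoOpensRange_hom_ι])
  haveI := Functor.Full.of_iso e
  haveI := Functor.Faithful.of_iso e
  exact ⟨Functor.FullyFaithful.ofFullyFaithful _⟩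

theorem isZero_restrictD_iso {U V : Scheme.{u}} (a : U ≅ V) (Z : DCoh.D V)
    (h : IsZero ((DCoh.restrictD a.hom).obj Z)) : IsZero Z :=
  ((restrictDEquiv a).inverse.map_isZero h).of_iso ((restrictDEquiv a).unitIso.app Z)

variable {S W XW : Scheme.{u}} {f : X ⟶ S} {k : W ⟶ S} {k' : XW ⟶ X} {fW : XW ⟶ W}

/-- Base change along an open immersion. -/
theorem isIso_bc_open [IsOpenImmersion k] (hsq : IsPullback k' fW f k)
    [DCoh.HasRpush f] [DCoh.HasRpush fW] [DCoh.HasRpush k] [DCoh.HasRpush k'] [DCoh.HasLpull k] [DCoh.HasLpull k']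
    (adjk : DCoh.Lpull k ⊣ DCoh.Rpush k) (adjk' : DCoh.Lpull k' ⊣ DCoh.Rpush k')
    (e : DCoh.Rpush k' ⋙ DCoh.Rpush f ≅ DCoh.Rpush fW ⋙ DCoh.Rpush k) (K : DCoh.D X) :
    IsIso ((bc adjk adjk' e).app K) := by
  haveI : IsOpenImmersion k' := MorphismProperty.of_isPullback (P := @IsOpenImmersion) hsq.flip inferInstance
  obtain ⟨hk⟩ := nonempty_fullyFaithful_rpush_open k
  obtain ⟨hk'⟩ := nonempty_fullyFaithful_rpush_open k'
  haveI := hk.full
  haveI := hk.faithful
  haveI := hk'.full
  haveI := hk'.faithful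
  suffices h : IsIso ((DCoh.Lpull k).map ((DCoh.Rpush f).map (adjk'.unit.app K))) from
    @isIso_bc_of_fullyFaithful _ _ _ _ _ _ _ _ (DCoh.Rpush f) _ _ _ _ _ adjk adjk' _ _ e K h
  obtain ⟨C, p, q, hT⟩ := distinguished_cocone_triangle (adjk'.unit.app K)
  haveI h1 : IsIso ((DCoh.Lpull k').map (adjk'.unit.app K)) := by
    haveI : IsIso ((DCoh.Lpull k').map (adjk'.unit.app K) ≫ adjk'.counit.app ((DCoh.Lpull k').obj K)) := by
      rw [adjk'.left_triangle_components K]; exact IsIso.id _
    exact IsIso.of_isIso_comp_right _ (adjk'.counit.app ((DCoh.Lpull k').obj K))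
  have h2 : IsIso ((DCoh.restrictD k').map (adjk'.unit.app K)) :=
    (NatIso.isIso_map_iff (lpullRestrictNatIso k') _).1 h1
  have hC : IsZero ((DCoh.restrictD k').obj C) :=
    Triangle.isZero₃_of_isIso₁ _ ((DCoh.restrictD k').map_distinguished _ hT) h2
  let V := k.opensRange
  haveI : DCoh.HasRpush (f ∣_ V) := Groth.Agent.KInj.hasRightDerivedFunctor (hres_modules _) _
  have hc₁ : IsPullback (f ⁻¹ᵁ V).ι ((f ∣_ V) ≫ k.isoOpensRange.inv) f k :=
    (isPullback_morphismRestrict f V).flip.of_iso (Iso.refl _) (Iso.refl _) k.isoOpensRange.symm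
      (Iso.refl _) (by simp) (by simp) (by simp) (by simp [V])
  let θ := hsq.isoIsPullback _ _ hc₁
  have hθ : θ.hom ≫ (f ⁻¹ᵁ V).ι = k' := hsq.isoIsPullback_hom_fst _ _ hc₁
  have hCV : IsZero ((DCoh.restrictD (f ⁻¹ᵁ V).ι).obj C) :=
    isZero_restrictD_iso θ _ (hC.of_iso ((restrictDCongr hθ.symm).app C ≪≫ (restrictDComp θ.hom _).app C).symm)
  obtain ⟨eV⟩ := Groth.Agent.S6508.result f V
  haveI : (DCoh.Rpush (f ∣_ V)).IsRightAdjoint :=
    haveI := hasLpull (f ∣_ V)
    (lpullRpushAdj (f ∣_ V)).isRightAdjoint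
  have hRC : IsZero ((DCoh.restrictD V.ι).obj ((DCoh.Rpush f).obj C)) :=
    ((DCoh.Rpush (f ∣_ V)).map_isZero hCV).of_iso (eV.app C)
  have hRCk : IsZero ((DCoh.Lpull k).obj ((DCoh.Rpush f).obj C)) :=
    ((DCoh.restrictD k.isoOpensRange.hom).map_isZero hRC).of_iso ((lpullRestrictNatIso k).app _ ≪≫
      (restrictDCongr k.isoOpensRange_hom_ι.symm).app _ ≪≫ (restrictDComp k.isoOpensRange.hom V.ι).app _)
  obtain ⟨c, hc⟩ := ((exTri_rpush f).comp (exTri_lpull k)) _ hT
  exact (Triangle.isZero₃_iff_isIso₁ _ hc).1 hRCk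

end Groth.Agent.DCohMore.BC
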