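import Groth.Agent.DCohMore.BCMate
import Groth.Agent.DCohMore.BCEquiv

/-!
# Localization steps for twisted base change transforms
-/

set_option autoImplicit false
set_option linter.style.haveILetI false
set_option linter.unusedSectionVars false

noncomputable section

namespace Groth.Agent.DCohMore.BC

open CategoryTheory

section Descend

variable {X U T : Type*} [Category X] [Category U] [Category T] {Lj : X ⥤ U} {Rj : U ⥤ X} {F G : U ⥤ T}

/-- A transformation after a reflective localization descends. -/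
def descend (adj : Lj ⊣ Rj) [IsIso adj.counit] (η : Lj ⋙ F ⟶ Lj ⋙ G) : F ⟶ G where
  app N := F.map (inv (adj.counit.app N)) ≫ η.app (Rj.obj N) ≫ G.map (adj.counit.app N)
  naturality N N' φ := by
    have h1 := η.naturality (Rj.map φ)
    simp only [Functor.comp_map] at h1
    have h2 : inv (adj.counit.app N) ≫ Lj.map (Rj.map φ) = φ ≫ inv (adj.counit.app N') := by
      rw [IsIso.inv_comp_eq, ← Category.assoc, IsIso.eq_comp_inv]
      exact adj.counit.naturality φ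
    rw [← F.map_comp_assoc, ← h2, F.map_comp_assoc, reassoc_of% h1, Category.assoc, Category.assoc, ← G.map_comp,
      ← G.map_comp]
    exact congrArg (fun z => F.map _ ≫ η.app _ ≫ G.map z) (adj.counit.naturality φ)

theorem descend_app_obj (adj : Lj ⊣ Rj) [IsIso adj.counit] (η : Lj ⋙ F ⟶ Lj ⋙ G) (K : X) :
    (descend adj η).app (Lj.obj K) = η.app K := by
  have h1 := η.naturality (adj.unit.app K)
  simp only [Functor.comp_map, Functor.id_obj, Functor.comp_obj] at h1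
  have h2 : inv (adj.counit.app (Lj.obj K)) = Lj.map (adj.unit.app K) := by
    refine IsIso.inv_eq_of_inv_hom_id ?_
    exact adj.left_triangle_components K
  show F.map (inv (adj.counit.app (Lj.obj K))) ≫ η.app (Rj.obj (Lj.obj K)) ≫ G.map (adj.counit.app (Lj.obj K)) = _
  rw [h2, reassoc_of% h1, ← G.map_comp, adj.left_triangle_components K, G.map_id]
  exact Category.comp_id _

end Descend

variable {X S X' S' U U' W W' : Type*} [Category X] [Category S] [Category X'] [Category S'] [Category U] [Category U']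
  [Category W] [Category W']
  {Rf : X ⥤ S} {Rf' : X' ⥤ S'} {Rg : S' ⥤ S} {Rg' : X' ⥤ X} {Lg : S ⥤ S'} {Lg' : X ⥤ X'}
  {Lj : X ⥤ U} {Rj : U ⥤ X} {Lj' : X' ⥤ U'} {Rj' : U' ⥤ X'} {Lg'' : U ⥤ U'} {Rg'' : U' ⥤ U}
  {T : X ⥤ X} {T' : X' ⥤ X'} {TU : U ⥤ U} {TU' : U' ⥤ U'}

/-- The twisted comparison transported along a commutative square. -/
def restrictEta (c : Lj ⋙ Lg'' ≅ Lg' ⋙ Lj') (a : T ⋙ Lj ≅ Lj ⋙ TU) (a' : T' ⋙ Lj' ≅ Lj' ⋙ TU')
    (θ : T ⋙ Lg' ⟶ Lg' ⋙ T') : Lj ⋙ TU ⋙ Lg'' ⟶ Lj ⋙ Lg'' ⋙ TU' :=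
  (Functor.associator _ _ _).inv ≫ Functor.whiskerRight a.inv Lg'' ≫ (Functor.associator _ _ _).hom ≫
    Functor.whiskerLeft T c.hom ≫ (Functor.associator _ _ _).inv ≫ Functor.whiskerRight θ Lj' ≫
    (Functor.associator _ _ _).hom ≫ Functor.whiskerLeft Lg' a'.hom ≫ (Functor.associator _ _ _).inv ≫
    Functor.whiskerRight c.inv TU' ≫ (Functor.associator _ _ _).hom

theorem restrictEta_app (c : Lj ⋙ Lg'' ≅ Lg' ⋙ Lj') (a : T ⋙ Lj ≅ Lj ⋙ TU) (a' : T' ⋙ Lj' ≅ Lj' ⋙ TU')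
    (θ : T ⋙ Lg' ⟶ Lg' ⋙ T') (K : X) :
    (restrictEta c a a' θ).app K =
      Lg''.map (a.inv.app K) ≫ c.hom.app (T.obj K) ≫ Lj'.map (θ.app K) ≫ a'.hom.app (Lg'.obj K) ≫
        TU'.map (c.inv.app K) := by
  simp [restrictEta]

theorem isIso_map_restrictEta {H : Type*} [Category H] (F : U' ⥤ H) (c : Lj ⋙ Lg'' ≅ Lg' ⋙ Lj')
    (a : T ⋙ Lj ≅ Lj ⋙ TU) (a' : T' ⋙ Lj' ≅ Lj' ⋙ TU') (θ : T ⋙ Lg' ⟶ Lg' ⋙ T') (K : X)
    (h : IsIso (F.map (Lj'.map (θ.app K)))) : IsIso (F.map ((restrictEta c a a' θ).app K)) := by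
  rw [restrictEta_app]
  simp only [Functor.map_comp]
  haveI := h
  infer_instance

/-- The formula for a change of functors and adjunctions. -/
theorem bc_transport {Rg₂ : S' ⥤ S} {Rg₂' : X' ⥤ X} {Lg₂ : S ⥤ S'} {Lg₂' : X ⥤ X'}
    (adjg : Lg ⊣ Rg) (adjg' : Lg' ⊣ Rg') (adjg₂ : Lg₂ ⊣ Rg₂) (adjg₂' : Lg₂' ⊣ Rg₂')
    (a : Rg ≅ Rg₂) (a' : Rg' ≅ Rg₂') (e : Rg' ⋙ Rf ≅ Rf' ⋙ Rg) (K : X) :
    (bc adjg₂ adjg₂' (Functor.isoWhiskerRight a'.symm Rf ≪≫ e ≪≫ Functor.isoWhiskerLeft Rf' a)).app K =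
      ((adjg.ofNatIsoRight a).leftAdjointUniq adjg₂).inv.app _ ≫ (bc adjg adjg' e).app K ≫
        Rf'.map (((adjg'.ofNatIsoRight a').leftAdjointUniq adjg₂').hom.app K) := by
  let iL := (adjg.ofNatIsoRight a).leftAdjointUniq adjg₂
  let iL' := (adjg'.ofNatIsoRight a').leftAdjointUniq adjg₂'
  have hu : ∀ M, adjg.unit.app M ≫ a.hom.app (Lg.obj M) ≫ Rg₂.map (iL.hom.app M) = adjg₂.unit.app M := fun M => by
    have := Adjunction.unit_leftAdjointUniq_hom_app (adjg.ofNatIsoRight a) adjg₂ M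
    rw [← this]
    simp [iL, Adjunction.ofNatIsoRight]
  have hu' : ∀ M, adjg'.unit.app M ≫ a'.hom.app (Lg'.obj M) ≫ Rg₂'.map (iL'.hom.app M) = adjg₂'.unit.app M := fun M => by
    have := Adjunction.unit_leftAdjointUniq_hom_app (adjg'.ofNatIsoRight a') adjg₂' M
    rw [← this]
    simp [iL', Adjunction.ofNatIsoRight]
  refine bc_unique adjg₂ adjg₂' _ K _ ?_
  simp only [Iso.trans_hom, NatTrans.comp_app, Functor.isoWhiskerRight_hom, Iso.symm_hom, Functor.whiskerRight_app,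
    Functor.isoWhiskerLeft_hom, Functor.whiskerLeft_app]
  rw [← hu (Rf.obj K), ← hu' K]
  simp only [Functor.map_comp, Category.assoc]
  rw [← Rg₂.map_comp_assoc, Iso.hom_inv_id_app, Rg₂.map_id, Category.id_comp, ← a.hom.naturality_assoc,
    reassoc_of% (unit_bc adjg adjg' e K), ← Rf.map_comp_assoc (Rg₂'.map _), a'.inv.naturality, Functor.map_comp,
    Category.assoc, ← Rf.map_comp_assoc (a'.hom.app _), Iso.hom_inv_id_app, Rf.map_id, Category.id_comp]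
  have h4 := e.hom.naturality (iL'.hom.app K)
  have h5 := a.hom.naturality (Rf'.map (iL'.hom.app K))
  simp only [Functor.comp_map] at h4 h5
  rw [reassoc_of% h4, h5]
  rfl

/-- The formula for a change of direct image functors. -/
theorem bc_congr {Rf₂ : X ⥤ S} {Rf₂' : X' ⥤ S'} (adjg : Lg ⊣ Rg) (adjg' : Lg' ⊣ Rg') (b : Rf ≅ Rf₂)
    (b' : Rf' ≅ Rf₂') (e : Rg' ⋙ Rf ≅ Rf' ⋙ Rg) (K : X) :
    (bc adjg adjg' (Functor.isoWhiskerLeft Rg' b.symm ≪≫ e ≪≫ Functor.isoWhiskerRight b' Rg)).app K =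
      Lg.map (b.inv.app K) ≫ (bc adjg adjg' e).app K ≫ b'.hom.app (Lg'.obj K) := by
  refine bc_unique adjg adjg' _ K _ ?_
  have h1 := b.inv.naturality (adjg'.unit.app K)
  simp only [Functor.id_obj, Functor.comp_obj] at h1
  simp only [Functor.map_comp, Iso.trans_hom, NatTrans.comp_app, Functor.isoWhiskerLeft_hom, Iso.symm_hom,
    Functor.whiskerLeft_app, Functor.isoWhiskerRight_hom, Functor.whiskerRight_app]
  rw [reassoc_of% h1]
  erw [Adjunction.unit_naturality_assoc]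
  rw [reassoc_of% (unit_bc adjg adjg' e K)]

/-- The step along the source. -/
theorem isIso_twist_source_step {RfU : U ⥤ S} {RfU' : U' ⥤ S'} (adjg : Lg ⊣ Rg) (adjg' : Lg' ⊣ Rg')
    (adj'' : Lg'' ⊣ Rg'') (adjj : Lj ⊣ Rj) (adjj' : Lj' ⊣ Rj') [IsIso adjj.counit]
    (e₁ : Rg'' ⋙ Rj ≅ Rj' ⋙ Rg') (e : Rg' ⋙ Rf ≅ Rf' ⋙ Rg) (b : Rj ⋙ Rf ≅ RfU) (b' : Rj' ⋙ Rf' ≅ RfU')
    (a : T ⋙ Lj ≅ Lj ⋙ TU) (a' : T' ⋙ Lj' ≅ Lj' ⋙ TU') (θ : T ⋙ Lg' ⟶ Lg' ⋙ T') (E : X)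
    [IsIso (adjj.unit.app (T.obj E))] [IsIso (adjj'.unit.app (T'.obj (Lg'.obj E)))]
    (h : IsIso ((bc adjg adj''
        (Functor.isoWhiskerLeft Rg'' b.symm ≪≫ pasteX e₁ e ≪≫ Functor.isoWhiskerRight b' Rg)).app (TU.obj (Lj.obj E)) ≫
      RfU'.map ((descend adjj (restrictEta
        (((adjj.comp adj'').ofNatIsoRight e₁).leftAdjointUniq (adjg'.comp adjj')) a a' θ)).app (Lj.obj E)))) :
    IsIso ((bc adjg adjg' e).app (T.obj E) ≫ Rf'.map (θ.app E)) := by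
  let c : Lj ⋙ Lg'' ≅ Lg' ⋙ Lj' := ((adjj.comp adj'').ofNatIsoRight e₁).leftAdjointUniq (adjg'.comp adjj')
  let v := adjj.unit.app (T.obj E)
  let t := T'.obj (Lg'.obj E)
  have hc : ∀ M : X, Lg'.map (adjj.unit.app M) ≫ (bc adjg' adj'' e₁).app (Lj.obj M) ≫ Rj'.map (c.hom.app M) =
      adjj'.unit.app (Lg'.obj M) := fun M => by
    apply (adjg'.homEquiv _ _).injective
    rw [adjg'.homEquiv_naturality_left, adjg'.homEquiv_unit, adjg'.homEquiv_unit, Functor.map_comp]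
    simp only [Functor.id_obj, Functor.comp_obj]
    rw [reassoc_of% (unit_bc adjg' adj'' e₁ (Lj.obj M))]
    have := Adjunction.unit_leftAdjointUniq_hom_app ((adjj.comp adj'').ofNatIsoRight e₁) (adjg'.comp adjj') M
    simp [Adjunction.ofNatIsoRight] at this
    exact this
  rw [bc_congr, descend_app_obj, restrictEta_app] at h
  let r := Lj'.map (θ.app E) ≫ a'.hom.app (Lg'.obj E) ≫ TU'.map (c.inv.app E)
  have h₁ : IsIso (Lg.map (b.inv.app (TU.obj (Lj.obj E))) ≫ (bc adjg adj'' (pasteX e₁ e)).app (TU.obj (Lj.obj E)) ≫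
      (Rj' ⋙ Rf').map (Lg''.map (a.inv.app E) ≫ c.hom.app (T.obj E) ≫ r) ≫
        b'.hom.app (TU'.obj (Lg''.obj (Lj.obj E)))) := by
    erw [b'.hom.naturality]
    simpa only [r, Category.assoc] using h
  have h₂ : IsIso ((bc adjg adj'' (pasteX e₁ e)).app (TU.obj (Lj.obj E)) ≫
      (Rj' ⋙ Rf').map (Lg''.map (a.inv.app E) ≫ c.hom.app (T.obj E) ≫ r)) := by
    have := (isIso_comp_left_iff (Lg.map (b.inv.app (TU.obj (Lj.obj E)))) _).1 h₁
    rw [← Category.assoc] at this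
    exact (isIso_comp_right_iff _ (b'.hom.app _)).1 this
  have n₁ := (bc adjg adj'' (pasteX e₁ e)).naturality (a.inv.app E)
  simp only [Functor.comp_map, Functor.comp_obj] at n₁
  rw [Functor.map_comp, ← Category.assoc] at h₂
  simp only [Functor.comp_map] at h₂
  rw [← n₁, Category.assoc] at h₂
  have h₃ := (isIso_comp_left_iff (Lg.map (Rf.map (Rj.map (a.inv.app E)))) _).1 h₂
  have e1 := bc_pasteX adjg adjg' adj'' e₁ e (Lj.obj (T.obj E))
  simp only [Functor.comp_obj] at e1 h₃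
  rw [e1] at h₃
  have n₂ := (bc adjg adjg' e).naturality v
  simp only [Functor.comp_map, Functor.comp_obj, Functor.id_obj] at n₂
  have key : (bc adjg adjg' e).app (T.obj E) ≫ Rf'.map (θ.app E) ≫ Rf'.map (adjj'.unit.app t) ≫
        Rf'.map (Rj'.map (a'.hom.app (Lg'.obj E) ≫ TU'.map (c.inv.app E))) =
      Lg.map (Rf.map v) ≫ (bc adjg adjg' e).app (Rj.obj (Lj.obj (T.obj E))) ≫
        Rf'.map ((bc adjg' adj'' e₁).app (Lj.obj (T.obj E))) ≫ Rf'.map (Rj'.map (c.hom.app (T.obj E) ≫ r)) := by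
    rw [reassoc_of% n₂]
    refine congrArg ((bc adjg adjg' e).app (T.obj E) ≫ ·) ?_
    simp only [← Functor.map_comp]
    refine congrArg Rf'.map ?_
    rw [Rj'.map_comp (c.hom.app (T.obj E)), reassoc_of% (hc (T.obj E))]
    have n₃ := adjj'.unit.naturality (θ.app E)
    simp only [Functor.id_map, Functor.comp_map] at n₃
    simp only [r, Functor.map_comp]
    rw [reassoc_of% n₃]
  have h₄ : IsIso ((bc adjg adjg' e).app (T.obj E) ≫ Rf'.map (θ.app E) ≫ Rf'.map (adjj'.unit.app t) ≫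
      Rf'.map (Rj'.map (a'.hom.app (Lg'.obj E) ≫ TU'.map (c.inv.app E)))) := by
    rw [key]
    haveI := h₃
    simp only [Category.assoc] at this
    infer_instance
  rw [← Category.assoc] at h₄
  exact (isIso_comp_right_iff _ _).1 h₄

/-- The step along the base. -/
theorem isIso_twist_base_step {Rk : W ⥤ S} {RfW : U ⥤ W} {RfW' : U' ⥤ W'} {RgW : W' ⥤ W} {Rb : W' ⥤ S'}
    {Lk : S ⥤ W} {Lb : S' ⥤ W'} {LgW : W ⥤ W'}
    (adjg : Lg ⊣ Rg) (adjg' : Lg' ⊣ Rg') (adjb : Lb ⊣ Rb) (adjj' : Lj' ⊣ Rj') (adjk : Lk ⊣ Rk) (adjj : Lj ⊣ Rj)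
    [IsIso adjj.counit] (adjgW : LgW ⊣ RgW) (adj'' : Lg'' ⊣ Rg'')
    (e : Rg' ⋙ Rf ≅ Rf' ⋙ Rg) (eb : Rj' ⋙ Rf' ≅ RfW' ⋙ Rb) (ek : Rj ⋙ Rf ≅ RfW ⋙ Rk)
    (eh : Rg'' ⋙ RfW ≅ RfW' ⋙ RgW) (g₁ : Rb ⋙ Rg ≅ RgW ⋙ Rk) (g₂ : Rj' ⋙ Rg' ≅ Rg'' ⋙ Rj)
    (heh : pasteS eh ek = Functor.isoWhiskerRight g₂.symm Rf ≪≫ pasteS eb e ≪≫ Functor.isoWhiskerLeft RfW' g₁)
    (a : T ⋙ Lj ≅ Lj ⋙ TU) (a' : T' ⋙ Lj' ≅ Lj' ⋙ TU') (θ : T ⋙ Lg' ⟶ Lg' ⋙ T') (E : X)
    [IsIso ((bc adjk adjj ek).app (T.obj E))] [IsIso ((bc adjb adjj' eb).app (T'.obj (Lg'.obj E)))]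
    (h : IsIso ((bc adjgW adj'' eh).app (TU.obj (Lj.obj E)) ≫
      RfW'.map ((descend adjj (restrictEta
        (((adjg'.comp adjj').ofNatIsoRight g₂).leftAdjointUniq (adjj.comp adj'')).symm a a' θ)).app (Lj.obj E)))) :
    IsIso (Lb.map ((bc adjg adjg' e).app (T.obj E) ≫ Rf'.map (θ.app E))) := by
  let iL := ((adjg'.comp adjj').ofNatIsoRight g₂).leftAdjointUniq (adjj.comp adj'')
  let K₀ := T.obj E
  rw [descend_app_obj, restrictEta_app] at h
  simp only [Iso.symm_hom, Iso.symm_inv] at h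
  rw [Functor.map_comp, ← Category.assoc] at h
  have n₁ := (bc adjgW adj'' eh).naturality (a.inv.app E)
  simp only [Functor.comp_map, Functor.comp_obj] at n₁ h
  rw [← n₁, Category.assoc] at h
  have h₁ := (isIso_comp_left_iff (LgW.map (RfW.map (a.inv.app E))) _).1 h
  have h₂ : IsIso ((bc adjgW adj'' eh).app (Lj.obj K₀) ≫ RfW'.map (iL.inv.app K₀ ≫ Lj'.map (θ.app E))) := by
    simp only [Functor.map_comp, ← Category.assoc] at h₁
    have h' := (isIso_comp_right_iff _ _).1 ((isIso_comp_right_iff _ _).1 h₁)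
    simpa only [Functor.map_comp, Category.assoc] using h'
  have h₃ : IsIso ((bc (adjk.comp adjgW) (adjj.comp adj'') (pasteS eh ek)).app K₀ ≫
      RfW'.map (iL.inv.app K₀ ≫ Lj'.map (θ.app E))) := by
    rw [bc_pasteS, Category.assoc]
    infer_instance
  rw [heh, bc_transport (adjg.comp adjb) (adjg'.comp adjj') (adjk.comp adjgW) (adjj.comp adj''), Category.assoc,
    Category.assoc, ← RfW'.map_comp] at h₃
  have h₄ := (isIso_comp_left_iff _ _).1 h₃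
  rw [show iL.hom.app K₀ ≫ iL.inv.app K₀ ≫ Lj'.map (θ.app E) = Lj'.map (θ.app E) from iL.hom_inv_id_app_assoc K₀ _,
    bc_pasteS, Category.assoc] at h₄
  have n₂ := (bc adjb adjj' eb).naturality (θ.app E)
  simp only [Functor.comp_map, Functor.comp_obj] at n₂
  rw [← n₂, ← Category.assoc, ← Functor.map_comp] at h₄
  exact (isIso_comp_right_iff _ ((bc adjb adjj' eb).app (T'.obj (Lg'.obj E)))).1 h₄

end Groth.Agent.DCohMore.BC
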