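import Groth.Agent.DCohMore.FreeRepAffine
import Groth.Agent.DCohMore.RelPerfTerms
import Groth.Agent.DCohMore.RHomCoh

/-! Bounded coherent objects extend from open subschemes of Noetherian schemes. -/

set_option autoImplicit false
set_option linter.style.haveILetI false
set_option backward.isDefEq.respectTransparency false

universe u

open CategoryTheory Limits AlgebraicGeometry Pretriangulated ZeroObject
attribute [local instance] HasDerivedCategory.standard

noncomputable section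

namespace Groth.Agent.DCohMore

open Groth.Agent.DRingLib Groth.Agent.DCohLib

/-- Bounded with coherent cohomology. -/
def BCoh {X : Scheme.{u}} (K : DCoh.D X) : Prop :=
  DCoh.IsCohD K ∧ ∃ a b : ℤ, K.IsGE a ∧ K.IsLE b

theorem bCoh_restrict {X Y : Scheme.{u}} [IsLocallyNoetherian X] [IsLocallyNoetherian Y] (j : X ⟶ Y)
    [IsOpenImmersion j] {K : DCoh.D Y} (h : BCoh K) : BCoh ((DCoh.restrictD j).obj K) := by
  obtain ⟨hc, a, b, ha, hb⟩ := h
  refine ⟨fun i => isCoh_iso (restrictHDIso j K i).symm ?_, a, b, ?_, ?_⟩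
  · haveI := (hc i).1
    exact (QCohLib.isCoh_iff_isFP _).2 (DCohLib.isFP_iso
      ((Scheme.Modules.restrictFunctorIsoPullback j).app _).symm
      (PullbackMod.isFP_pullback j _ ((QCohLib.isCoh_iff_isFP _).1 (hc i))))
  · exact (DerivedCategory.isGE_iff _ _).2 fun i hi =>
      ((Scheme.Modules.restrictFunctor j).map_isZero (DerivedCategory.isZero_of_isGE K a i hi)).of_iso
        (restrictHDIso j K i)
  · exact (DerivedCategory.isLE_iff _ _).2 fun i hi =>
      ((Scheme.Modules.restrictFunctor j).map_isZero (DerivedCategory.isZero_of_isLE K b i hi)).of_iso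
        (restrictHDIso j K i)

/-- The affine case. -/
theorem bCoh_extend_affine (V : Scheme.{u}) [IsAffine V] [IsNoetherian V] (W : V.Opens)
    (F : DCoh.D (W : Scheme.{u})) (hF : BCoh F) :
    ∃ B : DCoh.D V, BCoh B ∧ Nonempty ((DCoh.restrictD W.ι).obj B ≅ F) := by
  haveI : CompactSpace (W : Scheme.{u}) :=
      isCompact_iff_compactSpace.1 (TopologicalSpace.NoetherianSpace.isCompact (W : Set V))
  haveI : IsNoetherian (W : Scheme.{u}) := AlgebraicGeometry.IsNoetherian.mk
  obtain ⟨hc, a, b, ha, hb⟩ := hF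
  have hq : DCoh.IsQCohD F := fun i => (hc i).1
  have hpc : ∀ m : ℤ, DCoh.IsPseudoCoherentD m F := fun m =>
    (TildePerf.pc_iff_noetherian F hq m).2 ⟨fun i _ => hc i, b, hb⟩
  obtain ⟨G, b₀, hGb, hGf, ⟨eG⟩⟩ := exists_free_extension V W
    (TopologicalSpace.NoetherianSpace.isCompact _) F hq hpc
  let G₀ := DCoh.toD V G
  have hG₀ : DCoh.IsCohD G₀ := fun i => by
    refine isCoh_iso ((DerivedCategory.homologyFunctorFactors _ i).app G).symm
      (isCoh_homology (fun j => ?_) i)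
    obtain ⟨n, ⟨e⟩⟩ := hGf j
    exact isCoh_of_isFinLocFree (isFinLocFree_iso e.symm (isFinLocFree_freeMod n))
  have hG₀b : G₀.IsLE b₀ := (DerivedCategory.isLE_iff _ _).2 fun i hi =>
    ((HomologicalComplex.exactAt_iff_isZero_homology _ _).1 (HomologicalComplex.ExactAt.of_isZero (hGb i hi))).of_iso
      ((DerivedCategory.homologyFunctorFactors _ i).app G)
  let t : Triangulated.TStructure (DCoh.D V) := DerivedCategory.TStructure.t
  let B := (t.truncGE a).obj G₀
  let π : G₀ ⟶ B := (t.truncGEπ a).app G₀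
  have hBa : B.IsGE a := inferInstanceAs (t.IsGE ((t.truncGE a).obj G₀) a)
  haveI := hBa
  have hπ : ∀ i, a ≤ i → IsIso ((DerivedCategory.homologyFunctor _ i).map π) := fun i hi =>
    isIso_homology_truncGEπ G₀ a i hi
  refine ⟨B, ⟨fun i => ?_, a, b₀, hBa, (DerivedCategory.isLE_iff _ _).2 fun i hi => ?_⟩, ⟨?_⟩⟩
  · rcases lt_or_ge i a with h | h
    · exact isCoh_of_isFinLocFree (isFinLocFree_of_isZero (DerivedCategory.isZero_of_isGE B a i h))
    · haveI := hπ i h
      exact isCoh_iso (asIso ((DerivedCategory.homologyFunctor _ i).map π)) (hG₀ i)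
  · rcases lt_or_ge i a with h | h
    · exact DerivedCategory.isZero_of_isGE B a i h
    · haveI := hπ i h
      haveI := hG₀b
      exact (DerivedCategory.isZero_of_isLE G₀ b₀ i hi).of_iso
        (asIso ((DerivedCategory.homologyFunctor _ i).map π)).symm
  · let T := (t.triangleLTGE a).obj G₀
    have hT : T ∈ distTriang _ := t.triangleLTGE_distinguished a G₀
    let eF : (DCoh.restrictD W.ι).obj G₀ ≅ F := restrictDQ W.ι G ≪≫ eG
    haveI : IsIso ((DCoh.restrictD W.ι).map π) := by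
      refine (Triangle.isZero₁_iff_isIso₂ _ ((DCoh.restrictD W.ι).map_distinguished _ hT)).1 ?_
      refine isZero_of_isZero_HD fun i => ?_
      refine IsZero.of_iso ?_ (restrictHDIso W.ι T.obj₁ i)
      rcases lt_or_ge i a with h | h
      · haveI := isIso_homology_truncLTι G₀ a i h
        refine IsZero.of_iso ?_ ((Scheme.Modules.restrictFunctor W.ι).mapIso
          (asIso ((DerivedCategory.homologyFunctor _ i).map ((t.truncLTι a).app G₀))))
        haveI := ha
        exact ((DerivedCategory.isZero_of_isGE F a i h).of_iso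
          ((DerivedCategory.homologyFunctor _ i).mapIso eF)).of_iso (restrictHDIso W.ι G₀ i).symm
      · haveI : ((t.truncLT a).obj G₀).IsLE (a - 1) := t.isLE_truncLT_obj G₀ a _ (by omega)
        exact (Scheme.Modules.restrictFunctor W.ι).map_isZero
          (DerivedCategory.isZero_of_isLE ((t.truncLT a).obj G₀) (a - 1) i (by omega))
    exact (asIso ((DCoh.restrictD W.ι).map π)).symm ≪≫ eF

/-- One affine more. -/
theorem bCoh_extend_step {X : Scheme.{u}} [IsNoetherian X] (U V : X.Opens) (hV : IsAffineOpen V)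
    (hcov : U ⊔ V = ⊤) (F : DCoh.D (U : Scheme.{u})) (hF : BCoh F) :
    ∃ G : DCoh.D X, BCoh G ∧ Nonempty ((DCoh.restrictD U.ι).obj G ≅ F) := by
  haveI : IsAffine (V : Scheme.{u}) := hV
  haveI : CompactSpace (V : Scheme.{u}) :=
      isCompact_iff_compactSpace.1 (TopologicalSpace.NoetherianSpace.isCompact (V : Set X))
  haveI : IsNoetherian (V : Scheme.{u}) := AlgebraicGeometry.IsNoetherian.mk
  let hl := X.homOfLE (inf_le_left : U ⊓ V ≤ U)
  let hr := X.homOfLE (inf_le_right : U ⊓ V ≤ V)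
  let e := hr.isoOpensRange
  obtain ⟨B, hB, ⟨eB⟩⟩ := bCoh_extend_affine (V : Scheme.{u}) hr.opensRange
    ((DCoh.restrictD e.inv).obj ((DCoh.restrictD hl).obj F)) (bCoh_restrict e.inv (bCoh_restrict hl hF))
  let c : (DCoh.restrictD hl).obj F ≅ (DCoh.restrictD hr).obj B :=
    ((restrictDEquiv e).counitIso.app _).symm ≪≫ (DCoh.restrictD e.hom).mapIso eB.symm ≪≫
      ((restrictDComp e.hom hr.opensRange.ι).app B).symm ≪≫ (restrictDCongr hr.isoOpensRange_hom_ι).app B
  obtain ⟨G, ⟨eU⟩, ⟨eV⟩⟩ := exists_glue_two U V F B c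
  obtain ⟨hc₁, a₁, b₁, ha₁, hb₁⟩ := hF
  obtain ⟨hc₂, a₂, b₂, ha₂, hb₂⟩ := hB
  haveI := ha₁; haveI := hb₁; haveI := ha₂; haveI := hb₂
  let uiso := fun i => (restrictHDIso U.ι G i).symm ≪≫ (DerivedCategory.homologyFunctor _ i).mapIso eU
  let viso := fun i => (restrictHDIso V.ι G i).symm ≪≫ (DerivedCategory.homologyFunctor _ i).mapIso eV
  have cover : ∀ x : X, x ∈ U ∨ x ∈ V := fun x => hcov.ge (Set.mem_univ x)
  refine ⟨G, ⟨fun i => isCoh_of_local fun x => ?_, min a₁ a₂, max b₁ b₂,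
    (DerivedCategory.isGE_iff _ _).2 fun i hi => isZero_of_local fun x => ?_,
    (DerivedCategory.isLE_iff _ _).2 fun i hi => isZero_of_local fun x => ?_⟩, ⟨eU⟩⟩
  · rcases cover x with hx | hx
    · exact ⟨U, hx, isCoh_iso (uiso i).symm (hc₁ i)⟩
    · exact ⟨V, hx, isCoh_iso (viso i).symm (hc₂ i)⟩
  · rcases cover x with hx | hx
    · exact ⟨_, U.ι, inferInstance, ⟨x, hx⟩, rfl,
        (DerivedCategory.isZero_of_isGE F a₁ i (lt_of_lt_of_le hi (min_le_left _ _))).of_iso (uiso i)⟩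
    · exact ⟨_, V.ι, inferInstance, ⟨x, hx⟩, rfl,
        (DerivedCategory.isZero_of_isGE B a₂ i (lt_of_lt_of_le hi (min_le_right _ _))).of_iso (viso i)⟩
  · rcases cover x with hx | hx
    · exact ⟨_, U.ι, inferInstance, ⟨x, hx⟩, rfl,
        (DerivedCategory.isZero_of_isLE F b₁ i (lt_of_le_of_lt (le_max_left _ _) hi)).of_iso (uiso i)⟩
    · exact ⟨_, V.ι, inferInstance, ⟨x, hx⟩, rfl,
        (DerivedCategory.isZero_of_isLE B b₂ i (lt_of_le_of_lt (le_max_right _ _) hi)).of_iso (viso i)⟩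

/-- Extension from any open. -/
theorem bCoh_extend_main {X : Scheme.{u}} [IsNoetherian X] (U : X.Opens) (F : DCoh.D (U : Scheme.{u}))
    (hF : BCoh F) : ∃ G : DCoh.D X, BCoh G ∧ Nonempty ((DCoh.restrictD U.ι).obj G ≅ F) := by
  suffices H : ∀ S : X.Opens, IsCompact (S : Set X) → ∀ U : X.Opens, U ⊔ S = ⊤ →
      ∀ F : DCoh.D (U : Scheme.{u}), BCoh F → ∃ G : DCoh.D X, BCoh G ∧ Nonempty ((DCoh.restrictD U.ι).obj G ≅ F)
    from H ⊤ isCompact_univ U (sup_top_eq _) F hF
  intro S hS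
  refine compact_open_induction_on S hS ?_ ?_
  · intro U hUS F hF
    rw [sup_bot_eq] at hUS
    subst hUS
    exact ⟨(DCoh.restrictD X.topIso.inv).obj F, bCoh_restrict _ hF,
      ⟨(restrictDEquiv X.topIso).counitIso.app F⟩⟩
  · intro S hS V hSgen U hUS F hF
    let Y : X.Opens := U ⊔ V.1
    haveI : CompactSpace (Y : Scheme.{u}) :=
      isCompact_iff_compactSpace.1 (TopologicalSpace.NoetherianSpace.isCompact (Y : Set X))
    haveI : IsNoetherian (Y : Scheme.{u}) := AlgebraicGeometry.IsNoetherian.mk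
    let l := X.homOfLE (le_sup_left : U ≤ Y)
    haveI : CompactSpace (U : Scheme.{u}) :=
      isCompact_iff_compactSpace.1 (TopologicalSpace.NoetherianSpace.isCompact (U : Set X))
    haveI : IsNoetherian (U : Scheme.{u}) := AlgebraicGeometry.IsNoetherian.mk
    let V' : Y.toScheme.Opens := Y.ι ⁻¹ᵁ V.1
    have hV' : IsAffineOpen V' := V.2.preimage_of_isOpenImmersion Y.ι
      (by rw [Scheme.Opens.opensRange_ι]; exact le_sup_right)
    have hcov : l.opensRange ⊔ V' = ⊤ := eq_top_iff.2 fun y _ => by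
      rcases (y.2 : y.1 ∈ U ⊔ V.1) with h | h
      · exact Or.inl ⟨⟨y.1, h⟩, Y.ι.isOpenEmbedding.injective (by rw [← Scheme.Hom.comp_apply, X.homOfLE_ι]; rfl)⟩
      · exact Or.inr h
    let e := l.isoOpensRange
    obtain ⟨G₁, hG₁, ⟨e₁⟩⟩ := bCoh_extend_step l.opensRange V' hV' hcov ((DCoh.restrictD e.inv).obj F)
      (bCoh_restrict e.inv hF)
    obtain ⟨G, hG, ⟨eG⟩⟩ := hSgen Y (by rw [← hUS]; simp only [Y, sup_assoc, sup_comm V.1 S]) G₁ hG₁
    exact ⟨G, hG, ⟨(restrictDCongr (X.homOfLE_ι le_sup_left).symm).app G ≪≫ (restrictDComp l Y.ι).app G ≪≫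
      (DCoh.restrictD l).mapIso eG ≪≫ (restrictDCongr l.isoOpensRange_hom_ι.symm).app G₁ ≪≫
      (restrictDComp e.hom l.opensRange.ι).app G₁ ≪≫ (DCoh.restrictD e.hom).mapIso e₁ ≪≫
      (restrictDEquiv e).counitIso.app F⟩⟩

end Groth.Agent.DCohMore
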