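import Groth.Agent.DCohMore.RpushPerfFP
import Groth.Agent.DCohMore.RpushSum
import Groth.Agent.RpushLib.Sections
import Groth.Agent.FibreVanishQC.TopDegree
import Groth.Agent.SiteCmpLib.Stab
import Groth.Agent.S1105
import Groth.Agent.S6366
import Groth.Agent.BCLib.RpushSec

/-!
# Cohomology of flat modules of finite presentation with proper support over a coherent ring
-/

set_option autoImplicit false
set_option linter.style.haveILetI false
set_option linter.unusedSectionVars false
set_option backward.isDefEq.respectTransparency false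
set_option maxHeartbeats 1000000

universe u

open CategoryTheory Limits AlgebraicGeometry TopologicalSpace Opposite
attribute [local instance] HasDerivedCategory.standard

noncomputable section

namespace Groth.Agent.DCohMore

open Groth.Agent.DCohLib

/-- Cohomology of perfect complexes over a coherent ring. -/
theorem finitePresentation_homology {R : Type u} [CommRing R]
    (hR : ∀ I : Ideal R, I.FG → Module.FinitePresentation R I) (M : Dual.D R) (hM : DRing.IsPerfect R M) (i : ℤ) :
    Module.FinitePresentation R ((DerivedCategory.homologyFunctor (ModuleCat.{u} R) i).obj M) := by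
  obtain ⟨E, a, b, -, hE, ⟨e⟩⟩ := hM
  have hcoh : ∀ (N : ModuleCat.{u} R), Module.FinitePresentation R N → ∀ P : Submodule R N, P.FG →
      Module.FinitePresentation R P := fun N hN => ((Groth.Agent.S6366.result R hR N).2 hN).2
  let S := E.sc i
  haveI : ∀ j, Module.FinitePresentation R (E.X j) := fun j => by
    haveI := (hE j).1
    haveI := (hE j).2
    exact Module.finitePresentation_of_projective R (E.X j)
  haveI : Module.FinitePresentation R S.X₁ := inferInstanceAs (Module.FinitePresentation R (E.X _))
  haveI : Module.FinitePresentation R S.X₂ := inferInstanceAs (Module.FinitePresentation R (E.X i))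
  haveI : Module.FinitePresentation R S.X₃ := inferInstanceAs (Module.FinitePresentation R (E.X _))
  have hrg : (LinearMap.range S.g.hom).FG := Module.Finite.iff_fg.1 inferInstance
  haveI : Module.FinitePresentation R (LinearMap.range S.g.hom) := hcoh S.X₃ inferInstance _ hrg
  have hk : (LinearMap.ker S.g.hom).FG := by
    rw [← LinearMap.ker_rangeRestrict]
    exact Module.FinitePresentation.fg_ker _ (LinearMap.surjective_rangeRestrict _)
  haveI : Module.FinitePresentation R (LinearMap.ker S.g.hom) := hcoh S.X₂ inferInstance _ hk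
  have hq : Module.FinitePresentation R (LinearMap.ker S.g.hom ⧸ LinearMap.range S.moduleCatToCycles) :=
    Module.finitePresentation_of_surjective (LinearMap.range S.moduleCatToCycles).mkQ
      (Submodule.mkQ_surjective _) (by
        rw [Submodule.ker_mkQ]
        exact Module.Finite.iff_fg.1 inferInstance)
  haveI : Module.FinitePresentation R S.moduleCatLeftHomologyData.H := hq
  exact Module.FinitePresentation.of_equiv (S.moduleCatHomologyIso.symm ≪≫
    ((DerivedCategory.homologyFunctorFactors (ModuleCat.{u} R) i).app E).symm ≪≫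
    (DerivedCategory.homologyFunctor (ModuleCat.{u} R) i).mapIso e).toLinearEquiv

/-- Finite presentation of cohomology over a coherent ring. -/
theorem finitePresentation_HH {R : Type u} [CommRing R]
    (hR : ∀ I : Ideal R, I.FG → Module.FinitePresentation R I) {X : Scheme.{u}}
    [X.Over (Spec (CommRingCat.of R))]
    [QuasiCompact (X ↘ Spec (CommRingCat.of R))] [QuasiSeparated (X ↘ Spec (CommRingCat.of R))]
    [LocallyOfFinitePresentation (X ↘ Spec (CommRingCat.of R))]
    (G : X.Modules) (hG : CohB1.IsFP G) (hflat : FlatMod.IsFlatOver (X ↘ Spec (CommRingCat.of R)) G)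
    (hsupp : ClSub.IsProperOver (X ↘ Spec (CommRingCat.of R)) (CohB1.support G)) (i : ℕ) :
    Module.FinitePresentation R (Coh.HH X G i) := by
  let f := X ↘ Spec (CommRingCat.of R)
  haveI : CompactSpace X := QuasiCompact.compactSpace_of_compactSpace f
  haveI hGq : Coh.IsQCoh G := FibreDepth.isQCoh_of_isFP G hG
  haveI := BC.hasRpush f
  haveI : HasInjectiveResolutions X.Modules := inferInstance
  haveI : PreservesFiniteLimits (tilde.functor (CommRingCat.of R)) := TildeD.preservesFiniteLimits_tilde
  obtain ⟨a⟩ := BC.nonempty_lTensorMod_TT_unit G 0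
  obtain ⟨a'⟩ := BC.nonempty_unit_tensor G
  let K := (DCoh.Rpush f).obj ((BC.TT X 0).obj G)
  have hK : DCoh.IsPerfect K :=
    isPerfect_iso ((DCoh.Rpush f).mapIso (a ≪≫ (BC.TT X 0).mapIso a'))
      (isPerfect_rpush_lTensorMod_fp f _ (isPerfect_sgl_unit X 0) G hG hflat hsupp)
  obtain ⟨M, ⟨eM⟩⟩ := ((TildeD.main (CommRingCat.of R)).2.2 K).1 (isQCohD_of_isPerfect hK)
  have hfp := finitePresentation_homology hR M
    ((Groth.Agent.S1105.result R M).1 (isPerfect_iso eM.symm hK)) (i : ℤ)
  haveI : SiteCmp.HasRpushD (ModSite.RMor.ofScheme f) := ‹DCoh.HasRpush f›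
  haveI : HasInjectiveResolutions (ModSite.Mod X.sheaf) := ‹HasInjectiveResolutions X.Modules›
  obtain ⟨h⟩ := SiteCmpLib.nonempty_homology_rpushD_single (ModSite.RMor.ofScheme f) G i
  let N := (DerivedCategory.homologyFunctor (ModuleCat.{u} R) (i : ℤ)).obj M
  let s : (tilde.functor (CommRingCat.of R)).obj N ≅ (Coh.Rpush f i).obj G :=
    ((TildeD.nuT (CommRingCat.of R) (i : ℤ)).app M).symm ≪≫
      (DerivedCategory.homologyFunctor (Spec (CommRingCat.of R)).Modules (i : ℤ)).mapIso
        (eM ≪≫ (DCoh.Rpush f).mapIso ((DerivedCategory.singleFunctorIsoCompQ X.Modules 0).app G).symm) ≪≫ h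
  let sN : N ≅ (moduleSpecΓFunctor (R := CommRingCat.of R)).obj ((Coh.Rpush f i).obj G) :=
    (tilde.toTildeΓNatIso (R := CommRingCat.of R)).app N ≪≫ (moduleSpecΓFunctor (R := CommRingCat.of R)).mapIso s
  obtain ⟨e₁, he₁⟩ := RpushLib.exists_sections_equiv (M := G) f i (isAffineOpen_top (Spec (CommRingCat.of R)))
  let U := f ⁻¹ᵁ (⊤ : (Spec (CommRingCat.of R)).Opens)
  haveI : IsIso U.ι := inferInstanceAs (IsIso (X.topIso.hom))
  let GU := G.restrict U.ι
  haveI : Coh.IsQCoh GU := (SheafOfModules.isQuasicoherent U.toScheme.ringCatSheaf).prop_of_iso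
    ((Scheme.Modules.restrictFunctorIsoPullback U.ι).app G).symm (PullbackMod.isQCoh_pullback U.ι G)
  have haff : ProperFin.AffAcyclic U.ι GU := fun V hV n => CohBase.affine_vanishing GU (hV.preimage U.ι) n
  obtain ⟨e₂, he₂⟩ := ProperFin.exists_pushEquiv U.ι haff i
  haveI : IsIso ((Scheme.Modules.restrictAdjunction U.ι).unit.app G) := by
    rw [Scheme.Modules.Hom.isIso_iff_isIso_app]
    intro V
    rw [Scheme.Modules.restrictAdjunction_unit_app_app]
    have : (homOfLE (U.ι.image_preimage_le V)).op = (eqToHom (show U.ι ''ᵁ (U.ι ⁻¹ᵁ V) = V by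
      rw [U.ι.image_preimage_eq_opensRange_inf, Scheme.Opens.opensRange_ι]
      exact inf_eq_right.2 le_top)).op := Subsingleton.elim _ _
    rw [this]
    infer_instance
  let e₃ := BCLib.hhEquivΓ (asIso ((Scheme.Modules.restrictAdjunction U.ι).unit.app G)).symm i
  haveI : Module.FinitePresentation R N := hfp
  let e : (moduleSpecΓFunctor (R := CommRingCat.of R)).obj ((Coh.Rpush f i).obj G) ≃+ Coh.HH X G i :=
    (e₁.trans e₂).trans e₃.toAddEquiv
  refine Module.FinitePresentation.of_equiv (sN.toLinearEquiv.trans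
    ({ e with map_smul' := fun r x => ?_ } :
      (moduleSpecΓFunctor (R := CommRingCat.of R)).obj ((Coh.Rpush f i).obj G) ≃ₗ[R] Coh.HH X G i))
  show e₃ (e₂ (e₁ ((Scheme.ΓSpecIso (CommRingCat.of R)).inv.hom r •
      (show Γ((Coh.Rpush f i).obj G, (⊤ : (Spec (CommRingCat.of R)).Opens)) from x)))) =
    Coh.toGlobal f r • e₃ (e₂ (e₁ x))
  refine (congrArg (fun z => e₃ (e₂ z)) (he₁ _ x)).trans ?_
  rw [← map_smul e₃]
  refine congrArg e₃ ?_
  refine Eq.trans ?_ (he₂ (Coh.toGlobal f r) (e₁ x))
  refine congrArg (fun c => e₂ (c • e₁ x)) ?_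
  show U.topIso.inv (f.app ⊤ _) = U.ι.appTop (f.appTop _)
  rw [← CommRingCat.comp_apply]
  rfl

end Groth.Agent.DCohMore
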