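import Groth.Agent.DCohMore.CountableTower
/-!
Countability of cohomology sheaves.
-/

set_option autoImplicit false
set_option backward.isDefEq.respectTransparency false
set_option linter.style.haveILetI false
set_option maxHeartbeats 1000000

universe u

open CategoryTheory CategoryTheory.Limits AlgebraicGeometry TopologicalSpace Opposite
open CategoryTheory.Pretriangulated

attribute [local instance] HasDerivedCategory.standard

noncomputable section

namespace Groth.Agent.DCohMore

open Groth.Agent.DCohLib

theorem countable_of_finite (A : Type u) [CommRing A] [Countable A] (M : Type u) [AddCommGroup M] [Module A M]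
    [Module.Finite A M] : Countable M := by
  obtain ⟨n, φ, hφ⟩ := Module.Finite.exists_fin' A M
  exact hφ.countable

theorem ctblH_of_perf {A : Type u} [CommRing A] [Countable A] {P : Dual.D A}
    (hP : DRingLib.Perf DRingLib.FProj P) : CtblH P := fun i => by
  obtain ⟨E, ⟨-, hE⟩, ⟨e⟩⟩ := hP
  haveI : Module.Finite A (E.X i) := (hE i).1
  haveI := countable_of_finite A (E.X i)
  have h : Countable (E.homology i) := by
    let S := E.sc i
    haveI : Countable S.X₂ := inferInstanceAs (Countable (E.X i))
    haveI : Countable (LinearMap.ker S.g.hom) := Subtype.countable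
    exact @Function.Injective.countable _ _
      (Function.Surjective.countable (Submodule.Quotient.mk_surjective (LinearMap.range S.moduleCatToCycles))) _
      S.moduleCatHomologyIso.toLinearEquiv.injective
  exact @Function.Injective.countable _ _ h _
    ((DerivedCategory.homologyFunctor (ModuleCat.{u} A) i).mapIso e.symm ≪≫
      (DerivedCategory.homologyFunctorFactors (ModuleCat.{u} A) i).app E).toLinearEquiv.injective

variable {X : Scheme.{u}}

theorem ctblD_of_isPerfect (hX : ∀ V : X.Opens, IsAffineOpen V → Countable Γ(X, V)) {E : DCoh.D X}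
    (hE : DCoh.IsPerfect E) : CtblD E := fun V hV i => by
  let A : Type u := Γ(X, V)
  haveI : Countable A := hX V hV
  haveI : PreservesFiniteLimits (tilde.functor (CommRingCat.of A)) := TildeD.preservesFiniteLimits_tilde
  obtain ⟨P, eP, -⟩ := exists_model (A := A) hV.fromSpec E (isQCohD_of_isPerfect hE)
  have hP : DRingLib.Perf DRingLib.FProj P :=
    (TildePerf.perfect_tilde_iff P).1 (isPerfect_iso eP.symm (isPerfect_restrict _ hE))
  have h1 : Countable ((tilde (R := CommRingCat.of A) ((hdA A i).obj P)).val.obj (op ⊤)) :=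
    @Function.Injective.countable _ _ (ctblH_of_perf hP i) _
      (tilde.isoTop (R := CommRingCat.of A) ((hdA A i).obj P)).symm.toLinearEquiv.injective
  have h2 : Countable (((DCoh.HD E i).restrict hV.fromSpec).val.obj (op ⊤)) :=
    countable_sections_congr ((TildeD.restrictHDIso hV.fromSpec i E).symm ≪≫
      (DerivedCategory.homologyFunctor _ i).mapIso eP.symm ≪≫ (TildeD.nuT (CommRingCat.of A) i).app P) ⊤ h1
  have e : hV.fromSpec ''ᵁ ⊤ = V := by rw [Scheme.Hom.image_top_eq_opensRange, hV.opensRange_fromSpec]
  have h3 : Countable ((DCoh.HD E i).val.obj (op (hV.fromSpec ''ᵁ ⊤))) := h2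
  rwa [e] at h3

/-- Sequential colimits of quasi-coherent modules with countably many sections over affine opens. -/
theorem countable_sections_colimit (F : ℕ ⥤ X.Modules) (hq : ∀ n, Coh.IsQCoh (F.obj n)) {C : X.Modules}
    (c : colimit F ≅ C) (V : X.Opens) (hV : IsAffineOpen V)
    (h : ∀ n, Countable ((F.obj n).val.obj (op V))) : Countable (C.val.obj (op V)) := by
  let A : CommRingCat.{u} := Γ(X, V)
  let j : Spec A ⟶ X := hV.fromSpec
  let R := Scheme.Modules.restrictFunctor j
  haveI : ∀ n, (((F ⋙ R).obj n)).IsQuasicoherent := fun n =>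
    haveI : (F.obj n).IsQuasicoherent := hq n
    Scheme.Modules.isQuasicoherent_restrictFunctor j (F.obj n)
  haveI : ∀ n, IsIso (((F ⋙ R).obj n).fromTildeΓ) := fun n =>
    inferInstance
  let N : ℕ ⥤ ModuleCat A := F ⋙ R ⋙ moduleSpecΓFunctor
  let α : N ⋙ tilde.functor A ≅ F ⋙ R :=
    NatIso.ofComponents (fun n => asIso (((F ⋙ R).obj n).fromTildeΓ)) fun {a b} g =>
      Scheme.Modules.fromTildeΓNatTrans.naturality ((F ⋙ R).map g)
  haveI : HasColimit N := inferInstance
  haveI : PreservesColimitsOfSize.{0, 0} (tilde.functor A) := (tilde.adjunction (R := A)).leftAdjoint_preservesColimits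
  haveI : PreservesColimitsOfSize.{0, 0} R := (Scheme.Modules.restrictAdjunction j).leftAdjoint_preservesColimits
  let e : R.obj C ≅ (tilde.functor A).obj (colimit N) :=
    R.mapIso c.symm ≪≫ preservesColimitIso R F ≪≫ (HasColimit.isoOfNatIso α).symm ≪≫
      (preservesColimitIso (tilde.functor A) N).symm
  have hN : ∀ n, Countable (N.obj n) := fun n => by
    have h1 : Countable ((F.obj n).val.obj (op (j ''ᵁ ⊤))) := by
      have e : j ''ᵁ ⊤ = V := by rw [Scheme.Hom.image_top_eq_opensRange, hV.opensRange_fromSpec]
      rw [e]; exact h n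
    exact h1
  have hc : Countable ↑(colimit N) := by
    have hs : Function.Surjective (fun p : Σ n, N.obj n => colimit.ι N p.1 p.2) := fun x => by
      obtain ⟨n, y, hy⟩ := Concrete.colimit_exists_rep N x
      exact ⟨⟨n, y⟩, hy⟩
    exact hs.countable
  have h2 : Countable ((R.obj C).val.obj (op ⊤)) :=
    countable_sections_congr e ⊤ (@Function.Injective.countable _ _ hc _
      (tilde.isoTop (R := A) (colimit N)).symm.toLinearEquiv.injective)
  have e' : j ''ᵁ ⊤ = V := by rw [Scheme.Hom.image_top_eq_opensRange, hV.opensRange_fromSpec]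
  have h3 : Countable (C.val.obj (op (j ''ᵁ ⊤))) := h2
  rwa [e'] at h3

/-- The criterion for being a homotopy colimit of a sequence of perfect objects. -/
theorem hocolim_perfect_iff [CompactSpace X] [QuasiSeparatedSpace X]
    (hX : ∀ V : X.Opens, IsAffineOpen V → Countable Γ(X, V))
    [HasColimitsOfShape (Discrete ℕ) (DCoh.D X)] {K : DCoh.D X} (hK : DCoh.IsQCohD K) :
    (∃ (E : ℕ → DCoh.D X) (f : ∀ n, E n ⟶ E (n + 1)) (i : ∀ n, E n ⟶ K),
      (∀ n, DCoh.IsPerfect (E n)) ∧ DerLim.IsHocolim E f K i) ↔ CtblD K := by
  constructor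
  · rintro ⟨E, f, i, hE, hh⟩ V hV q
    let H := DerivedCategory.homologyFunctor X.Modules q
    haveI := preservesColimit_homologyFunctor (X := X) q
    haveI : HasExactColimitsOfShape ℕ X.Modules :=
      Groth.Agent.KFlat.hasExactColimitsOfShape_nat X.sheaf
    obtain ⟨e, -⟩ := Groth.Agent.S1034.result H E f K i hh
    exact countable_sections_colimit _ (fun n => isQCohD_of_isPerfect (hE n) q) e V hV
      fun n => ctblD_of_isPerfect hX (hE n) V hV q
  · intro hc
    obtain ⟨G, hG, -, hgen⟩ := gen_main (X := X) Set.univ isClosed_univ (by simp)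
    exact exists_hocolim_of_countable G hG
      (fun Z hZ h => hgen Z hZ (fun i x _ => Set.mem_univ x) (hom_shift_left h)) K hK
      (fun n => countable_hom hK hc (isPerfect_shift hG n))
      fun n Q hQ => countable_hom (isQCohD_of_isPerfect hQ) (ctblD_of_isPerfect hX hQ) (isPerfect_shift hG n)

end Groth.Agent.DCohMore
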