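import Groth.Agent.DCohMore.ApproxModel
import Groth.Agent.DCohMore.PerfVanish
import Groth.Agent.DCohLib.MVTriangle
import Groth.Agent.DRingLib.PerfMisc
import Groth.Agent.TildePerf.Amp
import Groth.Agent.AdeqShLib.FamCoh
/-!
Countability of maps from perfect objects into objects with countable cohomology.
-/

set_option autoImplicit false
set_option backward.isDefEq.respectTransparency false
set_option linter.style.haveILetI false
set_option maxHeartbeats 1000000

universe u

open CategoryTheory CategoryTheory.Limits AlgebraicGeometry TopologicalSpace Opposite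
open CategoryTheory.Pretriangulated

attribute [local instance] HasDerivedCategory.standard

noncomputable section

namespace Groth.Agent.DCohMore

open Groth.Agent.DCohLib

section Ring

variable {A : Type u} [CommRing A]

/-- Countable homology. -/
def CtblH (M : Dual.D A) : Prop := ∀ i : ℤ, Countable ((hdA A i).obj M)

theorem CtblH.shift {M : Dual.D A} (h : CtblH M) (n : ℤ) : CtblH (M⟦n⟧) := fun i => by
  exact @Function.Injective.countable _ _ (h (n + i)) _
    (((DerivedCategory.homologyFunctor (ModuleCat.{u} A) 0).shiftIso n i (n + i) rfl).app M).toLinearEquiv.injective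

theorem countable_hom_perf {Q : Dual.D A} (hQ : DRingLib.Perf DRingLib.FProj Q) :
    ∀ M : Dual.D A, CtblH M → Countable (Q ⟶ M) := by
  refine DRingLib.class_of_perf (P := fun Q => ∀ M : Dual.D A, CtblH M → Countable (Q ⟶ M))
    ?_ ?_ ?_ ?_ ?_ hQ
  · intro K L e h M hM
    haveI := h M hM
    exact (Iso.homCongr e (Iso.refl M)).symm.injective.countable
  · intro T hT h1 h3 M hM
    haveI := h1 M hM
    haveI := h3 M hM
    -- fibres of restriction to the first term are images of the maps out of the third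
    classical
    let pick : (T.obj₁ ⟶ M) → (T.obj₂ ⟶ M) := fun f =>
      if hf : ∃ g, T.mor₁ ≫ g = f then hf.choose else 0
    have hsurj : Function.Surjective (fun p : (T.obj₁ ⟶ M) × (T.obj₃ ⟶ M) => pick p.1 + T.mor₂ ≫ p.2) := fun g => by
      have hf : ∃ g', T.mor₁ ≫ g' = T.mor₁ ≫ g := ⟨g, rfl⟩
      obtain ⟨k, hk⟩ := Triangle.yoneda_exact₂ T hT (g - pick (T.mor₁ ≫ g)) (by
        rw [Preadditive.comp_sub, sub_eq_zero]
        simp only [pick, dif_pos hf]
        exact hf.choose_spec.symm)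
      exact ⟨(T.mor₁ ≫ g, k), by simp only [← hk, add_sub_cancel]⟩
    exact hsurj.countable
  · intro X Y _ h M hM
    haveI := h M hM
    have hinj : Function.Injective (fun f : X ⟶ M => (biprod.fst : X ⊞ Y ⟶ X) ≫ f) := fun f g e =>
      (cancel_epi biprod.fst).1 e
    exact hinj.countable
  · intro M hM
    haveI := hM 0
    haveI : Projective (ModuleCat.of A A) := inferInstance
    have hinj : Function.Injective (fun φ : Dual.inD A A ⟶ M =>
        (DComplLib.toH0 (ModuleCat.of A A) M φ).hom (1 : A)) := fun φ ψ e =>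
      (DComplLib.bijective_toH0 (ModuleCat.of A A) M).1 (ModuleCat.hom_ext (LinearMap.ext_ring e))
    exact hinj.countable
  · intro K n h M hM
    haveI := h (M⟦-n⟧) (hM.shift (-n))
    have hinj : Function.Injective (fun f : K⟦n⟧ ⟶ M =>
        ((shiftFunctorCompIsoId (Dual.D A) n (-n) (by omega)).inv.app K ≫ f⟦-n⟧' : K ⟶ M⟦-n⟧)) := fun f g e =>
      (shiftFunctor (Dual.D A) (-n)).map_injective ((cancel_epi _).1 e)
    exact hinj.countable

end Ring

variable {X : Scheme.{u}}

/-- Countably many sections of cohomology over affine opens. -/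
def CtblD (K : DCoh.D X) : Prop :=
  ∀ V : X.Opens, IsAffineOpen V → ∀ i : ℤ, Countable ((DCoh.HD K i).val.obj (op V))

theorem countable_sections_congr {M N : X.Modules} (e : M ≅ N) (V : X.Opens) (h : Countable (N.val.obj (op V))) :
    Countable (M.val.obj (op V)) :=
  @Function.Injective.countable _ _ h _
    ((SheafOfModules.forget _ ⋙ PresheafOfModules.evaluation _ (op V)).mapIso e).toLinearEquiv.injective

theorem CtblD.shift {K : DCoh.D X} (h : CtblD K) (n : ℤ) : CtblD (K⟦n⟧) := fun V hV i =>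
  countable_sections_congr (((DerivedCategory.homologyFunctor X.Modules 0).shiftIso n i (n + i) rfl).app K) V
    (h V hV (n + i))

theorem countable_hom_affine {K E : DCoh.D X} (hKq : DCoh.IsQCohD K) (hK : CtblD K) (hE : DCoh.IsPerfect E)
    {Y : Scheme.{u}} [IsAffine Y] (j : Y ⟶ X) [IsOpenImmersion j] :
    Countable ((DCoh.restrictD j).obj E ⟶ (DCoh.restrictD j).obj K) := by
  let A : Type u := Γ(Y, ⊤)
  let k : Spec (CommRingCat.of A) ≅ Y := Y.isoSpec.symm
  haveI : PreservesFiniteLimits (tilde.functor (CommRingCat.of A)) := TildeD.preservesFiniteLimits_tilde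
  haveI := (TildeD.main (CommRingCat.of A)).1
  haveI := (TildeD.main (CommRingCat.of A)).2.1
  haveI : (DCoh.restrictD k.hom).Faithful := inferInstanceAs (restrictDEquiv k).functor.Faithful
  obtain ⟨P, eP, -⟩ := exists_model (k.hom ≫ j) E (isQCohD_of_isPerfect hE)
  obtain ⟨M, eM, -⟩ := exists_model (k.hom ≫ j) K hKq
  have hP : DRingLib.Perf DRingLib.FProj P :=
    (TildePerf.perfect_tilde_iff P).1 (isPerfect_iso eP.symm (isPerfect_restrict _ hE))
  have hM : CtblH M := fun i => by
    haveI h1 : Countable ((tilde (R := CommRingCat.of A) ((hdA A i).obj M)).val.obj (op ⊤)) := by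
      refine countable_sections_congr (((TildeD.nuT (CommRingCat.of A) i).app M).symm ≪≫
        (DerivedCategory.homologyFunctor _ i).mapIso eM ≪≫ TildeD.restrictHDIso (k.hom ≫ j) i K) ⊤ ?_
      exact hK _ ((isAffineOpen_top _).image_of_isOpenImmersion (k.hom ≫ j)) i
    exact @Function.Injective.countable _ _ h1 _
      (tilde.isoTop (R := CommRingCat.of A) ((hdA A i).obj M)).toLinearEquiv.injective
  haveI := countable_hom_perf hP M hM
  have hs : Function.Surjective ((DCoh.tildeD (CommRingCat.of A)).map (X := P) (Y := M)) :=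
    (DCoh.tildeD (CommRingCat.of A)).map_surjective
  haveI := hs.countable
  let c := restrictDComp k.hom j
  have hinj : Function.Injective (fun f : (DCoh.restrictD j).obj E ⟶ (DCoh.restrictD j).obj K =>
      eP.hom ≫ c.hom.app E ≫ (DCoh.restrictD k.hom).map f ≫ c.inv.app K ≫ eM.inv) := fun f g e =>
    (DCoh.restrictD k.hom).map_injective ((cancel_mono (c.inv.app K ≫ eM.inv)).1 (by
      simpa only [Category.assoc] using (cancel_epi (c.hom.app E)).1 ((cancel_epi eP.hom).1 e)))
  exact hinj.countable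

/-- The predicate for the induction. -/
def CtblHom (V : X.Opens) : Prop :=
  ∀ (K E : DCoh.D X), DCoh.IsQCohD K → CtblD K → DCoh.IsPerfect E →
    ∀ (Y : Scheme.{u}) (j : Y ⟶ X) [IsOpenImmersion j], j.opensRange = V →
      Countable ((DCoh.restrictD j).obj E ⟶ (DCoh.restrictD j).obj K)

theorem ctblHom_of_affine (V : X.Opens) (hV : IsAffineOpen V) : CtblHom V := fun K E hKq hK hE Y j _ hj => by
  haveI : IsAffine V.toScheme := hV
  haveI : IsAffine Y := IsAffine.of_isIso (IsOpenImmersion.isoOfRangeEq j V.ι (by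
    rw [Scheme.Opens.range_ι, ← hj]; rfl)).hom
  exact countable_hom_affine hKq hK hE j

theorem countable_hom_obj₂ {C : Type*} [Category C] [Preadditive C] [HasZeroObject C] [HasShift C ℤ]
    [∀ n : ℤ, (shiftFunctor C n).Additive] [Pretriangulated C] (T : Triangle C) (hT : T ∈ distTriang C) (E : C)
    (h₁ : Countable (E ⟶ T.obj₁)) (h₃ : Countable (E ⟶ T.obj₃)) : Countable (E ⟶ T.obj₂) := by
  classical
  let pick : (E ⟶ T.obj₃) → (E ⟶ T.obj₂) := fun f => if hf : ∃ g, g ≫ T.mor₂ = f then hf.choose else 0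
  have hsurj : Function.Surjective (fun p : (E ⟶ T.obj₃) × (E ⟶ T.obj₁) => pick p.1 + p.2 ≫ T.mor₁) := fun g => by
    have hf : ∃ g', g' ≫ T.mor₂ = g ≫ T.mor₂ := ⟨g, rfl⟩
    obtain ⟨l, hl⟩ := Triangle.coyoneda_exact₂ T hT (g - pick (g ≫ T.mor₂)) (by
      rw [Preadditive.sub_comp, sub_eq_zero]
      simp only [pick, dif_pos hf]
      exact hf.choose_spec.symm)
    exact ⟨(g ≫ T.mor₂, l), by simp only [← hl, add_sub_cancel]⟩
  exact hsurj.countable

theorem countable_hom_biprod {C : Type*} [Category C] [Preadditive C] (E P Q : C) [HasBinaryBiproduct P Q]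
    (h₁ : Countable (E ⟶ P)) (h₂ : Countable (E ⟶ Q)) : Countable (E ⟶ P ⊞ Q) := by
  have hinj : Function.Injective (fun f : E ⟶ P ⊞ Q => (f ≫ biprod.fst, f ≫ biprod.snd)) := fun f g h =>
    biprod.hom_ext _ _ (congrArg Prod.fst h) (congrArg Prod.snd h)
  exact hinj.countable

theorem countable_hom_neg {C : Type*} [Category C] [HasShift C ℤ] (E P : C)
    (h : Countable (E⟦(1 : ℤ)⟧ ⟶ P)) : Countable (E ⟶ P⟦(-1 : ℤ)⟧) := by
  let c := shiftFunctorCompIsoId C (-1 : ℤ) (1 : ℤ) (by omega)
  have hinj : Function.Injective (fun f : E ⟶ P⟦(-1 : ℤ)⟧ => f⟦(1 : ℤ)⟧' ≫ c.hom.app P) := fun f g e =>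
    (shiftFunctor C (1 : ℤ)).map_injective ((cancel_mono (c.hom.app P)).1 e)
  exact @Function.Injective.countable _ _ h _ hinj

theorem countable_hom_rpush (c : X.Opens) (hc : CtblHom c) (E' K' : DCoh.D X) (h1 : DCoh.IsQCohD K')
    (h2 : CtblD K') (h3 : DCoh.IsPerfect E') {Y : Scheme.{u}} (j : Y ⟶ X) [IsOpenImmersion j] (W : Y.Opens)
    [DCoh.HasRpush W.ι] (hW : ∀ y, y ∈ W ↔ j y ∈ c) (hle : c ≤ j.opensRange) :
    Countable ((DCoh.restrictD j).obj E' ⟶
      (DCoh.Rpush W.ι).obj ((DCoh.restrictD W.ι).obj ((DCoh.restrictD j).obj K'))) := by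
  have hr : (W.ι ≫ j).opensRange = c := by
    refine Opens.ext (Set.ext fun x => ⟨?_, fun hx => ?_⟩)
    · rintro ⟨y, rfl⟩; exact (hW y.1).1 y.2
    · obtain ⟨y, rfl⟩ : x ∈ j.opensRange := hle hx
      exact ⟨⟨y, (hW y).2 hx⟩, rfl⟩
  haveI := hc K' E' h1 h2 h3 _ (W.ι ≫ j) hr
  let e := restrictDComp W.ι j
  haveI : Countable ((DCoh.restrictD W.ι).obj ((DCoh.restrictD j).obj E') ⟶
      (DCoh.restrictD W.ι).obj ((DCoh.restrictD j).obj K')) :=
    (Iso.homCongr ((e.app E').symm) ((e.app K').symm)).injective.countable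
  let adj := (lpullRpushAdj W.ι).ofNatIsoLeft (lpullRestrictNatIso W.ι)
  exact (adj.homEquiv _ _).symm.injective.countable

theorem ctblHom_sup (a b : X.Opens) (ha : CtblHom a) (hb : CtblHom b) (hab : CtblHom (a ⊓ b)) :
    CtblHom (a ⊔ b) := fun K E hKq hK hE Y j _ hj => by
  have hUV : j ⁻¹ᵁ a ⊔ j ⁻¹ᵁ b = ⊤ := by
    refine top_unique fun y _ => ?_
    have hy : j y ∈ a ⊔ b := hj ▸ ⟨y, rfl⟩
    exact hy
  haveI : DCoh.HasRpush (j ⁻¹ᵁ a).ι := Groth.Agent.KInj.hasRightDerivedFunctor (hres_modules _) _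
  haveI : DCoh.HasRpush (j ⁻¹ᵁ b).ι := Groth.Agent.KInj.hasRightDerivedFunctor (hres_modules _) _
  haveI : DCoh.HasRpush (j ⁻¹ᵁ a ⊓ j ⁻¹ᵁ b).ι := Groth.Agent.KInj.hasRightDerivedFunctor (hres_modules _) _
  obtain ⟨α, β, γ, hT⟩ := exists_mv_triangle_rpush_open (j ⁻¹ᵁ a) (j ⁻¹ᵁ b) hUV ((DCoh.restrictD j).obj K)
  have h3 := countable_hom_rpush (a ⊓ b) hab (E⟦(1 : ℤ)⟧) K hKq hK (isPerfect_shift hE 1) j (j ⁻¹ᵁ a ⊓ j ⁻¹ᵁ b)
    (fun _ => Iff.rfl) (hj ▸ inf_le_left.trans le_sup_left)
  have h3' := countable_hom_neg ((DCoh.restrictD j).obj E)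
    ((DCoh.Rpush (j ⁻¹ᵁ a ⊓ j ⁻¹ᵁ b).ι).obj ((DCoh.restrictD (j ⁻¹ᵁ a ⊓ j ⁻¹ᵁ b).ι).obj ((DCoh.restrictD j).obj K)))
    (@Function.Injective.countable _ _ h3 _
      (Iso.homCongr (((DCoh.restrictD j).commShiftIso (1 : ℤ)).app E).symm (Iso.refl _)).injective)
  exact countable_hom_obj₂ _ (inv_rot_of_distTriang _ hT) _ h3'
    (countable_hom_biprod _ _ _
      (countable_hom_rpush a ha E K hKq hK hE j _ (fun _ => Iff.rfl) (hj ▸ le_sup_left))
      (countable_hom_rpush b hb E K hKq hK hE j _ (fun _ => Iff.rfl) (hj ▸ le_sup_right)))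

/-- Maps from perfect objects into objects with countable cohomology form countable sets. -/
theorem countable_hom [CompactSpace X] [QuasiSeparatedSpace X] {K E : DCoh.D X} (hKq : DCoh.IsQCohD K)
    (hK : CtblD K) (hE : DCoh.IsPerfect E) : Countable (E ⟶ K) := by
  haveI := AdeqShLib.qcqs_induction (P := CtblHom (X := X)) ctblHom_of_affine ctblHom_sup K E hKq hK hE
    X (𝟙 X) (by ext; simp)
  exact (Iso.homCongr ((restrictDId X).app E) ((restrictDId X).app K)).symm.injective.countable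

theorem CtblD.restrict {K : DCoh.D X} (h : CtblD K) (U : X.Opens) : CtblD ((DCoh.restrictD U.ι).obj K) :=
  fun V hV i => countable_sections_congr (TildeD.restrictHDIso U.ι i K) V
    (h _ (hV.image_of_isOpenImmersion U.ι) i)

/-- Countability of maps over quasi-compact opens. -/
theorem countable_hom_open [CompactSpace X] [QuasiSeparatedSpace X] {K E : DCoh.D X} (hKq : DCoh.IsQCohD K)
    (hK : CtblD K) (hE : DCoh.IsPerfect E) (U : X.Opens) (hU : IsCompact (U : Set X)) (i : ℤ) :
    Countable ((DCoh.restrictD U.ι).obj E ⟶ ((DCoh.restrictD U.ι).obj K)⟦i⟧) := by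
  haveI : CompactSpace U.toScheme := isCompact_iff_compactSpace.1 hU
  haveI : QuasiSeparatedSpace U.toScheme := QuasiSeparatedSpace.of_isOpenEmbedding U.ι.isOpenEmbedding
  exact countable_hom (isQCohD_shift' (TildeD.isQCohD_restrict U.ι K hKq) i) ((hK.restrict U).shift i)
    (isPerfect_restrict U.ι hE)

end Groth.Agent.DCohMore
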