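import Groth.Agent.DCohMore.CountableHom
import Groth.Agent.DCohMore.CompactPerf
import Groth.Agent.DCohMore.BvdBStep
import Groth.Agent.DCohMore.HocolimPC
/-!
Countable towers of perfect objects.
-/

set_option autoImplicit false
set_option backward.isDefEq.respectTransparency false
set_option linter.style.haveILetI false
set_option maxHeartbeats 1000000

universe u

open CategoryTheory CategoryTheory.Limits AlgebraicGeometry TopologicalSpace Opposite
open CategoryTheory.Pretriangulated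

attribute [local instance] HasDerivedCategory.standard

noncomputable section

namespace Groth.Agent.DCohMore

open Groth.Agent.DCohLib

section Abstract

variable {D : Type*} [Category D] [Preadditive D]

/-- The composite of the transition maps of a tower. -/
def towerMap (E : ℕ → D) (f : ∀ n, E n ⟶ E (n + 1)) (n : ℕ) : ∀ k : ℕ, E n ⟶ E (n + k)
  | 0 => 𝟙 _
  | k + 1 => towerMap E f n k ≫ f (n + k)

theorem towerMap_comp {E : ℕ → D} {f : ∀ n, E n ⟶ E (n + 1)} {K : D} {i : ∀ n, E n ⟶ K}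
    (h : ∀ n, f n ≫ i (n + 1) = i n) (n : ℕ) : ∀ k : ℕ, towerMap E f n k ≫ i (n + k) = i n
  | 0 => Category.id_comp _
  | k + 1 => by
    show (towerMap E f n k ≫ f (n + k)) ≫ i (n + k + 1) = i n
    rw [Category.assoc, h]
    exact towerMap_comp h n k

variable [HasZeroObject D] [HasShift D ℤ] [∀ n : ℤ, (shiftFunctor D n).Additive] [Pretriangulated D]
  [HasFiniteBiproducts D]

/-- A tower of objects in a class realising all maps from countably many probes into a given object. -/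
theorem exists_countable_tower (P : D → Prop) (hzero : ∀ Z, IsZero Z → P Z)
    (hsum : ∀ A B, P A → P B → P (A ⊞ B))
    (hcone : ∀ T : Triangle D, T ∈ distTriang D → P T.obj₁ → P T.obj₂ → P T.obj₃)
    (G : ℤ → D) (hG : ∀ j, P (G j)) (K : D) (hK : ∀ j, Countable (G j ⟶ K))
    (hcount : ∀ j Q, P Q → Countable (G j ⟶ Q)) :
    ∃ (E : ℕ → D) (f : ∀ n, E n ⟶ E (n + 1)) (i : ∀ n, E n ⟶ K),
      (∀ n, P (E n)) ∧ (∀ n, f n ≫ i (n + 1) = i n) ∧
      (∀ j (φ : G j ⟶ K), ∃ (n : ℕ) (ψ : G j ⟶ E n), ψ ≫ i n = φ) ∧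
      (∀ j (n : ℕ) (ψ : G j ⟶ E n), ψ ≫ i n = 0 → ∃ k, ψ ≫ towerMap E f n k = 0) := by
  classical
  haveI := hK
  obtain ⟨en, hen⟩ : ∃ e : ℕ → Σ j : ℤ, (G j ⟶ K), Function.Surjective e := exists_surjective_nat _
  let Ker : (Σ' (Q : D) (_ : P Q), Q ⟶ K) → Type _ := fun s => {p : Σ j : ℤ, (G j ⟶ s.1) // p.2 ≫ s.2.2 = 0}
  have enumKer : ∀ s, ∃ e : ℕ → Ker s, Function.Surjective e := fun s => by
    haveI : ∀ j, Countable (G j ⟶ s.1) := fun j => hcount j _ s.2.1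
    haveI : Nonempty (Ker s) := ⟨⟨⟨0, 0⟩, zero_comp⟩⟩
    exact exists_surjective_nat _
  choose enum henum using enumKer
  let St := Σ' (s : Σ' (Q : D) (_ : P Q), Q ⟶ K), ℕ → ℕ → Ker s
  have step : ∀ (n : ℕ) (t : St), ∃ (s' : Σ' (Q : D) (_ : P Q), Q ⟶ K) (g : t.1.1 ⟶ s'.1),
      g ≫ s'.2.2 = t.1.2.2 ∧ (t.2 (Nat.unpair n).1 (Nat.unpair n).2).1.2 ≫ g = 0 ∧
      ∃ ψ : G (en n).1 ⟶ s'.1, ψ ≫ s'.2.2 = (en n).2 := by
    intro n t
    obtain ⟨C, p, d, hC⟩ := distinguished_cocone_triangle (t.2 (Nat.unpair n).1 (Nat.unpair n).2).1.2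
    obtain ⟨i', hi'⟩ : ∃ i' : C ⟶ K, t.1.2.2 = p ≫ i' :=
      Triangle.yoneda_exact₂ _ hC t.1.2.2 (t.2 (Nat.unpair n).1 (Nat.unpair n).2).2
    refine ⟨⟨C ⊞ G (en n).1, hsum _ _ (hcone _ hC (hG _) t.1.2.1) (hG _), biprod.desc i' (en n).2⟩,
      p ≫ biprod.inl, ?_, ?_, biprod.inr, biprod.inr_desc _ _⟩
    · rw [Category.assoc, biprod.inl_desc, hi']
    · rw [← Category.assoc]
      exact (congrArg (· ≫ biprod.inl) (comp_distTriang_mor_zero₁₂ _ hC)).trans zero_comp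
  choose nx g hg hkill hlift using step
  let push : ∀ (n : ℕ) (t : St), Ker t.1 → Ker (nx n t) := fun n t q =>
    ⟨⟨q.1.1, q.1.2 ≫ g n t⟩, by rw [Category.assoc, hg]; exact q.2⟩
  let next : ℕ → St → St := fun n t =>
    ⟨nx n t, fun m l => if m = n + 1 then enum (nx n t) l else push n t (t.2 m l)⟩
  obtain ⟨Z, hZ⟩ := ‹HasZeroObject D›.zero
  let s₀ : Σ' (Q : D) (_ : P Q), Q ⟶ K := ⟨Z, hzero Z hZ, 0⟩
  let S : ℕ → St := fun n => Nat.rec ⟨s₀, fun _ l => enum s₀ l⟩ (fun n t => next n t) n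
  let E : ℕ → D := fun n => (S n).1.1
  let f : ∀ n, E n ⟶ E (n + 1) := fun n => g n (S n)
  let i : ∀ n, E n ⟶ K := fun n => (S n).1.2.2
  refine ⟨E, f, i, fun n => (S n).1.2.1, fun n => hg n (S n), fun j φ => ?_, fun j n ψ hψ => ?_⟩
  · obtain ⟨n, hn⟩ := hen ⟨j, φ⟩
    obtain ⟨ψ, hψ⟩ := hlift n (S n)
    obtain ⟨rfl, h2⟩ := Sigma.mk.inj_iff.1 (Sigma.eta (en n) ▸ hn)
    exact ⟨n + 1, ψ, hψ.trans (eq_of_heq h2)⟩
  · obtain ⟨l, hl⟩ := henum (S n).1 ⟨⟨j, ψ⟩, hψ⟩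
    have inv : ∀ k : ℕ, ((S (n + k)).2 n l).1 = ⟨j, ψ ≫ towerMap E f n k⟩ := by
      intro k
      induction k with
      | zero =>
        have h0 : (S n).2 n l = enum (S n).1 l := by
          cases n with
          | zero => rfl
          | succ n => exact if_pos rfl
        refine (congrArg Subtype.val (h0.trans hl)).trans ?_
        exact congrArg (Sigma.mk j) (Category.comp_id ψ).symm
      | succ k ih =>
        have h1 : (S (n + k + 1)).2 n l = push (n + k) (S (n + k)) ((S (n + k)).2 n l) :=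
          if_neg (by omega)
        refine (congrArg Subtype.val h1).trans ?_
        refine (congrArg (fun p : Σ j : ℤ, (G j ⟶ E (n + k)) => (⟨p.1, p.2 ≫ f (n + k)⟩ : Σ j : ℤ, (G j ⟶ E (n + k + 1)))) ih).trans ?_
        exact congrArg (Sigma.mk j) (Category.assoc _ _ _)
    obtain ⟨k, hk⟩ := Nat.exists_eq_add_of_le (Nat.left_le_pair n l)
    refine ⟨k + 1, ?_⟩
    have h2 := hkill (n + k) (S (n + k))
    rw [← hk, Nat.unpair_pair] at h2
    have h3 : ∀ (p : Σ j : ℤ, (G j ⟶ E (n + k))), p = ⟨j, ψ ≫ towerMap E f n k⟩ →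
        p.2 ≫ f (n + k) = 0 → (ψ ≫ towerMap E f n k) ≫ f (n + k) = 0 := by
      rintro p rfl h
      exact h
    show ψ ≫ towerMap E f n k ≫ f (n + k) = 0
    rw [← Category.assoc]
    refine h3 _ (inv k) ?_
    revert h2
    rw [hk]
    exact fun h => h

/-- Finite sums of maps into the summands. -/
theorem eq_zero_of_comp_shiftMap {E : ℕ → D} [HasCoproduct E] (f : ∀ n, E n ⟶ E (n + 1)) {C : D}
    (ξ : C ⟶ ∐ E) (hξ : ∃ (T : Finset ℕ) (h : ∀ n, C ⟶ E n), ξ = ∑ n ∈ T, h n ≫ Sigma.ι E n)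
    (hd : ξ ≫ (𝟙 _ - DerLim.shiftMap E f) = 0) : ξ = 0 := by
  classical
  obtain ⟨T, h, hT⟩ := hξ
  have hπ : ∀ k, ξ ≫ Sigma.π E k = 0 := fun k => by
    induction k with
    | zero =>
      have hsh : DerLim.shiftMap E f ≫ Sigma.π E 0 = 0 := Sigma.hom_ext _ _ fun n => by
        simp [DerLim.shiftMap, Sigma.ι_π_of_ne _ (Nat.succ_ne_zero n)]
      simpa [Preadditive.sub_comp, Preadditive.comp_sub, hsh] using congr_arg (· ≫ Sigma.π E 0) hd
    | succ k ih =>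
      have hsh : DerLim.shiftMap E f ≫ Sigma.π E (k + 1) = Sigma.π E k ≫ f k :=
        Sigma.hom_ext _ _ fun n => by
          by_cases hn : n = k
          · subst hn
            simp [DerLim.shiftMap]
          · simp [DerLim.shiftMap, Sigma.ι_π_of_ne _ (show n + 1 ≠ k + 1 by omega),
              Sigma.ι_π_of_ne_assoc _ hn]
      have h2 := congr_arg (· ≫ Sigma.π E (k + 1)) hd
      have ih0 : ξ ≫ Sigma.π E k ≫ f k = 0 := by rw [← Category.assoc, ih, zero_comp]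
      simpa [Preadditive.sub_comp, Preadditive.comp_sub, hsh, ih0] using h2
  rw [hT]
  refine Finset.sum_eq_zero fun k hk => ?_
  have hk0 : h k = 0 := by
    rw [← hπ k, hT, Preadditive.sum_comp, Finset.sum_eq_single k]
    · simp
    · exact fun n _ hn => by rw [Category.assoc, Sigma.ι_π_of_ne _ hn, comp_zero]
    · exact fun h => absurd hk h
  rw [hk0, zero_comp]

end Abstract

variable {X : Scheme.{u}} [CompactSpace X] [QuasiSeparatedSpace X]

theorem exists_finite_sum {C : DCoh.D X} (hC : DCoh.IsPerfect C) (E : ℕ → DCoh.D X) [HasCoproduct E]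
    (hE : ∀ n, DCoh.IsQCohD (E n)) (ξ : C ⟶ ∐ E) :
    ∃ (T : Finset ℕ) (h : ∀ n, C ⟶ E n), ξ = ∑ n ∈ T, h n ≫ Sigma.ι E n := by
  classical
  let L : ULift.{u} ℕ → DCoh.D X := fun k => E k.down
  haveI := hasCoproduct_D' L
  let a : (∐ E) ⟶ ∐ L := Sigma.desc fun k => Sigma.ι L ⟨k⟩
  let b : (∐ L) ⟶ ∐ E := Sigma.desc fun k => Sigma.ι E k.down
  have hab : a ≫ b = 𝟙 _ := Sigma.hom_ext _ _ fun k => by simp [a, b]
  obtain ⟨T, hT⟩ := absorbs_of_isPerfect hC L (fun k => hE _) (ξ ≫ a)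
  refine ⟨T.image ULift.down, fun n => (ξ ≫ a) ≫ sigmaProj (coproductIsCoproduct L) ⟨n⟩, ?_⟩
  calc ξ = ((ξ ≫ a) ≫ sigmaTrunc (coproductIsCoproduct L) T) ≫ b := by
        rw [hT, Category.assoc, hab, Category.comp_id]
    _ = _ := by
        rw [sigmaTrunc, Preadditive.comp_sum, Preadditive.sum_comp,
          Finset.sum_image ULift.down_injective.injOn]
        refine Finset.sum_congr rfl fun k _ => ?_
        obtain ⟨k⟩ := k
        simp only [Category.assoc]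
        congr 3
        exact Sigma.ι_desc _ _

/-- An object with countably many maps from the shifts of a generator is the homotopy colimit of perfect objects. -/
theorem exists_hocolim_of_countable [HasColimitsOfShape (Discrete ℕ) (DCoh.D X)] (G : DCoh.D X)
    (hG : DCoh.IsPerfect G)
    (hgen : ∀ Z : DCoh.D X, DCoh.IsQCohD Z → (∀ (n : ℤ) (φ : G⟦n⟧ ⟶ Z), φ = 0) → IsZero Z)
    (K : DCoh.D X) (hKq : DCoh.IsQCohD K) (hK : ∀ n : ℤ, Countable (G⟦n⟧ ⟶ K))
    (hcount : ∀ (n : ℤ) (Q : DCoh.D X), DCoh.IsPerfect Q → Countable (G⟦n⟧ ⟶ Q)) :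
    ∃ (E : ℕ → DCoh.D X) (f : ∀ n, E n ⟶ E (n + 1)) (i : ∀ n, E n ⟶ K),
      (∀ n, DCoh.IsPerfect (E n)) ∧ DerLim.IsHocolim E f K i := by
  obtain ⟨E, f, i, hE, hfi, hlift, hkill⟩ := exists_countable_tower (fun Q : DCoh.D X => DCoh.IsPerfect Q)
    (fun Z hZ => isPerfect_iso hZ.isoZero.symm (isPerfect_obj₃ _ (contractible_distinguished G) hG hG))
    (fun A B hA hB => isPerfect_obj₂ _ (binaryBiproductTriangle_distinguished A B) hA hB)
    (fun T hT h1 h2 => isPerfect_obj₃ T hT h1 h2) (fun n => G⟦n⟧) (fun n => isPerfect_shift hG n) K hK hcount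
  have hEq : ∀ n, DCoh.IsQCohD (E n) := fun n => isQCohD_of_isPerfect (hE n)
  obtain ⟨L, p, c, hL⟩ := distinguished_cocone_triangle (𝟙 (∐ E) - DerLim.shiftMap E f)
  have hLq : DCoh.IsQCohD L := by
    let E' : ULift.{u} ℕ → DCoh.D X := fun k => E k.down
    haveI := hasCoproduct_D' E'
    have hq : DCoh.IsQCohD (∐ E) :=
      TildeD.isQCohD_of_iso
        (X := X)
        ({ hom := Sigma.desc fun k : ULift.{u} ℕ => Sigma.ι E k.down
           inv := Sigma.desc fun k => Sigma.ι E' ⟨k⟩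
           hom_inv_id := Sigma.hom_ext _ _ fun k => by simp [E']
           inv_hom_id := Sigma.hom_ext _ _ fun k => by simp [E'] } : (∐ E') ≅ ∐ E)
        (isQCohD_coproduct E' fun k => hEq _)
    exact isQCohD_obj₃' _ hL hq hq
  have h0 : (𝟙 (∐ E) - DerLim.shiftMap E f) ≫ Sigma.desc i = 0 :=
    Sigma.hom_ext _ _ fun n => by simp [DerLim.shiftMap, hfi]
  obtain ⟨θ, hθ⟩ : ∃ θ : L ⟶ K, Sigma.desc i = p ≫ θ := Triangle.yoneda_exact₂ _ hL _ h0
  let ι : ∀ n, E n ⟶ L := fun n => Sigma.ι E n ≫ p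
  have hι : ∀ n, f n ≫ ι (n + 1) = ι n := fun n => by
    have h := congrArg (Sigma.ι E n ≫ ·) (comp_distTriang_mor_zero₁₂ _ hL)
    simp [DerLim.shiftMap, sub_eq_zero] at h
    exact h.symm.trans (congrArg (Sigma.ι E n ≫ ·) (Category.id_comp p))
  have hιθ : ∀ n, ι n ≫ θ = i n := fun n => by
    show (Sigma.ι E n ≫ p) ≫ θ = i n
    rw [Category.assoc, ← hθ, Sigma.ι_desc]
  have hfac : ∀ {C : DCoh.D X}, DCoh.IsPerfect C → ∀ φ : C ⟶ L, ∃ (n : ℕ) (ψ : C ⟶ E n), φ = ψ ≫ ι n := by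
    intro C hC φ
    have h1 : φ ≫ c = 0 := by
      obtain ⟨ξ, hξ⟩ := (shiftFunctor (DCoh.D X) (1 : ℤ)).map_surjective
        ((shiftNegShift C (1 : ℤ)).hom ≫ φ ≫ c) (X := C⟦(-1 : ℤ)⟧)
      rw [← cancel_epi (shiftNegShift C (1 : ℤ)).hom, comp_zero]
      refine hξ.symm.trans ?_
      suffices ξ = 0 by rw [this, Functor.map_zero]
      refine eq_zero_of_comp_shiftMap f ξ (exists_finite_sum (isPerfect_shift hC (-1)) E hEq ξ) ?_
      apply (shiftFunctor (DCoh.D X) (1 : ℤ)).map_injective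
      rw [Functor.map_comp, hξ, Functor.map_zero, Category.assoc, Category.assoc]
      exact (congrArg (fun k => _ ≫ φ ≫ k) (comp_distTriang_mor_zero₃₁ _ hL)).trans
        ((congrArg (_ ≫ ·) comp_zero).trans comp_zero)
    obtain ⟨α, hα⟩ : ∃ α, φ = α ≫ p := Triangle.coyoneda_exact₃ _ hL φ h1
    obtain ⟨T, h, hT⟩ := exists_finite_sum hC E hEq α
    -- move all summands to one stage
    obtain ⟨N, hN⟩ : ∃ N, ∀ n ∈ T, n ≤ N := ⟨T.sup id, fun n hn => Finset.le_sup (f := id) hn⟩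
    have hpush : ∀ n ∈ T, ∃ ψ : C ⟶ E N, h n ≫ ι n = ψ ≫ ι N := fun n hn => by
      obtain ⟨m, rfl⟩ := Nat.exists_eq_add_of_le (hN n hn)
      exact ⟨h n ≫ towerMap E f n m, by rw [Category.assoc, towerMap_comp hι]⟩
    choose ψ hψ using hpush
    refine ⟨N, ∑ n ∈ T.attach, ψ n.1 n.2, ?_⟩
    rw [hα, hT, Preadditive.sum_comp, Preadditive.sum_comp, ← Finset.sum_attach]
    exact Finset.sum_congr rfl fun n _ => (Category.assoc _ _ _).trans (hψ n.1 n.2)
  have hinj : ∀ (n : ℤ) (φ : G⟦n⟧ ⟶ L), φ ≫ θ = 0 → φ = 0 := fun n φ hφ => by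
    obtain ⟨m, ψ, rfl⟩ := hfac (isPerfect_shift hG n) φ
    rw [Category.assoc, hιθ] at hφ
    obtain ⟨k, hk⟩ := hkill n m ψ hφ
    rw [← towerMap_comp hι m k, ← Category.assoc, hk, zero_comp]
  have hsurj : ∀ (n : ℤ) (φ : G⟦n⟧ ⟶ K), ∃ ψ : G⟦n⟧ ⟶ L, ψ ≫ θ = φ := fun n φ => by
    obtain ⟨m, ψ, hψ⟩ := hlift n φ
    exact ⟨ψ ≫ ι m, by rw [Category.assoc, hιθ, hψ]⟩
  obtain ⟨Z, q, r, hZ⟩ := distinguished_cocone_triangle θ
  have hZ0 : IsZero Z := hgen Z (isQCohD_obj₃' _ hZ hLq hKq) fun n φ => by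
    have h1 : φ ≫ r = 0 := by
      -- transfer along the shift
      let a := (shiftFunctorAdd' (DCoh.D X) (n - 1) 1 n (by omega)).hom.app G
      let a' := (shiftFunctorAdd' (DCoh.D X) (n - 1) 1 n (by omega)).inv.app G
      obtain ⟨ξ, hξ⟩ := (shiftFunctor (DCoh.D X) (1 : ℤ)).map_surjective (a' ≫ φ ≫ r)
      have hξ0 : ξ = 0 := by
        refine hinj (n - 1) ξ ((shiftFunctor (DCoh.D X) (1 : ℤ)).map_injective ?_)
        rw [Functor.map_comp, hξ, Functor.map_zero, Category.assoc, Category.assoc]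
        exact (congrArg (fun k => a' ≫ φ ≫ k) (comp_distTriang_mor_zero₃₁ _ hZ)).trans
          ((congrArg (a' ≫ ·) comp_zero).trans comp_zero)
      rw [hξ0, Functor.map_zero] at hξ
      rw [← cancel_epi a', comp_zero]
      exact hξ.symm
    obtain ⟨χ, hχ⟩ : ∃ χ, φ = χ ≫ q := Triangle.coyoneda_exact₃ _ hZ φ h1
    obtain ⟨ψ, rfl⟩ := hsurj n χ
    rw [hχ, Category.assoc]
    exact (congrArg (ψ ≫ ·) (comp_distTriang_mor_zero₁₂ _ hZ)).trans comp_zero
  haveI : IsIso θ := (Triangle.isZero₃_iff_isIso₁ _ hZ).1 hZ0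
  refine ⟨E, f, i, hE, inv θ ≫ c, isomorphic_distinguished _ hL _ (Triangle.isoMk _ _ (Iso.refl _) (Iso.refl _)
    (asIso θ).symm ((Category.comp_id _).trans (Category.id_comp _).symm) ?_ ?_)⟩
  · show Sigma.desc i ≫ inv θ = 𝟙 _ ≫ p
    rw [hθ, Category.assoc, IsIso.hom_inv_id, Category.comp_id, Category.id_comp]
  · show (inv θ ≫ c) ≫ (shiftFunctor (DCoh.D X) (1 : ℤ)).map (𝟙 _) = inv θ ≫ c
    rw [CategoryTheory.Functor.map_id, Category.comp_id]

end Groth.Agent.DCohMore
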