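import Groth.Agent.DCohMore.GenBoundedLocal

/-! The boundedness criterion on quasi-compact quasi-separated schemes. -/

set_option autoImplicit false
set_option linter.style.haveILetI false
set_option backward.isDefEq.respectTransparency false

universe u

open CategoryTheory Limits AlgebraicGeometry Pretriangulated ZeroObject
attribute [local instance] HasDerivedCategory.standard

noncomputable section

namespace Groth.Agent.DCohMore

open Groth.Agent.DRingLib Groth.Agent.DCohLib

/-- Half-line vanishing forces boundedness. -/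
def VanBd (up : Bool) (X : Scheme.{u}) : Prop :=
  ∀ E : DCoh.D X, DCoh.IsQCohD E → Van up E → Bd up E

theorem VanBd.of_isEmpty (up : Bool) {X : Scheme.{u}} [IsEmpty X] : VanBd up X := fun E _ _ =>
  ⟨0, fun i _ => (DerivedCategory.homologyFunctor _ i).map_isZero (isZero_of_isEmpty E)⟩

theorem VanBd.of_iso {up : Bool} {X Y : Scheme.{u}} (e : X ≅ Y) (h : VanBd up X) : VanBd up Y := by
  intro E hq hE
  haveI : (DCoh.restrictD e.inv).IsEquivalence := (restrictDEquiv e).isEquivalence_inverse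
  let F := (DCoh.restrictD e.hom).obj E
  obtain ⟨N, hN⟩ := h F (TildeD.isQCohD_restrict e.hom E hq) fun P hP => by
    obtain ⟨N, hN⟩ := hE ((DCoh.restrictD e.inv).obj P) (isPerfect_restrict e.inv hP)
    refine ⟨N, fun i hi φ => ?_⟩
    apply (DCoh.restrictD e.inv).map_injective
    rw [Functor.map_zero, ← cancel_mono ((((DCoh.restrictD e.inv).commShiftIso i).app F) ≪≫
      (shiftFunctor (DCoh.D Y) i).mapIso ((restrictDEquiv e).unitIso.app E).symm).hom, zero_comp]
    exact hN i hi _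
  refine ⟨N, fun i hi => isZero_of_local fun y => ⟨X, e.hom, inferInstance, e.inv.base y, ?_, ?_⟩⟩
  · rw [← Scheme.Hom.comp_apply, e.inv_hom_id]; rfl
  · exact (hN i hi).of_iso (restrictHDIso e.hom E i).symm

theorem vanBd_main (up : Bool) (X : Scheme.{u}) [CompactSpace X] [QuasiSeparatedSpace X] : VanBd up X := by
  suffices H : ∀ S : X.Opens, IsCompact (S : Set X) → VanBd up (S : Scheme.{u}) from
    VanBd.of_iso X.topIso (H ⊤ isCompact_univ)
  intro S hS
  refine compact_open_induction_on S hS ?_ ?_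
  · haveI : IsEmpty ((⊥ : X.Opens) : Scheme.{u}) := ⟨fun x => x.2⟩
    exact VanBd.of_isEmpty up
  · intro S hS U hSgen
    let Y : X.Opens := S ⊔ U.1
    have hY : IsCompact (Y : Set X) := hS.union U.2.isCompact
    haveI : CompactSpace (Y : Scheme.{u}) := isCompact_iff_compactSpace.1 hY
    haveI : QuasiSeparatedSpace (Y : Scheme.{u}) := quasiSeparatedSpace_of_quasiSeparated Y.ι
    have hr : Set.range U.2.fromSpec ⊆ Set.range Y.ι := by
      rw [IsAffineOpen.range_fromSpec, Scheme.Opens.range_ι]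
      exact fun x hx => Or.inr hx
    let j : Spec (CommRingCat.of Γ(X, U.1)) ⟶ (Y : Scheme.{u}) := IsOpenImmersion.lift Y.ι U.2.fromSpec hr
    have hj : j ≫ Y.ι = U.2.fromSpec := IsOpenImmersion.lift_fac _ _ _
    haveI : IsOpenImmersion (j ≫ Y.ι) := by rw [hj]; infer_instance
    haveI : IsOpenImmersion j := IsOpenImmersion.of_comp j Y.ι
    let S' : Y.toScheme.Opens := Y.ι ⁻¹ᵁ S
    have hS' : IsCompact (S' : Set (Y : Scheme.{u})) := by
      rw [Y.ι.isOpenEmbedding.isEmbedding.isCompact_iff]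
      refine (congrArg IsCompact ?_).mpr hS
      exact (Set.image_preimage_eq_inter_range).trans
        (Set.inter_eq_left.2 (by rw [Scheme.Opens.range_ι]; exact le_sup_left))
    refine fun E hq hE => bd_step up S' hS' j ?_ ?_ E hq hE
    · refine eq_top_iff.2 fun y _ => ?_
      rcases (y.2 : y.1 ∈ S ⊔ U.1) with h | h
      · exact Or.inl h
      · refine Or.inr ?_
        obtain ⟨z, hz⟩ : y.1 ∈ Set.range U.2.fromSpec := by rw [IsAffineOpen.range_fromSpec]; exact h
        refine ⟨z, Y.ι.isOpenEmbedding.injective ?_⟩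
        rw [← Scheme.Hom.comp_apply, hj]
        exact hz
    · haveI : IsIso (Y.ι ∣_ S) := by
        haveI : Surjective (Y.ι ∣_ S) := ⟨fun x => ⟨⟨⟨x.1, Or.inl x.2⟩, x.2⟩, S.ι.isOpenEmbedding.injective (by
          simpa using congrArg (fun g : (Y.ι ⁻¹ᵁ S : Scheme.{u}) ⟶ X => g ⟨⟨x.1, Or.inl x.2⟩, x.2⟩)
            (morphismRestrict_ι Y.ι S))⟩⟩
        haveI : Epi (Y.ι ∣_ S).base := (TopCat.epi_iff_surjective _).2 (Y.ι ∣_ S).surjective
        exact IsOpenImmersion.isIso _
      exact VanBd.of_iso (asIso (Y.ι ∣_ S)).symm hSgen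

theorem bd_iff_generator {X : Scheme.{u}} [CompactSpace X] [QuasiSeparatedSpace X] {G : DCoh.D X}
    (hG : DCoh.IsPerfect G)
    (hgen : ∀ E : DCoh.D X, DCoh.IsQCohD E → (∀ (n : ℤ) (φ : G⟦n⟧ ⟶ E), φ = 0) → IsZero E)
    (up : Bool) (E : DCoh.D X) (hq : DCoh.IsQCohD E) :
    Bd up E ↔ ∃ N, ∀ i, Ray up N i → ∀ φ : G⟦-i⟧ ⟶ E, φ = 0 := by
  constructor
  · intro h
    obtain ⟨N, hN⟩ := van_of_bd hq h G hG
    exact ⟨N, fun i hi => hom_shift_zero' i (hN i hi)⟩
  · rintro ⟨N, hN⟩
    exact vanBd_main up X E hq (van_of_generator hG hgen up E ⟨N, fun i hi => hom_shift_zero i (hN i hi)⟩)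

end Groth.Agent.DCohMore
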