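import Groth.Agent.DCohMore.AffineVanish
import Groth.Agent.DCohMore.CountableHom
import Groth.Agent.DCohMore.GenBoundedMain
import Groth.Agent.DCohMore.BvdBStep
/-!
The quasi-coherator is of bounded cohomological amplitude.
-/

set_option autoImplicit false
set_option backward.isDefEq.respectTransparency false
set_option linter.style.haveILetI false
set_option maxHeartbeats 1000000

universe u

open CategoryTheory CategoryTheory.Limits AlgebraicGeometry TopologicalSpace Opposite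
open CategoryTheory.Pretriangulated

attribute [local instance] HasDerivedCategory.standard

noncomputable section

namespace Groth.Agent.DCohMore

open Groth.Agent.DCohLib

variable {X : Scheme.{u}}

/-- The shifts above `b` of the object have no sections on affine opens. -/
def GoodUp (K : DCoh.D X) (b : ℤ) : Prop :=
  ∀ (V : X.Opens) (hV : IsAffineOpen V) (q : ℤ), b < q →
    ∀ φ : RlimCrit.sgl 0 (TildeD.OSpec Γ(X, V)) ⟶ (DCoh.restrictD hV.fromSpec).obj (K⟦q⟧), φ = 0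

/-- Vanishing of the maps out of a perfect object above a range, over an open. -/
def VanUp (V : X.Opens) : Prop :=
  ∀ E : DCoh.D X, DCoh.IsPerfect E → ∃ c : ℤ, ∀ (K : DCoh.D X) (b : ℤ), GoodUp K b →
    ∀ (Y : Scheme.{u}) (j : Y ⟶ X) [IsOpenImmersion j], j.opensRange = V → ∀ q : ℤ, b + c < q →
      ∀ φ : (DCoh.restrictD j).obj E ⟶ (DCoh.restrictD j).obj (K⟦q⟧), φ = 0

theorem vanUp_perf (V : X.Opens) (hV : IsAffineOpen V)
    [PreservesFiniteLimits (tilde.functor Γ(X, V))] {P : Dual.D Γ(X, V)}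
    (hP : DRingLib.Perf DRingLib.FProj P) :
    ∃ c : ℤ, ∀ (K : DCoh.D X) (b : ℤ), GoodUp K b → ∀ q : ℤ, b + c < q →
      ∀ φ : (DCoh.tildeD Γ(X, V)).obj P ⟶ (DCoh.restrictD hV.fromSpec).obj (K⟦q⟧), φ = 0 := by
  let T := DCoh.tildeD Γ(X, V)
  refine DRingLib.class_of_perf (P := fun Q => ∃ c : ℤ, ∀ (K : DCoh.D X) (b : ℤ), GoodUp K b → ∀ q : ℤ, b + c < q →
      ∀ φ : T.obj Q ⟶ (DCoh.restrictD hV.fromSpec).obj (K⟦q⟧), φ = 0) ?_ ?_ ?_ ?_ ?_ hP
  · rintro K' L' e ⟨c, hc⟩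
    exact ⟨c, fun K b hK q hq φ => by
      rw [← cancel_epi (T.mapIso e).hom, comp_zero]; exact hc K b hK q hq _⟩
  · intro S hS ⟨c₁, h₁⟩ ⟨c₃, h₃⟩
    refine ⟨max c₁ c₃, fun K b hK q hq φ => ?_⟩
    obtain ⟨g, hg⟩ := Triangle.yoneda_exact₂ _ (T.map_distinguished S hS) φ
      (h₁ K b hK q (by omega) _)
    have hg0 : g = 0 := h₃ K b hK q (by omega) g
    rw [hg, hg0]
    exact comp_zero
  · rintro A B _ ⟨c, hc⟩
    refine ⟨c, fun K b hK q hq φ => ?_⟩
    haveI : Epi (T.map (biprod.fst : A ⊞ B ⟶ A)) := by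
      haveI : IsSplitEpi (biprod.fst : A ⊞ B ⟶ A) := ⟨⟨{ section_ := biprod.inl }⟩⟩
      infer_instance
    rw [← cancel_epi (T.map (biprod.fst : A ⊞ B ⟶ A)), comp_zero]
    exact hc K b hK q hq _
  · obtain ⟨e⟩ := TildeD.exists_iso_sgl Γ(X, V) 0
    refine ⟨0, fun K b hK q hq φ => ?_⟩
    let e' : RlimCrit.sgl 0 (ModuleCat.of Γ(X, V) Γ(X, V)) ≅ Dual.inD Γ(X, V) Γ(X, V) :=
      ((DerivedCategory.singleFunctorIsoCompQ (ModuleCat.{u} Γ(X, V)) 0).app _).symm
    rw [← cancel_epi (T.mapIso e').hom, ← cancel_epi e.inv, comp_zero, comp_zero]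
    exact hK V hV q (by omega) _
  · rintro Q n ⟨c, hc⟩
    refine ⟨c + n, fun K b hK q hq φ => ?_⟩
    rw [← cancel_epi ((T.commShiftIso n).inv.app Q), comp_zero]
    let R := DCoh.restrictD hV.fromSpec
    let s : R.obj (K⟦q⟧) ≅ (R.obj (K⟦q - n⟧))⟦n⟧ :=
      R.mapIso ((shiftFunctorAdd' (DCoh.D X) (q - n) n q (by omega)).app K) ≪≫
        (R.commShiftIso n).app (K⟦q - n⟧)
    obtain ⟨g, hg⟩ := (shiftFunctor _ n).map_surjective ((T.commShiftIso n).inv.app Q ≫ φ ≫ s.hom)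
    rw [← cancel_mono s.hom, zero_comp, Category.assoc, ← hg, hc K b hK (q - n) (by omega) g, Functor.map_zero]

theorem vanUp_of_affine (V : X.Opens) (hV : IsAffineOpen V) : VanUp V := fun E hE => by
  haveI : PreservesFiniteLimits (tilde.functor Γ(X, V)) := TildeD.preservesFiniteLimits_tilde
  haveI : PreservesFiniteLimits (tilde.functor (CommRingCat.of Γ(X, V))) := TildeD.preservesFiniteLimits_tilde
  obtain ⟨P, eP, -⟩ := exists_model (A := Γ(X, V)) hV.fromSpec E (isQCohD_of_isPerfect hE)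
  obtain ⟨c, hc⟩ := vanUp_perf V hV ((TildePerf.perfect_tilde_iff P).1 (isPerfect_iso eP.symm (isPerfect_restrict _ hE)))
  refine ⟨c, fun K b hK Y j _ hj q hq φ => ?_⟩
  let k : Spec Γ(X, V) ≅ Y := IsOpenImmersion.isoOfRangeEq hV.fromSpec j (by
    rw [hV.range_fromSpec, ← hj]; rfl)
  have hk : k.hom ≫ j = hV.fromSpec := IsOpenImmersion.isoOfRangeEq_hom_fac _ _ _
  haveI : (DCoh.restrictD k.hom).Faithful := inferInstanceAs (restrictDEquiv k).functor.Faithful
  let c' := (restrictDComp k.hom j).symm ≪≫ restrictDCongr hk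
  apply (DCoh.restrictD k.hom).map_injective
  rw [Functor.map_zero, ← cancel_epi (c'.inv.app E), ← cancel_epi eP.hom, ← cancel_mono (c'.hom.app (K⟦q⟧))]
  simp only [comp_zero, zero_comp, Category.assoc]
  exact hc K b hK q hq _

theorem vanUp_sup (a b : X.Opens) (ha : VanUp a) (hb : VanUp b) (hab : VanUp (a ⊓ b)) : VanUp (a ⊔ b) :=
  fun E hE => by
  obtain ⟨c₁, h₁⟩ := ha E hE
  obtain ⟨c₂, h₂⟩ := hb E hE
  obtain ⟨c₃, h₃⟩ := hab (E⟦(1 : ℤ)⟧) (isPerfect_shift hE 1)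
  refine ⟨max c₁ (max c₂ c₃), fun K m hK Y j _ hj q hq φ => ?_⟩
  have hUV : j ⁻¹ᵁ a ⊔ j ⁻¹ᵁ b = ⊤ := by
    refine top_unique fun y _ => ?_
    have hy : j y ∈ a ⊔ b := hj ▸ ⟨y, rfl⟩
    exact hy
  haveI : DCoh.HasRpush (j ⁻¹ᵁ a).ι := Groth.Agent.KInj.hasRightDerivedFunctor (hres_modules _) _
  haveI : DCoh.HasRpush (j ⁻¹ᵁ b).ι := Groth.Agent.KInj.hasRightDerivedFunctor (hres_modules _) _
  haveI : DCoh.HasRpush (j ⁻¹ᵁ a ⊓ j ⁻¹ᵁ b).ι := Groth.Agent.KInj.hasRightDerivedFunctor (hres_modules _) _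
  have key : ∀ (E' K' : DCoh.D X) (W : Y.Opens) [DCoh.HasRpush W.ι] (c : X.Opens), (∀ y, y ∈ W ↔ j y ∈ c) →
      c ≤ j.opensRange → (∀ (Y' : Scheme.{u}) (j' : Y' ⟶ X) [IsOpenImmersion j'], j'.opensRange = c →
        ∀ ψ : (DCoh.restrictD j').obj E' ⟶ (DCoh.restrictD j').obj K', ψ = 0) →
      ∀ ψ : (DCoh.restrictD j).obj E' ⟶
        (DCoh.Rpush W.ι).obj ((DCoh.restrictD W.ι).obj ((DCoh.restrictD j).obj K')), ψ = 0 := by
    intro E' K' W _ c hW hle h ψ
    have hr : (W.ι ≫ j).opensRange = c := by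
      refine Opens.ext (Set.ext fun x => ⟨?_, fun hx => ?_⟩)
      · rintro ⟨y, rfl⟩; exact (hW y.1).1 y.2
      · obtain ⟨y, rfl⟩ : x ∈ j.opensRange := hle hx
        exact ⟨⟨y, (hW y).2 hx⟩, rfl⟩
    let e := restrictDComp W.ι j
    haveI : Subsingleton ((DCoh.restrictD W.ι).obj ((DCoh.restrictD j).obj E') ⟶
        (DCoh.restrictD W.ι).obj ((DCoh.restrictD j).obj K')) := by
      haveI : Subsingleton ((DCoh.restrictD (W.ι ≫ j)).obj E' ⟶ (DCoh.restrictD (W.ι ≫ j)).obj K') :=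
        ⟨fun x y => (h _ _ hr x).trans (h _ _ hr y).symm⟩
      exact (Iso.homCongr ((e.app E').symm) ((e.app K').symm)).injective.subsingleton
    let adj := (lpullRpushAdj W.ι).ofNatIsoLeft (lpullRestrictNatIso W.ι)
    haveI := (adj.homEquiv ((DCoh.restrictD j).obj E')
      ((DCoh.restrictD W.ι).obj ((DCoh.restrictD j).obj K'))).symm.injective.subsingleton
    exact Subsingleton.elim _ _
  obtain ⟨α, β, γ, hT⟩ := exists_mv_triangle_rpush_open (j ⁻¹ᵁ a) (j ⁻¹ᵁ b) hUV ((DCoh.restrictD j).obj (K⟦q⟧))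
  have hφ : φ ≫ α = 0 := by
    apply biprod.hom_ext <;> rw [zero_comp]
    · exact key E (K⟦q⟧) _ a (fun _ => Iff.rfl) (hj ▸ le_sup_left)
        (fun Y' j' _ hj' => h₁ K m hK Y' j' hj' q (by omega)) _
    · exact key E (K⟦q⟧) _ b (fun _ => Iff.rfl) (hj ▸ le_sup_right)
        (fun Y' j' _ hj' => h₂ K m hK Y' j' hj' q (by omega)) _
  obtain ⟨g, hg⟩ := Triangle.coyoneda_exact₂ _ (inv_rot_of_distTriang _ hT) φ hφ
  have hg0 : g = 0 := by
    refine hom_shift_zero (-1 : ℤ) (fun ψ => ?_) g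
    rw [← cancel_epi (((DCoh.restrictD j).commShiftIso (-(-1) : ℤ)).hom.app E), comp_zero]
    exact key (E⟦-(-1 : ℤ)⟧) (K⟦q⟧) _ (a ⊓ b) (fun _ => Iff.rfl) (hj ▸ inf_le_left.trans le_sup_left)
      (fun Y' j' _ hj' => h₃ K m hK Y' j' hj' q (by omega)) _
  rw [hg, hg0]
  exact zero_comp

theorem exists_vanUp [CompactSpace X] [QuasiSeparatedSpace X] {E : DCoh.D X} (hE : DCoh.IsPerfect E) :
    ∃ c : ℤ, ∀ (K : DCoh.D X) (b : ℤ), GoodUp K b → ∀ q : ℤ, b + c < q → ∀ φ : E ⟶ K⟦q⟧, φ = 0 := by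
  obtain ⟨c, hc⟩ := AdeqShLib.qcqs_induction (P := VanUp (X := X)) vanUp_of_affine vanUp_sup E hE
  refine ⟨c, fun K b hK q hq φ => ?_⟩
  have := hc K b hK X (𝟙 X) (by ext; simp) q hq
    (((restrictDId X).hom.app E) ≫ φ ≫ (restrictDId X).inv.app (K⟦q⟧))
  rwa [← cancel_epi ((restrictDId X).hom.app E), ← cancel_mono ((restrictDId X).inv.app (K⟦q⟧)), comp_zero,
    zero_comp, Category.assoc]

/-- The quasi-coherator has bounded cohomological amplitude. -/
theorem dq_bounded (X : Scheme.{u}) [CompactSpace X] [QuasiSeparatedSpace X]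
    [(ObjectProperty.ι (DCoh.IsQCohD (X := X))).IsLeftAdjoint] [∀ U : X.Opens, DCoh.HasRΓ (U : Scheme.{u})] :
    ∃ N : ℕ, ∀ (K : DCoh.D X) (a b : ℤ),
      (∀ U : X.Opens, IsAffineOpen U → ∀ i : ℤ, (i < a ∨ b < i) →
        IsZero ((DerivedCategory.homologyFunctor AddCommGrpCat.{u} i).obj
          ((DCoh.RΓ (U : Scheme.{u})).obj ((DCoh.restrictD U.ι).obj K)))) →
      ∀ i : ℤ, (i < a ∨ b + (N : ℤ) < i) →
        IsZero (DCoh.HD (((ObjectProperty.ι (DCoh.IsQCohD (X := X))).rightAdjoint.obj K).obj) i) := by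
  classical
  let ι := ObjectProperty.ι (DCoh.IsQCohD (X := X))
  let adj := Adjunction.ofIsLeftAdjoint ι
  let t : CategoryTheory.Triangulated.TStructure (DCoh.D X) := DerivedCategory.TStructure.t
  let ε : ∀ K : DCoh.D X, (ι.rightAdjoint.obj K).obj ⟶ K := fun K => adj.counit.app K
  have hinj : ∀ (Q : DCoh.D X) (_ : DCoh.IsQCohD Q) (K : DCoh.D X) (g : Q ⟶ (ι.rightAdjoint.obj K).obj),
      g ≫ ε K = 0 → g = 0 := fun Q hQ K g hg => by
    let Q' : ObjectProperty.FullSubcategory (DCoh.IsQCohD (X := X)) := ⟨Q, hQ⟩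
    obtain ⟨g', rfl⟩ := ι.map_surjective (X := Q') (Y := ι.rightAdjoint.obj K) g
    have h1 : g' = 0 := (adj.homEquiv Q' K).symm.injective (by
      rw [Adjunction.homEquiv_counit, Adjunction.homEquiv_counit]
      exact hg.trans (by rw [Functor.map_zero, zero_comp]))
    rw [h1, Functor.map_zero]
  have lower : ∀ (K : DCoh.D X) (a : ℤ),
      (∀ U : X.Opens, IsAffineOpen U → ∀ i : ℤ, i < a →
        IsZero ((DerivedCategory.homologyFunctor AddCommGrpCat.{u} i).obj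
          ((DCoh.RΓ (U : Scheme.{u})).obj ((DCoh.restrictD U.ι).obj K)))) →
      ∀ i : ℤ, i < a → IsZero (DCoh.HD (ι.rightAdjoint.obj K).obj i) := by
    intro K a hK i hi
    obtain ⟨I, hI, ⟨e⟩, hI'⟩ := exists_resolution_secExact K
    have hGE : K.IsGE a := (DerivedCategory.isGE_iff _ _).2 fun n hn => by
      have hex : I.ExactAt n := Groth.Agent.S11114.exactAt_of_affine_sections I n
        fun U hU => hI' U n (hK U hU n hn)
      exact (((HomologicalComplex.exactAt_iff_isZero_homology _ _).1 hex).of_iso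
        ((DerivedCategory.homologyFunctorFactors X.Modules n).app I)).of_iso
        ((DerivedCategory.homologyFunctor X.Modules n).mapIso e)
    let R := (ι.rightAdjoint.obj K).obj
    have hR : DCoh.IsQCohD R := (ι.rightAdjoint.obj K).property
    have h0 : (t.truncLTι a).app R = 0 := hinj _ (isQCohD_truncLT hR a) K _ (by
      haveI : t.IsLE ((t.truncLT a).obj R) (a - 1) := t.isLE_truncLT_obj R a _ (by omega)
      haveI : t.IsGE K a := hGE
      exact t.zero _ (a - 1) a (by omega))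
    haveI := DCohLib.isIso_homology_truncLTι R a i hi
    refine IsZero.of_iso ?_
      (asIso ((DerivedCategory.homologyFunctor X.Modules i).map ((t.truncLTι a).app R))).symm
    rw [IsZero.iff_id_eq_zero, ← cancel_mono ((DerivedCategory.homologyFunctor X.Modules i).map ((t.truncLTι a).app R)),
      zero_comp, Category.id_comp, h0, Functor.map_zero]
  by_contra hcon
  push_neg at hcon
  choose K a b hK i hi hne using hcon
  have hi' : ∀ m, b m + (m : ℤ) < i m := fun m => (hi m).resolve_left fun h =>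
    hne m (lower (K m) (a m) (fun U hU n hn => hK m U hU n (Or.inl hn)) (i m) h)
  have hgood : ∀ m, GoodUp (K m) (b m) := fun m V hV q hq φ => by
    obtain ⟨I, hI, ⟨e⟩, hI'⟩ := exists_resolution_secExact (K m)
    haveI := hI
    let e' : (K m)⟦q⟧ ≅ DerivedCategory.Q.obj (I⟦q⟧) :=
      (shiftFunctor (DCoh.D X) q).mapIso e ≪≫ ((DerivedCategory.Q.commShiftIso q).app I).symm
    rw [← cancel_mono ((DCoh.restrictD hV.fromSpec).mapIso e').hom, zero_comp]
    exact eq_zero_of_secExact hV I q (secExact_of_exactAt I V q (hI' V q (hK m V hV q (Or.inr hq)))) _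
  obtain ⟨G, hG, -, hgen⟩ := gen_main (X := X) Set.univ isClosed_univ (by simp)
  obtain ⟨c, hc⟩ := exists_vanUp hG
  let L : ULift.{u} ℕ → DCoh.D X := fun m => ((ι.rightAdjoint.obj (K m.down)).obj)⟦b m.down⟧
  have hL : ∀ m, DCoh.IsQCohD (L m) := fun m => isQCohD_shift' (ι.rightAdjoint.obj (K m.down)).property _
  haveI := hasCoproduct_D' L
  have hvan : ∀ q, c + 1 ≤ q → ∀ φ : G⟦-q⟧ ⟶ ∐ L, φ = 0 := by
    intro q hq φ
    obtain ⟨T, hT⟩ := absorbs_of_isPerfect (isPerfect_shift hG (-q)) L hL φ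
    rw [← hT, sigmaTrunc, Preadditive.comp_sum]
    refine Finset.sum_eq_zero fun m _ => ?_
    have h1 : ∀ ψ : G⟦-q⟧ ⟶ L m, ψ = 0 := by
      intro ψ
      let R := (ι.rightAdjoint.obj (K m.down)).obj
      obtain ⟨χ, hχ⟩ : ∃ χ : G⟦-q⟧ ⟶ R⟦b m.down⟧, χ = ψ := ⟨ψ, rfl⟩
      rw [← hχ]
      refine hom_shift_zero (b m.down) (fun ω => ?_) χ
      refine hinj _ (isQCohD_shift' (isQCohD_shift' (isQCohD_of_isPerfect hG) _) _) _ ω ?_
      rw [← cancel_epi ((shiftFunctorAdd' (DCoh.D X) (-q) (-b m.down) (-(q + b m.down)) (by omega)).hom.app G), comp_zero]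
      exact hom_shift_zero' (q + b m.down) (hc (K m.down) (b m.down) (hgood m.down) (q + b m.down) (by omega)) _
    rw [show φ ≫ sigmaProj (coproductIsCoproduct L) m ≫ (Cofan.mk (∐ L) (Sigma.ι L)).inj m =
      (φ ≫ sigmaProj (coproductIsCoproduct L) m) ≫ (Cofan.mk (∐ L) (Sigma.ι L)).inj m from (Category.assoc _ _ _).symm,
      h1 (φ ≫ sigmaProj (coproductIsCoproduct L) m), zero_comp]
  obtain ⟨N, hN⟩ := (bd_iff_generator hG
    (fun Z hZ h => hgen Z hZ (fun i x _ => Set.mem_univ x) (hom_shift_left h)) true _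
    (isQCohD_coproduct L hL)).2 ⟨c + 1, fun q hq => hvan q hq⟩
  let m : ℕ := N.toNat
  let k := i m - b m
  have hk : IsZero (DCoh.HD (∐ L) k) := hN k (by
    have := hi' m
    show N ≤ k
    omega)
  have hzero : IsZero (DCoh.HD (L ⟨m⟩) k) := by
    let H := DerivedCategory.homologyFunctor X.Modules k
    rw [IsZero.iff_id_eq_zero]
    have : (Sigma.ι L ⟨m⟩) ≫ sigmaProj (coproductIsCoproduct L) ⟨m⟩ = 𝟙 (L ⟨m⟩) :=
      inj_sigmaProj_self (coproductIsCoproduct L) ⟨m⟩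
    rw [← CategoryTheory.Functor.map_id H, ← this, Functor.map_comp, hk.eq_of_tgt (H.map (Sigma.ι L ⟨m⟩)) 0, zero_comp]
  exact hne m (hzero.of_iso
    (((DerivedCategory.homologyFunctor X.Modules 0).shiftIso (b m) k (i m) (by omega)).app _).symm)

end Groth.Agent.DCohMore
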