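import Groth.Agent.DCohMore.DescFPPF
import Groth.Agent.TildePerf.Amp
import Groth.Agent.TildeLpull.Main
import Groth.Agent.TildeD.QCohPull
import Groth.Agent.DCohLib.PerfCrit
import Groth.Agent.DCohLib.QCohHD
import Groth.Agent.DRingLib.FFDescent
import Groth.Agent.FpqcQCoh.Global

/-!
# Descent of perfect and pseudo-coherent objects
-/

set_option autoImplicit false
set_option linter.style.haveILetI false
set_option maxHeartbeats 800000
set_option backward.isDefEq.respectTransparency false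

universe u

open CategoryTheory CategoryTheory.Limits AlgebraicGeometry TopologicalSpace
open CategoryTheory.Pretriangulated
open scoped TensorProduct

attribute [local instance] HasDerivedCategory.standard

noncomputable section

namespace Groth.Agent.DCohMore

open Groth.Agent.DCohLib Groth.Agent.DTenLib

/-- A flat family of ring maps covering the spectrum detects zero modules. -/
theorem ffFamily_of_cover {A : Type u} [CommRing A] {ι : Type} {B : ι → Type u} [∀ k, CommRing (B k)]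
    (φ : ∀ k, A →+* B k) (hflat : ∀ k, (φ k).Flat)
    (hsurj : ∀ p : PrimeSpectrum A, ∃ k q, PrimeSpectrum.comap (φ k) q = p) :
    DRingLib.FFFamily B φ := by
  have hfl : ∀ k, Module.Flat A (baseMod (φ k)) := fun k => by
    letI := (φ k).toAlgebra
    haveI : Module.Flat A (B k) := hflat k
    let e : baseMod (φ k) ≃ₗ[A] B k :=
      { (AddEquiv.refl (B k)) with map_smul' := fun a (b : B k) => (Algebra.smul_def a b).symm }
    exact Module.Flat.of_linearEquiv e
  refine ⟨hfl, fun M h => ?_⟩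
  haveI : Subsingleton M := subsingleton_of_forall_eq 0 fun x => by
    let I : Ideal A := LinearMap.ker (LinearMap.toSpanSingleton A M x)
    suffices hI : I = ⊤ by
      have h1 : (1 : A) ∈ I := hI ▸ Submodule.mem_top
      simpa [I] using h1
    by_contra hI
    obtain ⟨p, hp, hIp⟩ := Ideal.exists_le_maximal I hI
    obtain ⟨k, q, hq⟩ := hsurj ⟨p, hp.isPrime⟩
    let f : A ⧸ I →ₗ[A] M := Submodule.liftQ I (LinearMap.toSpanSingleton A M x) le_rfl
    have hf : Function.Injective f := LinearMap.ker_eq_bot.1 (Submodule.ker_liftQ_eq_bot _ _ _ le_rfl)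
    haveI : Subsingleton (baseMod (φ k) ⊗[A] M) := ModuleCat.subsingleton_of_isZero (h k)
    haveI := hfl k
    haveI : Subsingleton (baseMod (φ k) ⊗[A] (A ⧸ I)) :=
      (Module.Flat.lTensor_preserves_injective_linearMap f hf).subsingleton
    haveI := (TensorProduct.tensorQuotEquivQuotSMul (baseMod (φ k)) I).symm.injective.subsingleton
    have h1 : (show baseMod (φ k) from (1 : B k)) ∈ I • (⊤ : Submodule A (baseMod (φ k))) :=
      (Submodule.Quotient.mk_eq_zero _).1 (Subsingleton.elim _ _)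
    have h2 : ∀ b : baseMod (φ k), b ∈ I • (⊤ : Submodule A (baseMod (φ k))) →
        (show B k from b) ∈ q.asIdeal := fun b hb => by
      refine Submodule.smul_induction_on hb (fun a ha c _ => ?_) fun c d hc hd => q.asIdeal.add_mem hc hd
      have ha' : φ k a ∈ q.asIdeal := by
        have : a ∈ (PrimeSpectrum.comap (φ k) q).asIdeal := by rw [hq]; exact hIp ha
        exact this
      exact q.asIdeal.mul_mem_right (show B k from c) ha'
    exact q.isPrime.ne_top ((Ideal.eq_top_iff_one _).2 (h2 _ h1))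
  exact ModuleCat.isZero_of_subsingleton M

variable {X' X : Scheme.{u}} (f : X' ⟶ X) [DCoh.HasLpull f]

/-- The affine chart of a descent problem. -/
theorem exists_chart [Flat f] (E : DCoh.D X) (hE : DCoh.IsQCohD E) {W : X.Opens}
    (hW : IsAffineOpen W) (hl : PullbackMod.HasAffineLift f W)
    [PreservesFiniteLimits (tilde.functor Γ(X, W))] :
    ∃ (M : Dual.D Γ(X, W)) (_ : (DCoh.tildeD Γ(X, W)).obj M ≅ (DCoh.restrictD hW.fromSpec).obj E)
      (n : ℕ) (B : Fin n → CommRingCat.{u}) (φ : ∀ k, Γ(X, W) →+* B k),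
      DRingLib.FFFamily (fun k => (B k : Type u)) φ ∧
      ∀ k, ∀ [DRing.HasLBaseChange (φ k)] [PreservesFiniteLimits (tilde.functor (B k))],
        ∃ (j : Spec (B k) ⟶ X') (_ : IsOpenImmersion j),
          Nonempty ((DCoh.tildeD (B k)).obj ((DRing.LBaseChange (φ k)).obj M) ≅
            (DCoh.restrictD j).obj ((DCoh.Lpull f).obj E)) := by
  obtain ⟨M, ⟨eM⟩⟩ := ((TildeD.main Γ(X, W)).2.2 _).1 (TildeD.isQCohD_restrict hW.fromSpec E hE)
  obtain ⟨n, U, hU, hle, hcov⟩ := hl
  refine ⟨M, eM, n, fun k => Γ(X', U k), fun k => (f.appLE W (U k) (hle k)).hom,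
    ffFamily_of_cover _ (fun k => ?_) (fun p => ?_), fun k => ?_⟩
  · exact Flat.flat_appLE f hW (hU k) (hle k)
  · have hpW : hW.fromSpec p ∈ W := hW.range_fromSpec.le ⟨p, rfl⟩
    obtain ⟨k, x', hx', he⟩ := hcov _ hpW
    obtain ⟨q, rfl⟩ := (hU k).range_fromSpec.ge hx'
    refine ⟨k, q, hW.fromSpec.isOpenEmbedding.injective ?_⟩
    rw [← he]
    exact congrArg (fun g : Spec Γ(X', U k) ⟶ X => g q)
      (IsAffineOpen.SpecMap_appLE_fromSpec f hW (hU k) (hle k))
  · intro _ _
    obtain ⟨e⟩ := nonempty_lpull_chart f (hU k).fromSpec hW.fromSpec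
      (TildeLpull.specMap (f.appLE W (U k) (hle k)).hom)
      (IsAffineOpen.SpecMap_appLE_fromSpec f hW (hU k) (hle k)) E
    exact ⟨(hU k).fromSpec, inferInstance,
      ⟨(TildeLpull.lbcLpullIso (f.appLE W (U k) (hle k)).hom).app M ≪≫
        (DCoh.Lpull (TildeLpull.specMap (f.appLE W (U k) (hle k)).hom)).mapIso eM ≪≫ e⟩⟩

theorem isPseudoCoherentD_descend [Flat f] (E : DCoh.D X) (hE : DCoh.IsQCohD E) (m : ℤ)
    (hl : ∀ W : X.Opens, IsAffineOpen W → PullbackMod.HasAffineLift f W)
    (h : DCoh.IsPseudoCoherentD m ((DCoh.Lpull f).obj E)) : DCoh.IsPseudoCoherentD m E := by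
  refine isPseudoCoherentD_of_local fun x => ?_
  obtain ⟨_, ⟨W : X.Opens, hW, rfl⟩, hx, -⟩ :=
    X.isBasis_affineOpens.exists_subset_of_mem_open (Set.mem_univ x) isOpen_univ
  haveI : PreservesFiniteLimits (tilde.functor Γ(X, W)) := TildeD.preservesFiniteLimits_tilde
  obtain ⟨y, hy⟩ : x ∈ Set.range hW.fromSpec := by rw [hW.range_fromSpec]; exact hx
  obtain ⟨M, eM, n, B, φ, hff, hc⟩ := exists_chart f E hE hW (hl W hW)
  refine ⟨_, hW.fromSpec, inferInstance, y, hy, isPseudoCoherentD_iso eM ?_⟩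
  haveI : ∀ k, DRing.HasLBaseChange (φ k) := fun k => DRingLib.hasLBaseChange _
  refine TildePerf.pc_tilde (A := Γ(X, W)) (hff.pc M fun k => ?_)
  haveI : PreservesFiniteLimits (tilde.functor (B k)) := TildeD.preservesFiniteLimits_tilde
  obtain ⟨j, hj, ⟨e⟩⟩ := hc k
  exact (TildePerf.isPseudoCoherentD_tilde_iff (A := B k) _ m).1
    (isPseudoCoherentD_iso e.symm (isPseudoCoherentD_restrict j h))

theorem isPerfect_descend [Flat f] (E : DCoh.D X) (hE : DCoh.IsQCohD E)
    (hl : ∀ W : X.Opens, IsAffineOpen W → PullbackMod.HasAffineLift f W)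
    (h : DCoh.IsPerfect ((DCoh.Lpull f).obj E)) : DCoh.IsPerfect E := by
  refine isPerfect_of_local fun x => ?_
  obtain ⟨_, ⟨W : X.Opens, hW, rfl⟩, hx, -⟩ :=
    X.isBasis_affineOpens.exists_subset_of_mem_open (Set.mem_univ x) isOpen_univ
  haveI : PreservesFiniteLimits (tilde.functor Γ(X, W)) := TildeD.preservesFiniteLimits_tilde
  obtain ⟨y, hy⟩ : x ∈ Set.range hW.fromSpec := by rw [hW.range_fromSpec]; exact hx
  obtain ⟨M, eM, n, B, φ, hff, hc⟩ := exists_chart f E hE hW (hl W hW)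
  refine ⟨_, hW.fromSpec, inferInstance, y, hy, isPerfect_iso eM ?_⟩
  haveI : ∀ k, DRing.HasLBaseChange (φ k) := fun k => DRingLib.hasLBaseChange _
  refine TildePerf.perfect_tilde (A := Γ(X, W)) (hff.perf M fun k => ?_)
  haveI : PreservesFiniteLimits (tilde.functor (B k)) := TildeD.preservesFiniteLimits_tilde
  obtain ⟨j, hj, ⟨e⟩⟩ := hc k
  exact (TildePerf.perfect_tilde_iff (A := B k) _).1 (isPerfect_iso e.symm (isPerfect_restrict j h))

/-- Quasi-coherence of the cohomology descends along fpqc morphisms. -/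
theorem isQCohD_of_lpull [Flat f] [Surjective f] [QuasiCompact f] (E : DCoh.D X)
    (h : DCoh.IsQCohD ((DCoh.Lpull f).obj E)) : DCoh.IsQCohD E := fun i => by
  obtain ⟨e⟩ := nonempty_HD_lpull_flat f E i
  haveI : Coh.IsQCoh ((Scheme.Modules.pullback f).obj (DCoh.HD E i)) :=
    DCohLib.isQCoh_of_iso' e.symm (h i)
  exact FpqcQCoh.isQCoh_of_pullback f _

theorem isPerfect_iff_lpull [Flat f] [Surjective f] [QuasiCompact f] (E : DCoh.D X) :
    DCoh.IsPerfect E ↔ DCoh.IsPerfect ((DCoh.Lpull f).obj E) :=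
  ⟨isPerfect_lpull f E, fun h => isPerfect_descend f E
    (isQCohD_of_lpull f E fun i => (isQCoh_HD_of_pseudoCoherent
      (((isPerfect_iff_pc _).1 h).1 (i - 1))).1 i (by omega))
    (fun W hW => PullbackMod.hasAffineLift_of_quasiCompact f hW) h⟩

/-- Descent of pseudo-coherence along an fppf morphism. -/
theorem isPseudoCoherentD_iff_lpull_fppf [Flat f] [Surjective f] [LocallyOfFinitePresentation f]
    (E : DCoh.D X) (m : ℤ) :
    DCoh.IsPseudoCoherentD m E ↔ DCoh.IsPseudoCoherentD m ((DCoh.Lpull f).obj E) := by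
  refine ⟨isPseudoCoherentD_lpull f m E, fun h => isPseudoCoherentD_of_local fun y => ?_⟩
  obtain ⟨x, rfl⟩ := f.surjective y
  obtain ⟨O, n, hxO, hn⟩ := exists_open_aboveZero h x
  let W : X.Opens := ⟨f.base '' (O : Set X'), f.isOpenMap _ O.2⟩
  let g : (O : Scheme.{u}) ⟶ W := IsOpenImmersion.lift W.ι (O.ι ≫ f) (by
    rintro _ ⟨z, rfl⟩
    rw [Scheme.Opens.range_ι]
    exact ⟨z.1, z.2, rfl⟩)
  have hg : g ≫ W.ι = O.ι ≫ f := IsOpenImmersion.lift_fac _ _ _
  haveI : Flat g := by
    have : Flat (g ≫ W.ι) := by rw [hg]; infer_instance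
    exact MorphismProperty.of_postcomp (W := @Flat) (W' := @IsOpenImmersion) _ W.ι inferInstance this
  haveI : Surjective g := ⟨fun w => by
    obtain ⟨z, hz, hzw⟩ := w.2
    exact ⟨⟨z, hz⟩, Subtype.ext ((congrArg (fun a : (O : Scheme.{u}) ⟶ X => a ⟨z, hz⟩) hg).trans hzw)⟩⟩
  obtain ⟨e⟩ := nonempty_lpull_chart f O.ι W.ι g hg E
  have hK : AboveZero n ((DCoh.restrictD W.ι).obj E) := aboveZero_of_lpull g _ (hn.of_iso e)
  refine ⟨W, W.ι, inferInstance, ⟨f x, ⟨x, hxO, rfl⟩⟩, rfl, ?_⟩
  let f' := f ∣_ W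
  haveI : Flat f' := MorphismProperty.of_isPullback (isPullback_morphismRestrict f W).flip ‹Flat f›
  haveI : Surjective f' :=
    MorphismProperty.of_isPullback (isPullback_morphismRestrict f W).flip ‹Surjective f›
  have hf' : UniversallyOpen f' :=
    MorphismProperty.of_isPullback (isPullback_morphismRestrict f W).flip (inferInstanceAs (UniversallyOpen f))
  obtain ⟨e'⟩ := nonempty_lpull_chart f (f ⁻¹ᵁ W).ι W.ι f' (morphismRestrict_ι f W) E
  exact pc_descent_aux m (n - m).toNat f' hf' _ (hK.mono (by omega))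
    (isPseudoCoherentD_iso e'.symm (isPseudoCoherentD_restrict _ h))

end Groth.Agent.DCohMore
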