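import Groth.Agent.BrownRep.Adjoint
import Groth.Agent.BrownRep.Grothendieck
import Mathlib.CategoryTheory.Abelian.DiagramLemmas.Four
import Mathlib.Algebra.Homology.DerivedCategory.HomologySequence
import Mathlib.Algebra.Homology.DerivedCategory.ShortExact

/-!
# Functors sending triangles to triangles up to the connecting map, and a five lemma
-/

set_option autoImplicit false
set_option linter.style.haveILetI false
set_option linter.unusedSectionVars false

universe t w v u

open CategoryTheory CategoryTheory.Limits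
open CategoryTheory.Pretriangulated

noncomputable section

namespace Groth.Agent.DCohMore

section

variable {C D : Type*} [Category C] [Category D] [Preadditive C] [Preadditive D] [HasZeroObject C]
  [HasZeroObject D] [HasShift C ℤ] [HasShift D ℤ] [∀ n : ℤ, (shiftFunctor C n).Additive]
  [∀ n : ℤ, (shiftFunctor D n).Additive] [Pretriangulated C] [Pretriangulated D]

/-- `F` sends distinguished triangles to distinguished triangles, up to the choice of the third map. -/
def ExTri (F : C ⥤ D) : Prop :=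
  ∀ T ∈ distTriang C, ∃ c, Triangle.mk (F.map T.mor₁) (F.map T.mor₂) c ∈ distTriang D

/-- Transfer of a distinguished triangle along isomorphisms of its first two maps. -/
theorem exists_triangle_of_iso {A B Z A' B' Z' : D} {a : A ⟶ B} {b : B ⟶ Z} {a' : A' ⟶ B'} {b' : B' ⟶ Z'}
    (eA : A ≅ A') (eB : B ≅ B') (eZ : Z ≅ Z') (ha : a ≫ eB.hom = eA.hom ≫ a') (hb : b ≫ eZ.hom = eB.hom ≫ b')
    (h : ∃ c', Triangle.mk a' b' c' ∈ distTriang D) : ∃ c, Triangle.mk a b c ∈ distTriang D := by
  obtain ⟨c', hc'⟩ := h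
  refine ⟨eZ.hom ≫ c' ≫ eA.inv⟦(1 : ℤ)⟧', isomorphic_distinguished _ hc' _ (Triangle.isoMk _ _ eA eB eZ ha hb ?_)⟩
  show (eZ.hom ≫ c' ≫ eA.inv⟦(1 : ℤ)⟧') ≫ eA.hom⟦(1 : ℤ)⟧' = eZ.hom ≫ c'
  simp [← Functor.map_comp]

theorem ExTri.comp {E : Type*} [Category E] [Preadditive E] [HasZeroObject E] [HasShift E ℤ]
    [∀ n : ℤ, (shiftFunctor E n).Additive] [Pretriangulated E] {F : C ⥤ D} {G : D ⥤ E} (hF : ExTri F)
    (hG : ExTri G) : ExTri (F ⋙ G) := fun T hT => by
  obtain ⟨c, hc⟩ := hF T hT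
  exact hG _ hc

theorem exTri_of_isTriangulated (F : C ⥤ D) [F.CommShift ℤ] [F.IsTriangulated] : ExTri F := fun T hT =>
  ⟨_, F.map_distinguished T hT⟩

theorem ExTri.of_natIso {F G : C ⥤ D} (hF : ExTri F) (e : F ≅ G) : ExTri G := fun T hT =>
  exists_triangle_of_iso (e.app _).symm (e.app _).symm (e.app _).symm (e.inv.naturality _) (e.inv.naturality _)
    (hF T hT)

end

section FiveLemma

variable {C : Type*} [Category C] [Preadditive C] [HasZeroObject C] [HasShift C ℤ]
  [∀ n : ℤ, (shiftFunctor C n).Additive] [Pretriangulated C]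
  {B : Type u} [Category.{v} B] [Abelian B] [HasDerivedCategory.{w} B]

theorem exact_of_exTri {F : C ⥤ DerivedCategory B} (hF : ExTri F) (T : Triangle C) (hT : T ∈ distTriang C)
    (q : ℤ) : (ComposableArrows.mk₂ ((DerivedCategory.homologyFunctor B q).map (F.map T.mor₁))
      ((DerivedCategory.homologyFunctor B q).map (F.map T.mor₂))).Exact := by
  obtain ⟨c, hc⟩ := hF T hT
  exact ((DerivedCategory.homologyFunctor B q).map_distinguished_exact _ hc).exact_toComposableArrows

/-- A natural transformation of such functors that is an isomorphism on two vertices of a triangle and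
on their shifts is one on the third vertex. -/
theorem isIso_app₃ {F G : C ⥤ DerivedCategory B} (hF : ExTri F) (hG : ExTri G) (τ : F ⟶ G) (T : Triangle C)
    (hT : T ∈ distTriang C) (h₁ : IsIso (τ.app T.obj₁)) (h₂ : IsIso (τ.app T.obj₂))
    (h₁' : IsIso (τ.app (T.obj₁⟦(1 : ℤ)⟧))) (h₂' : IsIso (τ.app (T.obj₂⟦(1 : ℤ)⟧))) :
    IsIso (τ.app T.obj₃) := by
  let T' := Triangle.mk T.mor₃ (T.mor₁⟦(1 : ℤ)⟧') (T.mor₂⟦(1 : ℤ)⟧')
  have hT' : T' ∈ distTriang C := by
    refine isomorphic_distinguished _ (rot_of_distTriang _ (rot_of_distTriang _ hT)) _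
      (Triangle.isoMk _ _ (Iso.refl _) (Iso.refl _) ({ hom := -𝟙 _, inv := -𝟙 _ } : T.obj₂⟦(1 : ℤ)⟧ ≅ T.obj₂⟦(1 : ℤ)⟧) ?_ ?_ ?_)
    · exact (Category.comp_id _).trans (Category.id_comp _).symm
    · exact (Preadditive.comp_neg _ _).trans ((congrArg Neg.neg (Category.comp_id _)).trans (Category.id_comp _).symm)
    · show T.mor₂⟦(1 : ℤ)⟧' ≫ (shiftFunctor C (1 : ℤ)).map (𝟙 T.obj₃) = (-𝟙 _) ≫ (-(T.mor₂⟦(1 : ℤ)⟧'))
      simp only [CategoryTheory.Functor.map_id, Category.comp_id, Preadditive.neg_comp_neg, Category.id_comp]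
  rw [DerivedCategory.isIso_iff]
  intro q
  let H := DerivedCategory.homologyFunctor B q
  let R : (C ⥤ DerivedCategory B) → ComposableArrows B 4 := fun F =>
    ComposableArrows.mk₄ (H.map (F.map T.mor₁)) (H.map (F.map T.mor₂)) (H.map (F.map T.mor₃))
      (H.map (F.map (T.mor₁⟦(1 : ℤ)⟧')))
  have hR : ∀ F : C ⥤ DerivedCategory B, ExTri F → (R F).Exact := fun F hF =>
    ComposableArrows.exact_of_δ₀ (exact_of_exTri hF T hT q)
      (ComposableArrows.exact_of_δ₀ (exact_of_exTri hF T.rotate (rot_of_distTriang _ hT) q)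
        (exact_of_exTri hF T' hT' q))
  have nat : ∀ {X Y : C} (g : X ⟶ Y), H.map (F.map g) ≫ H.map (τ.app Y) = H.map (τ.app X) ≫ H.map (G.map g) :=
    fun g => by rw [← H.map_comp, τ.naturality, H.map_comp]
  let φ : R F ⟶ R G := ComposableArrows.homMk₄ (H.map (τ.app _)) (H.map (τ.app _)) (H.map (τ.app _))
    (H.map (τ.app _)) (H.map (τ.app _)) (nat _) (nat _) (nat _) (nat _)
  haveI i₁ : IsIso (H.map (τ.app T.obj₁)) := inferInstance
  haveI i₂ : IsIso (H.map (τ.app T.obj₂)) := inferInstance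
  haveI i₃ : IsIso (H.map (τ.app (T.obj₁⟦(1 : ℤ)⟧))) := inferInstance
  haveI i₄ : IsIso (H.map (τ.app (T.obj₂⟦(1 : ℤ)⟧))) := inferInstance
  exact Abelian.isIso_of_epi_of_isIso_of_isIso_of_mono (hR F hF) (hR G hG) φ
    (show Epi (H.map (τ.app T.obj₁)) from inferInstance) i₂ i₃
    (show Mono (H.map (τ.app (T.obj₂⟦(1 : ℤ)⟧))) from inferInstance)

end FiveLemma

section Split

variable {A : Type u} [Category.{v} A] [Abelian A] [HasDerivedCategory.{w} A]
  {D : Type*} [Category D] [Preadditive D] [HasZeroObject D] [HasShift D ℤ]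
  [∀ n : ℤ, (shiftFunctor D n).Additive] [Pretriangulated D]

/-- It is enough to check rotated cone sequences of enough morphisms of complexes. -/
theorem exTri_of_resolved (G : DerivedCategory A ⥤ D)
    (Pr : ∀ {K₁ K₂ : CochainComplex A ℤ}, (K₁ ⟶ K₂) → Prop)
    (hres : ∀ T ∈ distTriang (DerivedCategory A), ∃ (K₁ K₂ : CochainComplex A ℤ) (φ : K₁ ⟶ K₂),
      Pr φ ∧ Nonempty (T ≅ DerivedCategory.Q.mapTriangle.obj (CochainComplex.mappingCone.triangle φ)))
    (h : ∀ {K₁ K₂ : CochainComplex A ℤ} (φ : K₁ ⟶ K₂), Pr φ →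
      ∃ c, Triangle.mk (G.map (DerivedCategory.Q.map (CochainComplex.mappingCone.triangleRotateShortComplex φ).f))
        (G.map (DerivedCategory.Q.map (CochainComplex.mappingCone.triangleRotateShortComplex φ).g)) c ∈ distTriang D) :
    ExTri G := fun T hT => by
  obtain ⟨K₁, K₂, φ, hφ, ⟨e⟩⟩ := hres _ (inv_rot_of_distTriang _ hT)
  let e' := (invRotCompRot.app T).symm ≪≫ (rotate (DerivedCategory A)).mapIso e
  let S := CochainComplex.mappingCone.triangleRotateShortComplex φ
  obtain ⟨c, hc⟩ := h φ hφ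
  let E₃ := Triangle.π₃.mapIso e' ≪≫ ((DerivedCategory.Q (C := A)).commShiftIso (1 : ℤ)).symm.app K₁
  refine exists_triangle_of_iso (G.mapIso (Triangle.π₁.mapIso e')) (G.mapIso (Triangle.π₂.mapIso e')) (G.mapIso E₃)
    (a' := G.map (DerivedCategory.Q.map S.f)) (b' := G.map (DerivedCategory.Q.map S.g)) ?_ ?_ ⟨c, hc⟩
  · exact (G.map_comp _ _).symm.trans ((congrArg G.map e'.hom.comm₁).trans (G.map_comp _ _))
  · refine (G.map_comp _ _).symm.trans ((congrArg G.map ?_).trans (G.map_comp _ _))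
    have h2 : T.mor₂ ≫ e'.hom.hom₃ = e'.hom.hom₂ ≫ (DerivedCategory.Q.map S.g ≫
        ((DerivedCategory.Q (C := A)).commShiftIso (1 : ℤ)).hom.app K₁) := e'.hom.comm₂
    show T.mor₂ ≫ (e'.hom.hom₃ ≫ ((DerivedCategory.Q (C := A)).commShiftIso (1 : ℤ)).inv.app K₁) =
      e'.hom.hom₂ ≫ DerivedCategory.Q.map S.g
    refine (Category.assoc _ _ _).symm.trans ((congrArg (· ≫ _) h2).trans ?_)
    refine (Category.assoc _ _ _).trans (congrArg (e'.hom.hom₂ ≫ ·) ?_)
    exact (Category.assoc _ _ _).trans ((congrArg (DerivedCategory.Q.map S.g ≫ ·)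
      (((DerivedCategory.Q (C := A)).commShiftIso (1 : ℤ)).hom_inv_id_app K₁)).trans (Category.comp_id _))

/-- It is enough to check degreewise split short exact sequences of complexes. -/
theorem exTri_of_split (G : DerivedCategory A ⥤ D)
    (h : ∀ S : ShortComplex (CochainComplex A ℤ),
      (∀ n, Nonempty (S.map (HomologicalComplex.eval A (ComplexShape.up ℤ) n)).Splitting) →
      ∃ c, Triangle.mk (G.map (DerivedCategory.Q.map S.f)) (G.map (DerivedCategory.Q.map S.g)) c ∈ distTriang D) :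
    ExTri G :=
  exTri_of_resolved G (fun {_ _} _ => True)
    (fun T hT => by
      obtain ⟨K₁, K₂, φ, he⟩ := (DerivedCategory.mem_distTriang_iff _).1 hT
      exact ⟨K₁, K₂, φ, trivial, he⟩)
    fun φ _ => h _ fun n => ⟨CochainComplex.mappingCone.triangleRotateShortComplexSplitting φ n⟩

end Split

section Coproduct

variable {A : Type u} [Category.{v} A] [Abelian A] [IsGrothendieckAbelian.{v} A] [HasDerivedCategory.{w} A]

/-- A coproduct of complexes represents the coproduct in the derived category. -/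
theorem nonempty_isColimit_Q_gen {ι : Type t} (M : ι → DerivedCategory A) {F : ι → CochainComplex A ℤ}
    {c₀ : Cofan F} (hc₀ : IsColimit c₀) (eM : ∀ i, M i ≅ DerivedCategory.Q.obj (F i))
    [HasCoproductsOfShape ι A] :
    Nonempty (IsColimit (Cofan.mk (f := M) (DerivedCategory.Q.obj c₀.pt)
      fun i => (eM i).hom ≫ DerivedCategory.Q.map (c₀.inj i))) := by
  let qm := HomotopyCategory.quotient A (ComplexShape.up ℤ)
  let ε := DerivedCategory.quotientCompQhIso A
  have hQ : ∀ {K J : CochainComplex A ℤ} [J.IsKInjective] (k : DerivedCategory.Q.obj K ⟶ DerivedCategory.Q.obj J),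
      ∃ g : K ⟶ J, DerivedCategory.Q.map g = k := by
    intro K J _ k
    obtain ⟨g', hg'⟩ := (CochainComplex.IsKInjective.Qh_map_bijective (qm.obj K) J).surjective
      (ε.hom.app K ≫ k ≫ ε.inv.app J)
    obtain ⟨g, rfl⟩ := qm.map_surjective g'
    refine ⟨g, ?_⟩
    rw [← cancel_epi (ε.hom.app K), ← ε.hom.naturality g]
    dsimp only [Functor.comp_map]
    rw [hg']
    simp
  have hQ' : ∀ {K J : CochainComplex A ℤ} [J.IsKInjective] {g g' : K ⟶ J},
      DerivedCategory.Q.map g = DerivedCategory.Q.map g' → qm.map g = qm.map g' := by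
    intro K J _ g g' h
    refine (CochainComplex.IsKInjective.Qh_map_bijective (qm.obj K) J).injective ?_
    rw [← cancel_mono (ε.hom.app J)]
    exact (ε.hom.naturality g).trans ((congrArg (_ ≫ ·) h).trans (ε.hom.naturality g').symm)
  have key : ∀ (Z : DerivedCategory A) (k : ∀ i, M i ⟶ Z), ∃! m : DerivedCategory.Q.obj c₀.pt ⟶ Z,
      ∀ i, ((eM i).hom ≫ DerivedCategory.Q.map (c₀.inj i)) ≫ m = k i := by
    intro Z k
    obtain ⟨R, hR, ⟨e'⟩⟩ := Groth.Agent.KInj.exists_kInjective_iso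
      (Groth.Agent.KInj.hres_of_isGrothendieckAbelian (A := A)) Z
    haveI := hR
    let e : Z ≅ DerivedCategory.Q.obj R := e'.symm ≪≫ ε.app R
    choose g hg using fun i => hQ ((eM i).inv ≫ k i ≫ e.hom)
    let G := Cofan.IsColimit.desc hc₀ g
    have hG : ∀ i, c₀.inj i ≫ G = g i := fun i => Cofan.IsColimit.fac hc₀ g i
    refine ⟨DerivedCategory.Q.map G ≫ e.inv, fun i => ?_, fun m hm => ?_⟩
    · rw [Category.assoc, ← Functor.map_comp_assoc, hG, hg, Category.assoc, Category.assoc, e.hom_inv_id,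
        Category.comp_id, Iso.hom_inv_id_assoc]
    · obtain ⟨G', hG'⟩ := hQ (m ≫ e.hom)
      obtain ⟨H⟩ := Groth.Agent.KInj.homotopic_zero_of_coproduct hc₀ (G' - G) fun i => by
        have h1 : qm.map (c₀.inj i ≫ G') = qm.map (c₀.inj i ≫ G) := hQ' (by
          rw [hG, hg, DerivedCategory.Q.map_comp, hG', ← hm i]
          simp)
        refine ⟨(Homotopy.ofEq (Preadditive.comp_sub _ _ _)).trans
          (Homotopy.equivSubZero (HomotopyCategory.homotopyOfEq _ _ h1))⟩
      rw [← cancel_mono e.hom, ← hG', Category.assoc, e.inv_hom_id, Category.comp_id]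
      exact DerivedCategory.Q_map_eq_of_homotopy _ (Homotopy.equivSubZero.symm H)
  choose m hm hu using fun (s : Cofan M) => key s.pt s.inj
  exact ⟨mkCofanColimit _ m hm hu⟩

end Coproduct

section Generation

variable (R : Type u) [Ring R] [HasDerivedCategory.{u} (ModuleCat.{u} R)]

/-- The derived category of a ring is generated by the ring under shifts, sums and cones. -/
theorem derived_module_induction (P : DerivedCategory (ModuleCat.{u} R) → Prop)
    (iso : ∀ {X Y}, (X ≅ Y) → P X → P Y)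
    (gen : ∀ n : ℤ, P ((BrownRep.ringObj R)⟦n⟧))
    (sigma : ∀ {κ : Type u} (M : κ → DerivedCategory (ModuleCat.{u} R)) [HasCoproduct M], (∀ k, P (M k)) → P (∐ M))
    (cone : ∀ T ∈ distTriang (DerivedCategory (ModuleCat.{u} R)), P T.obj₁ → P T.obj₂ → P T.obj₃)
    (W : DerivedCategory (ModuleCat.{u} R)) : P W := by
  haveI := BrownRep.hasCoproducts_derivedCategory (A := ModuleCat.{u} R)
  haveI := hasColimitsOfShape_of_equivalence (C := DerivedCategory (ModuleCat.{u} R))
    (Discrete.equivalence (Equiv.ulift.{u} (α := ℕ)))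
  refine BrownRep.built (BrownRep.perfect_shiftFamily BrownRep.perfect_ringObj) (BrownRep.shiftFamily_shift _)
    (BrownRep.detects_shiftFamily BrownRep.detects_ringObj) W
    ⟨fun i => gen _, fun X hX => sigma X hX, fun X hX => ?_, cone⟩ iso
  let e : (∐ fun k : ULift.{u} ℕ => X k.down) ≅ ∐ X :=
    Sigma.whiskerEquiv (Equiv.ulift (α := ℕ)) fun _ => Iso.refl _
  exact iso e (sigma _ fun k => hX k.down)

end Generation

end Groth.Agent.DCohMore
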