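import Groth.Agent.DCohMore.FibreFinTor
import Groth.Agent.PCHomLib.Flat
import Mathlib.RingTheory.RegularLocalRing.Polynomial
import Mathlib.RingTheory.KrullDimension.Polynomial
import Mathlib.RingTheory.KrullDimension.Field
import Mathlib.RingTheory.TensorProduct.MvPolynomial

/-! Finite tor dimension over the base, for a finitely presented flat algebra, from the fibres. -/

set_option autoImplicit false
set_option linter.style.haveILetI false
set_option backward.isDefEq.respectTransparency false

universe u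

open CategoryTheory Limits MonoidalCategory
open scoped TensorProduct
attribute [local instance] HasDerivedCategory.standard Algebra.TensorProduct.rightAlgebra

noncomputable section

namespace Groth.Agent.DCohMore

open Groth.Agent.DRingLib Groth.Agent.DCohLib Groth.Agent.DTenLib

theorem hasProjectiveDimensionLT_polyFibre {R : Type u} [CommRing R] (d : ℕ) (κ : Type u) [Field κ]
    [Algebra R κ] (M : Type u) [AddCommGroup M] [Module (κ ⊗[R] MvPolynomial (Fin d) R) M] :
    HasProjectiveDimensionLT (ModuleCat.of (κ ⊗[R] MvPolynomial (Fin d) R) M) (d + 1) := by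
  let e : κ ⊗[R] MvPolynomial (Fin d) R ≃+* MvPolynomial (Fin d) κ :=
    (MvPolynomial.algebraTensorAlgEquiv R κ).toRingEquiv
  haveI : IsRegularRing (MvPolynomial (Fin d) κ) := inferInstance
  haveI : IsRegularRing (κ ⊗[R] MvPolynomial (Fin d) R) := IsRegularRing.of_ringEquiv e.symm
  refine hasProjectiveDimensionLT_of_regular _
    (fun p => IsRegularRing.isRegularLocalRing_localization p.asIdeal) d ?_ M
  rw [ringKrullDim_eq_of_ringEquiv e, MvPolynomial.ringKrullDim_of_isNoetherianRing,
    ringKrullDim_eq_zero_of_field, zero_add, Nat.card_fin]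

theorem hasFiniteTorDimCx_of_fibres {R A : Type u} [CommRing R] [CommRing A] [Algebra R A]
    [Module.Flat R A] [Algebra.FinitePresentation R A] (K : Dual.D A) (hK : DRing.IsPseudoCoherent' A K)
    (P : DRing.Cx A) (hP : DRing.IsKFlat R ((DTen.resCx (algebraMap R A)).obj P)) (eP : DRing.toD P ≅ K)
    (a : ℤ) (ha : ∀ i, i < a → P.ExactAt i)
    (h : ∀ p : PrimeSpectrum R, ∃ a' : ℤ, ∀ i, i < a' →
      ((tensM (ModuleCat.of R p.asIdeal.ResidueField)).obj ((DTen.resCx (algebraMap R A)).obj P)).ExactAt i) :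
    DRing.HasFiniteTorDimCx R ((DRing.restrictD (algebraMap R A)).obj K) := by
  obtain ⟨d, φ, hφ, -⟩ := Algebra.FinitePresentation.out (R := R) (A := A)
  let B := MvPolynomial (Fin d) R
  have hPM : PCMap φ.toRingHom :=
    (PCHomLib.pcHom_of_flat (A := R) (B := A)).pcMap φ.toRingHom hφ φ.comp_algebraMap
  obtain ⟨E, c, hc, hE, ⟨e⟩⟩ := (isPseudoCoherent'_iff ((DRing.restrictD φ.toRingHom).obj K)).2
    fun m => hPM.ascend ((isPseudoCoherent'_iff K).1 hK m)
  have hproj : ∀ i, Module.Projective B (E.X i) := fun i => (fFree_imp_fProj (hE i)).2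
  have hfin : ∀ i, Module.Finite B (E.X i) := fun i => (hE i).1
  let ψ := algebraMap R B
  let X := (DTen.resCx ψ).obj E
  have hX : DRing.IsKFlat R X := isKFlat_resCx ψ (flat_baseMod R B) (isKFlat_of_projective hc hproj)
  let eR : (DRing.restrictD ψ).obj ((DRing.restrictD φ.toRingHom).obj (DRing.toD P)) ≅
      (DRing.restrictD (algebraMap R A)).obj (DRing.toD P) :=
    (DRing.restrictD ψ).mapIso ((DTen.resFactors φ.toRingHom).app _) ≪≫ (DTen.resFactors ψ).app _ ≪≫
      DerivedCategory.Q.mapIso (((NatIso.mapHomologicalComplex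
        (ModuleCat.restrictScalarsComp'.{u} ψ φ.toRingHom (algebraMap R A) φ.comp_algebraMap.symm)
        (ComplexShape.up ℤ)).app _).symm) ≪≫ ((DTen.resFactors _).app _).symm
  let eXP : DRing.toD X ≅ DRing.toD ((DTen.resCx (algebraMap R A)).obj P) :=
    ((DTen.resFactors ψ).app E).symm ≪≫
      (DRing.restrictD ψ).mapIso (e ≪≫ (DRing.restrictD φ.toRingHom).mapIso eP.symm) ≪≫ eR ≪≫
      (DTen.resFactors (algebraMap R A)).app P
  have hEa : ∀ i, i < a → E.ExactAt i := fun i hi =>
    (exactAt_resCx_iff ψ E i).1 (exactAt_of_toD_iso eXP.symm i ((exactAt_resCx_iff _ P i).2 (ha i hi)))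
  obtain ⟨a', hamp⟩ := exists_amplitude_of_fibres hc hproj hfin a hEa fun m hm => by
    let p : PrimeSpectrum R := ⟨m.comap ψ, inferInstance⟩
    obtain ⟨a'', ha''⟩ := h p
    letI := Ideal.Quotient.field m
    let g : p.asIdeal.ResidueField →ₐ[R] B ⧸ m :=
      Ideal.ResidueField.liftₐ p.asIdeal (Algebra.ofId R (B ⧸ m))
        (fun x hx => RingHom.mem_ker.2 (Ideal.Quotient.eq_zero_iff_mem.2 (show ψ x ∈ m from hx)))
        (fun x hx => isUnit_iff_ne_zero.2 fun h0 => hx (show ψ x ∈ m from Ideal.Quotient.eq_zero_iff_mem.1 h0))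
    let χ : p.asIdeal.ResidueField ⊗[R] B →ₐ[R] B ⧸ m :=
      Algebra.TensorProduct.lift g (Ideal.Quotient.mkₐ R m) fun _ _ => Commute.all _ _
    refine ⟨min a'' (c + 1) - d, fun i hi => ?_⟩
    refine exact_fibre_of_globalDim (algebraMap B (p.asIdeal.ResidueField ⊗[R] B)) d
      (fun M _ _ => hasProjectiveDimensionLT_polyFibre d p.asIdeal.ResidueField M) hc hproj
      (a := min a'' (c + 1)) (b := c) (fun j hj => ?_) m χ.toRingHom ?_ i (Or.inl hi)
    · rcases hj with hj | hj
      · obtain ⟨e'⟩ := nonempty_tensM_iso hP hX eXP.symm (ModuleCat.of R p.asIdeal.ResidueField)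
        exact exactAt_extCx_fibre p.asIdeal.ResidueField E j (exactAt_of_toD_iso e' j (ha'' j (by omega)))
      · exact HomologicalComplex.ExactAt.of_isZero
          ((ModuleCat.extendScalars.{u, u, u} _).map_isZero (hc j hj))
    · refine RingHom.ext fun x => ?_
      show χ ((1 : p.asIdeal.ResidueField) ⊗ₜ[R] x) = _
      rw [Algebra.TensorProduct.lift_tmul, map_one, one_mul]
      rfl
  exact ⟨a', c, amp_of_iso ((DRing.restrictD ψ).mapIso (e ≪≫ (DRing.restrictD φ.toRingHom).mapIso eP.symm) ≪≫
      eR ≪≫ (DRing.restrictD (algebraMap R A)).mapIso eP)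
    (amp_restrict_of_flat ψ (RingHom.flat_algebraMap_iff.2 inferInstance) hamp)⟩

end Groth.Agent.DCohMore
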