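import Groth.Agent.DCohMore.RelPerfTerms
import Groth.Agent.DCohMore.RelPerfBC
import Groth.Agent.DCohMore.FibreFinTorRel
import Groth.Agent.TildeLpull.Main
import Groth.Agent.DCohLib.PullComp
import Groth.Agent.DCohLib.TensorPerf
import Mathlib.AlgebraicGeometry.Fiber

/-! Finite tor dimension over the base from boundedness on the fibres. -/

set_option autoImplicit false
set_option linter.style.haveILetI false
set_option backward.isDefEq.respectTransparency false

universe u

open CategoryTheory Limits AlgebraicGeometry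
open scoped TensorProduct
attribute [local instance] HasDerivedCategory.standard Algebra.TensorProduct.rightAlgebra

noncomputable section

namespace Groth.Agent.DCohMore

open Groth.Agent.DRingLib Groth.Agent.DCohLib Groth.Agent.DTenLib MonoidalCategory

/-- Exactness of the fibre gives exactness of the tensor product over the base. -/
theorem exactAt_tensM_of_extCx_fibre {A B : Type u} [CommRing A] [CommRing B] [Algebra A B] (κ : Type u)
    [CommRing κ] [Algebra A κ] (E : DRing.Cx B) (i : ℤ)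
    (h : ((DTen.extCx (algebraMap B (κ ⊗[A] B))).obj E).ExactAt i) :
    ((tensM (ModuleCat.of A κ)).obj ((DTen.resCx (algebraMap A B)).obj E)).ExactAt i := by
  let χ := algebraMap B (κ ⊗[A] B)
  rw [HomologicalComplex.exactAt_iff] at h
  have h3 : ((tensM (baseMod χ)).obj E).ExactAt i := by
    rw [HomologicalComplex.exactAt_iff]
    exact (ShortComplex.exact_iff_of_iso ((E.sc i).mapNatIso (extResIso χ))).1
      ((ShortComplex.exact_map_iff_of_faithful _ (ModuleCat.restrictScalars.{u} χ)).2 h)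
  rw [HomologicalComplex.exactAt_iff' _ (i - 1) i (i + 1) (by simp) (by simp),
    ShortComplex.ShortExact.moduleCat_exact_iff_function_exact] at h3
  let e₂ := baseModEquiv B (κ ⊗[A] B)
  have h2 : Function.Exact ((E.d (i - 1) i).hom.lTensor (κ ⊗[A] B)) ((E.d i (i + 1)).hom.lTensor (κ ⊗[A] B)) :=
    (Function.Exact.iff_of_ladder_linearEquiv
      (f₁₂ := (E.d (i - 1) i).hom.lTensor (baseMod χ)) (f₂₃ := (E.d i (i + 1)).hom.lTensor (baseMod χ))
      (e₁ := TensorProduct.congr e₂ (LinearEquiv.refl B _))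
      (e₂ := TensorProduct.congr e₂ (LinearEquiv.refl B _)) (e₃ := TensorProduct.congr e₂ (LinearEquiv.refl B _))
      (TensorProduct.ext' fun x y => rfl) (TensorProduct.ext' fun x y => rfl)).2 h3
  letI : ∀ j, Module A (E.X j) := fun j => Module.compHom _ (algebraMap A B)
  haveI : ∀ j, IsScalarTower A B (E.X j) := fun j => .of_algebraMap_smul fun _ _ => rfl
  let ε := fun j => Algebra.IsPushout.cancelBaseChange A κ B (κ ⊗[A] B) (E.X j)
  have hsq : ∀ j k, ((E.d j k).hom.restrictScalars A).lTensor κ ∘ₗ ((ε j).restrictScalars A).toLinearMap =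
      ((ε k).restrictScalars A).toLinearMap ∘ₗ ((E.d j k).hom.lTensor (κ ⊗[A] B)).restrictScalars A := by
    intro j k
    refine LinearMap.ext fun x => ?_
    obtain ⟨y, rfl⟩ := (ε j).symm.surjective x
    show ((E.d j k).hom.restrictScalars A).lTensor κ (ε j ((ε j).symm y)) =
      ε k (((E.d j k).hom.lTensor (κ ⊗[A] B)) ((ε j).symm y))
    rw [LinearEquiv.apply_symm_apply]
    induction y using TensorProduct.induction_on with
    | zero => simp
    | tmul s n =>
      apply (ε k).symm.injective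
      rw [LinearEquiv.symm_apply_apply, LinearMap.lTensor_tmul]
      show (ε k).symm (s ⊗ₜ[A] (E.d j k).hom n) = _
      simp only [ε, Algebra.IsPushout.cancelBaseChange_symm_tmul, LinearMap.lTensor_tmul]
    | add x y hx hy => simp only [map_add, hx, hy]
  rw [HomologicalComplex.exactAt_iff' _ (i - 1) i (i + 1) (by simp) (by simp),
    ShortComplex.ShortExact.moduleCat_exact_iff_function_exact]
  exact (Function.Exact.iff_of_ladder_linearEquiv
      (f₁₂ := ((E.d (i - 1) i).hom.lTensor (κ ⊗[A] B)).restrictScalars A)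
      (f₂₃ := ((E.d i (i + 1)).hom.lTensor (κ ⊗[A] B)).restrictScalars A)
      (g₁₂ := ((E.d (i - 1) i).hom.restrictScalars A).lTensor κ)
      (g₂₃ := ((E.d i (i + 1)).hom.restrictScalars A).lTensor κ)
      (hsq _ _) (hsq _ _)).2 h2

variable {X S : Scheme.{u}} (f : X ⟶ S)

/-- The affine fibre maps openly into the fibre. -/
theorem exists_fibre_chart {R A : Type u} [CommRing R] [CommRing A] [Algebra R A]
    (g : Spec (CommRingCat.of A) ⟶ X) [IsOpenImmersion g] (k : Spec (CommRingCat.of R) ⟶ S) [IsOpenImmersion k]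
    (hgk : Spec.map (CommRingCat.ofHom (algebraMap R A)) ≫ k = g ≫ f) (p : Spec (CommRingCat.of R)) :
    ∃ (u : Spec (CommRingCat.of (p.asIdeal.ResidueField ⊗[R] A)) ⟶ f.fiber (k.base p)) (_ : IsOpenImmersion u),
      u ≫ f.fiberι (k.base p) =
        Spec.map (CommRingCat.ofHom (algebraMap A (p.asIdeal.ResidueField ⊗[R] A))) ≫ g := by
  let κ := p.asIdeal.ResidueField
  let r := (Scheme.Spec.residueFieldIso (CommRingCat.of R) p)
  let i₁ : Spec (CommRingCat.of κ) ⟶ Spec (S.residueField (k.base p)) :=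
    Spec.map r.hom ≫ Spec.map (k.residueFieldMap p)
  have hr : Spec.map (CommRingCat.ofHom (algebraMap R κ)) =
      Spec.map r.hom ≫ (Spec (CommRingCat.of R)).fromSpecResidueField p := by
    have h1 := congrArg (Spec.map r.hom ≫ ·)
      (Scheme.Spec.map_residueFieldIso_inv_eq_fromSpecResidueField (R := CommRingCat.of R) (x := p))
    refine Eq.trans ?_ h1
    show _ = Spec.map r.hom ≫ Spec.map r.inv ≫ _
    rw [← Category.assoc, ← Spec.map_comp, r.inv_hom_id, Spec.map_id, Category.id_comp]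
  have e₁ : Spec.map (CommRingCat.ofHom (algebraMap R κ)) ≫ k = i₁ ≫ S.fromSpecResidueField (k.base p) :=
    (congrArg (· ≫ k) hr).trans ((Category.assoc _ _ _).trans
      ((congrArg (Spec.map r.hom ≫ ·) (Scheme.Hom.SpecMap_residueFieldMap_fromSpecResidueField k p).symm).trans
        (Category.assoc _ _ _).symm))
  haveI : IsOpenImmersion i₁ := inferInstance
  let m := pullback.map (Spec.map (CommRingCat.ofHom (algebraMap R κ))) (Spec.map (CommRingCat.ofHom (algebraMap R A)))
    (S.fromSpecResidueField (k.base p)) f i₁ g k e₁ hgk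
  refine ⟨(pullbackSpecIso R κ A).inv ≫ m ≫ (pullbackSymmetry _ _).hom, inferInstanceAs (IsOpenImmersion
    ((pullbackSpecIso R κ A).inv ≫ m ≫ (pullbackSymmetry (S.fromSpecResidueField (k.base p)) f).hom)), ?_⟩
  show ((pullbackSpecIso R κ A).inv ≫ m ≫ (pullbackSymmetry _ _).hom) ≫ pullback.fst f _ = _
  rw [Category.assoc, Category.assoc, pullbackSymmetry_hom_comp_fst, pullback.lift_snd, ← Category.assoc,
    pullbackSpecIso_inv_snd]
  rfl

theorem isZero_HD_of_isGE {Y : Scheme.{u}} {K : DCoh.D Y} {a : ℤ} [K.IsGE a] (i : ℤ) (hi : i < a) :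
    IsZero (DCoh.HD K i) := (DerivedCategory.isGE_iff K a).1 inferInstance i hi

theorem isGE_restrict {Y U : Scheme.{u}} (j : U ⟶ Y) [IsOpenImmersion j] {K : DCoh.D Y} {a : ℤ}
    (h : K.IsGE a) : ((DCoh.restrictD j).obj K).IsGE a :=
  (DerivedCategory.isGE_iff _ a).2 fun i hi =>
    ((Scheme.Modules.restrictFunctor j).map_isZero (isZero_HD_of_isGE (K := K) i hi)).of_iso (restrictHDIso j K i)

/-- Restricting a derived inverse image to a chart. -/
theorem nonempty_restrictD_lpull_square {Z Y W : Scheme.{u}} (u : Z ⟶ Y) [IsOpenImmersion u] (j : Y ⟶ X)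
    (v : Z ⟶ W) (g : W ⟶ X) [IsOpenImmersion g] (h : u ≫ j = v ≫ g) [DCoh.HasLpull j] [DCoh.HasLpull v]
    (E : DCoh.D X) :
    Nonempty ((DCoh.restrictD u).obj ((DCoh.Lpull j).obj E) ≅
      (DCoh.Lpull v).obj ((DCoh.restrictD g).obj E)) := by
  haveI := hasLpull u
  haveI := hasLpull g
  haveI := hasLpull (u ≫ j)
  haveI := hasLpull (v ≫ g)
  obtain ⟨c₁⟩ := nonempty_lpullCompIso u j
  obtain ⟨c₂⟩ := nonempty_lpullCompIso v g
  obtain ⟨r₁⟩ := nonempty_restrictD_lpull u ((DCoh.Lpull j).obj E)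
  obtain ⟨r₂⟩ := nonempty_restrictD_lpull g E
  have hc : ∀ {a b : Z ⟶ X} (_ : a = b) [DCoh.HasLpull a] [DCoh.HasLpull b],
      Nonempty (DCoh.Lpull a ≅ DCoh.Lpull b) := by
    intro a b hab _ _
    subst hab
    exact ⟨Iso.refl _⟩
  obtain ⟨c₃⟩ := hc h
  exact ⟨r₁ ≪≫ c₁.app E ≪≫ c₃.app E ≪≫ (c₂.app E).symm ≪≫ (DCoh.Lpull v).mapIso r₂.symm⟩

/-- Finite tor dimension in a chart from boundedness on the fibres. -/
theorem hasFiniteTorDimCx_of_fibre_bound {R A : Type u} [CommRing R] [CommRing A] [Algebra R A]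
    [Module.Flat R A] [Algebra.FinitePresentation R A]
    [∀ s : S, DCoh.HasLpull (f.fiberι s)] (E : DCoh.D X)
    (hfib : ∀ (s : S) (y : ↥(f.fiber s)), ∃ (W : (f.fiber s).Opens) (a : ℤ), y ∈ W ∧
      ((DCoh.restrictD W.ι).obj ((DCoh.Lpull (f.fiberι s)).obj E)).IsGE a)
    (g : Spec (CommRingCat.of A) ⟶ X) [IsOpenImmersion g] (k : Spec (CommRingCat.of R) ⟶ S) [IsOpenImmersion k]
    (hgk : Spec.map (CommRingCat.ofHom (algebraMap R A)) ≫ k = g ≫ f)
    [PreservesFiniteLimits (tilde.functor (CommRingCat.of A))] (M : Dual.D A)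
    (e : (DCoh.restrictD g).obj E ≅ (DCoh.tildeD (CommRingCat.of A)).obj M)
    (hM : DRing.IsPseudoCoherent' A M) (a : ℤ) (ha : ((DCoh.restrictD g).obj E).IsGE a) :
    DRing.HasFiniteTorDimCx R ((DRing.restrictD (algebraMap R A)).obj M) := by
  obtain ⟨P, c, hc, hP, ⟨eP⟩⟩ := id hM
  have hproj : ∀ i, Module.Projective A (P.X i) := fun i => (fFree_imp_fProj (hP i)).2
  have hPk : DRing.IsKFlat A P := isKFlat_of_projective hc hproj
  refine hasFiniteTorDimCx_of_fibres M hM P (isKFlat_resCx _ (flat_baseMod R A) hPk) eP a (fun i hi => ?_)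
    fun p => ?_
  · refine (exactAt_iff_isZero_homologyFunctor P i).2 ((IsZero.of_iso ?_
      ((DerivedCategory.homologyFunctor (ModuleCat.{u} A) i).mapIso eP)))
    refine TildePerf.isZero_of_isZero_tilde (A := A) ?_
    haveI := ha
    exact ((isZero_HD_of_isGE (K := (DCoh.restrictD g).obj E) i hi).of_iso
      ((DerivedCategory.homologyFunctor _ i).mapIso e).symm).of_iso
        ((TildeD.nuT (CommRingCat.of A) i).app M).symm
  · let χ := algebraMap A (p.asIdeal.ResidueField ⊗[R] A)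
    obtain ⟨u, hu, hug⟩ := exists_fibre_chart f g k hgk p
    haveI := TildeD.preservesFiniteLimits_tilde (R := CommRingCat.of (p.asIdeal.ResidueField ⊗[R] A))
    haveI := hasLpull (Spec.map (CommRingCat.ofHom χ))
    haveI := hasLBaseChange χ
    obtain ⟨sq⟩ := nonempty_restrictD_lpull_square u (f.fiberι (k.base p))
      (Spec.map (CommRingCat.ofHom χ)) g hug E
    let T := DCoh.tildeD (CommRingCat.of (p.asIdeal.ResidueField ⊗[R] A))
    let L := (DCoh.restrictD u).obj ((DCoh.Lpull (f.fiberι (k.base p))).obj E)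
    let e₁ : (DCoh.Lpull (Spec.map (CommRingCat.ofHom χ))).obj ((DCoh.tildeD (CommRingCat.of A)).obj M) ≅
        T.obj ((DRing.LBaseChange χ).obj M) := ((TildeLpull.lbcLpullIso χ).app M).symm
    let e₂ : (DRing.LBaseChange χ).obj M ≅ DRing.toD ((DTen.extCx χ).obj P) :=
      (DRing.LBaseChange χ).mapIso eP.symm ≪≫ lbcIso χ P hPk
    let eL : L ≅ T.obj (DRing.toD ((DTen.extCx χ).obj P)) :=
      sq ≪≫ (DCoh.Lpull (Spec.map (CommRingCat.ofHom χ))).mapIso e ≪≫ e₁ ≪≫ T.mapIso e₂
    choose W b hy hW using fun z => hfib (k.base p) (u.base z)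
    obtain ⟨t, ht⟩ := (isCompact_univ (X := ↥(Spec (CommRingCat.of (p.asIdeal.ResidueField ⊗[R] A))))).elim_finite_subcover
      (fun z => ((u ⁻¹ᵁ W z : (Spec (CommRingCat.of (p.asIdeal.ResidueField ⊗[R] A))).Opens) : Set _))
      (fun z => (u ⁻¹ᵁ W z).isOpen) fun z _ => by
        simp only [Set.mem_iUnion]
        refine ⟨z, ?_⟩
        exact hy z
    obtain ⟨a₀, ha₀⟩ := (t.finite_toSet.image b).bddBelow
    refine ⟨a₀, fun i hi => exactAt_tensM_of_extCx_fibre _ P i ((exactAt_iff_isZero_homologyFunctor _ i).2 ?_)⟩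
    refine TildePerf.isZero_of_isZero_tilde ((IsZero.of_iso ?_
      ((DerivedCategory.homologyFunctor _ i).mapIso eL ≪≫ ((TildeD.nuT _ i).app _)).symm))
    refine isZero_of_local fun z => ?_
    obtain ⟨z', hz', hzW⟩ := Set.mem_iUnion₂.1 (ht (Set.mem_univ z))
    have hbz : a₀ ≤ b z' := ha₀ ⟨z', hz', rfl⟩
    haveI := hW z'
    refine ⟨_, (u ⁻¹ᵁ W z').ι, inferInstance, ⟨z, hzW⟩, rfl, ?_⟩
    let v := u ∣_ W z'
    have hv : v ≫ (W z').ι = (u ⁻¹ᵁ W z').ι ≫ u := morphismRestrict_ι u (W z')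
    have hz0 := isZero_HD_of_isGE (K := (DCoh.restrictD (W z').ι).obj ((DCoh.Lpull (f.fiberι (k.base p))).obj E))
      (a := b z') i (lt_of_lt_of_le hi hbz)
    exact ((Scheme.Modules.restrictFunctor v).map_isZero hz0).of_iso
      ((restrictHDIso (u ⁻¹ᵁ W z').ι L i).symm ≪≫ (DerivedCategory.homologyFunctor _ i).mapIso
        (((DCohLib.restrictDComp (u ⁻¹ᵁ W z').ι u).app _).symm ≪≫ (DCohLib.restrictDCongr hv).symm.app _ ≪≫
          (DCohLib.restrictDComp v (W z').ι).app _) ≪≫
        restrictHDIso v _ i)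

end Groth.Agent.DCohMore
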