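import Groth.Agent.DRingLib.FibreGlobalDim
import Groth.Agent.DRingLib.RestrictPC
import Groth.Agent.DRingLib.RestrictAmp2
import Groth.Agent.RelPerfH7.FlatTerms

/-! Finite tor dimension over the base from the fibres. -/

set_option autoImplicit false
set_option linter.style.haveILetI false
set_option backward.isDefEq.respectTransparency false

universe u

open CategoryTheory Limits MonoidalCategory
open scoped TensorProduct
attribute [local instance] HasDerivedCategory.standard Algebra.TensorProduct.rightAlgebra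

noncomputable section

namespace Groth.Agent.DCohMore

open Groth.Agent.DRingLib Groth.Agent.DCohLib Groth.Agent.DTenLib

variable {B : Type u} [CommRing B]

/-- A map to a finite projective module, injective on one fibre, is split up to a scalar outside it. -/
theorem exists_smul_leftInverse {C F : Type u} [AddCommGroup C] [Module B C] [Module.Finite B C]
    [AddCommGroup F] [Module B F] [Module.Projective B F] (φ : C →ₗ[B] F) (m : Ideal B) [hm : m.IsMaximal]
    (h : ∀ c, φ c ∈ m • (⊤ : Submodule B F) → c ∈ m • (⊤ : Submodule B C)) :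
    ∃ s : B, s ∉ m ∧ ∃ l : F →ₗ[B] C, l ∘ₗ φ = s • LinearMap.id := by
  letI := Ideal.Quotient.field m
  let C' := C ⧸ (m • (⊤ : Submodule B C))
  let F' := F ⧸ (m • (⊤ : Submodule B F))
  let φ₀ : C' →ₗ[B] F' := Submodule.mapQ _ _ φ (by
    rw [← Submodule.map_le_iff_le_comap, Submodule.map_smul'']
    exact Submodule.smul_mono le_rfl le_top)
  let φ' : C' →ₗ[B ⧸ m] F' := φ₀.extendScalarsOfSurjective Ideal.Quotient.mk_surjective
  have hinj : LinearMap.ker φ' = ⊥ := LinearMap.ker_eq_bot'.2 fun x hx => by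
    obtain ⟨c, rfl⟩ := Submodule.mkQ_surjective _ x
    exact (Submodule.Quotient.mk_eq_zero _).2 (h c ((Submodule.Quotient.mk_eq_zero _).1 hx))
  obtain ⟨t, ht⟩ := φ'.exists_leftInverse_of_injective hinj
  obtain ⟨l, hl⟩ := Module.projective_lifting_property (m • (⊤ : Submodule B C)).mkQ
    (((t.restrictScalars B).comp (m • (⊤ : Submodule B F)).mkQ)) (Submodule.mkQ_surjective _)
  let g : Module.End B C := l ∘ₗ φ
  have hrange : LinearMap.range (1 - g) ≤ m • (⊤ : Submodule B C) := by
    rintro - ⟨c, rfl⟩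
    refine (Submodule.Quotient.mk_eq_zero _).1 ?_
    have h1 := LinearMap.congr_fun hl (φ c)
    have h2 := LinearMap.congr_fun ht (Submodule.Quotient.mk c)
    show Submodule.Quotient.mk (c - l (φ c)) = 0
    rw [Submodule.Quotient.mk_sub, sub_eq_zero]
    exact h2.symm.trans h1.symm
  obtain ⟨p, hp1, _, hp2, hp3⟩ :=
    LinearMap.exists_monic_and_coeff_mem_pow_and_aeval_eq_zero_of_range_le_smul B (1 - g) m hrange
  obtain ⟨q, hq⟩ : ∃ q : Polynomial B, p - Polynomial.C (p.eval 1) = (Polynomial.X - Polynomial.C 1) * q :=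
    Polynomial.X_sub_C_dvd_sub_C_eval
  refine ⟨p.eval 1, fun hmem => hm.ne_top ((Ideal.eq_top_iff_one m).2 ?_), Polynomial.aeval (1 - g) q ∘ₗ l, ?_⟩
  · have hlow : ∀ k ∈ Finset.range p.natDegree, p.coeff k * 1 ^ k ∈ m := fun k hk => by
      rw [one_pow, mul_one]
      have := hp2 k
      exact Ideal.pow_le_self (by simp at hk; omega) this
    have h1 := hmem
    rw [Polynomial.eval_eq_sum_range, Finset.sum_range_succ, hp1.coeff_natDegree, one_pow, mul_one] at h1
    exact (Submodule.add_mem_iff_right m (sum_mem hlow)).1 h1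
  · have h1 := congrArg (Polynomial.aeval (1 - g)) hq
    rw [map_sub, hp3, map_mul, map_sub, Polynomial.aeval_X, Polynomial.aeval_C, Polynomial.aeval_C,
      map_one, zero_sub, show (1 - g - 1 : Module.End B C) = -g by abel, neg_mul, neg_inj] at h1
    show Polynomial.aeval (1 - g) q * g = p.eval 1 • (1 : Module.End B C)
    rw [← Algebra.algebraMap_eq_smul_one, h1]
    have hg : Polynomial.aeval (1 - g) (1 - Polynomial.X : Polynomial B) = g := by
      rw [map_sub, map_one, Polynomial.aeval_X, sub_sub_cancel]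
    calc Polynomial.aeval (1 - g) q * g = Polynomial.aeval (1 - g) (q * (1 - Polynomial.X)) := by rw [map_mul, hg]
      _ = g * Polynomial.aeval (1 - g) q := by rw [mul_comm q, map_mul, hg]

variable (E : DRing.Cx B)

/-- The cokernel of the differential into a degree. -/
abbrev cok (j : ℤ) : Type u := E.X j ⧸ LinearMap.range (E.d (j - 1) j).hom

/-- The scalars up to which the cokernel is projective. -/
def sproj (j : ℤ) : Ideal B where
  carrier := {s | ∃ σ : cok E j →ₗ[B] E.X j, ∀ c, Submodule.Quotient.mk (σ c) = s • c}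
  zero_mem' := ⟨0, fun c => by simp⟩
  add_mem' := fun {s t} ⟨σ, hσ⟩ ⟨τ, hτ⟩ => ⟨σ + τ, fun c => by
    rw [LinearMap.add_apply, Submodule.Quotient.mk_add, hσ, hτ, add_smul]⟩
  smul_mem' := fun r {s} ⟨σ, hσ⟩ => ⟨r • σ, fun c => by
    rw [LinearMap.smul_apply, Submodule.Quotient.mk_smul, hσ, smul_smul, smul_eq_mul]⟩

theorem mem_sproj_iff (j : ℤ) (s : B) :
    s ∈ sproj E j ↔ ∃ σ : cok E j →ₗ[B] E.X j,
      ∀ c, Submodule.Quotient.mk (σ c) = s • c := Iff.rfl

/-- The map from a cokernel to the next term. -/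
def cokd (j : ℤ) : cok E (j - 1) →ₗ[B] E.X j :=
  (LinearMap.range (E.d (j - 1 - 1) (j - 1)).hom).liftQ (E.d (j - 1) j).hom (by
    rintro - ⟨x, rfl⟩
    show ((E.d (j - 1) j).hom).comp (E.d (j - 1 - 1) (j - 1)).hom x = 0
    rw [← ModuleCat.hom_comp, E.d_comp_d]
    rfl)

variable {E}

theorem exists_mem_sproj (hproj : ∀ i, Module.Projective B (E.X i)) (hfin : ∀ i, Module.Finite B (E.X i))
    (j : ℤ) (m : Ideal B) [hm : m.IsMaximal]
    (h : Function.Exact ((E.d (j - 1 - 1) (j - 1)).hom.lTensor (B ⧸ m)) ((E.d (j - 1) j).hom.lTensor (B ⧸ m))) :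
    ∃ s, s ∉ m ∧ s ∈ sproj E j := by
  haveI := hproj j
  haveI := hfin (j - 1)
  let f := (E.d (j - 1 - 1) (j - 1)).hom
  let g := (E.d (j - 1) j).hom
  obtain ⟨s, hs, l, hl⟩ := exists_smul_leftInverse (cokd E j) m fun c hc => by
    obtain ⟨x, rfl⟩ := Submodule.mkQ_surjective _ c
    let e : ∀ (P : Type u) [AddCommGroup P] [Module B P], ((B ⧸ m) ⊗[B] P) ≃ₗ[B] P ⧸ (m • (⊤ : Submodule B P)) :=
      fun P _ _ => TensorProduct.quotTensorEquivQuotSMul P m
    have hx : g.lTensor (B ⧸ m) ((1 : B ⧸ m) ⊗ₜ[B] x) = 0 := by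
      refine (e (E.X j)).injective ?_
      rw [map_zero, LinearMap.lTensor_tmul]
      show TensorProduct.quotTensorEquivQuotSMul (E.X j) m (Ideal.Quotient.mk m 1 ⊗ₜ[B] g x) = 0
      rw [TensorProduct.quotTensorEquivQuotSMul_mk_tmul, one_smul]
      exact (Submodule.Quotient.mk_eq_zero _).2 hc
    obtain ⟨y, hy⟩ := (h _).1 hx
    have key : ∀ y : (B ⧸ m) ⊗[B] E.X (j - 1 - 1),
        ∃ z, e (E.X (j - 1)) (f.lTensor (B ⧸ m) y) = Submodule.Quotient.mk (f z) := by
      intro y
      induction y using TensorProduct.induction_on with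
      | zero => exact ⟨0, by simp⟩
      | tmul r p =>
        obtain ⟨r, rfl⟩ := Ideal.Quotient.mk_surjective r
        refine ⟨r • p, ?_⟩
        rw [LinearMap.lTensor_tmul, map_smul]
        exact TensorProduct.quotTensorEquivQuotSMul_mk_tmul m r (f p)
      | add a b ha hb =>
        obtain ⟨za, ha⟩ := ha
        obtain ⟨zb, hb⟩ := hb
        exact ⟨za + zb, by rw [map_add, map_add, ha, hb, map_add, Submodule.Quotient.mk_add]⟩
    obtain ⟨z, hz⟩ := key y
    rw [hy] at hz
    change TensorProduct.quotTensorEquivQuotSMul (E.X (j - 1)) m (Ideal.Quotient.mk m 1 ⊗ₜ[B] x) = _ at hz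
    rw [TensorProduct.quotTensorEquivQuotSMul_mk_tmul, one_smul, Submodule.Quotient.eq] at hz
    have h1 := Submodule.mem_map_of_mem (f := (LinearMap.range f).mkQ) hz
    rw [Submodule.map_smul'', map_sub,
      show (LinearMap.range f).mkQ (f z) = 0 from (Submodule.Quotient.mk_eq_zero _).2 ⟨z, rfl⟩, sub_zero] at h1
    exact Submodule.smul_mono le_rfl le_top h1
  refine ⟨s, hs, (mem_sproj_iff E j s).2 ⟨(LinearMap.range g).liftQ
    (s • LinearMap.id - cokd E j ∘ₗ l) ?_, fun c => ?_⟩⟩
  · rintro - ⟨x, rfl⟩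
    have h2 : l (g x) = s • (Submodule.Quotient.mk x : cok E (j - 1)) :=
      LinearMap.congr_fun hl (Submodule.Quotient.mk x)
    show s • g x - cokd E j (l (g x)) = 0
    rw [h2, map_smul]
    exact sub_self _
  · obtain ⟨x, rfl⟩ := Submodule.mkQ_surjective _ c
    show Submodule.Quotient.mk (s • x - cokd E j (l x)) = s • Submodule.Quotient.mk x
    obtain ⟨y, hy⟩ := Submodule.mkQ_surjective _ (l x)
    rw [Submodule.Quotient.mk_sub, Submodule.Quotient.mk_smul, ← hy,
      show (Submodule.Quotient.mk (cokd E j (Submodule.mkQ _ y)) : cok E j) = 0 from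
        (Submodule.Quotient.mk_eq_zero _).2 ⟨y, rfl⟩, sub_zero]

theorem sproj_le_of_exact (hproj : ∀ i, Module.Projective B (E.X i)) (j : ℤ) (h : E.ExactAt (j - 1)) :
    sproj E j ≤ sproj E (j - 1) := by
  intro s hs
  obtain ⟨σ, hσ⟩ := (mem_sproj_iff E j s).1 hs
  rw [HomologicalComplex.exactAt_iff' _ (j - 1 - 1) (j - 1) j (by simp) (by simp),
    ShortComplex.ShortExact.moduleCat_exact_iff_function_exact] at h
  have hinj : Function.Injective (cokd E j) := (injective_iff_map_eq_zero _).2 fun c hc => by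
    obtain ⟨x, rfl⟩ := Submodule.mkQ_surjective _ c
    exact (Submodule.Quotient.mk_eq_zero _).2 ((h x).1 hc)
  let π := (LinearMap.range (E.d (j - 1) j).hom).mkQ
  let e := LinearEquiv.ofInjective (cokd E j) hinj
  let r : E.X j →ₗ[B] cok E (j - 1) := e.symm.toLinearMap ∘ₗ
    (s • LinearMap.id - σ ∘ₗ π).codRestrict (LinearMap.range (cokd E j)) fun x => by
      have h0 : π (s • x - σ (π x)) = 0 := by
        rw [map_sub, map_smul, show π (σ (π x)) = s • π x from hσ (π x), sub_self]
      obtain ⟨y, hy⟩ := (Submodule.Quotient.mk_eq_zero _).1 h0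
      exact ⟨Submodule.Quotient.mk y, hy⟩
  have hr : ∀ c, r (cokd E j c) = s • c := fun c => by
    apply hinj
    have h1 : cokd E j (r (cokd E j c)) = s • cokd E j c - σ (π (cokd E j c)) :=
      congrArg Subtype.val (e.apply_symm_apply _)
    obtain ⟨x, rfl⟩ := Submodule.mkQ_surjective _ c
    rw [h1, map_smul, show π (cokd E j (Submodule.mkQ _ x)) = 0 from
      (Submodule.Quotient.mk_eq_zero _).2 ⟨x, rfl⟩, map_zero, sub_zero]
  haveI := hproj j
  obtain ⟨r', hr'⟩ := Module.projective_lifting_property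
    (LinearMap.range (E.d (j - 1 - 1) (j - 1)).hom).mkQ r (Submodule.mkQ_surjective _)
  exact (mem_sproj_iff E (j - 1) s).2 ⟨r' ∘ₗ cokd E j, fun c =>
    (LinearMap.congr_fun hr' (cokd E j c)).trans (hr c)⟩

theorem exists_projective_cok (hproj : ∀ i, Module.Projective B (E.X i)) (hfin : ∀ i, Module.Finite B (E.X i))
    (a : ℤ) (ha : ∀ i, i < a → E.ExactAt i)
    (h : ∀ m : Ideal B, m.IsMaximal → ∃ a' : ℤ, ∀ i, i < a' →
      Function.Exact ((E.d (i - 1) i).hom.lTensor (B ⧸ m)) ((E.d i (i + 1)).hom.lTensor (B ⧸ m))) :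
    ∃ j ≤ a, Module.Projective B (cok E j) := by
  let I : ℕ → Ideal B := fun n => sproj E (a - n)
  have hmono : Monotone I := monotone_nat_of_le_succ fun n => by
    have := sproj_le_of_exact hproj (a - n) (ha _ (by omega))
    rwa [show a - (n : ℤ) - 1 = a - ((n + 1 : ℕ) : ℤ) by push_cast; ring] at this
  have htop : (⨆ n, I n) = ⊤ := by
    by_contra hne
    obtain ⟨m, hm, hle⟩ := Ideal.exists_le_maximal _ hne
    obtain ⟨a', ha'⟩ := h m hm
    have he := ha' (a - (a - a').toNat - 1) (by omega)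
    rw [show a - ((a - a').toNat : ℤ) - 1 + 1 = a - (a - a').toNat by ring] at he
    obtain ⟨s, hs, hmem⟩ := exists_mem_sproj hproj hfin (a - (a - a').toNat) m (hm := hm) he
    exact hs (hle (Submodule.mem_iSup_of_mem (p := I) (a - a').toNat hmem))
  obtain ⟨n, hn⟩ := (Submodule.mem_iSup_of_directed I hmono.directed_le).1
    (show (1 : B) ∈ ⨆ n, I n by rw [htop]; trivial)
  obtain ⟨σ, hσ⟩ := (mem_sproj_iff E _ 1).1 hn
  haveI := hproj (a - n)
  exact ⟨a - n, by omega, Module.Projective.of_split σ (LinearMap.range (E.d (a - (n : ℤ) - 1) (a - n)).hom).mkQ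
    (LinearMap.ext fun c => (hσ c).trans (one_smul B c))⟩

theorem exists_amplitude_of_fibres {c : ℤ} (hb : DRing.VanishesAbove E c)
    (hproj : ∀ i, Module.Projective B (E.X i)) (hfin : ∀ i, Module.Finite B (E.X i))
    (a : ℤ) (ha : ∀ i, i < a → E.ExactAt i)
    (h : ∀ m : Ideal B, m.IsMaximal → ∃ a' : ℤ, ∀ i, i < a' →
      Function.Exact ((E.d (i - 1) i).hom.lTensor (B ⧸ m)) ((E.d i (i + 1)).hom.lTensor (B ⧸ m))) :
    ∃ a' : ℤ, DRing.HasTorAmplitudeIn B a' c (DRing.toD E) := by
  obtain ⟨j, hj, hp⟩ := exists_projective_cok hproj hfin (min a (c + 1)) (fun i hi => ha i (by omega)) h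
  refine ⟨j, exists_truncated (Ψ := fun M => Module.Flat B M) (fun e hM => ?_) (fun hM => ?_) j c (by omega) hb
    (fun i _ => ?_) (fun i hi => ha i (by omega)) ?_⟩
  · haveI := hM
    exact Module.Flat.of_linearEquiv e.symm.toLinearEquiv
  · haveI := ModuleCat.subsingleton_of_isZero hM
    exact inferInstance
  · haveI := hproj i
    exact inferInstance
  · obtain ⟨e⟩ := opcycles_equiv E j
    exact Module.Flat.of_linearEquiv e.symm

end Groth.Agent.DCohMore
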