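import Groth.Agent.DRingLib.FibreExact

/-!
# Splitting off the constants from a complex with one-dimensional fibre cohomology
-/

set_option autoImplicit false
set_option linter.style.haveILetI false
set_option linter.unusedSectionVars false

universe u

open TensorProduct

noncomputable section

namespace Groth.Agent.DCohMore.FibreOne

open Groth.Agent.DRingLib

variable {A : Type u} [CommRing A] {P Q : Type u} [AddCommGroup P] [Module A P] [Module.Finite A P] [Module.Free A P]
  [AddCommGroup Q] [Module A Q] [Module.Finite A Q] [Module.Free A Q]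

/-- Near a prime where the kernel of `d` becomes a line, a complement of a line containing the kernel splits. -/
theorem exists_line_split_free (p : Ideal A) [p.IsPrime] (d : P →ₗ[A] Q) {B : Type u} [CommRing B] [Algebra A B]
    (e : B ≃ₗ[A] LinearMap.ker d) (hinj : Function.Injective (algebraMap A B))
    (hd : Module.finrank p.ResidueField (LinearMap.ker (d.baseChange p.ResidueField)) = 1) :
    ∃ c : A, c ∉ p ∧ ∃ (α : P) (φ : P →ₗ[A] A) (h : Q →ₗ[A] P),
      d α = 0 ∧ φ α = c ∧ ∀ x, c • x = φ x • α + h (d x) := by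
  classical
  let κ := p.ResidueField
  let K := LinearMap.ker (d.baseChange κ)
  haveI : Nontrivial K := Module.nontrivial_of_finrank_pos (R := κ) (M := K) (by rw [hd]; exact one_pos)
  obtain ⟨v, hv⟩ := exists_ne (0 : K)
  let bP := Module.Free.chooseBasis A P
  obtain ⟨i, hi⟩ : ∃ i, (bP.baseChange κ).repr (v : κ ⊗[A] P) i ≠ 0 := by
    by_contra hh
    push Not at hh
    refine hv (Subtype.ext ((bP.baseChange κ).ext_elem fun i => ?_))
    rw [hh i]
    simp
  let φ : P →ₗ[A] A := bP.coord i
  have hφv : TensorProduct.rid A κ ((φ.baseChange κ) (v : κ ⊗[A] P)) ≠ 0 := by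
    have key : ∀ z : κ ⊗[A] P, TensorProduct.rid A κ ((φ.baseChange κ) z) = (bP.baseChange κ).repr z i := fun z => by
      induction z using TensorProduct.induction_on with
      | zero => simp
      | tmul k x =>
        rw [LinearMap.baseChange_tmul, TensorProduct.rid_tmul]
        simp [φ, Module.Basis.coord_apply]
      | add a b ha hb => simp [map_add, ha, hb]
    rwa [key]
  have hφv' : (φ.baseChange κ) (v : κ ⊗[A] P) ≠ 0 := fun h0 => hφv (by rw [h0, map_zero])
  let ψ : P →ₗ[A] A × Q := φ.prod d
  have hψ : Function.Injective (ψ.baseChange κ) := by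
    refine (injective_iff_map_eq_zero _).2 fun z hz => ?_
    have h1 : (φ.baseChange κ) z = 0 := by
      have := congrArg ((LinearMap.fst A A Q).baseChange κ) hz
      rwa [map_zero, ← LinearMap.comp_apply, ← LinearMap.baseChange_comp, LinearMap.fst_prod] at this
    have h2 : z ∈ K := by
      have := congrArg ((LinearMap.snd A A Q).baseChange κ) hz
      rwa [map_zero, ← LinearMap.comp_apply, ← LinearMap.baseChange_comp, LinearMap.snd_prod] at this
    obtain ⟨k, hk⟩ := (finrank_eq_one_iff_of_nonzero' v hv).1 hd ⟨z, h2⟩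
    have hk' : k • (v : κ ⊗[A] P) = z := congrArg Subtype.val hk
    rw [← hk', map_smul, smul_eq_zero] at h1
    rcases h1 with h1 | h1
    · rw [← hk', h1, zero_smul]
    · exact absurd h1 hφv'
  obtain ⟨f, hf, g, hmap, hgh⟩ := exists_split_near p (0 : PUnit.{u + 1} →ₗ[A] P) ψ (fun x => by simp) (by
    intro z
    rw [LinearMap.baseChange_zero]
    constructor
    · intro hz
      exact ⟨0, by rw [LinearMap.zero_apply]; exact (hψ (hz.trans (map_zero _).symm)).symm⟩
    · rintro ⟨w, rfl⟩
      simp)
  let α₀ : P := hmap (1, 0)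
  let h' : Q →ₗ[A] P := hmap ∘ₗ LinearMap.inr A A Q
  have hid : ∀ x, f • x = φ x • α₀ + h' (d x) := fun x => by
    have h0 := LinearMap.congr_fun hgh x
    simp only [LinearMap.add_apply, LinearMap.comp_apply, LinearMap.zero_apply, zero_add, LinearMap.smul_apply,
      LinearMap.id_coe, id_eq] at h0
    rw [← h0, ← map_smul, LinearMap.comp_apply, ← map_add]
    congr 1
    simp [ψ]
  -- the differential kills the line
  have hker : ∀ x ∈ LinearMap.ker d, f • x = φ x • α₀ := fun x hx => by
    rw [hid x, LinearMap.mem_ker.1 hx, map_zero, add_zero]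
  let bQ := Module.Free.chooseBasis A Q
  have hw : f • d α₀ = 0 := by
    refine bQ.ext_elem fun j => ?_
    simp only [map_smul, Finsupp.smul_apply, smul_eq_mul, map_zero, Finsupp.zero_apply]
    refine hinj (?_ : algebraMap A B _ = algebraMap A B 0)
    rw [map_zero, Algebra.algebraMap_eq_smul_one]
    apply e.injective
    rw [map_zero, map_smul]
    refine Subtype.ext ?_
    have hx := hker _ (e 1).2
    have hx' : φ (e 1 : P) • d α₀ = 0 := by
      rw [← map_smul, ← hx, map_smul, LinearMap.mem_ker.1 (e 1).2, smul_zero]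
    have hc : φ (e 1 : P) * bQ.repr (d α₀) j = 0 := by
      have := congrArg (fun q => bQ.repr q j) hx'
      simpa using this
    show (f * bQ.repr (d α₀) j) • (e 1 : P) = 0
    rw [mul_comm, mul_smul, hx, smul_smul, mul_comm, hc, zero_smul]
  -- normalise
  let t := φ α₀
  have ht : t ∉ p := by
    intro htp
    have key : (f • φ) = t • φ + (φ ∘ₗ h') ∘ₗ d := LinearMap.ext fun x => by
      have := congrArg φ (hid x)
      simp only [map_smul, map_add, smul_eq_mul] at this
      simp only [LinearMap.smul_apply, LinearMap.add_apply, LinearMap.comp_apply, smul_eq_mul]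
      rw [this, mul_comm t]
    have k2 := congrArg (fun l => LinearMap.baseChange κ l (v : κ ⊗[A] P)) key
    simp only [LinearMap.baseChange_smul, LinearMap.baseChange_add, LinearMap.add_apply, LinearMap.smul_apply,
      LinearMap.baseChange_comp, LinearMap.comp_apply] at k2
    rw [LinearMap.mem_ker.1 v.2, map_zero, map_zero, add_zero, ← algebraMap_smul κ f, ← algebraMap_smul κ t,
      (Ideal.algebraMap_residueField_eq_zero).2 htp, zero_smul, smul_eq_zero] at k2
    rcases k2 with k2 | k2
    · exact hf (Ideal.algebraMap_residueField_eq_zero.1 k2)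
    · exact hφv' k2
  have hfix : f * f * t = f * t * t := by
    have hα : d (f • α₀) = 0 := by rw [map_smul, hw]
    have := congrArg φ (hker _ (LinearMap.mem_ker.2 hα))
    simp only [map_smul, smul_eq_mul] at this
    calc f * f * t = f * (f * t) := mul_assoc _ _ _
      _ = _ := this
      _ = f * t * t := by ring
  refine ⟨f * f * t, ?_, f • α₀, t • φ, (f * t) • h', by rw [map_smul, hw], ?_, fun x => ?_⟩
  · intro hmem
    rcases (‹p.IsPrime›).mem_or_mem hmem with h1 | h1
    · rcases (‹p.IsPrime›).mem_or_mem h1 with h2 | h2 <;> exact hf h2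
    · exact ht h1
  · rw [LinearMap.smul_apply, map_smul, smul_eq_mul, smul_eq_mul, hfix]
    ring
  · rw [show f * f * t = (f * t) * f by ring, mul_smul, hid x, smul_add, smul_smul, LinearMap.smul_apply,
      LinearMap.smul_apply, smul_smul, smul_eq_mul]
    congr 2
    ring

section Projective

variable {P Q : Type u} [AddCommGroup P] [Module A P] [Module.Finite A P] [Module.Projective A P]
  [AddCommGroup Q] [Module A Q] [Module.Finite A Q] [Module.Projective A Q]

/-- The same for finite projective modules. -/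
theorem exists_line_split (p : Ideal A) [p.IsPrime] (d : P →ₗ[A] Q) {B : Type u} [CommRing B] [Algebra A B]
    (e : B ≃ₗ[A] LinearMap.ker d) (hinj : Function.Injective (algebraMap A B))
    (hd : Module.finrank p.ResidueField (LinearMap.ker (d.baseChange p.ResidueField)) = 1) :
    ∃ c : A, c ∉ p ∧ ∃ (α : P) (φ : P →ₗ[A] A) (h : Q →ₗ[A] P),
      d α = 0 ∧ φ α = c ∧ ∀ x, c • x = φ x • α + h (d x) := by
  obtain ⟨n, r, hr⟩ := Module.Finite.exists_fin' A P
  obtain ⟨s, hs⟩ := Module.projective_lifting_property r LinearMap.id hr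
  obtain ⟨m, q, hq⟩ := Module.Finite.exists_fin' A Q
  obtain ⟨t, ht⟩ := Module.projective_lifting_property q LinearMap.id hq
  have hs' : ∀ y, r (s y) = y := fun y => LinearMap.congr_fun hs y
  have ht' : ∀ y, q (t y) = y := fun y => LinearMap.congr_fun ht y
  let κ := p.ResidueField
  let d' : (Fin n → A) →ₗ[A] (Fin m → A) × (Fin n → A) :=
    (t ∘ₗ d ∘ₗ r).prod (LinearMap.id - s ∘ₗ r)
  have hk : ∀ x, x ∈ LinearMap.ker d' ↔ d (r x) = 0 ∧ s (r x) = x := fun x => by
    simp only [d', LinearMap.mem_ker, LinearMap.prod_apply, Function.prod_apply, Prod.mk_eq_zero, LinearMap.comp_apply,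
      LinearMap.sub_apply, LinearMap.id_coe, id_eq, sub_eq_zero]
    exact ⟨fun h => ⟨by rw [← ht' (d (r x)), h.1, map_zero], h.2.symm⟩, fun h => ⟨by rw [h.1, map_zero], h.2.symm⟩⟩
  let k : LinearMap.ker d ≃ₗ[A] LinearMap.ker d' :=
    LinearEquiv.ofLinear
      ((s ∘ₗ (LinearMap.ker d).subtype).codRestrict _ fun y =>
        (hk _).2 ⟨by simp [hs'], by simp [hs']⟩)
      ((r ∘ₗ (LinearMap.ker d').subtype).codRestrict _ fun x => ((hk x.1).1 x.2).1)
      (LinearMap.ext fun x => Subtype.ext ((hk x.1).1 x.2).2)
      (LinearMap.ext fun y => Subtype.ext (hs' y.1))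
  have hbc : LinearMap.ker (d'.baseChange κ) = (LinearMap.ker (d.baseChange κ)).map (s.baseChange κ) := by
    have hd's : d' ∘ₗ s = LinearMap.inl A (Fin m → A) (Fin n → A) ∘ₗ t ∘ₗ d := LinearMap.ext fun y => by
      simp [d', hs']
    ext z
    constructor
    · intro hz
      have h1 := congrArg ((LinearMap.snd A (Fin m → A) (Fin n → A)).baseChange κ) hz
      rw [map_zero, ← LinearMap.comp_apply, ← LinearMap.baseChange_comp, LinearMap.snd_prod,
        LinearMap.baseChange_sub, LinearMap.baseChange_id, LinearMap.sub_apply, LinearMap.id_apply, sub_eq_zero,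
        LinearMap.baseChange_comp, LinearMap.comp_apply] at h1
      have h2 := congrArg ((q ∘ₗ LinearMap.fst A (Fin m → A) (Fin n → A)).baseChange κ) hz
      have hqd : (q ∘ₗ LinearMap.fst A (Fin m → A) (Fin n → A)) ∘ₗ d' = d ∘ₗ r := LinearMap.ext fun x => by
        simp [d', ht']
      rw [map_zero, ← LinearMap.comp_apply, ← LinearMap.baseChange_comp, hqd, LinearMap.baseChange_comp,
        LinearMap.comp_apply] at h2
      exact ⟨_, h2, h1.symm⟩
    · rintro ⟨y, hy, rfl⟩
      show d'.baseChange κ (s.baseChange κ y) = 0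
      rw [← LinearMap.comp_apply, ← LinearMap.baseChange_comp, hd's, LinearMap.baseChange_comp,
        LinearMap.comp_apply, LinearMap.baseChange_comp, LinearMap.comp_apply, LinearMap.mem_ker.1 hy, map_zero,
        map_zero]
  have hinjs : Function.Injective (s.baseChange κ) := fun a b h => by
    have := congrArg (r.baseChange κ) h
    rwa [← LinearMap.comp_apply, ← LinearMap.comp_apply, ← LinearMap.baseChange_comp, hs, LinearMap.baseChange_id,
      LinearMap.id_apply, LinearMap.id_apply] at this
  obtain ⟨c, hc, α, φ, h, hα, hφα, hid⟩ := exists_line_split_free p d' (e ≪≫ₗ k) hinj (by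
    rw [hbc, ← (Submodule.equivMapOfInjective _ hinjs _).finrank_eq, hd])
  obtain ⟨hα₁, hα₂⟩ := (hk α).1 hα
  refine ⟨c, hc, r α, φ ∘ₗ s, r ∘ₗ h ∘ₗ LinearMap.inl A _ _ ∘ₗ t, hα₁, by simp [hα₂, hφα], fun y => ?_⟩
  have := congrArg r (hid (s y))
  rw [map_smul, map_add, map_smul, hs'] at this
  rw [this]
  simp [d', hs']

/-- The algebra is then generated by one near the prime. -/
theorem exists_surjective_near (p : Ideal A) [p.IsPrime] (d : P →ₗ[A] Q) {B : Type u} [CommRing B] [Algebra A B]
    (e : B ≃ₗ[A] LinearMap.ker d) (hinj : Function.Injective (algebraMap A B))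
    (hd : Module.finrank p.ResidueField (LinearMap.ker (d.baseChange p.ResidueField)) = 1) (b : B) :
    ∃ c : A, c ∉ p ∧ c • b ∈ LinearMap.range (Algebra.linearMap A B) := by
  obtain ⟨c, hc, α, φ, h, hα, hφα, hid⟩ := exists_line_split p d e hinj hd
  let β : B := e.symm ⟨α, hα⟩
  let θ : B →ₗ[A] A := φ ∘ₗ (LinearMap.ker d).subtype ∘ₗ e.toLinearMap
  have hB : ∀ y : B, c • y = θ y • β := fun y => e.injective (Subtype.ext (by
    rw [map_smul, map_smul, e.apply_symm_apply]
    show c • (e y : P) = φ (e y : P) • α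
    rw [hid (e y : P), LinearMap.mem_ker.1 (e y).2, map_zero, add_zero]))
  -- `c² β = θ(1) θ(β²) β`
  have h1 : c • (1 : B) = θ 1 • β := hB 1
  have h2 : c • (β * β) = θ (β * β) • β := hB _
  have h3 : (c * c) • β = (θ 1 * θ (β * β)) • β := by
    rw [mul_smul, mul_comm (θ 1), mul_smul]
    calc c • c • β = c • (β * (c • (1 : B))) := by rw [mul_smul_comm, mul_one]
      _ = c • (θ 1 • (β * β)) := by rw [h1, mul_smul_comm]
      _ = θ 1 • θ (β * β) • β := by rw [smul_comm, h2]
      _ = θ (β * β) • θ 1 • β := smul_comm _ _ _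
  refine ⟨c * c * c, ?_, θ (β * β) * θ b * c, ?_⟩
  · intro hm
    rcases (‹p.IsPrime›).mem_or_mem hm with h | h
    · rcases (‹p.IsPrime›).mem_or_mem h with h | h <;> exact hc h
    · exact hc h
  · rw [Algebra.linearMap_apply, Algebra.algebraMap_eq_smul_one]
    calc (θ (β * β) * θ b * c) • (1 : B) = (θ (β * β) * θ b) • θ 1 • β := by rw [mul_smul, h1]
      _ = θ b • (θ 1 * θ (β * β)) • β := by rw [smul_smul, smul_smul]; congr 1; ring
      _ = θ b • (c * c) • β := by rw [h3]
      _ = (c * c) • c • b := by rw [hB b, smul_comm]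
      _ = _ := by rw [smul_smul]

end Projective

end Groth.Agent.DCohMore.FibreOne
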