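import Groth.Agent.DCohMore.FinPushRes
import Groth.Agent.DCohMore.FibreOneAlg
import Groth.Agent.DCohMore.RpushBdd
import Groth.Agent.DCohLib.Symm
import Groth.Agent.TildeTensorLib.Basic
import Groth.Agent.TildePerf.Amp
import Groth.Agent.S12131
import Groth.Agent.ProjCoh.PSData

/-!
# The fibre cohomology of `Rf_* O` in degrees at most zero
-/

set_option autoImplicit false
set_option linter.style.haveILetI false
set_option linter.unusedSectionVars false
set_option backward.isDefEq.respectTransparency false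

universe u

open CategoryTheory Limits AlgebraicGeometry TopologicalSpace Opposite MonoidalCategory
attribute [local instance] HasDerivedCategory.standard

noncomputable section

namespace Groth.Agent.DCohMore.FibreOne

open Groth.Agent.DCohLib Groth.Agent.TildePerf

variable {A : Type u} [CommRing A] {X : Scheme.{u}}

theorem isIso_alpha {R : CommRingCat.{u}} (M : ModuleCat.{u} R) : IsIso (TildeTensorLib.alpha (R := R) M) := by
  haveI : PreservesColimitsOfSize.{u, u} (tilde.functor R ⋙ (DCoh.tensorBi (X := Spec R)).obj (tilde M)) :=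
    TildeKFlat.preservesColimits_tensTil_obj R (tilde M)
  haveI : IsIso ((TildeTensorLib.alpha (R := R) M).app (ModuleCat.of R R)) := by
    show IsIso ((tilde.adjunction.homEquiv _ _).symm _)
    rw [Adjunction.homEquiv_counit]
    haveI : IsIso (TildeTensorLib.beta (R := R) M (ModuleCat.of R R)) :=
      (ConcreteCategory.isIso_iff_bijective _).2 (TildeTensorLib.bijective_beta_self M)
    haveI : IsIso ((tilde.adjunction (R := R)).counit.app
        (((DCoh.tensorBi (X := Spec R)).obj (tilde M)).obj (tilde (ModuleCat.of R R)))) := by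
      haveI hq : Coh.IsQCoh (((DCoh.tensorBi (X := Spec R)).obj (tilde M)).obj (tilde (ModuleCat.of R R))) :=
        TildeD.isQCoh_tensorBi_tilde _ (TildeD.isQCoh_tilde (R := R) M) _
      rw [tilde.adjunction.isIso_counit_app_iff_mem_essImage, essImage_tilde]
      exact hq
    exact @IsIso.comp_isIso _ _ _ _ _ _ _ ((tilde.functor R).map_isIso _) ‹_›
  exact TildeKFlat.isIso_of_isIso_app_self _ inferInstance

/-- Tensoring the sheaf of a complex with the sheaf of a module. -/
def tilCTensor (M : ModuleCat.{u} A) (N : DRing.Cx A) :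
    (((DCoh.tensorBi (X := Spec (CommRingCat.of A))).flip.obj (tilde M)).mapHomologicalComplex (ComplexShape.up ℤ)).obj
        (tilC N) ≅ tilC (((tensorLeft M).mapHomologicalComplex (ComplexShape.up ℤ)).obj N) :=
  haveI := isIso_alpha (R := CommRingCat.of A) M
  let τ : tilde.functor (CommRingCat.of A) ⋙ (DCoh.tensorBi (X := Spec (CommRingCat.of A))).flip.obj (tilde M) ≅
      tensorLeft M ⋙ tilde.functor (CommRingCat.of A) :=
    Functor.isoWhiskerLeft _ ((symmIso (Spec (CommRingCat.of A)).sheaf).app (tilde M)).symm ≪≫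
      (asIso (TildeTensorLib.alpha (R := CommRingCat.of A) M)).symm
  HomologicalComplex.Hom.isoOfComponents (fun n => τ.app (N.X n)) fun i j _ => (τ.hom.naturality (N.d i j)).symm

/-- Recovering a module from its sheaf. -/
theorem nonempty_of_tilde_iso {M M' : ModuleCat.{u} A}
    (e : (tilde.functor (CommRingCat.of A)).obj M ≅ (tilde.functor (CommRingCat.of A)).obj M') : Nonempty (M ≅ M') :=
  ⟨(tilde.fullyFaithfulFunctor (R := CommRingCat.of A)).preimageIso e⟩

/-- A quasi-coherent module on an affine scheme is the sheaf of its sections. -/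
def tildeΓIso (G : (Spec (CommRingCat.of A)).Modules) [Coh.IsQCoh G] :
    (tilde.functor (CommRingCat.of A)).obj ((moduleSpecΓFunctor (R := CommRingCat.of A)).obj G) ≅ G :=
  haveI : IsIso ((tilde.adjunction (R := CommRingCat.of A)).counit.app G) := by
    rw [tilde.adjunction.isIso_counit_app_iff_mem_essImage, essImage_tilde]
    exact ‹Coh.IsQCoh G›
  asIso ((tilde.adjunction (R := CommRingCat.of A)).counit.app G)

/-- Sections of functions, as a module over the base ring. -/
abbrev secO (f : X ⟶ Spec (CommRingCat.of A)) : ModuleCat.{u} A :=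
  (moduleSpecΓFunctor (R := CommRingCat.of A)).obj ((Scheme.Modules.pushforward f).obj (Coh.structureModule X))

def HDsgl (M : X.Modules) : DCoh.HD (DerivedCategory.Q.obj (sgl₀ M)) 0 ≅ M :=
  (DerivedCategory.homologyFunctorFactors X.Modules 0).app _ ≪≫
    (HomologicalComplex.homologyFunctorSingleIso X.Modules (ComplexShape.up ℤ) 0).app M

theorem isGE_sgl (M : X.Modules) : (DerivedCategory.Q.obj (sgl₀ M)).IsGE 0 := by
  haveI : (sgl₀ M).IsStrictlyGE 0 := inferInstance
  infer_instance

/-- Cohomology of the module model in degrees at most zero. -/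
theorem homology_model (f : X ⟶ Spec (CommRingCat.of A)) [DCoh.HasRpush f]
    [PreservesFiniteLimits (tilde.functor (CommRingCat.of A))] (N : DRing.Cx A)
    (eN : DerivedCategory.Q.obj (tilC N) ≅ (DCoh.Rpush f).obj (DerivedCategory.Q.obj (sgl₀ (Coh.structureModule X)))) :
    (∀ i : ℤ, i < 0 → N.ExactAt i) ∧ Nonempty (N.homology 0 ≅ secO f) := by
  haveI := isGE_sgl (Coh.structureModule X)
  haveI : ((DCoh.Rpush f).obj (DerivedCategory.Q.obj (sgl₀ (Coh.structureModule X)))).IsGE 0 := isGE_rpush f _ 0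
  let t := fun i => ((TildeD.nuT (CommRingCat.of A) i).app (DRing.toD N)).symm ≪≫
    (DerivedCategory.homologyFunctor _ i).mapIso (tildeDQ N ≪≫ eN)
  refine ⟨fun i hi => ?_, ?_⟩
  · refine (HomologicalComplex.exactAt_iff_isZero_homology _ _).2 ?_
    refine IsZero.of_iso (isZero_of_isZero_tilde ?_) ((DerivedCategory.homologyFunctorFactors _ i).app N).symm
    exact (DerivedCategory.isZero_of_isGE _ 0 i hi).of_iso (t i)
  · obtain ⟨e⟩ := nonempty_HD_zero_rpush f (DerivedCategory.Q.obj (sgl₀ (Coh.structureModule X)))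
    obtain ⟨a⟩ := nonempty_of_tilde_iso (t 0 ≪≫ e ≪≫ (Scheme.Modules.pushforward f).mapIso (HDsgl _) ≪≫
      (@tildeΓIso A _ _ (isQCoh_of_iso' (t 0 ≪≫ e ≪≫ (Scheme.Modules.pushforward f).mapIso (HDsgl _))
        (TildeD.isQCoh_tilde (R := CommRingCat.of A) _))).symm)
    exact ⟨((DerivedCategory.homologyFunctorFactors _ 0).app N).symm ≪≫ a⟩

/-- Tensoring a flat resolution of the direct image with a module. -/
theorem nonempty_tensor_model (f : X ⟶ Spec (CommRingCat.of A)) [Flat f] [QuasiCompact f] [QuasiSeparated f]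
    [DCoh.HasRpush f] (N : DRing.Cx A) (hN : DCoh.IsStrictlyPerfect (tilC N))
    (eN : DerivedCategory.Q.obj (tilC N) ≅ (DCoh.Rpush f).obj (DerivedCategory.Q.obj (sgl₀ (Coh.structureModule X))))
    (M : ModuleCat.{u} A) :
    Nonempty (DerivedCategory.Q.obj (tilC (((tensorLeft M).mapHomologicalComplex (ComplexShape.up ℤ)).obj N)) ≅
      (DCoh.Rpush f).obj (DerivedCategory.Q.obj (sgl₀ ((Scheme.Modules.pullback f).obj
        ((tilde.functor (CommRingCat.of A)).obj M))))) := by
  haveI := preservesHomology_pullback f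
  have hq : Coh.IsQCoh ((tilde.functor (CommRingCat.of A)).obj M) := TildeD.isQCoh_tilde (R := CommRingCat.of A) M
  revert hq
  let W := tilC (((tensorLeft M).mapHomologicalComplex (ComplexShape.up ℤ)).obj N)
  have hW : Nonempty ((((DCoh.tensorBi (X := Spec (CommRingCat.of A))).flip.obj
      ((tilde.functor (CommRingCat.of A)).obj M)).mapHomologicalComplex (ComplexShape.up ℤ)).obj (tilC N) ≅ W) :=
    ⟨tilCTensor M N⟩
  revert hW
  change _ → _ → Nonempty (DerivedCategory.Q.obj W ≅ _)
  generalize W = W'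
  generalize (tilde.functor (CommRingCat.of A)).obj M = G'
  rintro ⟨eW⟩ hG'q
  haveI := hG'q
  haveI hXq : Coh.IsQCoh (Coh.structureModule X) := CohBase.isQCoh_structureModule
  obtain ⟨I, hI, -, ⟨eI⟩⟩ := exists_injective_resolution X (DerivedCategory.Q.obj (sgl₀ (Coh.structureModule X)))
  haveI := hI
  let P := (resX (Spec (CommRingCat.of A))).obj (sgl₀ G')
  have hP : DCoh.IsKFlat P := isKFlat_resX _
  haveI hπ := quasiIso_resXπ (sgl₀ G')
  let eP : DerivedCategory.Q.obj P ≅ DerivedCategory.Q.obj (sgl₀ G') := @asIso _ _ _ _ _ (isIso_Q_resXπ (sgl₀ G'))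
  haveI := isIso_projTau f I (TildeD.isQCohD_of_iso eI (isQCohD_sgl₀ _ hXq)) P hP
    (TildeD.isQCohD_of_iso eP.symm (isQCohD_sgl₀ G' ‹_›))
  obtain ⟨r⟩ := nonempty_projection_of_isIso f I (sgl₀ G') P eP hP ((pullCx f).obj P) (Iso.refl _)
  let lhs : (DCoh.LTensorCx (sgl₀ G')).obj ((DCoh.Rpush f).obj (DerivedCategory.Q.obj I)) ≅
      DerivedCategory.Q.obj W' :=
    (DCoh.LTensorCx (sgl₀ G')).mapIso ((DCoh.Rpush f).mapIso eI.symm ≪≫ eN.symm) ≪≫
      lTensorIso (sgl₀ G') (tilC N) (isKFlat_of_strictlyPerfect hN) ≪≫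
      DerivedCategory.Q.mapIso ((totSingleIso (tilC N) G').symm ≪≫ eW)
  obtain ⟨s⟩ := nonempty_symCxSch (unitCx X) ((pullCx f).obj P)
  let π' := (pullCx f).map ((resXπ (Spec (CommRingCat.of A))).app (sgl₀ G'))
  haveI : QuasiIso π' := inferInstanceAs (QuasiIso (((Scheme.Modules.pullback f).mapHomologicalComplex _).map _))
  let b : (DCoh.LTensorCx ((pullCx f).obj P)).obj (DerivedCategory.Q.obj I) ≅
      DerivedCategory.Q.obj (sgl₀ ((Scheme.Modules.pullback f).obj G')) :=
    (DCoh.LTensorCx ((pullCx f).obj P)).mapIso eI.symm ≪≫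
      (lTensorQIso _ (isKFlat_pullback f hP)).app _ ≪≫
      DerivedCategory.Q.mapIso (s ≪≫ tensorUnitCxIso.app _) ≪≫ asIso (DerivedCategory.Q.map π') ≪≫
      DerivedCategory.Q.mapIso ((HomologicalComplex.singleMapHomologicalComplex (Scheme.Modules.pullback f) _ 0).app G')
  exact ⟨lhs.symm ≪≫ r ≪≫ (DCoh.Rpush f).mapIso b⟩

/-- Base change of the functions on an affine scheme over the base. -/
theorem nonempty_push_fibre (f : X ⟶ Spec (CommRingCat.of A)) {Z : Scheme.{u}} [IsAffine Z]
    (g : Z ⟶ Spec (CommRingCat.of A)) [IsAffineHom g] :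
    Nonempty ((Scheme.Modules.pushforward f).obj ((Scheme.Modules.pullback f).obj
        ((Scheme.Modules.pushforward g).obj (Coh.structureModule Z))) ≅
      (Scheme.Modules.pushforward g).obj ((Scheme.Modules.pushforward (Limits.pullback.snd f g)).obj
        (Coh.structureModule _))) := by
  let q := Limits.pullback.fst f g
  let fs := Limits.pullback.snd f g
  have hc : IsPullback q fs f g := IsPullback.of_hasPullback f g
  haveI : Coh.IsQCoh (Coh.structureModule Z) := CohBase.isQCoh_structureModule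
  have hbc := Groth.Agent.S12131.result g f fs q hc.flip (Coh.structureModule Z)
  let bc : (Scheme.Modules.pullback f).obj ((Scheme.Modules.pushforward g).obj (Coh.structureModule Z)) ≅
      (Scheme.Modules.pushforward q).obj (Coh.structureModule _) :=
    @asIso _ _ _ _ _ hbc ≪≫
      (Scheme.Modules.pushforward q).mapIso (ProjCoh.pullUnit fs)
  exact ⟨(Scheme.Modules.pushforward f).mapIso bc ≪≫ (Scheme.Modules.pushforwardComp q f).app _ ≪≫
    (Scheme.Modules.pushforwardCongr hc.w).app _ ≪≫ ((Scheme.Modules.pushforwardComp fs g).app _).symm⟩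

/-- Constant functions. -/
theorem nonempty_secO_iso {Y Z : Scheme.{u}} (g : Z ⟶ Spec (CommRingCat.of A)) (h : Y ⟶ Z) [IsIso h.appTop] :
    Nonempty ((moduleSpecΓFunctor (R := CommRingCat.of A)).obj ((Scheme.Modules.pushforward g).obj
      ((Scheme.Modules.pushforward h).obj (Coh.structureModule Y))) ≅ secO g) := by
  let l : secO g →ₗ[A] (moduleSpecΓFunctor (R := CommRingCat.of A)).obj ((Scheme.Modules.pushforward g).obj
      ((Scheme.Modules.pushforward h).obj (Coh.structureModule Y))) :=
    { toFun := fun x => h.appTop.hom x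
      map_add' := fun x y => map_add h.appTop.hom x y
      map_smul' := fun c x => map_mul h.appTop.hom _ _ }
  have hl : Function.Bijective l := (ConcreteCategory.isIso_iff_bijective h.appTop).1 inferInstance
  exact ⟨(LinearEquiv.ofBijective l hl).toModuleIso.symm⟩

/-- Cohomology after tensoring with the functions on a point, when the fibre has only constant functions. -/
theorem homology_fibre (f : X ⟶ Spec (CommRingCat.of A)) [IsProper f] [Flat f] [DCoh.HasRpush f]
    [PreservesFiniteLimits (tilde.functor (CommRingCat.of A))] (N : DRing.Cx A) (hN : DCoh.IsStrictlyPerfect (tilC N))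
    (eN : DerivedCategory.Q.obj (tilC N) ≅ (DCoh.Rpush f).obj (DerivedCategory.Q.obj (sgl₀ (Coh.structureModule X))))
    {Z : Scheme.{u}} [IsAffine Z] (g : Z ⟶ Spec (CommRingCat.of A)) [IsAffineHom g]
    (hZ : IsIso (Limits.pullback.snd f g).appTop) :
    (∀ i : ℤ, i < 0 → (((tensorLeft (secO g)).mapHomologicalComplex (ComplexShape.up ℤ)).obj N).ExactAt i) ∧
      Nonempty ((((tensorLeft (secO g)).mapHomologicalComplex (ComplexShape.up ℤ)).obj N).homology 0 ≅ secO g) := by
  haveI : Coh.IsQCoh (Coh.structureModule Z) := CohBase.isQCoh_structureModule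
  haveI hGq : Coh.IsQCoh ((Scheme.Modules.pushforward g).obj (Coh.structureModule Z)) :=
    QCohLib.isQCoh_pushforward _ g
  obtain ⟨r⟩ := nonempty_tensor_model f N hN eN (secO g)
  obtain ⟨p⟩ := nonempty_push_fibre f g
  haveI := hZ
  obtain ⟨c⟩ := nonempty_secO_iso g (Limits.pullback.snd f g)
  let W := ((tensorLeft (secO g)).mapHomologicalComplex (ComplexShape.up ℤ)).obj N
  let F := (Scheme.Modules.pullback f).obj ((tilde.functor (CommRingCat.of A)).obj (secO g))
  let E := DerivedCategory.Q.obj (sgl₀ F)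
  haveI : E.IsGE 0 := isGE_sgl F
  haveI : ((DCoh.Rpush f).obj E).IsGE 0 := isGE_rpush f _ 0
  let t : ∀ i : ℤ, _ ≅ DCoh.HD ((DCoh.Rpush f).obj E) i := fun i =>
    ((TildeD.nuT (CommRingCat.of A) i).app (DRing.toD W)).symm ≪≫
      (DerivedCategory.homologyFunctor _ i).mapIso (tildeDQ W ≪≫ r)
  refine ⟨fun i hi => ?_, ?_⟩
  · refine (HomologicalComplex.exactAt_iff_isZero_homology _ _).2 ?_
    refine IsZero.of_iso (isZero_of_isZero_tilde ?_) ((DerivedCategory.homologyFunctorFactors _ i).app W).symm
    exact (DerivedCategory.isZero_of_isGE _ 0 i hi).of_iso (t i)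
  · obtain ⟨e⟩ := nonempty_HD_zero_rpush f E
    let eT := t 0 ≪≫ e ≪≫ (Scheme.Modules.pushforward f).mapIso
      (HDsgl F ≪≫ (Scheme.Modules.pullback f).mapIso (tildeΓIso _)) ≪≫ p
    haveI := isQCoh_of_iso' eT (TildeD.isQCoh_tilde (R := CommRingCat.of A) _)
    obtain ⟨a⟩ := nonempty_of_tilde_iso (eT ≪≫ (tildeΓIso _).symm)
    exact ⟨((DerivedCategory.homologyFunctorFactors _ 0).app W).symm ≪≫ a ≪≫ c⟩

end Groth.Agent.DCohMore.FibreOne
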