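import Groth.Agent.DCohMore.FibreOneModel
import Groth.Agent.DCohMore.GoodMain
import Groth.Agent.DCohLib.PCTop
import Groth.Agent.BCLib.SteinFlat

/-!
# `f_* O = O` for flat proper morphisms with only constant functions on the fibres
-/

set_option autoImplicit false
set_option linter.style.haveILetI false
set_option linter.unusedSectionVars false
set_option backward.isDefEq.respectTransparency false

universe u

open CategoryTheory Limits AlgebraicGeometry TopologicalSpace Opposite MonoidalCategory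
attribute [local instance] HasDerivedCategory.standard

noncomputable section

namespace Groth.Agent.DCohMore.FibreOne

open Groth.Agent.DCohLib Groth.Agent.TildePerf Groth.Agent.DRingLib

variable {X S : Scheme.{u}} {A : Type u} [CommRing A]

/-- The residue field as functions on a point. -/
theorem exists_point (f : X ⟶ Spec (CommRingCat.of A)) (h : ConstFibres f) (p : PrimeSpectrum A) :
    ∃ g : Spec (CommRingCat.of p.asIdeal.ResidueField) ⟶ Spec (CommRingCat.of A),
      IsIso (Limits.pullback.snd f g).appTop ∧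
        Nonempty (secO g ≅ DTenLib.baseMod (algebraMap A p.asIdeal.ResidueField)) := by
  let R := CommRingCat.of A
  let φ : R ⟶ CommRingCat.of p.asIdeal.ResidueField := CommRingCat.ofHom (algebraMap A p.asIdeal.ResidueField)
  refine ⟨Spec.map φ, ?_, ?_⟩
  · let r := (Scheme.Spec.residueFieldIso R p).inv
    haveI : IsIso (Spec.map r) := inferInstance
    have hg : Spec.map r ≫ Spec.map φ = (Spec R).fromSpecResidueField p := by
      rw [← Spec.map_comp]
      exact BCLib.fromSpecResidueField_eq (R := R) p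
    exact appTop_iso_of_isPullback f (Spec.map φ) ((Spec R).fromSpecResidueField p) (asIso (Spec.map r)).symm
      (by simp [← hg]) (IsPullback.of_hasPullback f (Spec.map φ)) (h p)
  · refine ⟨(TildePullback.pushforwardΓIso φ).app (Coh.structureModule _) ≪≫ LinearEquiv.toModuleIso
      (X₁ := (moduleSpecΓFunctor (R := CommRingCat.of p.asIdeal.ResidueField) ⋙ ModuleCat.restrictScalars φ.hom).obj
        (Coh.structureModule _))
      (X₂ := DTenLib.baseMod (algebraMap A p.asIdeal.ResidueField)) ?_⟩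
    refine
      { __ := (Scheme.ΓSpecIso (CommRingCat.of p.asIdeal.ResidueField)).commRingCatIsoToRingEquiv.toAddEquiv
        map_smul' := fun c x => ?_ }
    let ψ := Scheme.ΓSpecIso (CommRingCat.of p.asIdeal.ResidueField)
    let T := Spec (CommRingCat.of p.asIdeal.ResidueField)
    show ψ.hom.hom ((show Γ(T, ⊤) from T.presheaf.map (𝟙 _) (ψ.inv (φ c))) * (show Γ(T, ⊤) from x)) =
      φ c * ψ.hom.hom x
    rw [map_mul, CategoryTheory.Functor.map_id, CommRingCat.id_apply]
    exact congrArg (· * _) (ψ.inv_hom_id_apply _)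

/-- A linear equivalence between vector spaces over a residue field is linear over it. -/
theorem finrank_of_baseEquiv (p : Ideal A) [p.IsPrime] {M : Type u} [AddCommGroup M] [Module A M]
    [Module p.ResidueField M] [IsScalarTower A p.ResidueField M]
    (e : M ≃ₗ[A] DTenLib.baseMod (algebraMap A p.ResidueField)) :
    Module.finrank p.ResidueField M = 1 := by
  let F : M ≃+ p.ResidueField := e.toAddEquiv
  have hF : ∀ (a : A) (x : M), F (a • x) = algebraMap A p.ResidueField a * F x := fun a x => map_smul e a x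
  have key : ∀ (k : p.ResidueField) (x : M), F (k • x) = k * F x := fun k x => by
    obtain ⟨⟨a, b⟩, hab⟩ := IsLocalization.surj (nonZeroDivisors (A ⧸ p)) k
    obtain ⟨a, rfl⟩ := Ideal.Quotient.mk_surjective a
    obtain ⟨b, hb⟩ := b
    obtain ⟨b, rfl⟩ := Ideal.Quotient.mk_surjective b
    have hb0 : algebraMap A p.ResidueField b ≠ 0 := fun h0 =>
      nonZeroDivisors.ne_zero hb (Ideal.Quotient.eq_zero_iff_mem.2 (Ideal.algebraMap_residueField_eq_zero.1 h0))
    have hab' : k * algebraMap A p.ResidueField b = algebraMap A p.ResidueField a := hab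
    apply mul_left_cancel₀ hb0
    rw [← hF, ← algebraMap_smul p.ResidueField b (k • x), smul_smul, mul_comm _ k, hab', algebraMap_smul, hF, ← hab']
    ring
  exact (LinearEquiv.finrank_eq { F with map_smul' := key }).trans (Module.finrank_self _)

/-- Degree zero cycles of a complex vanishing in negative degrees. -/
def kerIso (W : DRing.Cx A) (h : IsZero (W.X (-1))) : ModuleCat.of A (LinearMap.ker (W.d 0 1).hom) ≅ W.homology 0 :=
  haveI : IsIso (W.homologyπ 0) := W.isIso_homologyπ (-1) 0 (by simp) (h.eq_of_src _ _)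
  (ModuleCat.kernelIsoKer (W.d 0 1)).symm ≪≫
    (kernelIsKernel (W.d 0 1)).conePointUniqueUpToIso (W.cyclesIsKernel 0 1 (by simp)) ≪≫ asIso (W.homologyπ 0)

theorem finrank_ker_fibre (f : X ⟶ Spec (CommRingCat.of A)) [IsProper f] [Flat f] [DCoh.HasRpush f]
    (h : ConstFibres f) (N : DRing.Cx A) (hN : Bdd FProj N) (hN0 : IsZero (N.X (-1)))
    (eN : DerivedCategory.Q.obj (tilC N) ≅ (DCoh.Rpush f).obj (DerivedCategory.Q.obj (sgl₀ (Coh.structureModule X))))
    (p : PrimeSpectrum A) :
    Module.finrank p.asIdeal.ResidueField (LinearMap.ker ((N.d 0 1).hom.baseChange p.asIdeal.ResidueField)) = 1 := by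
  haveI := TildeD.preservesFiniteLimits_tilde (R := CommRingCat.of A)
  obtain ⟨g, hg, ⟨eM⟩⟩ := exists_point f h p
  obtain ⟨-, ⟨a⟩⟩ := homology_fibre f N (isStrictlyPerfect_tilC hN) eN g hg
  let W := ((tensorLeft (secO g)).mapHomologicalComplex (ComplexShape.up ℤ)).obj N
  let b := kerIso W ((tensorLeft (secO g)).map_isZero hN0) ≪≫ a ≪≫ eM
  let κ := p.asIdeal.ResidueField
  let ε : secO g ≃ₗ[A] κ := eM.toLinearEquiv.trans (baseModEquiv A κ)
  let v : ∀ n, W.X n ≃ₗ[A] TensorProduct A κ (N.X n) := fun n =>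
    TensorProduct.congr ε (LinearEquiv.refl A (N.X n))
  have hv : ∀ z, v 1 ((W.d 0 1).hom z) = (N.d 0 1).hom.baseChange κ (v 0 z) := fun z => by
    induction z using TensorProduct.induction_on with
    | zero => simp
    | tmul m x => rfl
    | add x y hx hy => rw [map_add, map_add, map_add, map_add, hx, hy]
  let w : LinearMap.ker (W.d 0 1).hom ≃ₗ[A] LinearMap.ker ((N.d 0 1).hom.baseChange κ) :=
    { toFun := fun z => ⟨v 0 z.1, by
        rw [LinearMap.mem_ker, ← hv, LinearMap.mem_ker.1 z.2, map_zero]⟩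
      invFun := fun z => ⟨(v 0).symm z.1, by
        rw [LinearMap.mem_ker]
        apply (v 1).injective
        rw [hv, LinearEquiv.apply_symm_apply, map_zero]
        exact z.2⟩
      left_inv := fun z => Subtype.ext ((v 0).symm_apply_apply _)
      right_inv := fun z => Subtype.ext ((v 0).apply_symm_apply _)
      map_add' := fun x y => Subtype.ext (map_add (v 0) x.1 y.1)
      map_smul' := fun c x => Subtype.ext (map_smul (v 0) c x.1) }
  exact finrank_of_baseEquiv p.asIdeal (M := ↥(LinearMap.ker ((N.d 0 1).hom.baseChange κ))) (w.symm.trans b.toLinearEquiv)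

/-- The functions on the source, as an algebra. -/
abbrev gammaAlg (f : X ⟶ Spec (CommRingCat.of A)) : Algebra A Γ(X, ⊤) :=
  ((Scheme.ΓSpecIso (CommRingCat.of A)).inv ≫ f.appTop).hom.toAlgebra

/-- Injectivity of functions along flat surjections. -/
theorem app_injective_of_flat (f : X ⟶ S) [Flat f] [Surjective f] (U : S.Opens) :
    Function.Injective (f.app U) := fun a b hab => by
  refine TopCat.Presheaf.section_ext S.sheaf U a b fun x hx => ?_
  obtain ⟨z, rfl⟩ := f.surjective x
  letI := (f.stalkMap z).hom.toAlgebra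
  haveI : Module.Flat (S.presheaf.stalk (f z)) (X.presheaf.stalk z) := Flat.stalkMap f z
  haveI : IsLocalHom (algebraMap (S.presheaf.stalk (f z)) (X.presheaf.stalk z)) :=
    inferInstanceAs (IsLocalHom (f.stalkMap z).hom)
  haveI := Module.FaithfullyFlat.of_flat_of_isLocalHom (A := S.presheaf.stalk (f z)) (B := X.presheaf.stalk z)
  refine FaithfulSMul.algebraMap_injective (S.presheaf.stalk (f z)) (X.presheaf.stalk z) ?_
  show f.stalkMap z (S.presheaf.germ U (f z) hx a) = f.stalkMap z (S.presheaf.germ U (f z) hx b)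
  rw [Scheme.Hom.germ_stalkMap_apply, Scheme.Hom.germ_stalkMap_apply, hab]

theorem surjective_of_constFibres {f : X ⟶ S} (h : ConstFibres f) : Surjective f := ⟨fun s => by
  by_contra hs
  haveI : IsEmpty ↥(f.fiber s) := ⟨fun y => hs ⟨f.fiberι s y, by
    have : f.fiberι s y ∈ Set.range (f.fiberι s) := ⟨y, rfl⟩
    rw [f.range_fiberι] at this
    exact this⟩⟩
  haveI := h s
  haveI : Subsingleton Γ(f.fiber s, ⊤) := inferInstance
  haveI : Subsingleton Γ(Spec (S.residueField s), ⊤) :=
    ((ConcreteCategory.isIso_iff_bijective (f.fiberToSpecResidueField s).appTop).1 inferInstance).1.subsingleton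
  exact zero_ne_one ((Scheme.ΓSpecIso (S.residueField s)).inv.hom.injective (Subsingleton.elim _ _) : (0 : S.residueField s) = 1)⟩

/-- The degree-zero data of a model. -/
theorem model_data (f : X ⟶ Spec (CommRingCat.of A)) [IsProper f] [Flat f] [DCoh.HasRpush f]
    (h : ConstFibres f) (N : DRing.Cx A) (hN : Bdd FProj N) (hN0 : IsZero (N.X (-1)))
    (eN : DerivedCategory.Q.obj (tilC N) ≅ (DCoh.Rpush f).obj (DerivedCategory.Q.obj (sgl₀ (Coh.structureModule X)))) :
    letI := gammaAlg f
    Function.Injective (algebraMap A Γ(X, ⊤)) ∧ Nonempty (Γ(X, ⊤) ≃ₗ[A] LinearMap.ker (N.d 0 1).hom) := by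
  letI := gammaAlg f
  haveI := surjective_of_constFibres h
  haveI := TildeD.preservesFiniteLimits_tilde (R := CommRingCat.of A)
  refine ⟨(app_injective_of_flat f ⊤).comp (Scheme.ΓSpecIso (CommRingCat.of A)).symm.commRingCatIsoToRingEquiv.injective, ?_⟩
  obtain ⟨-, ⟨a⟩⟩ := homology_model f N eN
  let s : secO f ≃ₗ[A] Γ(X, ⊤) :=
    { AddEquiv.refl _ with
      map_smul' := fun c x => by
        show (show Γ(X, ⊤) from f.app ⊤ ((Spec (CommRingCat.of A)).presheaf.map (𝟙 _)
          ((Scheme.ΓSpecIso (CommRingCat.of A)).inv c))) * (show Γ(X, ⊤) from x) = _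
        rw [CategoryTheory.Functor.map_id, CommRingCat.id_apply, Algebra.smul_def]
        rfl }
  exact ⟨s.symm.trans (a.symm ≪≫ (kerIso N hN0).symm).toLinearEquiv⟩

/-- Functions on the source of a model. -/
theorem bijective_algebraMap_model (f : X ⟶ Spec (CommRingCat.of A)) [IsProper f] [Flat f] [DCoh.HasRpush f]
    (h : ConstFibres f) (N : DRing.Cx A) (hN : Bdd FProj N) (hN0 : IsZero (N.X (-1)))
    (eN : DerivedCategory.Q.obj (tilC N) ≅ (DCoh.Rpush f).obj (DerivedCategory.Q.obj (sgl₀ (Coh.structureModule X)))) :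
    letI := gammaAlg f
    Function.Bijective (algebraMap A Γ(X, ⊤)) := by
  letI := gammaAlg f
  obtain ⟨hinj, ⟨e⟩⟩ := model_data f h N hN hN0 eN
  refine ⟨hinj, fun b => ?_⟩
  haveI := (hN.2 0).1
  haveI := (hN.2 0).2
  haveI := (hN.2 1).1
  haveI := (hN.2 1).2
  let J : Ideal A := (LinearMap.range (Algebra.linearMap A Γ(X, ⊤))).comap (LinearMap.toSpanSingleton A _ b)
  have hJ : J = ⊤ := by
    by_contra hJ
    obtain ⟨m, hm, hle⟩ := Ideal.exists_le_maximal J hJ
    haveI := hm.isPrime
    obtain ⟨c, hc, hcb⟩ := exists_surjective_near m (N.d 0 1).hom e hinj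
      (finrank_ker_fibre f h N hN hN0 eN ⟨m, inferInstance⟩) b
    exact hc (hle hcb)
  have h1 : (1 : A) ∈ J := by rw [hJ]; exact Submodule.mem_top
  obtain ⟨a, ha⟩ := h1
  exact ⟨a, by simpa using ha⟩

/-- A model in non-negative degrees near a point. -/
theorem exists_near_model (f : X ⟶ Spec (CommRingCat.of A)) [IsProper f] [Flat f] [LocallyOfFinitePresentation f]
    [DCoh.HasRpush f] (h : ConstFibres f) (p : PrimeSpectrum A) :
    ∃ c : A, c ∉ p.asIdeal ∧ ∃ P : DRing.Cx (Localization.Away c), Bdd FProj P ∧ (∀ i, i < 0 → IsZero (P.X i)) ∧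
      ∀ [IsOpenImmersion (Spec.map (CommRingCat.ofHom (algebraMap A (Localization.Away c))))],
      Nonempty (DerivedCategory.Q.obj (tilC P) ≅
        (DCoh.restrictD (Spec.map (CommRingCat.ofHom (algebraMap A (Localization.Away c))))).obj
          ((DCoh.Rpush f).obj (DerivedCategory.Q.obj (sgl₀ (Coh.structureModule X))))) := by
  haveI := TildeD.preservesFiniteLimits_tilde (R := CommRingCat.of A)
  let O := DerivedCategory.Q.obj (sgl₀ (Coh.structureModule X))
  have hO : DCoh.IsPerfect O := isPerfect_iso ((DerivedCategory.singleFunctorIsoCompQ X.Modules 0).app _)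
    (isPerfect_inD (BCLib.isFinLocFree_structureModule X))
  have hK := isPerfect_rpush_proper f O hO
  obtain ⟨M, ⟨eM⟩⟩ := ((TildeD.main (CommRingCat.of A)).2.2 _).1 (isQCohD_of_isPerfect hK)
  obtain ⟨N, hN, ⟨e₀⟩⟩ := (perfect_tilde_iff M).1 (isPerfect_iso eM.symm hK)
  let eN : DerivedCategory.Q.obj (tilC N) ≅ (DCoh.Rpush f).obj O :=
    (tildeDQ N).symm ≪≫ (DCoh.tildeD (CommRingCat.of A)).mapIso e₀ ≪≫ eM
  let κ := p.asIdeal.ResidueField
  let φ := algebraMap A κ
  haveI := hasLBaseChange φ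
  obtain ⟨g, hg, ⟨eG⟩⟩ := exists_point f h p
  obtain ⟨hex, -⟩ := homology_fibre f N (isStrictlyPerfect_tilC hN) eN g hg
  have hexκ : ((DTen.extCx φ).obj N).ExactAt (-1) := by
    refine (HomologicalComplex.exactAt_iff' _ (-1 - 1) (-1) (-1 + 1) (by simp) (by simp)).2 ?_
    refine (ShortComplex.exact_map_iff_of_faithful _ (ModuleCat.restrictScalars.{u} φ)).1 ?_
    let T := ((ModuleCat.restrictScalars.{u} φ).mapHomologicalComplex (ComplexShape.up ℤ)).obj ((DTen.extCx φ).obj N)
    let τ : tensorLeft (secO g) ≅ ModuleCat.extendScalars.{u, u, u} φ ⋙ ModuleCat.restrictScalars φ :=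
      (tensoringLeft (ModuleCat.{u} A)).mapIso eG ≪≫ (DTenLib.extResIso φ).symm
    have hT : T.ExactAt (-1) := HomologicalComplex.ExactAt.of_iso (hex (-1) (by omega))
      (HomologicalComplex.Hom.isoOfComponents (fun n => τ.app (N.X n)) fun i k _ => (τ.hom.naturality (N.d i k)).symm)
    exact (HomologicalComplex.exactAt_iff' T (-1 - 1) (-1) (-1 + 1) (by simp) (by simp)).1 hT
  have hsub : Subsingleton (Dual.HD κ ((DRing.LBaseChange φ).obj (DRing.toD N)) (-1)) := by
    obtain ⟨⟨a, b, hab⟩, hP⟩ := id hN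
    refine ModuleCat.subsingleton_of_isZero (IsZero.of_iso ((exactAt_iff_isZero_homologyFunctor _ _).1 hexκ)
      ((DerivedCategory.homologyFunctor _ (-1)).mapIso
        (lbcIso φ N (isKFlat_of_projective (fun i hi => hab i (Or.inr hi)) fun j => (hP j).2))))
  obtain ⟨c, hc, P, b, hPb, hP, ⟨eP⟩, -⟩ := split_near p.asIdeal (-1) N
    (pcPrime_of_perf ⟨N, hN, ⟨Iso.refl _⟩⟩) hsub
  refine ⟨c, hc, P, ⟨⟨0, b, hPb⟩, hP⟩, fun i hi => hPb i (Or.inl hi), fun {hj} => ?_⟩
  let ψ := algebraMap A (Localization.Away c)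
  let N' := (DTen.extCx ψ).obj N
  haveI : ((DCoh.Rpush f).obj O).IsGE 0 := haveI := isGE_sgl (Coh.structureModule X); isGE_rpush f _ 0
  haveI := TildeD.preservesFiniteLimits_tilde (R := CommRingCat.of (Localization.Away c))
  let e' : (DCoh.tildeD (CommRingCat.of (Localization.Away c))).obj (DRing.toD N') ≅
      (DCoh.restrictD (Spec.map (CommRingCat.ofHom ψ))).obj ((DCoh.Rpush f).obj O) :=
    tildeDQ N' ≪≫ (restrictModel ψ N).symm ≪≫ (DCoh.restrictD _).mapIso eN
  haveI : (DRing.toD N').IsGE 0 := (DerivedCategory.isGE_iff _ _).2 fun i hi => isZero_of_isZero_tilde <|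
    IsZero.of_iso (IsZero.of_iso ((Scheme.Modules.restrictFunctor _).map_isZero
      (DerivedCategory.isZero_of_isGE ((DCoh.Rpush f).obj O) 0 i hi)) (restrictHDIso _ _ i))
      (((TildeD.nuT (CommRingCat.of (Localization.Away c)) i).app _).symm ≪≫
        (DerivedCategory.homologyFunctor _ i).mapIso e')
  haveI : (stdT (Localization.Away c)).IsGE (DRing.toD N') 0 := ‹(DRing.toD N').IsGE 0›
  haveI : IsIso (((stdT (Localization.Away c)).truncGEπ 0).app (DRing.toD N')) :=
    ((stdT (Localization.Away c)).isGE_iff_isIso_truncGEπ_app 0 _).1 inferInstance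
  exact ⟨(tildeDQ P).symm ≪≫ (DCoh.tildeD _).mapIso (eP ≪≫ (asIso (((stdT (Localization.Away c)).truncGEπ 0).app
    (DRing.toD N'))).symm) ≪≫ e'⟩

/-- A chart around a point carrying a model in non-negative degrees. -/
theorem exists_chart_model (f : X ⟶ S) [IsProper f] [Flat f] [LocallyOfFinitePresentation f] [DCoh.HasRpush f]
    (h : ConstFibres f) {U : S.Opens} {s : S} (hs : s ∈ U) :
    ∃ (B : Type u) (_ : CommRing B) (j : Spec (CommRingCat.of B) ⟶ S) (_ : IsOpenImmersion j) (P : DRing.Cx B),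
      s ∈ j.opensRange ∧ j.opensRange ≤ U ∧ Bdd FProj P ∧ (∀ i, i < 0 → IsZero (P.X i)) ∧
      Nonempty (DerivedCategory.Q.obj (tilC P) ≅
        (DCoh.restrictD j).obj ((DCoh.Rpush f).obj (DerivedCategory.Q.obj (sgl₀ (Coh.structureModule X))))) := by
  obtain ⟨_, ⟨W : S.Opens, hW, rfl⟩, hsW, hWU⟩ :=
    S.isBasis_affineOpens.exists_subset_of_mem_open (a := s) hs U.2
  obtain ⟨p, hp⟩ : s ∈ Set.range hW.fromSpec := by rw [hW.range_fromSpec]; exact hsW
  let A := (Γ(S, W) : Type u)
  let j₀ : Spec (CommRingCat.of A) ⟶ S := hW.fromSpec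
  haveI : IsOpenImmersion j₀ := inferInstanceAs (IsOpenImmersion hW.fromSpec)
  obtain ⟨X₂, a, f₂, hc, -⟩ := exists_chart_map f j₀
  haveI : IsProper f₂ := MorphismProperty.of_isPullback (P := @IsProper) hc ‹_›
  haveI : Flat f₂ := MorphismProperty.of_isPullback (P := @Flat) hc ‹_›
  haveI : LocallyOfFinitePresentation f₂ := MorphismProperty.of_isPullback (P := @LocallyOfFinitePresentation) hc ‹_›
  haveI : DCoh.HasRpush f₂ := Groth.Agent.KInj.hasRightDerivedFunctor (hres_modules _) _
  obtain ⟨c, hcp, P, hP, hP0, hiso⟩ := exists_near_model f₂ (constFibres_chart h j₀ hc) p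
  obtain ⟨er⟩ := nonempty_rpush_chart f j₀ hc
  let j₁ := Spec.map (CommRingCat.ofHom (algebraMap A (Localization.Away c)))
  haveI : IsOpenImmersion j₁ := IsOpenImmersion.of_isLocalization c
  obtain ⟨eP⟩ := hiso
  refine ⟨Localization.Away c, inferInstance, j₁ ≫ j₀, inferInstance, P, ?_, ?_, hP, hP0,
    ⟨eP ≪≫ (DCoh.restrictD j₁).mapIso er ≪≫ ((restrictDComp j₁ j₀).app _).symm⟩⟩
  · obtain ⟨z, hz⟩ : p ∈ Set.range (PrimeSpectrum.comap (algebraMap A (Localization.Away c))) := by
      rw [PrimeSpectrum.localization_away_comap_range (Localization.Away c) c]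
      exact hcp
    exact ⟨z, by rw [Scheme.Hom.comp_apply]; exact (congrArg (fun q => j₀ q) hz).trans hp⟩
  · rintro _ ⟨z, rfl⟩
    refine hWU ?_
    show (j₁ ≫ j₀) z ∈ W
    have : j₀ (j₁ z) ∈ Set.range hW.fromSpec := ⟨_, rfl⟩
    rwa [hW.range_fromSpec] at this

/-- Bijectivity on a basis of the opens gives it everywhere. -/
theorem isIso_app_of_basis (f : X ⟶ S)
    (h : ∀ (U : S.Opens) (s : S), s ∈ U → ∃ V : S.Opens, s ∈ V ∧ V ≤ U ∧ IsIso (f.app V)) (U : S.Opens) :
    IsIso (f.app U) := by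
  have bij : ∀ V : S.Opens, IsIso (f.app V) → Function.Bijective (f.app V) := fun V hV =>
    (ConcreteCategory.isIso_iff_bijective _).1 hV
  have nat : ∀ (U V : S.Opens) (i : V ⟶ U) (a : Γ(S, U)),
      f.app V (S.presheaf.map i.op a) = X.presheaf.map ((Opens.map f.base).map i).op (f.app U a) := fun U V i a =>
    congr($(f.naturality i.op) a)
  have inj : ∀ U : S.Opens, Function.Injective (f.app U) := fun U a b hab => by
    choose V hxV hVU hV using fun x : U => h U x.1 x.2
    refine S.sheaf.eq_of_locally_eq' V U (fun x => homOfLE (hVU x)) (fun x hx => Opens.mem_iSup.2 ⟨⟨x, hx⟩, hxV _⟩)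
      a b fun x => (bij _ (hV x)).1 ?_
    exact (nat _ _ _ a).trans ((congrArg _ hab).trans (nat _ _ _ b).symm)
  refine (ConcreteCategory.isIso_iff_bijective _).2 ⟨inj U, fun b => ?_⟩
  choose V hxV hVU hV using fun x : U => h U x.1 x.2
  choose t ht using fun x : U => (bij _ (hV x)).2 (X.presheaf.map ((Opens.map f.base).map (homOfLE (hVU x))).op b)
  have hcov : U ≤ iSup V := fun x hx => Opens.mem_iSup.2 ⟨⟨x, hx⟩, hxV _⟩
  obtain ⟨a, ha, -⟩ := S.sheaf.existsUnique_gluing' V U (fun x => homOfLE (hVU x)) hcov t fun x y => inj _ (by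
    refine (nat _ _ _ (t x)).trans (Eq.trans ?_ (nat _ _ _ (t y)).symm)
    rw [ht, ht, ← ConcreteCategory.comp_apply, ← ConcreteCategory.comp_apply, ← Functor.map_comp, ← Functor.map_comp]
    rfl)
  refine ⟨a, X.sheaf.eq_of_locally_eq' (fun x => f ⁻¹ᵁ V x) (f ⁻¹ᵁ U)
    (fun x => (Opens.map f.base).map (homOfLE (hVU x))) ?_ _ _ fun x => ?_⟩
  · intro z hz
    obtain ⟨x, hx⟩ := Opens.mem_iSup.1 (hcov (hz : f z ∈ U))
    exact Opens.mem_iSup.2 ⟨x, hx⟩
  · exact (nat _ _ _ a).symm.trans ((congrArg _ (ha x)).trans (ht x))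

/-- Functions on the base are the functions on the total space. -/
theorem isIso_app_of_constFibres (f : X ⟶ S) [IsProper f] [Flat f] [LocallyOfFinitePresentation f]
    (h : ConstFibres f) (U : S.Opens) : IsIso (f.app U) := by
  haveI : DCoh.HasRpush f := Groth.Agent.KInj.hasRightDerivedFunctor (hres_modules _) _
  refine isIso_app_of_basis f (fun U s hs => ?_) U
  obtain ⟨B, _, j, _, P, hsj, hjU, hP, hP0, ⟨eP⟩⟩ := exists_chart_model f h hs
  refine ⟨j.opensRange, hsj, hjU, ?_⟩
  let V := j.opensRange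
  let f₂ := (f ∣_ V) ≫ j.isoOpensRange.inv
  have hc : IsPullback (f ⁻¹ᵁ V).ι f₂ f j := (isPullback_morphismRestrict f V).flip.of_iso (Iso.refl _) (Iso.refl _)
    j.isoOpensRange.symm (Iso.refl _) (by simp) (by simp [f₂]) (by simp) (by simp [V])
  haveI : IsProper f₂ := MorphismProperty.of_isPullback (P := @IsProper) hc ‹_›
  haveI : Flat f₂ := MorphismProperty.of_isPullback (P := @Flat) hc ‹_›
  haveI : DCoh.HasRpush f₂ := Groth.Agent.KInj.hasRightDerivedFunctor (hres_modules _) _
  obtain ⟨er⟩ := nonempty_rpush_chart f j hc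
  have hb := bijective_algebraMap_model f₂ (constFibres_chart h j hc) P hP (hP0 _ (by omega)) (eP ≪≫ er.symm)
  haveI h2 : IsIso f₂.appTop := by
    haveI : IsIso ((Scheme.ΓSpecIso (CommRingCat.of B)).inv ≫ f₂.appTop) :=
      (ConcreteCategory.isIso_iff_bijective _).2 hb
    exact IsIso.of_isIso_comp_left (Scheme.ΓSpecIso (CommRingCat.of B)).inv _
  have h3 : IsIso ((f ∣_ V).app ⊤) := by
    have he : f₂.appTop = j.isoOpensRange.inv.appTop ≫ (f ∣_ V).appTop := Scheme.Hom.comp_appTop _ _
    haveI : IsIso (j.isoOpensRange.inv.appTop ≫ (f ∣_ V).appTop) := he ▸ h2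
    exact IsIso.of_isIso_comp_left j.isoOpensRange.inv.appTop _
  rw [morphismRestrict_app] at h3
  haveI := h3
  have h4 : IsIso (f.app (V.ι ''ᵁ ⊤)) := IsIso.of_isIso_comp_right _
    (X.presheaf.map (eqToHom (image_morphismRestrict_preimage f V ⊤)).op)
  rwa [Scheme.Opens.ι_image_top] at h4

end Groth.Agent.DCohMore.FibreOne
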