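import Groth.Agent.DCohMore.FibreOneCalc
import Groth.Agent.DCohMore.AffinePushPC
import Groth.Agent.DCohLib.Betti
import Groth.Agent.DRingLib.SplitNear
import Groth.Agent.DRingLib.Perfect
import Groth.Agent.TildePullback.Basic
import Groth.Agent.BCLib.Fibre

/-!
# Models of `Rf_* O` on small affine opens
-/

set_option autoImplicit false
set_option linter.style.haveILetI false
set_option linter.unusedSectionVars false
set_option backward.isDefEq.respectTransparency false

universe u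

open CategoryTheory Limits AlgebraicGeometry TopologicalSpace Opposite MonoidalCategory
attribute [local instance] HasDerivedCategory.standard

noncomputable section

namespace Groth.Agent.DCohMore.FibreOne

open Groth.Agent.DCohLib Groth.Agent.TildePerf Groth.Agent.DRingLib

variable {X S : Scheme.{u}}

/-- Fibres with only constant functions. -/
abbrev ConstFibres (f : X ⟶ S) : Prop := ∀ s : S, IsIso (f.fiberToSpecResidueField s).appTop

theorem appTop_iso_of_isPullback (f : X ⟶ S) {Z₁ Z₂ P : Scheme.{u}} (g₁ : Z₁ ⟶ S) (g₂ : Z₂ ⟶ S) (e : Z₁ ≅ Z₂)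
    (he : e.hom ≫ g₂ = g₁) {a : P ⟶ X} {b : P ⟶ Z₁} (hc : IsPullback a b f g₁)
    (h : IsIso (Limits.pullback.snd f g₂).appTop) : IsIso b.appTop := by
  have hc' : IsPullback a (b ≫ e.hom) f g₂ :=
    hc.of_iso (Iso.refl _) (Iso.refl _) e (Iso.refl _) (by simp) (by simp) (by simp) (by simp [he])
  have hb : b = hc'.isoPullback.hom ≫ Limits.pullback.snd f g₂ ≫ e.inv := by
    rw [← Category.assoc, hc'.isoPullback_hom_snd]; simp
  rw [hb]
  haveI := h
  simp only [Scheme.Hom.comp_appTop]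
  infer_instance

/-- The restriction of a morphism to an affine chart of the base. -/
theorem exists_chart_map (f : X ⟶ S) {A : Type u} [CommRing A] (j : Spec (CommRingCat.of A) ⟶ S) [IsOpenImmersion j] :
    ∃ (X₂ : Scheme.{u}) (a : X₂ ⟶ X) (f₂ : X₂ ⟶ Spec (CommRingCat.of A)), IsPullback a f₂ f j ∧
      X₂ = (f ⁻¹ᵁ j.opensRange : Scheme.{u}) :=
  ⟨_, (f ⁻¹ᵁ j.opensRange).ι, (f ∣_ j.opensRange) ≫ j.isoOpensRange.inv,
    (isPullback_morphismRestrict f j.opensRange).flip.of_iso (Iso.refl _) (Iso.refl _) j.isoOpensRange.symm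
      (Iso.refl _) (by simp) (by simp) (by simp) (by simp), rfl⟩

theorem constFibres_chart {f : X ⟶ S} (h : ConstFibres f) {Y : Scheme.{u}} (j : Y ⟶ S) [IsOpenImmersion j]
    {X₂ : Scheme.{u}} {a : X₂ ⟶ X} {f₂ : X₂ ⟶ Y} (hc : IsPullback a f₂ f j) : ConstFibres f₂ := fun y => by
  let g := Y.fromSpecResidueField y
  haveI : IsIso (j.residueFieldMap y) := (ConcreteCategory.isIso_iff_bijective _).2
    ⟨RingHom.injective (j.residueFieldMap y).hom, fun z => by
      obtain ⟨w, rfl⟩ := IsLocalRing.residue_surjective z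
      obtain ⟨v, rfl⟩ := (ConcreteCategory.isIso_iff_bijective (j.stalkMap y)).1 inferInstance |>.2 w
      exact ⟨IsLocalRing.residue _ v, rfl⟩⟩
  exact appTop_iso_of_isPullback f (g ≫ j) (S.fromSpecResidueField (j y)) (asIso (Spec.map (j.residueFieldMap y)))
    (j.SpecMap_residueFieldMap_fromSpecResidueField y)
    ((IsPullback.of_hasPullback f₂ g).paste_horiz hc) (h (j y))

/-- Equal morphisms have the same derived direct image. -/
def rpushEqIso {g g' : X ⟶ S} [DCoh.HasRpush g] [DCoh.HasRpush g'] (h : g = g') : DCoh.Rpush g ≅ DCoh.Rpush g' :=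
  eqToIso (by subst h; rfl)

/-- Restriction of the structure module. -/
theorem nonempty_restrictD_structure {U : Scheme.{u}} (j : U ⟶ X) [IsOpenImmersion j] :
    Nonempty ((DCoh.restrictD j).obj (DerivedCategory.Q.obj (sgl₀ (Coh.structureModule X))) ≅
      DerivedCategory.Q.obj (sgl₀ (Coh.structureModule U))) :=
  ⟨restrictDQ j (sgl₀ (Coh.structureModule X)) ≪≫ DerivedCategory.Q.mapIso
    ((HomologicalComplex.singleMapHomologicalComplex (Scheme.Modules.restrictFunctor j) _ 0).app _ ≪≫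
      (HomologicalComplex.single U.Modules (ComplexShape.up ℤ) 0).mapIso
        ((Scheme.Modules.restrictFunctorIsoPullback j).app _ ≪≫ ProjCoh.pullUnit j))⟩

/-- `Rf_* O` on a chart. -/
theorem nonempty_rpush_chart (f : X ⟶ S) [DCoh.HasRpush f] {A : Type u} [CommRing A]
    (j : Spec (CommRingCat.of A) ⟶ S) [IsOpenImmersion j] {X₂ : Scheme.{u}} {a : X₂ ⟶ X}
    {f₂ : X₂ ⟶ Spec (CommRingCat.of A)} (hc : IsPullback a f₂ f j) [DCoh.HasRpush f₂] :
    Nonempty ((DCoh.Rpush f₂).obj (DerivedCategory.Q.obj (sgl₀ (Coh.structureModule X₂))) ≅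
      (DCoh.restrictD j).obj ((DCoh.Rpush f).obj (DerivedCategory.Q.obj (sgl₀ (Coh.structureModule X))))) := by
  let V := j.opensRange
  haveI : DCoh.HasRpush (f ∣_ V) := Groth.Agent.KInj.hasRightDerivedFunctor (hres_modules _) _
  haveI : DCoh.HasRpush j.isoOpensRange.inv := Groth.Agent.KInj.hasRightDerivedFunctor (hres_modules _) _
  haveI : DCoh.HasRpush j.isoOpensRange.symm.hom := ‹DCoh.HasRpush j.isoOpensRange.inv›
  haveI := hasLpull j.isoOpensRange.symm.hom
  let f₁ := (f ∣_ V) ≫ j.isoOpensRange.inv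
  haveI : DCoh.HasRpush f₁ := Groth.Agent.KInj.hasRightDerivedFunctor (hres_modules _) _
  have hc₁ : IsPullback (f ⁻¹ᵁ V).ι f₁ f j := (isPullback_morphismRestrict f V).flip.of_iso (Iso.refl _) (Iso.refl _) j.isoOpensRange.symm
      (Iso.refl _) (by simp) (by simp [f₁]) (by simp) (by simp [V])
  let θ := hc.isoIsPullback _ _ hc₁
  have hθ : θ.hom ≫ f₁ = f₂ := hc.isoIsPullback_hom_snd _ _ hc₁
  haveI : DCoh.HasRpush θ.hom := Groth.Agent.KInj.hasRightDerivedFunctor (hres_modules _) _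
  haveI := hasLpull θ.hom
  haveI : DCoh.HasRpush (θ.hom ≫ f₁) := Groth.Agent.KInj.hasRightDerivedFunctor (hres_modules _) _
  obtain ⟨c⟩ := nonempty_rpushCompIso θ.hom f₁
  obtain ⟨c₁⟩ := nonempty_rpushCompIso (f ∣_ V) j.isoOpensRange.inv
  obtain ⟨eV⟩ := Groth.Agent.DCohLib.nonempty_restrictD_rpush f V
  obtain ⟨u₁⟩ := nonempty_restrictD_structure θ.inv
  obtain ⟨u₂⟩ := nonempty_restrictD_structure (f ⁻¹ᵁ V).ι
  exact ⟨(rpushEqIso hθ.symm).app _ ≪≫ (c.app _).symm ≪≫ (DCoh.Rpush f₁).mapIso (((rpushIsoRestrict θ).app _) ≪≫ u₁ ≪≫ u₂.symm) ≪≫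
    (c₁.app _).symm ≪≫ (DCoh.Rpush j.isoOpensRange.inv).mapIso (eV.app _).symm ≪≫
    ((rpushIsoRestrict j.isoOpensRange.symm).app _) ≪≫ ((restrictDComp j.isoOpensRange.hom V.ι).app _).symm ≪≫
    (restrictDCongr (by simp [V])).app _⟩

section Restrict

variable {A B : Type u} [CommRing A] [CommRing B] (φ : A →+* B)
  [IsOpenImmersion (Spec.map (CommRingCat.ofHom φ))]

/-- Restricting the sheaf of a complex to an affine open. -/
def restrictModel (N : DRing.Cx A) :
    (DCoh.restrictD (Spec.map (CommRingCat.ofHom φ))).obj (DerivedCategory.Q.obj (tilC N)) ≅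
      DerivedCategory.Q.obj (tilC ((DTen.extCx φ).obj N)) :=
  let j := Spec.map (CommRingCat.ofHom φ)
  let τ : tilde.functor (CommRingCat.of A) ⋙ Scheme.Modules.restrictFunctor j ≅
      ModuleCat.extendScalars.{u, u, u} φ ⋙ tilde.functor (CommRingCat.of B) :=
    Functor.isoWhiskerLeft _ (Scheme.Modules.restrictFunctorIsoPullback j) ≪≫
      TildePullback.tildePullbackIso (CommRingCat.ofHom φ)
  restrictDQ j (tilC N) ≪≫ DerivedCategory.Q.mapIso
    (HomologicalComplex.Hom.isoOfComponents (fun n => τ.app (N.X n)) fun i k _ => (τ.hom.naturality (N.d i k)).symm)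

end Restrict

end Groth.Agent.DCohMore.FibreOne
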