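import Groth.Agent.DCohMore.FibreOneMain

/-!
# Splitting the constants off `Rf_* O`
-/

set_option autoImplicit false
set_option linter.style.haveILetI false
set_option linter.unusedSectionVars false
set_option backward.isDefEq.respectTransparency false

universe u

open CategoryTheory Limits AlgebraicGeometry TopologicalSpace Opposite MonoidalCategory
attribute [local instance] HasDerivedCategory.standard

noncomputable section

namespace Groth.Agent.DCohMore.FibreOne

open Groth.Agent.DCohLib Groth.Agent.TildePerf Groth.Agent.DRingLib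

theorem isIso_map_fst {C D : Type*} [Category C] [Category D] [Preadditive C] [Preadditive D] [HasBinaryBiproducts C]
    (F : C ⥤ D) [F.Additive] (A B : C) (h : IsZero (F.obj B)) : IsIso (F.map (biprod.fst : A ⊞ B ⟶ A)) := by
  refine ⟨⟨F.map biprod.inl, ?_, ?_⟩⟩
  · have e := congrArg F.map (biprod.total (X := A) (Y := B))
    rw [Functor.map_add, Functor.map_comp, Functor.map_comp, h.eq_of_tgt (F.map biprod.snd) 0, zero_comp, add_zero,
      CategoryTheory.Functor.map_id] at e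
    exact e
  · rw [← F.map_comp, biprod.inl_fst, CategoryTheory.Functor.map_id]

theorem isIso_map_snd {C D : Type*} [Category C] [Category D] [Preadditive C] [Preadditive D] [HasBinaryBiproducts C]
    (F : C ⥤ D) [F.Additive] (A B : C) (h : IsZero (F.obj A)) : IsIso (F.map (biprod.snd : A ⊞ B ⟶ B)) := by
  refine ⟨⟨F.map biprod.inr, ?_, ?_⟩⟩
  · have e := congrArg F.map (biprod.total (X := A) (Y := B))
    rw [Functor.map_add, Functor.map_comp, Functor.map_comp, h.eq_of_tgt (F.map biprod.fst) 0, zero_comp, zero_add,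
      CategoryTheory.Functor.map_id] at e
    exact e
  · rw [← F.map_comp, biprod.inr_snd, CategoryTheory.Functor.map_id]

variable {A : Type u} [CommRing A]

/-- A complex with a split line of constants in degree zero. -/
theorem exists_split_model (P : DRing.Cx A) (hP : Bdd FProj P) (hP0 : ∀ i, i < 0 → IsZero (P.X i))
    (α : ModuleCat.of A A ⟶ P.X 0) (φ : P.X 0 ⟶ ModuleCat.of A A) (h : P.X 1 ⟶ P.X 0) (hα : α ≫ P.d 0 1 = 0)
    (hαφ : α ≫ φ = 𝟙 _) (hid : φ ≫ α + P.d 0 1 ≫ h = 𝟙 _) :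
    ∃ (T : DRing.Cx A) (b : ℤ), DRing.VanishesOutside T 1 b ∧ (∀ j, FProj (T.X j)) ∧
      Nonempty (DerivedCategory.Q.obj P ≅ DerivedCategory.Q.obj
        ((HomologicalComplex.single (ModuleCat.{u} A) (ComplexShape.up ℤ) 0).obj (ModuleCat.of A A) ⊞ T)) := by
  obtain ⟨⟨a, b, hab⟩, hPf⟩ := hP
  let L := (HomologicalComplex.single (ModuleCat.{u} A) (ComplexShape.up ℤ) 0).obj (ModuleCat.of A A)
  let u : L ⟶ P := HomologicalComplex.mkHomFromSingle α fun i hi => by
    obtain rfl : i = 1 := by simp at hi; omega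
    exact hα
  let r : P ⟶ L := HomologicalComplex.mkHomToSingle φ fun i hi => (hP0 i (by simp at hi; omega)).eq_of_src _ _
  have hur : u ≫ r = 𝟙 L := HomologicalComplex.from_single_hom_ext (by
    simp [u, r]
    rw [reassoc_of% hαφ, Iso.hom_inv_id])
  have hcyc : HomologicalComplex.cyclesMap (r ≫ u) 0 = 𝟙 (P.cycles 0) := by
    rw [← cancel_mono (P.iCycles 0), HomologicalComplex.cyclesMap_i, Category.id_comp]
    have : (r ≫ u).f 0 = 𝟙 _ - P.d 0 1 ≫ h := by
      simp only [HomologicalComplex.comp_f, u, r, HomologicalComplex.mkHomToSingle_f,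
        HomologicalComplex.mkHomFromSingle_f, Category.assoc, Iso.inv_hom_id_assoc]
      rw [← hid, add_sub_cancel_right]
    rw [this, Preadditive.comp_sub, Category.comp_id, HomologicalComplex.iCycles_d_assoc, zero_comp, sub_zero]
  have hr : IsIso (HomologicalComplex.homologyMap r 0) := by
    refine ⟨⟨HomologicalComplex.homologyMap u 0, ?_, ?_⟩⟩
    · rw [← HomologicalComplex.homologyMap_comp, ← cancel_epi (P.homologyπ 0), HomologicalComplex.homologyπ_naturality,
        hcyc, Category.id_comp, Category.comp_id]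
    · rw [← HomologicalComplex.homologyMap_comp, hur, HomologicalComplex.homologyMap_id]
  let T := P.truncGE 1
  let ψ : P ⟶ L ⊞ T := biprod.lift r (P.πTruncGE 1)
  haveI : QuasiIso ψ := ⟨fun i => by
    rw [quasiIsoAt_iff_isIso_homologyMap]
    let H := HomologicalComplex.homologyFunctor (ModuleCat.{u} A) (ComplexShape.up ℤ) i
    show IsIso (H.map ψ)
    have hT : i ≤ 0 → IsZero (H.obj T) := fun hi =>
      (HomologicalComplex.exactAt_iff_isZero_homology _ _).1
        (HomologicalComplex.ExactAt.of_isZero (CochainComplex.isZero_of_isStrictlyGE T 1 i (by omega)))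
    have hL : i ≠ 0 → IsZero (H.obj L) := fun hi =>
      HomologicalComplex.isZero_single_obj_homology _ _ _ _ (by omega)
    rcases lt_trichotomy i 0 with hi | rfl | hi
    · have hPi : IsZero (H.obj P) := (HomologicalComplex.exactAt_iff_isZero_homology _ _).1
        (HomologicalComplex.ExactAt.of_isZero (hP0 i hi))
      haveI := isIso_map_fst H L T (hT (by omega))
      exact hPi.isIso ((hL (by omega)).of_iso (asIso (H.map (biprod.fst : L ⊞ T ⟶ L)))) _
    · haveI := isIso_map_fst H L T (hT le_rfl)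
      haveI : IsIso (H.map ψ ≫ H.map biprod.fst) := by
        rw [← H.map_comp, biprod.lift_fst]
        exact hr
      exact IsIso.of_isIso_comp_right _ (H.map biprod.fst)
    · haveI := isIso_map_snd H L T (hL (by omega))
      haveI : IsIso (H.map ψ ≫ H.map biprod.snd) := by
        rw [← H.map_comp, biprod.lift_snd]
        haveI : QuasiIsoAt (P.πTruncGE 1) i := P.quasiIsoAt_πTruncGE 1 i (by omega)
        exact inferInstanceAs (IsIso (HomologicalComplex.homologyMap (P.πTruncGE 1) i))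
      exact IsIso.of_isIso_comp_right _ (H.map biprod.snd)⟩
  haveI : IsIso (DerivedCategory.Q.map ψ) := (DerivedCategory.isIso_Q_map_iff_quasiIso _ ψ).2 inferInstance
  refine ⟨T, max 1 b, fun j hj => ?_, fun j => ?_, ⟨asIso (DerivedCategory.Q.map ψ)⟩⟩
  · rcases hj with hj | hj
    · exact CochainComplex.isZero_of_isStrictlyGE T 1 j hj
    · exact (hab j (Or.inr (by omega))).of_iso (CochainComplex.truncGEXIso P 1 j (by omega))
  · rcases lt_trichotomy j 1 with hj | rfl | hj
    · exact projClass_fProj.zero (CochainComplex.isZero_of_isStrictlyGE T 1 j hj)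
    · refine projClass_fProj.iso (CochainComplex.truncGEXIsoOpcycles P 1).symm ⟨?_, ?_⟩
      · haveI := (hPf 1).1
        exact Module.Finite.of_surjective (P.pOpcycles 1).hom ((ModuleCat.epi_iff_surjective _).1 inferInstance)
      · have he : P.d 0 1 ≫ (𝟙 _ - h ≫ P.d 0 1) = 0 := by
          have := congrArg (· ≫ P.d 0 1) hid
          simp only [Preadditive.add_comp, Category.assoc, hα, comp_zero, zero_add, Category.id_comp] at this
          simp [Preadditive.comp_sub, this]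
        let s := P.descOpcycles (𝟙 _ - h ≫ P.d 0 1) 0 (CochainComplex.prev ℤ 1 |>.trans (by omega)) he
        have hs : s ≫ P.pOpcycles 1 = 𝟙 _ := by
          rw [← cancel_epi (P.pOpcycles 1), HomologicalComplex.p_descOpcycles_assoc, Category.comp_id]
          simp [Preadditive.sub_comp]
        haveI : Projective (P.X 1) := by
          haveI := (hPf 1).2
          exact ModuleCat.projective_of_categoryTheory_projective (P.X 1)
        exact (IsProjective.iff_projective _).2 (Retract.mk s (P.pOpcycles 1) hs).projective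
    · exact projClass_fProj.iso (CochainComplex.truncGEXIso P 1 j hj).symm (hPf j)

/-- Inverting the scalar of a split line. -/
theorem exists_split_data_ext {B : Type u} [CommRing B] (ψ : A →+* B) (c : A) (hc : IsUnit (ψ c)) (P : DRing.Cx A)
    (α : ModuleCat.of A A ⟶ P.X 0) (φ : P.X 0 ⟶ ModuleCat.of A A) (h : P.X 1 ⟶ P.X 0) (hα : α ≫ P.d 0 1 = 0)
    (hαφ : α ≫ φ = c • 𝟙 _) (hid : φ ≫ α + P.d 0 1 ≫ h = c • 𝟙 _) :
    ∃ (α' : ModuleCat.of B B ⟶ ((DTen.extCx ψ).obj P).X 0) (φ' : ((DTen.extCx ψ).obj P).X 0 ⟶ ModuleCat.of B B)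
      (h' : ((DTen.extCx ψ).obj P).X 1 ⟶ ((DTen.extCx ψ).obj P).X 0),
      α' ≫ ((DTen.extCx ψ).obj P).d 0 1 = 0 ∧ α' ≫ φ' = 𝟙 _ ∧
        φ' ≫ α' + ((DTen.extCx ψ).obj P).d 0 1 ≫ h' = 𝟙 _ := by
  let F := ModuleCat.extendScalars.{u, u, u} ψ
  letI := ψ.toAlgebra
  obtain ⟨ι⟩ : Nonempty (ModuleCat.of B B ≅ F.obj (ModuleCat.of A A)) :=
    ⟨((extendScalarsTensorEquiv A B (ModuleCat.of A A)).trans (TensorProduct.AlgebraTensorModule.rid A B B)).toModuleIso.symm⟩
  obtain ⟨v, hv⟩ := hc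
  have e1 : F.map α ≫ F.map (P.d 0 1) = 0 := by rw [← F.map_comp, hα, F.map_zero]
  have e2 : F.map α ≫ F.map φ = (v : B) • 𝟙 _ := by
    rw [← F.map_comp, hαφ, hv]; exact extendScalars_map_smul_id ψ _ c
  have e3 : F.map φ ≫ F.map α + F.map (P.d 0 1) ≫ F.map h = (v : B) • 𝟙 _ := by
    rw [← F.map_comp, ← F.map_comp, ← F.map_add, hid, hv]; exact extendScalars_map_smul_id ψ _ c
  refine ⟨ι.hom ≫ F.map α, ((v⁻¹ : Bˣ) : B) • (F.map φ ≫ ι.inv), ((v⁻¹ : Bˣ) : B) • F.map h, ?_, ?_, ?_⟩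
  · show (ι.hom ≫ F.map α) ≫ F.map (P.d 0 1) = 0
    rw [Category.assoc, e1, comp_zero]
  · rw [Linear.comp_smul, Category.assoc, reassoc_of% e2, Linear.smul_comp, Category.id_comp, Linear.comp_smul,
      Iso.hom_inv_id, smul_smul, Units.inv_mul, one_smul]
  · show _ + F.map (P.d 0 1) ≫ _ = _
    rw [Linear.smul_comp, Category.assoc, Iso.inv_hom_id_assoc, Linear.comp_smul, ← smul_add]
    refine (congrArg _ e3).trans ?_
    rw [smul_smul, Units.inv_mul, one_smul]
    rfl

variable {X S : Scheme.{u}}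

/-- Near every point `Rf_* O` splits off the constants. -/
theorem exists_split_rpush (f : X ⟶ S) [IsProper f] [Flat f] [LocallyOfFinitePresentation f]
    (h : ConstFibres f) (s : S) :
    ∃ V : S.Opens, s ∈ V ∧ ∀ [DCoh.HasRpush (f ∣_ V)] [∀ A B : DCoh.D (V : Scheme.{u}), HasBinaryBiproduct A B],
      ∃ (P : DCoh.D (V : Scheme.{u})) (b : ℤ), DCoh.IsPerfect P ∧ DCoh.HasTorAmplitudeIn 1 b P ∧
        Nonempty ((DCoh.Rpush (f ∣_ V)).obj (DCoh.inD (f ⁻¹ᵁ V : Scheme.{u}) (Coh.structureModule (f ⁻¹ᵁ V : Scheme.{u}))) ≅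
          DCoh.inD (V : Scheme.{u}) (Coh.structureModule (V : Scheme.{u})) ⊞ P) := by
  haveI : DCoh.HasRpush f := Groth.Agent.KInj.hasRightDerivedFunctor (hres_modules _) _
  obtain ⟨B, _, j, _, P, hsj, -, hP, hP0, ⟨eP⟩⟩ := exists_chart_model f h (U := ⊤) (s := s) trivial
  obtain ⟨p, hp⟩ := hsj
  obtain ⟨X₂, a, f₂, hc, -⟩ := exists_chart_map f j
  haveI : IsProper f₂ := MorphismProperty.of_isPullback (P := @IsProper) hc ‹_›
  haveI : Flat f₂ := MorphismProperty.of_isPullback (P := @Flat) hc ‹_›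
  haveI : DCoh.HasRpush f₂ := Groth.Agent.KInj.hasRightDerivedFunctor (hres_modules _) _
  obtain ⟨er⟩ := nonempty_rpush_chart f j hc
  letI := gammaAlg f₂
  obtain ⟨hinj, ⟨e⟩⟩ := model_data f₂ (constFibres_chart h j hc) P hP (hP0 _ (by omega)) (eP ≪≫ er.symm)
  haveI := (hP.2 0).1
  haveI := (hP.2 0).2
  haveI := (hP.2 1).1
  haveI := (hP.2 1).2
  obtain ⟨c, hcp, α, φ, g, hα, hφα, hid⟩ := exists_line_split p.asIdeal (P.d 0 1).hom e hinj
    (finrank_ker_fibre f₂ (constFibres_chart h j hc) P hP (hP0 _ (by omega)) (eP ≪≫ er.symm) p)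
  let C := Localization.Away c
  let ψ := algebraMap B C
  obtain ⟨α', φ', g', h1, h2, h3⟩ := exists_split_data_ext ψ c (IsLocalization.Away.algebraMap_isUnit c) P
    (ModuleCat.ofHom (LinearMap.toSpanSingleton B _ α)) (ModuleCat.ofHom φ) (ModuleCat.ofHom g)
    (ModuleCat.hom_ext (LinearMap.ext_ring (by simp [hα])))
    (ModuleCat.hom_ext (LinearMap.ext_ring (by simp [hφα])))
    (ModuleCat.hom_ext (LinearMap.ext fun x => (hid x).symm))
  let P' := (DTen.extCx ψ).obj P
  have hP' : Bdd FProj P' := ⟨⟨hP.1.choose, hP.1.choose_spec.choose, fun i hi =>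
      (ModuleCat.extendScalars.{u, u, u} ψ).map_isZero (hP.1.choose_spec.choose_spec i hi)⟩,
    fun i => fProj_extend ψ (hP.2 i)⟩
  obtain ⟨T, b, hTb, hT, ⟨eT⟩⟩ := exists_split_model P' hP'
    (fun i hi => (ModuleCat.extendScalars.{u, u, u} ψ).map_isZero (hP0 i hi)) α' φ' g' h1 h2 h3
  let j₁ := Spec.map (CommRingCat.ofHom ψ)
  haveI : IsOpenImmersion j₁ := IsOpenImmersion.of_isLocalization c
  let k := j₁ ≫ j
  let V := k.opensRange
  refine ⟨V, ?_, fun {_} {_} => ?_⟩
  · obtain ⟨z, hz⟩ : p ∈ Set.range (PrimeSpectrum.comap ψ) := by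
      rw [PrimeSpectrum.localization_away_comap_range C c]
      exact hcp
    exact ⟨z, by rw [Scheme.Hom.comp_apply]; exact (congrArg (fun q => j q) hz).trans hp⟩
  let R := DCoh.restrictD k.isoOpensRange.inv
  let TT := DerivedCategory.Q.obj (tilC T)
  haveI := TildeD.preservesFiniteLimits_tilde (R := CommRingCat.of C)
  have hbdd : Bdd FProj T := ⟨⟨1, b, hTb⟩, hT⟩
  have hTT : DCoh.IsPerfect TT := isPerfect_of_perfOn ⟨_, isStrictlyPerfect_tilC hbdd, ⟨Iso.refl _⟩⟩
  refine ⟨R.obj TT, b, isPerfect_restrict _ hTT, ?_, ?_⟩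
  · obtain ⟨E, hE, hEf, ⟨eE⟩⟩ := flatAmplitude_tilde (A := C) (M := DRing.toD T) ⟨T, hTb, fun i =>
        haveI := (hT i).2
        inferInstance, ⟨Iso.refl _⟩⟩
    exact hasTorAmplitudeIn_of_hasFlatAmplitudeIn (hasFlatAmplitudeIn_restrict k.isoOpensRange.inv
      ⟨E, hE, hEf, ⟨eE ≪≫ tildeDQ T⟩⟩)
  obtain ⟨eV⟩ := Groth.Agent.DCohLib.nonempty_restrictD_rpush f V
  obtain ⟨u₂⟩ := nonempty_restrictD_structure (f ⁻¹ᵁ V).ι
  obtain ⟨u₃⟩ := nonempty_restrictD_structure k.isoOpensRange.inv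
  let O := DerivedCategory.Q.obj (sgl₀ (Coh.structureModule X))
  let sglIso : ∀ (Y : Scheme.{u}), DCoh.inD Y (Coh.structureModule Y) ≅ DerivedCategory.Q.obj (sgl₀ (Coh.structureModule Y)) :=
    fun Y => (DerivedCategory.singleFunctorIsoCompQ Y.Modules 0).app _
  let G := tilCF (CommRingCat.of C) ⋙ DerivedCategory.Q ⋙ R
  haveI : G.Additive := inferInstance
  haveI : PreservesBinaryBiproducts G := preservesBinaryBiproducts_of_preservesBiproducts G
  let L := (HomologicalComplex.single (ModuleCat.{u} C) (ComplexShape.up ℤ) 0).obj (ModuleCat.of C C)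
  let eQ : DerivedCategory.Q.obj (tilC P') ≅ DerivedCategory.Q.obj (tilC (L ⊞ T)) :=
    (tildeDQ P').symm ≪≫ (DCoh.tildeD (CommRingCat.of C)).mapIso eT ≪≫ tildeDQ _
  let eL : R.obj (DerivedCategory.Q.obj (tilC L)) ≅ DCoh.inD (V : Scheme.{u}) (Coh.structureModule _) :=
    R.mapIso (DerivedCategory.Q.mapIso ((HomologicalComplex.singleMapHomologicalComplex (tilde.functor (CommRingCat.of C)) _ 0).app _ ≪≫
      (HomologicalComplex.single _ (ComplexShape.up ℤ) 0).mapIso (tildeSelf (R := CommRingCat.of C)))) ≪≫ u₃ ≪≫ (sglIso _).symm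
  exact ⟨(DCoh.Rpush (f ∣_ V)).mapIso (sglIso _ ≪≫ u₂.symm) ≪≫ (eV.app O).symm ≪≫
    (restrictDCongr (show V.ι = k.isoOpensRange.inv ≫ k from k.isoOpensRange_inv_comp.symm)).app _ ≪≫
    (restrictDComp _ k).app _ ≪≫ R.mapIso ((restrictDComp j₁ j).app _ ≪≫ (DCoh.restrictD j₁).mapIso eP.symm ≪≫
      restrictModel ψ P ≪≫ eQ) ≪≫ G.mapBiprod L T ≪≫ biprod.mapIso eL (Iso.refl _)⟩

end Groth.Agent.DCohMore.FibreOne
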