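import Groth.Agent.DCohMore.RHomCoh
import Groth.Agent.DCohMore.RpushBdd
import Groth.Agent.DCohMore.BCTwistOps
import Groth.Agent.BCLib.TensorFun
import Groth.Agent.DCohMore.ProjPC
import Groth.Prelude.Def_KLin
import Mathlib.AlgebraicGeometry.Morphisms.Proper
import Mathlib.RingTheory.Finiteness.Basic

/-!
# Finiteness of morphism modules between coherent objects on a proper scheme
-/

set_option autoImplicit false
set_option linter.style.haveILetI false
set_option linter.unusedSectionVars false
set_option maxHeartbeats 1000000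
set_option backward.isDefEq.respectTransparency false

universe u

open CategoryTheory CategoryTheory.Limits AlgebraicGeometry TopologicalSpace Opposite
open CategoryTheory.Pretriangulated

attribute [local instance] HasDerivedCategory.standard

noncomputable section

namespace Groth.Agent.DCohMore.FinHom

open Groth.Agent.DCohLib

section Abstract

variable {A : Type u} [CommRing A]

/-- A functor is linear if it respects multiplication on enough objects. -/
theorem linear_of_objects {C D : Type*} [Category C] [Category D] [Preadditive C] [Preadditive D]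
    [Linear A C] [Linear A D] (F : C ⥤ D) [F.Additive]
    (h : ∀ (M : C) (a : A), ∃ (M' : C) (_ : M' ≅ M), F.map (a • 𝟙 M') = a • 𝟙 (F.obj M')) : F.Linear A := by
  refine (Functor.linear_iff A F).2 fun M a => ?_
  obtain ⟨M', e, he⟩ := h M a
  have h1 : a • 𝟙 M = e.inv ≫ (a • 𝟙 M') ≫ e.hom := by
    rw [Linear.smul_comp, Category.id_comp, Linear.comp_smul, e.inv_hom_id]
  rw [h1, F.map_comp, F.map_comp, he, Linear.smul_comp, Category.id_comp, Linear.comp_smul, ← F.map_comp,
    e.inv_hom_id, F.map_id]

/-- The adjunction bijection for a linear left adjoint. -/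
def homLinearEquiv {C D : Type*} [Category C] [Category D] [Preadditive C] [Preadditive D]
    [Linear A C] [Linear A D] {F : C ⥤ D} {G : D ⥤ C} (adj : F ⊣ G) [F.Additive] [F.Linear A]
    (M : C) (N : D) : (M ⟶ G.obj N) ≃ₗ[A] (F.obj M ⟶ N) where
  toFun f := F.map f ≫ adj.counit.app N
  invFun g := adj.homEquiv M N g
  map_add' f g := by rw [F.map_add, Preadditive.add_comp]
  map_smul' a f := by rw [RingHom.id_apply, Functor.map_smul, Linear.smul_comp]
  left_inv f := by
    exact (congrArg (adj.homEquiv M N) (adj.homEquiv_counit M N _).symm).trans (Equiv.apply_symm_apply _ _)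
  right_inv g := by
    exact (adj.homEquiv_counit M N _).symm.trans (Equiv.symm_apply_apply _ _)

/-- The adjunction bijection for a linear right adjoint. -/
def homLinearEquiv' {C D : Type*} [Category C] [Category D] [Preadditive C] [Preadditive D]
    [Linear A C] [Linear A D] {F : C ⥤ D} {G : D ⥤ C} (adj : F ⊣ G) [G.Additive] [G.Linear A]
    (M : C) (N : D) : (F.obj M ⟶ N) ≃ₗ[A] (M ⟶ G.obj N) where
  toFun f := adj.unit.app M ≫ G.map f
  invFun g := (adj.homEquiv M N).symm g
  map_add' f g := by rw [G.map_add, Preadditive.comp_add]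
  map_smul' a f := by rw [RingHom.id_apply, Functor.map_smul, Linear.comp_smul]
  left_inv f := by
    exact (congrArg (adj.homEquiv M N).symm (adj.homEquiv_unit M N _).symm).trans (Equiv.symm_apply_apply _ _)
  right_inv g := by
    exact (adj.homEquiv_unit M N _).symm.trans (Equiv.apply_symm_apply _ _)

end Abstract

variable {A : Type u} [CommRing A] {X : Scheme.{u}} [X.Over (Spec (CommRingCat.of A))]

theorem tensorBi_map_smul (M N : X.Modules) (a : A) :
    ((DCoh.tensorBi (X := X)).map (a • 𝟙 M)).app N =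
      a • 𝟙 (((DCoh.tensorBi (X := X)).obj M).obj N) := by
  rw [KLin.smul_id, KLin.smul_id]
  exact Groth.Agent.BCLib.tensorRightMod_map_smulModΓ N M _

theorem tensorCx_map_smul (P E : CochainComplex X.Modules ℤ) (a : A) :
    ((DCoh.tensorCx (X := X)).map (a • 𝟙 P)).app E = a • 𝟙 ((DCoh.tensorCx.obj P).obj E) := by
  refine HomologicalComplex.hom_ext _ _ fun n => ?_
  refine HomologicalComplex.mapBifunctor.hom_ext fun i j h => ?_
  rw [HomologicalComplex.smul_f_apply, HomologicalComplex.id_f, Linear.comp_smul]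
  erw [Category.comp_id]
  show HomologicalComplex.ιMapBifunctor P E (DCoh.tensorBi (X := X)) (ComplexShape.up ℤ) i j n h ≫
    (HomologicalComplex.mapBifunctorMap (a • 𝟙 P) (𝟙 E) (DCoh.tensorBi (X := X)) (ComplexShape.up ℤ)).f n = _
  rw [HomologicalComplex.ι_mapBifunctorMap, HomologicalComplex.id_f, CategoryTheory.Functor.map_id,
    Category.id_comp, HomologicalComplex.smul_f_apply, HomologicalComplex.id_f, tensorBi_map_smul,
    Linear.smul_comp, Category.id_comp]

/-- Derived tensor product with a K-flat complex is linear. -/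
theorem lTensorCx_linear (N : CochainComplex X.Modules ℤ) (hN : DCoh.IsKFlat N) [DCoh.HasLTensorCx N]
    [(DCoh.LTensorCx N).Additive] : (DCoh.LTensorCx N).Linear A := by
  refine linear_of_objects _ fun M a => ?_
  obtain ⟨P, ⟨e⟩⟩ : ∃ P, Nonempty (DerivedCategory.Q.obj P ≅ M) :=
    ⟨_, ⟨DerivedCategory.Q.objObjPreimageIso M⟩⟩
  refine ⟨DerivedCategory.Q.obj P, e, ?_⟩
  haveI := isIso_lTensorCounit_app_of_isKFlat N hN P
  rw [← cancel_mono ((lTensorCounit N).app P), Linear.smul_comp, Category.id_comp,
    show a • 𝟙 (DerivedCategory.Q.obj P) = DerivedCategory.Q.map (a • 𝟙 P) by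
      rw [Functor.map_smul, CategoryTheory.Functor.map_id]]
  refine ((lTensorCounit N).naturality (a • 𝟙 P)).trans ?_
  show (lTensorCounit N).app P ≫ DerivedCategory.Q.map (((DCoh.tensorCx (X := X)).map (a • 𝟙 P)).app N) = _
  rw [tensorCx_map_smul, Functor.map_smul, Linear.comp_smul]
  erw [CategoryTheory.Functor.map_id]
  exact congrArg (a • ·) (Category.comp_id _)

/-- Derived direct image over the base is linear. -/
theorem rpush_linear {Y : Scheme.{u}} [Y.Over (Spec (CommRingCat.of A))] (f : X ⟶ Y)
    [f.IsOver (Spec (CommRingCat.of A))] [DCoh.HasRpush f] [(DCoh.Rpush f).Additive] :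
    (DCoh.Rpush f).Linear A := by
  refine linear_of_objects _ fun M a => ?_
  let F := DerivedCategory.Q.objPreimage M
  obtain ⟨I, φ, hI, hφ⟩ := hres_modules X F
  haveI := hI
  haveI := hφ
  let K := (HomotopyCategory.quotient X.Modules (ComplexShape.up ℤ)).obj I
  let e : DerivedCategory.Qh.obj K ≅ M :=
    (DerivedCategory.quotientCompQhIso X.Modules).app I ≪≫ (asIso (DerivedCategory.Q.map φ)).symm ≪≫
      DerivedCategory.Q.objObjPreimageIso M
  refine ⟨DerivedCategory.Qh.obj K, e, ?_⟩
  haveI := isIso_rpushUnit_app f I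
  rw [← cancel_epi ((rpushUnit f).app K), Linear.comp_smul,
    show a • 𝟙 (DerivedCategory.Qh.obj K) = DerivedCategory.Qh.map (a • 𝟙 K) by
      rw [Functor.map_smul, CategoryTheory.Functor.map_id]]
  refine ((rpushUnit f).naturality (a • 𝟙 K)).symm.trans ?_
  show DerivedCategory.Qh.map (((Scheme.Modules.pushforward f).mapHomotopyCategory (ComplexShape.up ℤ)).map (a • 𝟙 K)) ≫ _ = _
  rw [Functor.map_smul, Functor.map_smul, CategoryTheory.Functor.map_id, CategoryTheory.Functor.map_id,
    Linear.smul_comp]
  exact congrArg (a • ·) ((Category.id_comp _).trans (Category.comp_id _).symm)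

omit [X.Over (Spec (CommRingCat.of A))] in
/-- Morphisms from the structure sheaf to a coherent object on an affine base. -/
theorem finite_hom_spec [IsNoetherianRing A] [(Spec (CommRingCat.of A)).Over (Spec (CommRingCat.of A))]
    (hid : (Spec (CommRingCat.of A)) ↘ Spec (CommRingCat.of A) = 𝟙 _)
    (V : DCoh.D (Spec (CommRingCat.of A))) (hV : DCoh.IsCohD V) :
    Module.Finite A (DCoh.inD (Spec (CommRingCat.of A)) (Coh.structureModule _) ⟶ V) := by
  let S := Spec (CommRingCat.of A)
  let R := CommRingCat.of A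
  haveI : PreservesFiniteLimits (tilde.functor R) := TildeD.preservesFiniteLimits_tilde
  let H := DerivedCategory.homologyFunctor S.Modules 0
  haveI : H.Linear A := by
    refine linear_of_objects _ fun M a => ⟨DerivedCategory.Q.obj (DerivedCategory.Q.objPreimage M),
      DerivedCategory.Q.objObjPreimageIso M, ?_⟩
    let C := DerivedCategory.Q.objPreimage M
    rw [show a • 𝟙 (DerivedCategory.Q.obj C) = DerivedCategory.Q.map (a • 𝟙 C) by
      rw [Functor.map_smul, CategoryTheory.Functor.map_id],
      ← cancel_mono ((DerivedCategory.homologyFunctorFactors S.Modules 0).hom.app C), Linear.smul_comp,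
      Category.id_comp]
    refine ((DerivedCategory.homologyFunctorFactors S.Modules 0).hom.naturality (a • 𝟙 C)).trans ?_
    show _ ≫ HomologicalComplex.homologyMap (a • 𝟙 C) 0 = _
    rw [show HomologicalComplex.homologyMap (a • 𝟙 C) 0 = a • 𝟙 (C.homology 0) by
      show ShortComplex.homologyMap ((HomologicalComplex.shortComplexFunctor _ _ 0).map (a • 𝟙 C)) = _
      rw [show (HomologicalComplex.shortComplexFunctor _ _ 0).map (a • 𝟙 C) = a • 𝟙 (C.sc 0) by ext <;> rfl,
        ShortComplex.homologyMap_smul, ShortComplex.homologyMap_id]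
      rfl, Linear.comp_smul]
    exact congrArg (a • ·) (Category.comp_id _)
  let O := Coh.structureModule S
  let M := DCoh.HD V 0
  haveI hq : Coh.IsQCoh M := (hV 0).1
  haveI : PreservesColimitsOfSize.{0, 0} (tilde.functor R) :=
    haveI : PreservesColimitsOfSize.{u, u} (tilde.functor R) := tilde.adjunction.leftAdjoint_preservesColimits
    preservesColimitsOfSize_shrink _
  haveI : PreservesFiniteColimits (tilde.functor R) := PreservesColimitsOfSize.preservesFiniteColimits _
  let o : (DCoh.tildeD R).obj (Dual.inD R R) ≅ DCoh.inD S O :=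
    ((tilde.functor R).mapDerivedCategorySingleFunctor 0).app _ ≪≫
      (DerivedCategory.singleFunctor S.Modules 0).mapIso tildeSelf
  let o' : O ≅ H.obj (DCoh.inD S O) :=
    ((DerivedCategory.singleFunctorCompHomologyFunctorIso S.Modules 0).app O).symm
  let φ : A →+* Γ(S, ⊤) := Coh.toGlobal (S ↘ Spec (CommRingCat.of A))
  letI : Module A Γ(M, ⊤) := Module.compHom Γ(M, ⊤) φ
  letI : Algebra A Γ(S, ⊤) := φ.toAlgebra
  haveI : IsScalarTower A Γ(S, ⊤) Γ(M, ⊤) := .of_algebraMap_smul fun _ _ => rfl
  haveI : Module.Finite A Γ(S, ⊤) := by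
    refine Module.Finite.of_surjective (Algebra.linearMap A Γ(S, ⊤)) fun s => ⟨(Scheme.ΓSpecIso R).hom s, ?_⟩
    show φ ((Scheme.ΓSpecIso R).hom s) = s
    show Coh.toGlobal (S ↘ Spec (CommRingCat.of A)) ((Scheme.ΓSpecIso R).hom s) = s
    rw [hid]
    show ((Scheme.ΓSpecIso R).inv ≫ (𝟙 S : S ⟶ S).appTop) ((Scheme.ΓSpecIso R).hom s) = s
    rw [Scheme.Hom.id_appTop, Category.comp_id, ← ConcreteCategory.comp_apply, Iso.hom_inv_id]
    rfl
  haveI : Module.Finite Γ(S, ⊤) Γ(M, ⊤) := QCohLib.finite_sections M (hV 0).2 (isAffineOpen_top S)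
  haveI : Module.Finite A Γ(M, ⊤) := Module.Finite.trans Γ(S, ⊤) _
  let Φ : (DCoh.inD S O ⟶ V) →ₗ[A] Γ(M, ⊤) :=
    { toFun := fun f => (o'.hom ≫ H.map f).app ⊤ (1 : Γ(S, ⊤))
      map_add' := fun f g => by
        rw [H.map_add, Preadditive.comp_add]
        rfl
      map_smul' := fun a f => by
        rw [RingHom.id_apply, Functor.map_smul, Linear.comp_smul, KLin.smul_app_apply]
        refine congrArg (· • _) ?_
        exact ConcreteCategory.congr_hom (S.presheaf.map_id (op ⊤)) _ }
  have hinj : Function.Injective Φ := by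
    intro f g hfg
    have h1 : o'.hom ≫ H.map f = o'.hom ≫ H.map g := hom_unit_ext hfg
    rw [cancel_epi] at h1
    apply (cancel_epi o.hom).1
    refine (TildeD.homology_map_bijective_qcoh R 0 V fun i => (hV i).1).1 ?_
    show H.map (o.hom ≫ f) = H.map (o.hom ≫ g)
    rw [H.map_comp, H.map_comp, h1]
  exact Module.Finite.of_injective Φ hinj

/-- Morphisms between coherent objects on a proper scheme over a Noetherian ring. -/
theorem finite_hom [IsNoetherianRing A] [IsProper (X ↘ Spec (CommRingCat.of A))] (K L : DCoh.D X)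
    (hK : DCoh.IsCohD K) (hKb : ∃ b : ℤ, K.IsLE b) (hL : DCoh.IsCohD L) (hLa : ∃ a : ℤ, L.IsGE a) :
    Module.Finite A (K ⟶ L) := by
  let S := Spec (CommRingCat.of A)
  let π := X ↘ S
  haveI : IsLocallyNoetherian S := inferInstance
  haveI : IsLocallyNoetherian X := LocallyOfFiniteType.isLocallyNoetherian π
  letI : S.Over (Spec (CommRingCat.of A)) := ⟨𝟙 _⟩
  haveI : π.IsOver (Spec (CommRingCat.of A)) := ⟨Category.comp_id _⟩
  obtain ⟨b, hb⟩ := hKb
  obtain ⟨a, ha⟩ := hLa
  haveI := ha
  haveI := hb
  -- a flat model of the source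
  let C := DerivedCategory.Q.objPreimage K
  let eC : DerivedCategory.Q.obj C ≅ K := DerivedCategory.Q.objObjPreimageIso K
  haveI : (DCoh.toD X C).IsLE b := DerivedCategory.TStructure.t.isLE_of_iso eC.symm b
  let N := (resX X).obj C
  have hN : DCoh.IsKFlat N := isKFlat_resX C
  let eN : DerivedCategory.Q.obj N ≅ K := @asIso _ _ _ _ _ (isIso_Q_resXπ C) ≪≫ eC
  haveI : (DCoh.toD X N).IsLE b := DerivedCategory.TStructure.t.isLE_of_iso eN.symm b
  haveI := hasRSheafHom_of_isKFlat N hN
  obtain ⟨hR, a', ha'⟩ := isCohD_rSheafHom N b (isCohD_of_iso' eN.symm hK) L a hL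
  let adj := DCoh.RSheafHomAdj N
  haveI : (DCoh.LTensorCx N).IsLeftAdjoint := adj.isLeftAdjoint
  haveI : PreservesColimitsOfSize.{0, 0} (DCoh.LTensorCx N) := adj.leftAdjoint_preservesColimits
  haveI : PreservesBinaryBiproducts (DCoh.LTensorCx N) := preservesBinaryBiproducts_of_preservesBinaryCoproducts _
  haveI : (DCoh.LTensorCx N).Additive := Functor.additive_of_preservesBinaryBiproducts _
  haveI := lTensorCx_linear (A := A) N hN
  let R := (DCoh.RSheafHom N).obj L
  haveI := ha'
  -- the unit object
  let O := Coh.structureModule X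
  let U := DerivedCategory.Q.obj (unitCx X)
  obtain ⟨t⟩ := nonempty_symCxSch (unitCx X) N
  haveI := isIso_lTensorCounit_app_of_isKFlat N hN (unitCx X)
  let eK : (DCoh.LTensorCx N).obj U ≅ K :=
    asIso ((lTensorCounit N).app (unitCx X)) ≪≫ DerivedCategory.Q.mapIso (t ≪≫ tensorUnitCxIso.app N) ≪≫ eN
  -- the base
  haveI := BC.hasRpush π
  haveI := hasLpull π
  haveI : (DCoh.Rpush π).IsRightAdjoint := (lpullRpushAdj π).isRightAdjoint
  haveI : (DCoh.Rpush π).Additive := CategoryTheory.Functor.additive_of_preserves_binary_products _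
  haveI := rpush_linear (A := A) π
  haveI : IsIso ((BC.lamN π 0).app (Coh.structureModule S)) :=
    BC.isIso_lamN_app_flat π 0 _ ((isFlat_iff _).2 (SiteBase.ExtZeroPre.isFlat_unit S.sheaf))
  let eU : (DCoh.Lpull π).obj (DCoh.inD S (Coh.structureModule S)) ≅ U :=
    asIso ((BC.lamN π 0).app (Coh.structureModule S)) ≪≫ (BC.TT X 0).mapIso (pullStructureIso π) ≪≫
      (DerivedCategory.singleFunctorIsoCompQ X.Modules 0).app O
  have huniv : ClSub.IsProperOver π (Set.univ : Set X) :=
    (ClSubLib.isProperOver_iff π (𝟙 X) (Set.range_id)).2 (by rw [Category.id_comp]; infer_instance)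
  haveI : Module.Finite A (DCoh.inD S (Coh.structureModule S) ⟶ (DCoh.Rpush π).obj R) :=
    finite_hom_spec rfl _ (isCohD_rpush π R a' hR fun i => ClSubLib.isProperOver_subset π huniv
      (PullbackMod.isClosed_support_of_isFT (hR i).2) (Set.subset_univ _))
  haveI : Module.Finite A ((DCoh.Lpull π).obj (DCoh.inD S (Coh.structureModule S)) ⟶ R) :=
    Module.Finite.equiv (homLinearEquiv' (A := A) (lpullRpushAdj π) _ _).symm
  haveI : Module.Finite A (U ⟶ R) := Module.Finite.equiv (Linear.homCongr A eU (Iso.refl R))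
  haveI : Module.Finite A ((DCoh.LTensorCx N).obj U ⟶ L) :=
    Module.Finite.equiv (homLinearEquiv (A := A) adj U L)
  exact Module.Finite.equiv (Linear.homCongr A eK (Iso.refl L))

end Groth.Agent.DCohMore.FinHom
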