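import Groth.Agent.DCohMore.FreeRepOpen
import Groth.Agent.DCohMore.ApproxCor
import Groth.Agent.DCohMore.RpushQC

/-! Finite free representatives on quasi-compact opens of affine schemes. -/

set_option autoImplicit false
set_option linter.style.haveILetI false
set_option backward.isDefEq.respectTransparency false

universe u

open CategoryTheory Limits AlgebraicGeometry Pretriangulated ZeroObject
attribute [local instance] HasDerivedCategory.standard

noncomputable section

namespace Groth.Agent.DCohMore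

open Groth.Agent.DRingLib Groth.Agent.DCohLib

theorem nonempty_tilde_free {A : Type u} [CommRing A] (M : ModuleCat.{u} A) [Module.Finite A M] [Module.Free A M] :
    ∃ n : ℕ, Nonempty ((tilde.functor (CommRingCat.of A)).obj M ≅ FlatMod.freeMod (Spec (CommRingCat.of A)) n) := by
  classical
  let I := Module.Free.ChooseBasisIndex A M
  let n := Fintype.card I
  let e : I ≃ ULift.{u} (Fin n) := (Fintype.equivFin I).trans Equiv.ulift.symm
  let b := (Module.Free.chooseBasis A M).reindex e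
  let f : M ≅ ModuleCat.of A (ULift.{u} (Fin n) →₀ A) := b.repr.toModuleIso
  haveI : HasCoproductsOfShape (Fin n) (Spec (CommRingCat.of A)).Modules := inferInstance
  exact ⟨n, ⟨(tilde.functor (CommRingCat.of A)).mapIso f ≪≫ tildeFinsupp (ULift.{u} (Fin n)) ≪≫
    (show SheafOfModules.free (R := (Spec (CommRingCat.of A)).ringCatSheaf) (ULift.{u} (Fin n)) ≅
        FlatMod.freeMod (Spec (CommRingCat.of A)) n from
      Sigma.whiskerEquiv (C := (Spec (CommRingCat.of A)).Modules)
        (f := fun _ : ULift.{u} (Fin n) => Coh.structureModule (Spec (CommRingCat.of A)))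
        (g := fun _ : Fin n => Coh.structureModule (Spec (CommRingCat.of A))) Equiv.ulift (fun _ => Iso.refl _))⟩⟩

variable (X : Scheme.{u}) [IsAffine X]

theorem exists_free_extension (U : X.Opens) (hU : IsCompact (U : Set X)) (E : DCoh.D (U : Scheme.{u}))
    (hq : DCoh.IsQCohD E) (hE : ∀ m : ℤ, DCoh.IsPseudoCoherentD m E) :
    ∃ (G : CochainComplex X.Modules ℤ) (b : ℤ), (∀ i : ℤ, b < i → IsZero (G.X i)) ∧
      (∀ i : ℤ, ∃ n : ℕ, Nonempty (G.X i ≅ FlatMod.freeMod X n)) ∧
      Nonempty (DerivedCategory.Q.obj ((DCoh.restrictCx U).obj G) ≅ E) := by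
  let A : Type u := Γ(X, ⊤)
  haveI := TildeD.preservesFiniteLimits_tilde (R := CommRingCat.of A)
  haveI : CompactSpace (U : Scheme.{u}) := isCompact_iff_compactSpace.1 hU
  haveI : QuasiCompact U.ι := quasiCompact_of_compactSpace U.ι
  haveI : DCoh.HasRpush U.ι := Groth.Agent.KInj.hasRightDerivedFunctor (hres_modules _) _
  let e := X.isoSpec
  let E' := (DCoh.Rpush U.ι).obj E
  obtain ⟨M, ⟨eM⟩⟩ := ((TildeD.main (CommRingCat.of A)).2.2 _).1
    (TildeD.isQCohD_restrict e.inv E' (isQCohD_rpush U.ι E hq))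
  let F := DerivedCategory.Q.objPreimage M
  let eF : DerivedCategory.Q.obj F ≅ M := DerivedCategory.Q.objObjPreimageIso M
  let W : (Spec (CommRingCat.of A)).Opens := e.inv ⁻¹ᵁ U
  have hW : IsCompact (W : Set (Spec (CommRingCat.of A))) := QuasiCompact.isCompact_preimage (f := e.inv) U U.2 hU
  haveI : CompactSpace (W : Scheme.{u}) := isCompact_iff_compactSpace.1 hW
  let p : (W : Scheme.{u}) ⟶ (U : Scheme.{u}) := e.inv ∣_ U
  have hp : p ≫ U.ι = W.ι ≫ e.inv := morphismRestrict_ι _ _
  let eW : (jW W).obj (DerivedCategory.Q.obj F) ≅ (DCoh.restrictD p).obj E :=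
    (jW W).mapIso eF ≪≫ (DCoh.restrictD W.ι).mapIso eM ≪≫ ((restrictDComp W.ι e.inv).app E').symm ≪≫
      (restrictDCongr hp.symm).app E' ≪≫ (restrictDComp p U.ι).app E' ≪≫
      (DCoh.restrictD p).mapIso ((rpushRestrictId U).app E)
  have hFW : ∀ m, DCoh.IsPseudoCoherentD m ((jW W).obj (DerivedCategory.Q.obj F)) := fun m =>
    isPseudoCoherentD_iso eW.symm (isPseudoCoherentD_restrict p (hE m))
  obtain ⟨b, hb⟩ := TildePerf.exists_aboveZero_of_pc (hFW 0)
  obtain ⟨P, g, hPb, hPf, hg⟩ := exists_representativeW W hW F b ((aboveW_iff W b _).2 hb) hFW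
  haveI := hg
  have hr : Set.range (U.ι ≫ e.hom) ⊆ Set.range W.ι := by
    rw [Scheme.Opens.range_ι]
    rintro _ ⟨x, rfl⟩
    show e.inv.base ((U.ι ≫ e.hom).base x) ∈ U
    rw [← Scheme.Hom.comp_apply, Category.assoc, e.hom_inv_id, Category.comp_id]
    exact x.2
  let q := IsOpenImmersion.lift W.ι (U.ι ≫ e.hom) hr
  have hq' : q ≫ W.ι = U.ι ≫ e.hom := IsOpenImmersion.lift_fac _ _ _
  haveI : IsOpenImmersion (q ≫ W.ι) := by rw [hq']; infer_instance
  haveI : IsOpenImmersion q := IsOpenImmersion.of_comp q W.ι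
  haveI : IsOpenImmersion (q ≫ p) := inferInstance
  have hqp : q ≫ p = 𝟙 _ := by
    rw [← cancel_mono U.ι, Category.assoc, hp, reassoc_of% hq', e.hom_inv_id, Category.comp_id, Category.id_comp]
  let G := (resCx e.hom).obj (TildePerf.tilC P)
  refine ⟨G, b, fun i hi => ?_, fun i => ?_, ⟨?_⟩⟩
  · exact (Scheme.Modules.restrictFunctor e.hom).map_isZero (TildePerf.map_isZero_tilde (hPb i hi))
  · haveI := (hPf i).1
    haveI := (hPf i).2
    obtain ⟨n, ⟨i'⟩⟩ := nonempty_tilde_free (P.X i)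
    exact ⟨n, ⟨(Scheme.Modules.restrictFunctor e.hom).mapIso i' ≪≫ restrictFreeMod e.hom n⟩⟩
  · exact (restrictDQ U.ι G).symm ≪≫ (DCoh.restrictD U.ι).mapIso (restrictDQ e.hom (TildePerf.tilC P)).symm ≪≫
      ((restrictDComp U.ι e.hom).app _).symm ≪≫ (restrictDCongr hq'.symm).app _ ≪≫
      (restrictDComp q W.ι).app _ ≪≫
      (DCoh.restrictD q).mapIso ((DCoh.restrictD W.ι).mapIso (TildePerf.tildeDQ P).symm ≪≫
        asIso ((jW W).map (DerivedCategory.Q.map g)) ≪≫ eW) ≪≫
      ((restrictDComp q p).app E).symm ≪≫ (restrictDCongr hqp).app E ≪≫ (restrictDId _).app E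

end Groth.Agent.DCohMore
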