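import Groth.Agent.DCohMore.SpecThomason
import Groth.Agent.DRingLib.Build

/-! Bounded above finite free complexes representing pseudo-coherent objects on a quasi-compact open of an affine scheme. -/

set_option autoImplicit false
set_option linter.style.haveILetI false
set_option backward.isDefEq.respectTransparency false

universe u

open CategoryTheory Limits AlgebraicGeometry Pretriangulated ZeroObject
attribute [local instance] HasDerivedCategory.standard

noncomputable section

namespace Groth.Agent.DCohMore

open Groth.Agent.DRingLib Groth.Agent.DCohLib CochainComplex HomComplex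

variable {A : Type u} [CommRing A] (W : (Spec (CommRingCat.of A)).Opens)

/-- Elementwise form of `AboveW` for a complex. -/
theorem aboveW_toD_iff (b : ℤ) (C : DRing.Cx A) :
    AboveW W b (DerivedCategory.Q.obj C) ↔
      ∀ i : ℤ, b ≤ i → ∀ x ∈ W, ∀ n : C.homology i, ∃ s ∉ x.asIdeal, s • n = 0 := by
  constructor
  · intro h i hi x hx n
    let e := ((DerivedCategory.homologyFunctorFactors (ModuleCat.{u} A) i).app C).toLinearEquiv
    obtain ⟨s, hs, hn⟩ := h i hi x hx (e.symm n)
    exact ⟨s, hs, e.symm.injective ((map_smul e.symm s n).trans (hn.trans (map_zero e.symm).symm))⟩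
  · intro h i hi x hx n
    let e := ((DerivedCategory.homologyFunctorFactors (ModuleCat.{u} A) i).app C).toLinearEquiv
    obtain ⟨s, hs, hn⟩ := h i hi x hx (e n)
    exact ⟨s, hs, e.injective ((map_smul e s n).trans (hn.trans (map_zero e).symm))⟩

/-- One stage of the construction over an open. -/
structure WStage (F : DRing.Cx A) (b : ℤ) (n : ℤ) where
  /-- the complex -/
  E : DRing.Cx A
  /-- the map -/
  f : E ⟶ F
  bdd : Bdd FFree E
  above : DRing.VanishesAbove E b
  small : AboveW W n (DerivedCategory.Q.obj (mappingCone f))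

variable [PreservesFiniteLimits (tilde.functor (CommRingCat.of A))]

theorem exists_cellW (hW : IsCompact (W : Set (Spec (CommRingCat.of A)))) {F : DRing.Cx A} {b n : ℤ} (hn : n ≤ b)
    (hF : ∀ m, DCoh.IsPseudoCoherentD m ((jW W).obj (DerivedCategory.Q.obj F))) (s : WStage W F b n) :
    ∃ (t : WStage W F b (n - 1)) (ι : s.E ⟶ t.E), ι ≫ t.f = s.f ∧ ∀ j, j + 1 ≠ n → IsIso (ι.f j) := by
  classical
  let C := mappingCone s.f
  let N := (hdA A (n - 1)).obj (DerivedCategory.Q.obj C)
  have hD := DerivedCategory.mappingCone_triangle_distinguished s.f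
  have hp : Perf FProj (DerivedCategory.Q.obj s.E) :=
    perf_fProj_of_fFree ⟨s.E, s.bdd, ⟨Iso.refl _⟩⟩
  have hpc : ∀ m, DCoh.IsPseudoCoherentD m ((jW W).obj (DerivedCategory.Q.obj C)) := fun m =>
    isPseudoCoherentD_obj₃ _ ((jW W).map_distinguished _ hD) (isPseudoCoherentD_jW W hp (m + 1)) (hF m)
  have hFT : CohB1.IsFT ((Scheme.Modules.restrictFunctor W.ι).obj
      ((tilde.functor (CommRingCat.of A)).obj N)) :=
    TildePerf.isFT_of_iso (restrictHDIso W.ι _ (n - 1) ≪≫
      (Scheme.Modules.restrictFunctor W.ι).mapIso
        ((TildeD.nuT (CommRingCat.of A) (n - 1)).app (DerivedCategory.Q.obj C)))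
      (isFT_top (hpc (n - 1)) fun i hi => (aboveW_iff W n _).1 s.small i (by omega))
  obtain ⟨T, hT⟩ := exists_finset_open (R := CommRingCat.of A) N W hW hFT
  let eN := ((DerivedCategory.homologyFunctorFactors (ModuleCat.{u} A) (n - 1)).app C).toLinearEquiv
  let S : ModuleCat.{u} A := ModuleCat.of A ((↥T : Type u) → A)
  haveI : Projective S := ModuleCat.projective_of_categoryTheory_projective _
  let p' : S ⟶ C.homology (n - 1) :=
    ModuleCat.ofHom (Fintype.linearCombination A (fun t : ↥T => eN (t.1 : N)))
  haveI : Epi (C.homologyπ (n - 1)) := by infer_instance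
  let φ : S ⟶ C.cycles (n - 1) := Projective.factorThru p' (C.homologyπ (n - 1))
  have hφ : φ ≫ C.homologyπ (n - 1) = p' := Projective.factorThru_comp _ _
  have hm : n - 1 + 1 = n := by omega
  have hS : Bdd FFree ((HomologicalComplex.single (ModuleCat.{u} A) (ComplexShape.up ℤ) n).obj S) := by
    refine ⟨⟨n, n, fun i hi => HomologicalComplex.isZero_single_obj_X _ _ _ _ (by omega)⟩, fun i => ?_⟩
    by_cases hi : i = n
    · subst hi
      exact projClass_fFree.iso (HomologicalComplex.singleObjXSelf _ i S).symm
        ⟨inferInstanceAs (Module.Finite A ((↥T : Type u) → A)), inferInstanceAs (Module.Free A ((↥T : Type u) → A))⟩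
    · exact projClass_fFree.zero (HomologicalComplex.isZero_single_obj_X _ _ _ _ hi)
  let c := cellCone s.f n (n - 1) hm φ
  have hkill : p' ≫ HomologicalComplex.homologyMap c (n - 1) = 0 := by
    rw [← hφ, Category.assoc, HomologicalComplex.homologyπ_naturality]
    exact cell_killed s.f n (n - 1) hm φ
  let t : WStage W F b (n - 1) :=
    { E := cellObj s.f n (n - 1) hm φ
      f := cellMap s.f n (n - 1) hm φ
      bdd := hS.mappingCone projClass_fFree _ s.bdd
      above := fun i hi =>
        ((biprod_isZero_iff _ _).2
          ⟨HomologicalComplex.isZero_single_obj_X _ _ _ _ (by omega), s.above i hi⟩).of_iso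
          (HomologicalComplex.homotopyCofiber.XIsoBiprod (att s.f n (n - 1) hm φ) i (i + 1) rfl)
      small := by
        refine (aboveW_toD_iff W _ _).2 fun i hi x hx y => ?_
        have hold := (aboveW_toD_iff W _ _).1 s.small
        haveI : IsIso (c.f i) := isIso_cellCone_f s.f n (n - 1) hm φ i (by omega)
        haveI : IsIso (c.f (i + 1)) := isIso_cellCone_f s.f n (n - 1) hm φ (i + 1) (by omega)
        have hepi : Function.Surjective (HomologicalComplex.homologyMap c i) := by
          haveI : IsIso (HomologicalComplex.cyclesMap c i) := by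
            let ψ := (HomologicalComplex.shortComplexFunctor (ModuleCat.{u} A) (ComplexShape.up ℤ) i).map c
            haveI : IsIso ψ.τ₂ := inferInstanceAs (IsIso (c.f i))
            haveI : Mono ψ.τ₃ := by
              show Mono (c.f ((ComplexShape.up ℤ).next i))
              rw [CochainComplex.next]
              infer_instance
            exact ShortComplex.isIso_cyclesMap_of_isIso_of_mono ψ
          refine (ModuleCat.epi_iff_surjective _).1 ?_
          have h := HomologicalComplex.homologyπ_naturality c i
          haveI : Epi (C.homologyπ i ≫ HomologicalComplex.homologyMap c i) := by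
            rw [h]
            exact epi_comp _ _
          exact epi_of_epi (C.homologyπ i) _
        obtain ⟨z, rfl⟩ := hepi y
        rcases eq_or_lt_of_le hi with rfl | hlt
        · obtain ⟨r, hr, hrz⟩ := hT x hx (eN.symm z)
          refine ⟨r, hr, ?_⟩
          rw [← map_smul]
          have hker : Submodule.span A (T : Set N) ≤
              (LinearMap.ker (HomologicalComplex.homologyMap c (n - 1)).hom).comap eN.toLinearMap := by
            refine Submodule.span_le.2 fun a ha => ?_
            show (HomologicalComplex.homologyMap c (n - 1)).hom (eN a) = 0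
            have h1 : p' (Pi.single (⟨a, ha⟩ : ↥T) 1) = eN a := by
              show Fintype.linearCombination A _ _ = _
              rw [Fintype.linearCombination_apply_single, one_smul]
            rw [← h1]
            exact congrArg (fun g => g.hom (Pi.single (⟨a, ha⟩ : ↥T) 1)) hkill
          have h2 := hker hrz
          change (HomologicalComplex.homologyMap c (n - 1)).hom (eN (r • eN.symm z)) = 0 at h2
          rwa [map_smul eN, LinearEquiv.apply_symm_apply] at h2
        · obtain ⟨r, hr, hrz⟩ := hold i (by omega) x hx z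
          exact ⟨r, hr, by rw [← map_smul, hrz, map_zero]⟩ }
  exact ⟨t, cellι s.f n (n - 1) hm φ, cellι_comp _ _ _ _ _, isIso_cellι_f s.f n (n - 1) hm φ⟩

theorem exists_representativeW (hW : IsCompact (W : Set (Spec (CommRingCat.of A)))) (F : DRing.Cx A) (b : ℤ)
    (hb : AboveW W b (DerivedCategory.Q.obj F))
    (hF : ∀ m, DCoh.IsPseudoCoherentD m ((jW W).obj (DerivedCategory.Q.obj F))) :
    ∃ (P : DRing.Cx A) (g : P ⟶ F), DRing.VanishesAbove P b ∧ DRing.TermwiseFiniteFree P ∧
      IsIso ((jW W).map (DerivedCategory.Q.map g)) := by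
  classical
  have hz : IsZero (HomologicalComplex.zero : DRing.Cx A) := HomologicalComplex.isZero_zero
  let s₀ : WStage W F b (b - (0 : ℕ)) :=
    { E := HomologicalComplex.zero
      f := 0
      bdd := bdd_zero projClass_fFree
      above := fun i _ => isZero_zero _
      small := by
        rw [show (b - ((0 : ℕ) : ℤ)) = b by simp]
        have hD := DerivedCategory.mappingCone_triangle_distinguished (0 : (HomologicalComplex.zero : DRing.Cx A) ⟶ F)
        haveI := (Triangle.isZero₁_iff_isIso₂ _ hD).1 (DerivedCategory.Q.map_isZero hz)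
        exact hb.of_iso (asIso (DerivedCategory.Q.mapTriangle.obj
          (mappingCone.triangle (0 : (HomologicalComplex.zero : DRing.Cx A) ⟶ F))).mor₂) }
  have next : ∀ (k : ℕ) (s : WStage W F b (b - k)),
      ∃ (t : WStage W F b (b - (k + 1 : ℕ))) (ι : s.E ⟶ t.E), ι ≫ t.f = s.f ∧
        ∀ j, j + 1 ≠ b - k → IsIso (ι.f j) := fun k s => by
    rw [show (b - ((k + 1 : ℕ) : ℤ)) = b - k - 1 by push_cast; omega]
    exact exists_cellW W hW (by omega) hF s
  choose nx ι hι hiso using next
  let st : ∀ k : ℕ, WStage W F b (b - k) := fun k => Nat.rec s₀ (fun k s => nx k s) k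
  let ts : ∀ k : ℕ, (st k).E ⟶ (st (k + 1)).E := fun k => ι k (st k)
  let Kc : ℕ ⥤ DRing.Cx A := Functor.ofSequence (X := fun k => (st k).E) ts
  have hmap : ∀ k, Kc.map (homOfLE (Nat.le_succ k)) = ts k := fun k =>
    Functor.ofSequence_map_homOfLE_succ _ k
  let co : Cocone Kc :=
    { pt := F
      ι := NatTrans.ofSequence (fun k => (st k).f) fun k => by
        rw [hmap k]
        exact (hι k (st k)).trans (Category.comp_id _).symm }
  let g : colimit Kc ⟶ F := colimit.desc Kc co
  have hterm : ∀ (j : ℤ) (k : ℕ), b - k ≤ j → IsIso ((colimit.ι Kc k).f j) := fun j k hk => by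
    have hev : (Kc ⋙ HomologicalComplex.eval (ModuleCat.{u} A) (ComplexShape.up ℤ) j).IsEventuallyConstantFrom k := by
      intro l f
      obtain ⟨d, rfl⟩ := Nat.le.dest f.le
      induction d with
      | zero => exact (Subsingleton.elim f (𝟙 k) ▸ inferInstance)
      | succ d ih =>
        haveI := ih (homOfLE (Nat.le_add_right k d))
        haveI : IsIso ((Kc ⋙ HomologicalComplex.eval (ModuleCat.{u} A) (ComplexShape.up ℤ) j).map
            (homOfLE (Nat.le_succ (k + d)))) := by
          show IsIso ((Kc.map (homOfLE (Nat.le_succ (k + d)))).f j)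
          rw [hmap]
          exact hiso (k + d) (st (k + d)) j (by omega)
        rw [Subsingleton.elim f (homOfLE (Nat.le_add_right k d) ≫ homOfLE (Nat.le_succ (k + d))),
          Functor.map_comp]
        infer_instance
    exact hev.isIso_ι_of_isColimit'
      (isColimitOfPreserves (HomologicalComplex.eval (ModuleCat.{u} A) (ComplexShape.up ℤ) j) (colimit.isColimit Kc))
      k (𝟙 _)
  refine ⟨colimit Kc, g, fun j hj => ?_, fun j => ?_, (DerivedCategory.isIso_iff (C := (W : Scheme.{u}).Modules) ((jW W).map (DerivedCategory.Q.map g))).2 fun i => ?_⟩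
  · haveI := hterm j 0 (by simp; omega)
    exact ((st 0).above j hj).of_iso (asIso ((colimit.ι Kc 0).f j)).symm
  · haveI := hterm j (b - j).toNat (by omega)
    exact projClass_fFree.iso (asIso ((colimit.ι Kc (b - j).toNat).f j)) ((st _).bdd.2 j)
  · let k := (b - i).toNat + 3
    have hι' : MIso (i - 1) (DerivedCategory.Q.map (colimit.ι Kc k)) := by
      have hq : ∀ l, i - 1 ≤ l → QuasiIsoAt (colimit.ι Kc k) l := fun l hl => by
        refine KFlat.quasiIsoAt_ι_of_isColimit Kc _ (colimit.isColimit Kc) l k fun d hd => ?_
        rw [hmap d]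
        haveI := hiso d (st d) (l - 1) (by omega)
        haveI := hiso d (st d) l (by omega)
        haveI := hiso d (st d) (l + 1) (by omega)
        rw [quasiIsoAt_iff' _ (l - 1) l (l + 1) (by simp) (by simp)]
        let ψ := (HomologicalComplex.shortComplexFunctor' (ModuleCat.{u} A) (ComplexShape.up ℤ) (l - 1) l (l + 1)).map (ts d)
        haveI : Epi ψ.τ₁ := inferInstanceAs (Epi ((ts d).f (l - 1)))
        haveI : IsIso ψ.τ₂ := inferInstanceAs (IsIso ((ts d).f l))
        haveI : Mono ψ.τ₃ := inferInstanceAs (Mono ((ts d).f (l + 1)))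
        exact ShortComplex.quasiIso_of_epi_of_isIso_of_mono ψ
      refine mIso_Q_map _ _ (fun l hl => (quasiIsoAt_iff_isIso_homologyMap _ _).1 (hq l hl.le)) ?_
      haveI := (quasiIsoAt_iff_isIso_homologyMap _ _).1 (hq (i - 1) le_rfl)
      infer_instance
    have h₁ : MIso (i - 1) ((jW W).map (DerivedCategory.Q.map (colimit.ι Kc k))) :=
      (TildePerf.mIso_tilde hι').restrict W.ι
    have h₂ : MIso (b - k) ((jW W).map (DerivedCategory.Q.map (st k).f)) :=
      ⟨_, _, _, (jW W).map_distinguished _ (DerivedCategory.mappingCone_triangle_distinguished (st k).f),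
        (aboveW_iff W _ _).1 (st k).small⟩
    haveI := ((mIso_iff _ _).1 h₁).1 i (by omega)
    haveI : IsIso ((DerivedCategory.homologyFunctor _ i).map ((jW W).map (DerivedCategory.Q.map (colimit.ι Kc k))) ≫
        (DerivedCategory.homologyFunctor _ i).map ((jW W).map (DerivedCategory.Q.map g))) := by
      rw [← Functor.map_comp, ← Functor.map_comp, ← Functor.map_comp,
        show colimit.ι Kc k ≫ g = (st k).f from colimit.ι_desc co k]
      exact ((mIso_iff _ _).1 h₂).1 i (by omega)
    exact IsIso.of_isIso_comp_left
      ((DerivedCategory.homologyFunctor _ i).map ((jW W).map (DerivedCategory.Q.map (colimit.ι Kc k)))) _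

end Groth.Agent.DCohMore
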