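import Groth.Agent.DCohMore.FreeRepAffine
import Groth.Agent.DCohMore.RelPerfTerms
import Groth.Agent.DCohMore.PerfVanish
import Groth.Agent.DCohMore.TensorCoh

/-! A perfect object plus a shifted finite locally free module extends from an open of an affine scheme. -/

set_option autoImplicit false
set_option linter.style.haveILetI false
set_option backward.isDefEq.respectTransparency false

universe u

open CategoryTheory Limits AlgebraicGeometry Pretriangulated ZeroObject
attribute [local instance] HasDerivedCategory.standard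

noncomputable section

namespace Groth.Agent.DCohMore

open Groth.Agent.DRingLib Groth.Agent.DCohLib

set_option maxHeartbeats 1000000 in
theorem exists_free_split (X : Scheme.{u}) [IsAffine X] (U : X.Opens) (hU : IsCompact (U : Set X))
    (E : DCoh.D (U : Scheme.{u})) (hE : DCoh.IsPerfect E) :
    ∃ (r : ℤ) (F : (U : Scheme.{u}).Modules) (G : CochainComplex X.Modules ℤ), FlatMod.IsFinLocFree F ∧
      DCoh.IsPerfect (DCoh.toD X G) ∧
      Nonempty (DerivedCategory.Q.obj ((DCoh.restrictCx U).obj G) ≅ (DCoh.inD (U : Scheme.{u}) F)⟦-r⟧ ⊞ E) := by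
  haveI : CompactSpace (U : Scheme.{u}) := isCompact_iff_compactSpace.1 hU
  haveI : QuasiSeparatedSpace (U : Scheme.{u}) := quasiSeparatedSpace_of_quasiSeparated U.ι
  have hpc : ∀ m : ℤ, DCoh.IsPseudoCoherentD m E := fun m => isPseudoCoherentD_of_isPerfect' hE m
  have hq : DCoh.IsQCohD E := isQCohD_of_pc hpc
  obtain ⟨G, b, hGb, hGf, ⟨eG⟩⟩ := exists_free_extension X U hU E hq hpc
  obtain ⟨a₁, B₁, hab₁, hwin⟩ := exists_window hE
  obtain ⟨a₂, b₂, hab₂, htor⟩ := exists_torAmplitude_of_perfect E hE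
  let r := min (min a₁ a₂) b
  let G' := brutalGE G r
  have hfl : ∀ i, FlatMod.IsFinLocFree (G'.X i) := fun i => by
    rcases lt_or_ge i r with h | h
    · exact isFinLocFree_of_isZero (isZero_brutalGE_X G r i h)
    · haveI := isIso_brutalGEι_f G r i h
      obtain ⟨n, ⟨e⟩⟩ := hGf i
      exact isFinLocFree_iso (asIso ((brutalGEι G r).f i) ≪≫ e).symm (isFinLocFree_freeMod n)
  have hG'z : ∀ i, (i < r ∨ b < i) → IsZero (G'.X i) := fun i hi => by
    rcases hi with h | h
    · exact isZero_brutalGE_X G r i h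
    · exact IsZero.of_mono ((brutalGEι G r).f i) (hGb i h)
  have hG' : DCoh.IsStrictlyPerfect G' := ⟨⟨r, b, hG'z⟩, hfl⟩
  have hperf : DCoh.IsPerfect (DCoh.toD X G') := isPerfect_of_local fun x =>
    ⟨((⊤ : X.Opens) : Scheme.{u}), (⊤ : X.Opens).ι, inferInstance, ⟨x, trivial⟩, rfl,
      isPerfect_restrict (⊤ : X.Opens).ι
        ((DCohLib.isPerfect_iff _).2 fun y => ⟨⊤, trivial, PerfOn.restrict _ ⟨G', hG', ⟨Iso.refl _⟩⟩⟩)⟩
  let D' := DerivedCategory.Q.obj ((DCoh.restrictCx U).obj G')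
  let ι' : D' ⟶ E := (restrictDQ U.ι G').inv ≫ (DCoh.restrictD U.ι).map (DerivedCategory.Q.map (brutalGEι G r)) ≫
    (restrictDQ U.ι G).hom ≫ eG.hom
  have hι : MIso r ι' := by
    have h0 : MIso r (DerivedCategory.Q.map (brutalGEι G r)) := (mIso_iff r _).2
      ⟨fun i hi => (map_homologyFunctor_Q _ i).1.2 (isIso_homologyMap_brutalGEι G r i hi),
        (map_homologyFunctor_Q _ r).2.1.2 (epi_homologyMap_brutalGEι G r)⟩
    exact (mIso_of_isIso r _).comp ((h0.restrict U.ι).comp
      ((mIso_of_isIso r (restrictDQ U.ι G).hom).comp (mIso_of_isIso r eG.hom)))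
  obtain ⟨C, p, d, hT⟩ := distinguished_cocone_triangle ι'
  have hD' : DCoh.IsPerfect D' := isPerfect_iso (restrictDQ U.ι G') (isPerfect_restrict U.ι hperf)
  have hC : AboveZero r C := hι.cone _ hT
  have hD'z : ∀ i, i < r → IsZero (DCoh.HD D' i) := fun i hi =>
    ((HomologicalComplex.exactAt_iff_isZero_homology _ _).1 (HomologicalComplex.ExactAt.of_isZero
      ((Scheme.Modules.restrictFunctor U.ι).map_isZero (hG'z i (Or.inl hi))))).of_iso
      ((DerivedCategory.homologyFunctorFactors _ i).app _)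
  have hCperf : DCoh.IsPerfect C := isPerfect_obj₂ _ (rot_of_distTriang _ hT) hE (isPerfect_shift hD' 1)
  have hCpc : ∀ m, DCoh.IsPseudoCoherentD m C := fun m => isPseudoCoherentD_of_isPerfect' hCperf m
  have hCq : DCoh.IsQCohD C := isQCohD_of_pc hCpc
  have hp : p = 0 := hwin C hCq (fun i hi _ => hC i (le_trans (by simp [r]) hi)) p
  let B := max b b₂
  have hEamp : DCoh.HasTorAmplitudeIn (r - 1) B E := fun F _ i hi =>
    htor F i (by have h₁ : r ≤ a₂ := (min_le_left _ _).trans (min_le_right _ _); have h₂ : b₂ ≤ B := le_max_right _ _; omega)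
  have hD'amp : DCoh.HasTorAmplitudeIn (r - 1 + 1) (B + 1) D' := by
    refine hasTorAmplitudeIn_of_hasFlatAmplitudeIn ⟨(DCoh.restrictCx U).obj G', fun i hi =>
      (Scheme.Modules.restrictFunctor U.ι).map_isZero (hG'z i (by have h₂ : b ≤ B := le_max_left _ _; omega)),
      fun i => isFlat_restrict U.ι (fun x => PullbackMod.isFlat_of_isFinLocFree _ (hfl i) x), ⟨Iso.refl _⟩⟩
  have hCamp : DCoh.HasTorAmplitudeIn (r - 1) B C := torAmplitude₃ hT hD'amp hEamp
  have hrB : r - 1 ≤ B := by have h₂ : b ≤ B := le_max_left _ _; have h₁ : r ≤ b := min_le_right _ _; omega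
  obtain ⟨N, hN, hNfl, ⟨eN⟩⟩ := hasFlatAmplitudeIn_of_hasTorAmplitudeIn hrB hCamp
  haveI : C.IsLE (r - 1) := (DerivedCategory.isLE_iff _ _).2 fun i hi => hC i (by omega)
  haveI : C.IsGE (r - 1) := (DerivedCategory.isGE_iff _ _).2 fun i hi =>
    ((HomologicalComplex.exactAt_iff_isZero_homology _ _).1 (HomologicalComplex.ExactAt.of_isZero
      (hN i (Or.inl hi)))).of_iso
      ((DerivedCategory.homologyFunctor _ i).mapIso eN.symm ≪≫ (DerivedCategory.homologyFunctorFactors _ i).app N)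
  obtain ⟨F, ⟨eF⟩⟩ := DerivedCategory.exists_iso_singleFunctor_obj_of_isGE_of_isLE C (r - 1)
  let eH : DCoh.HD C (r - 1) ≅ F := (DerivedCategory.homologyFunctor _ (r - 1)).mapIso eF ≪≫
    (DerivedCategory.singleFunctorCompHomologyFunctorIso _ (r - 1)).app F
  haveI : IsIso (N.homologyπ (r - 1)) :=
    N.isIso_homologyπ (r - 1 - 1) (r - 1) (by simp) ((hN _ (Or.inl (by omega))).eq_of_src _ _)
  let eZ : N.cycles (r - 1) ≅ F := asIso (N.homologyπ (r - 1)) ≪≫
    ((DerivedCategory.homologyFunctorFactors _ (r - 1)).app N).symm ≪≫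
    (DerivedCategory.homologyFunctor _ (r - 1)).mapIso eN ≪≫ eH
  have hFflat : FlatMod.IsFlat F := isFlat_congr eZ (isFlat_cycles hNfl B (fun i hi => hN i (Or.inr hi))
    ((B - (r - 1)).toNat + 1) (r - 1) (fun j hj => (HomologicalComplex.exactAt_iff_isZero_homology _ _).2
      ((hC j (by omega)).of_iso (((DerivedCategory.homologyFunctorFactors _ j).app N).symm ≪≫
        (DerivedCategory.homologyFunctor _ j).mapIso eN))) (by omega))
  have hFfp : CohB1.IsFP F := by
    have h := isFP_top (hCpc (r - 2)) fun i hi => hC i (by omega)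
    rw [show r - 2 + 1 = r - 1 by omega] at h
    exact isFP_iso eH h
  have hF : FlatMod.IsFinLocFree F :=
    (PullbackMod.isFinLocFree_iff F).2 ⟨isQCoh_of_iso' eH (hCq (r - 1)), hFfp, hFflat⟩
  obtain ⟨e, -, -⟩ := exists_iso_binaryBiproduct_of_distTriang _ (inv_rot_of_distTriang _ hT)
    (by
      show (Triangle.mk ι' p d).invRotate.mor₃ = 0
      simp [Triangle.invRotate, hp])
  let eC : C⟦(-1 : ℤ)⟧ ≅ (DCoh.inD (U : Scheme.{u}) F)⟦-r⟧ :=
    (shiftFunctor _ (-1 : ℤ)).mapIso (eF ≪≫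
      (((DerivedCategory.singleFunctors (U : Scheme.{u}).Modules).shiftIso (1 - r) (r - 1) 0 (by omega)).app F).symm) ≪≫
      ((shiftFunctorAdd' (DCoh.D (U : Scheme.{u})) (1 - r) (-1) (-r) (by omega)).app _).symm
  exact ⟨r, F, G', hF, hperf, ⟨e ≪≫ biprod.mapIso eC (Iso.refl _)⟩⟩

end Groth.Agent.DCohMore
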