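import Groth.Agent.DCohMore.ApproxGlobal

/-! Morphisms from perfect objects on quasi-compact opens lift to global perfect objects up to a summand. -/

set_option autoImplicit false
set_option linter.style.haveILetI false
set_option backward.isDefEq.respectTransparency false

universe u

open CategoryTheory Limits AlgebraicGeometry Pretriangulated ZeroObject
attribute [local instance] HasDerivedCategory.standard

noncomputable section

namespace Groth.Agent.DCohMore

open Groth.Agent.DRingLib Groth.Agent.DCohLib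

/-- `α : P ⟶ k^* E` lifts to a global perfect `R` supported on `T`, up to a direct summand. -/
def LiftUpTo {W X : Scheme.{u}} (k : W ⟶ X) [IsOpenImmersion k] (T : Set X) : Prop :=
  ∀ (E : DCoh.D X), DCoh.IsQCohD E → ∀ (P : DCoh.D W), DCoh.IsPerfect P → Sup (k.base ⁻¹' T) P →
    ∀ α : P ⟶ (DCoh.restrictD k).obj E,
      ∃ (R : DCoh.D X) (β : R ⟶ E) (i : P ⟶ (DCoh.restrictD k).obj R) (p : (DCoh.restrictD k).obj R ⟶ P),
        DCoh.IsPerfect R ∧ Sup T R ∧ i ≫ p = 𝟙 P ∧ i ≫ (DCoh.restrictD k).map β = α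

/-- One affine more. -/
theorem liftUpTo_step {W X : Scheme.{u}} [CompactSpace X] [QuasiSeparatedSpace X] [CompactSpace W] (k : W ⟶ X)
    [IsOpenImmersion k] {A : Type u} [CommRing A] (j : Spec (CommRingCat.of A) ⟶ X) [IsOpenImmersion j]
    (hcov : ∀ x, x ∈ k.opensRange ∨ x ∈ j.opensRange) (T : Set X) (hT : IsClosed T) (hTc : IsCompact Tᶜ) :
    LiftUpTo k T := by
  intro E hE P hP hPT α
  haveI := TildeD.preservesFiniteLimits_tilde (R := CommRingCat.of A)
  haveI : QuasiCompact j := quasiCompact_of_compactSpace j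
  let S : X.Opens := k.opensRange
  have hS : IsCompact (S : Set X) := isCompact_range k.continuous
  haveI : QuasiCompact S.ι := by
    haveI : CompactSpace (S : Scheme.{u}) := isCompact_iff_compactSpace.1 hS
    exact quasiCompact_of_compactSpace S.ι
  obtain ⟨gs, hgs⟩ := exists_gOpen_eq (j ⁻¹ᵁ S : Set (Spec (CommRingCat.of A))) (j ⁻¹ᵁ S).2
    (QuasiCompact.isCompact_preimage (f := j) S S.2 hS)
  obtain ⟨ls, hls⟩ := exists_gOpen_eq (j.base ⁻¹' Tᶜ) (hT.isOpen_compl.preimage j.continuous)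
    (QuasiCompact.isCompact_preimage (f := j) Tᶜ hT.isOpen_compl hTc)
  have hcov' : S ⊔ j.opensRange = ⊤ := eq_top_iff.2 fun x _ => hcov x
  let e : W ≅ (S : Scheme.{u}) := k.isoOpensRange
  have he : e.hom ≫ S.ι = k := k.isoOpensRange_hom_ι
  have he' : e.inv ≫ k = S.ι := k.isoOpensRange_inv_comp
  haveI : (DCoh.restrictD e.hom).IsEquivalence := (restrictDEquiv e).isEquivalence_functor
  let ε : (DCoh.restrictD e.hom).obj ((DCoh.restrictD e.inv).obj P) ≅ P := (restrictDEquiv e).counitIso.app P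
  let c : DCoh.restrictD k ≅ DCoh.restrictD S.ι ⋙ DCoh.restrictD e.hom :=
    restrictDCongr he.symm ≪≫ restrictDComp e.hom S.ι
  let P' := (DCoh.restrictD e.inv).obj P
  have hP' : DCoh.IsPerfect P' := isPerfect_restrict e.inv hP
  have hP'T : Sup (S.ι.base ⁻¹' T) P' := (hPT.restrict e.inv).mono fun y hy => by
    show S.ι.base y ∈ T
    rw [← he']
    exact hy
  let α' : P' ⟶ (DCoh.restrictD S.ι).obj E := (DCoh.restrictD e.hom).preimage (ε.hom ≫ α ≫ c.hom.app E)
  obtain ⟨R₀, hR₀, hR₀T, ⟨eR⟩⟩ := exists_extend_global S j hcov' T hT gs ls (fun x => Set.ext_iff.1 hgs x)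
    (fun x => Set.ext_iff.1 hls x) P' hP' hP'T
  obtain ⟨R, w, χ, hR, hRT, hw, hχ⟩ := exists_lift_map j S hcov' T hT gs ls (fun x => Set.ext_iff.1 hgs x)
    (fun x => Set.ext_iff.1 hls x) hR₀ hR₀T hE (eR.hom ≫ biprod.snd ≫ α')
  haveI := hw
  let i' : P' ⟶ (DCoh.restrictD S.ι).obj R := biprod.inr ≫ eR.inv ≫ inv ((DCoh.restrictD S.ι).map w)
  let p' : (DCoh.restrictD S.ι).obj R ⟶ P' := (DCoh.restrictD S.ι).map w ≫ eR.hom ≫ biprod.snd
  have hip : i' ≫ p' = 𝟙 P' := by simp [i', p']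
  have hiχ : i' ≫ (DCoh.restrictD S.ι).map χ = α' := by simp [i', hχ]
  refine ⟨R, χ, ε.inv ≫ (DCoh.restrictD e.hom).map i' ≫ c.inv.app R,
    c.hom.app R ≫ (DCoh.restrictD e.hom).map p' ≫ ε.hom, hR, hRT, ?_, ?_⟩
  · simp only [Category.assoc, Iso.inv_hom_id_app_assoc]
    erw [← Functor.map_comp_assoc, hip, CategoryTheory.Functor.map_id, Category.id_comp]
    exact ε.inv_hom_id
  · rw [Category.assoc, Category.assoc, ← c.inv.naturality χ, Functor.comp_map, ← Functor.map_comp_assoc, hiχ,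
      Functor.map_preimage]
    simp

/-- Lifting from any quasi-compact open. -/
theorem liftUpTo_main {X : Scheme.{u}} [CompactSpace X] [QuasiSeparatedSpace X] (T : Set X) (hT : IsClosed T)
    (hTc : IsCompact Tᶜ) (U : X.Opens) (hU : IsCompact (U : Set X)) : LiftUpTo U.ι T := by
  suffices H : ∀ S : X.Opens, IsCompact (S : Set X) → ∀ U : X.Opens, IsCompact (U : Set X) → U ⊔ S = ⊤ →
      LiftUpTo U.ι T from H ⊤ isCompact_univ U hU (sup_top_eq _)
  intro S hS
  refine compact_open_induction_on S hS ?_ ?_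
  · intro U _ hUS E hE P hP hPT α
    rw [sup_bot_eq] at hUS
    subst hUS
    let e : ((⊤ : X.Opens) : Scheme.{u}) ≅ X := X.topIso
    change ∃ (R : DCoh.D X) (β : R ⟶ E) (i : P ⟶ (DCoh.restrictD e.hom).obj R)
      (p : (DCoh.restrictD e.hom).obj R ⟶ P), DCoh.IsPerfect R ∧ Sup T R ∧ i ≫ p = 𝟙 P ∧
        i ≫ (DCoh.restrictD e.hom).map β = α
    haveI : (DCoh.restrictD e.hom).IsEquivalence := (restrictDEquiv e).isEquivalence_functor
    let ε : (DCoh.restrictD e.hom).obj ((DCoh.restrictD e.inv).obj P) ≅ P := (restrictDEquiv e).counitIso.app P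
    refine ⟨(DCoh.restrictD e.inv).obj P, (DCoh.restrictD e.hom).preimage (ε.hom ≫ α), ε.inv, ε.hom,
      isPerfect_restrict e.inv hP, (hPT.restrict e.inv).mono fun y hy => ?_, ε.inv_hom_id, ?_⟩
    · have hb : e.hom.base (e.inv.base y) = y := by rw [← Scheme.Hom.comp_apply, e.inv_hom_id]; rfl
      rw [← hb]
      exact hy
    · rw [Functor.map_preimage, Iso.inv_hom_id_assoc]
  · intro S hS V hSgen U hU hUS E hE P hP hPT α
    let Y : X.Opens := U ⊔ V.1
    have hY : IsCompact (Y : Set X) := hU.union V.2.isCompact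
    haveI : CompactSpace (Y : Scheme.{u}) := isCompact_iff_compactSpace.1 hY
    haveI : CompactSpace (U : Scheme.{u}) := isCompact_iff_compactSpace.1 hU
    haveI : QuasiSeparatedSpace (Y : Scheme.{u}) := quasiSeparatedSpace_of_quasiSeparated Y.ι
    haveI : QuasiCompact Y.ι := quasiCompact_of_compactSpace Y.ι
    have hl : U ≤ Y := le_sup_left
    let l := X.homOfLE hl
    have hr : Set.range V.2.fromSpec ⊆ Set.range Y.ι := by
      rw [IsAffineOpen.range_fromSpec, Scheme.Opens.range_ι]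
      exact fun x hx => Or.inr hx
    let j : Spec (CommRingCat.of Γ(X, V.1)) ⟶ (Y : Scheme.{u}) := IsOpenImmersion.lift Y.ι V.2.fromSpec hr
    have hj : j ≫ Y.ι = V.2.fromSpec := IsOpenImmersion.lift_fac _ _ _
    haveI : IsOpenImmersion (j ≫ Y.ι) := by rw [hj]; infer_instance
    haveI : IsOpenImmersion j := IsOpenImmersion.of_comp j Y.ι
    have hcov : ∀ y, y ∈ l.opensRange ∨ y ∈ j.opensRange := fun y => by
      rcases (y.2 : y.1 ∈ U ⊔ V.1) with h | h
      · exact Or.inl ⟨⟨y.1, h⟩, Y.ι.isOpenEmbedding.injective (by rw [← Scheme.Hom.comp_apply, X.homOfLE_ι]; rfl)⟩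
      · refine Or.inr ?_
        obtain ⟨z, hz⟩ : y.1 ∈ Set.range V.2.fromSpec := by rw [IsAffineOpen.range_fromSpec]; exact h
        exact ⟨z, Y.ι.isOpenEmbedding.injective (by rw [← Scheme.Hom.comp_apply, hj]; exact hz)⟩
    let c : DCoh.restrictD U.ι ≅ DCoh.restrictD Y.ι ⋙ DCoh.restrictD l :=
      restrictDCongr (X.homOfLE_ι hl).symm ≪≫ restrictDComp l Y.ι
    obtain ⟨R₁, β₁, i₁, p₁, hR₁, hR₁T, hip₁, hiβ₁⟩ := liftUpTo_step l j hcov (Y.ι.base ⁻¹' T)
      (hT.preimage Y.ι.continuous) (QuasiCompact.isCompact_preimage (f := Y.ι) Tᶜ hT.isOpen_compl hTc)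
      ((DCoh.restrictD Y.ι).obj E) (TildeD.isQCohD_restrict Y.ι E hE) P hP
      (hPT.mono fun y hy => by
        show Y.ι.base (l.base y) ∈ T
        rw [← Scheme.Hom.comp_apply, X.homOfLE_ι]
        exact hy) (α ≫ c.hom.app E)
    obtain ⟨R, β, i₂, p₂, hR, hRT, hip₂, hiβ₂⟩ := hSgen Y hY (by
      rw [← hUS]; simp only [Y, sup_assoc, sup_comm V.1 S]) E hE R₁ hR₁ hR₁T β₁
    refine ⟨R, β, i₁ ≫ (DCoh.restrictD l).map i₂ ≫ c.inv.app R,
      c.hom.app R ≫ (DCoh.restrictD l).map p₂ ≫ p₁, hR, hRT, ?_, ?_⟩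
    · simp only [Category.assoc, Iso.inv_hom_id_app_assoc, ← Functor.map_comp_assoc, hip₂]
      simp [hip₁]
    · rw [Category.assoc, Category.assoc, ← c.inv.naturality β, Functor.comp_map, ← Functor.map_comp_assoc, hiβ₂,
        ← Category.assoc, hiβ₁]
      simp

end Groth.Agent.DCohMore
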