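import Groth.Agent.DCohMore.GenBounded
import Groth.Agent.DCohMore.LiftSummand
import Groth.Agent.DCohMore.KoszulUnit
import Groth.Agent.DCohMore.RpushQC

/-! Vanishing of the maps from perfect objects on a half line gives boundedness. -/

set_option autoImplicit false
set_option linter.style.haveILetI false
set_option backward.isDefEq.respectTransparency false

universe u

open CategoryTheory Limits AlgebraicGeometry Pretriangulated ZeroObject
attribute [local instance] HasDerivedCategory.standard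

noncomputable section

namespace Groth.Agent.DCohMore

open Groth.Agent.DRingLib Groth.Agent.DCohLib

variable {X : Scheme.{u}}

theorem bd_rpush {Y : Scheme.{u}} (f : X ⟶ Y) [QuasiCompact f] [QuasiSeparated f] [CompactSpace Y]
    [DCoh.HasRpush f] [(DCoh.Rpush f).CommShift ℤ] [(DCoh.Rpush f).PreservesZeroMorphisms] (up : Bool) {K : DCoh.D X} (hq : DCoh.IsQCohD K) (h : Bd up K) :
    Bd up ((DCoh.Rpush f).obj K) := by
  cases up
  · obtain ⟨a, ha⟩ := (bd_false_iff K).1 h
    exact (bd_false_iff _).2 ⟨a, @isGE_rpush _ _ f _ K a ha⟩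
  · obtain ⟨b, hb⟩ := (bd_true_iff K).1 h
    let t : CategoryTheory.Triangulated.TStructure (DCoh.D X) := DerivedCategory.TStructure.t
    obtain ⟨-, N, hN⟩ := rpush_qcohD_stab f (K⟦b + 1⟧) (isQCohD_shift' hq _)
    refine ⟨b + 1 + N, fun i hi => ?_⟩
    have hi' : b + 1 + (N : ℤ) ≤ i := hi
    haveI := hN 0 (i - (b + 1)) (by simp; omega)
    have hz : IsZero ((t.truncGE (-((0 : ℕ) : ℤ))).obj (K⟦b + 1⟧)) := by
      refine isZero_of_isZero_HD fun k => ?_
      rcases lt_or_ge k (-((0 : ℕ) : ℤ)) with h | h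
      · haveI : ((t.truncGE (-((0 : ℕ) : ℤ))).obj (K⟦b + 1⟧)).IsGE (-((0 : ℕ) : ℤ)) :=
          inferInstanceAs (t.IsGE ((t.truncGE (-((0 : ℕ) : ℤ))).obj (K⟦b + 1⟧)) (-((0 : ℕ) : ℤ)))
        exact DerivedCategory.isZero_of_isGE _ (-((0 : ℕ) : ℤ)) k h
      · haveI := isIso_homology_truncGEπ (K⟦b + 1⟧) (-((0 : ℕ) : ℤ)) k h
        haveI := hb
        exact ((DerivedCategory.isZero_of_isLE K b (b + 1 + k) (by simp at h; omega)).of_iso (hdShift K (b + 1) k)).of_iso
          (asIso ((DerivedCategory.homologyFunctor _ k).map ((t.truncGEπ (-((0 : ℕ) : ℤ))).app (K⟦b + 1⟧)))).symm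
    refine (((DerivedCategory.homologyFunctor Y.Modules _).map_isZero ((DCoh.Rpush f).map_isZero hz)).of_iso
      (asIso ((DerivedCategory.homologyFunctor Y.Modules (i - (b + 1))).map
        ((DCoh.Rpush f).map ((t.truncGEπ (-((0 : ℕ) : ℤ))).app (K⟦b + 1⟧)))))).of_iso ?_
    exact eqToIso (congrArg (DCoh.HD _) (by omega : i = b + 1 + (i - (b + 1)))) ≪≫
      (hdShift ((DCoh.Rpush f).obj K) (b + 1) (i - (b + 1))).symm ≪≫
      (DerivedCategory.homologyFunctor Y.Modules (i - (b + 1))).mapIso (((DCoh.Rpush f).commShiftIso (b + 1)).app K).symm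

set_option maxHeartbeats 1600000 in
/-- One affine more. -/
theorem bd_step [CompactSpace X] [QuasiSeparatedSpace X] (up : Bool) (U : X.Opens) (hU : IsCompact (U : Set X))
    {A : Type u} [CommRing A] (j : Spec (CommRingCat.of A) ⟶ X) [IsOpenImmersion j]
    (hcov : U ⊔ j.opensRange = ⊤)
    (ih : ∀ F : DCoh.D (U : Scheme.{u}), DCoh.IsQCohD F → Van up F → Bd up F)
    (E : DCoh.D X) (hq : DCoh.IsQCohD E) (hE : Van up E) : Bd up E := by
  haveI := TildeD.preservesFiniteLimits_tilde (R := CommRingCat.of A)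
  haveI : QuasiCompact j := quasiCompact_of_compactSpace j
  haveI : CompactSpace (U : Scheme.{u}) := isCompact_iff_compactSpace.1 hU
  haveI : QuasiCompact U.ι := quasiCompact_of_compactSpace U.ι
  haveI : DCoh.HasRpush U.ι := Groth.Agent.KInj.hasRightDerivedFunctor (hres_modules _) _
  haveI := hasLpull U.ι
  let V := j.opensRange
  haveI : DCoh.HasRpush V.ι := Groth.Agent.KInj.hasRightDerivedFunctor (hres_modules _) _
  haveI := hasLpull V.ι
  obtain ⟨gs, hgs⟩ := exists_gOpen_eq (j ⁻¹ᵁ U : Set (Spec (CommRingCat.of A))) (j ⁻¹ᵁ U).2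
    (QuasiCompact.isCompact_preimage (f := j) U U.2 hU)
  let Z : Set X := (U : Set X)ᶜ
  have hZ : IsClosed Z := U.2.isClosed_compl
  have hZV : Z ⊆ (V : Set X) := fun x hx => (hcov.ge (Set.mem_univ x) : x ∈ U ∨ x ∈ V).resolve_left hx
  let adj := (lpullRpushAdj U.ι).ofNatIsoLeft (lpullRestrictNatIso U.ι)
  haveI : IsIso adj.counit := adj.isIso_counit_of_iso (rpushRestrictId U)
  letI := adj.rightAdjointCommShift ℤ
  haveI : (DCoh.Rpush U.ι).IsRightAdjoint := adj.isRightAdjoint
  haveI : (DCoh.Rpush U.ι).Additive := adj.right_adjoint_additive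
  let EU := (DCoh.restrictD U.ι).obj E
  let η : E ⟶ (DCoh.Rpush U.ι).obj EU := adj.unit.app E
  have hEU : DCoh.IsQCohD EU := TildeD.isQCohD_restrict U.ι E hq
  obtain ⟨C, π, d, hT⟩ := distinguished_cocone_triangle η
  have hCU : IsZero ((DCoh.restrictD U.ι).obj C) := by
    haveI : IsIso ((DCoh.restrictD U.ι).map η) := by
      haveI : IsIso ((DCoh.restrictD U.ι).map η ≫ adj.counit.app EU) := by
        rw [adj.left_triangle_components E]; exact IsIso.id _
      exact IsIso.of_isIso_comp_right _ (adj.counit.app EU)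
    exact (Triangle.isZero₃_iff_isIso₁ _ ((DCoh.restrictD U.ι).map_distinguished _ hT)).2 ‹_›
  have hCq : DCoh.IsQCohD C := isQCohD_obj₃' _ hT hq (isQCohD_rpush U.ι EU hEU)
  have hCZ : Sup Z C := (isZero_restrictD_iff_support U C).1 hCU
  -- the supported part is bounded
  have hCb : Bd up C := by
    obtain ⟨M, e₀, ⟨eM⟩⟩ := exists_model j C hCq
    have hMt : Tors gs M := tors_of_support j gs M C e₀ fun i x hx hxs =>
      hCZ i hxs ((Set.ext_iff.1 hgs x).1 hx)
    obtain ⟨hP, -, -, hPt, hdet⟩ := kos_props gs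
    obtain ⟨hQ, hQZ⟩ := exists_chart_ext j gs (kosD gs) hP hPt Z hZ hZV
      (fun x hx hxU => hx ((Set.ext_iff.1 hgs x).2 hxU))
    let Q := (DCoh.Rpush V.ι).obj ((chartD j).obj (kosD gs))
    obtain ⟨N, hN⟩ := hE Q hQ
    have hz : ∀ i, Ray up (N - 1) i → ∀ q : Q ⟶ C⟦i⟧, q = 0 := fun i hi q => by
      refine hom_shift_zero i (fun ψ => ?_) q
      have h1 : ψ ≫ d = 0 := hom_shift_zero' i (fun θ => ?_) _
      swap
      · rw [← cancel_mono (((shiftFunctorAdd' (DCoh.D X) (1 : ℤ) i (i + 1) (by omega)).app E).inv), zero_comp]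
        exact hN _ ((ray_add up N i 1).2 hi) _
      obtain ⟨α, hα⟩ := Triangle.coyoneda_exact₃ _ hT ψ h1
      have hα0 : α = 0 := by
        refine (adj.homEquiv _ _).symm.injective (IsZero.eq_of_src ?_ _ _)
        exact ((shiftFunctor (DCoh.D (U : Scheme.{u})) (-i)).map_isZero
          ((isZero_restrictD_iff_support U Q).2 hQZ)).of_iso (((DCoh.restrictD U.ι).commShiftIso (-i)).app Q)
      rw [hα, hα0]
      exact zero_comp
    haveI := faithful_chartD j
    have hM : ∀ i, Ray up (N - 1) i → IsZero ((hdA A i).obj M) := fun i hi => hdet M hMt i fun φ => by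
      refine (chartD j).map_injective ?_
      rw [Functor.map_zero]
      let eQ : (DCoh.restrictD V.ι).obj Q ≅ (chartD j).obj (kosD gs) := (rpushRestrictId V).app _
      let eC : (chartD j).obj (M⟦i⟧) ≅ (DCoh.restrictD V.ι).obj (C⟦i⟧) :=
        ((chartD j).commShiftIso i).app M ≪≫ (shiftFunctor _ i).mapIso eM ≪≫
          (((DCoh.restrictD V.ι).commShiftIso i).app C).symm
      obtain ⟨q, hq'⟩ := exists_map_of_restrict V hZ hZV hQZ (eQ.hom ≫ (chartD j).map φ ≫ eC.hom)
      rw [hz i hi q, Functor.map_zero] at hq'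
      rw [← cancel_epi eQ.hom, ← cancel_mono eC.hom, comp_zero, zero_comp, Category.assoc]
      exact hq'.symm
    refine ⟨N - 1, fun i hi => isZero_of_local fun x => ?_⟩
    rcases (hcov.ge (Set.mem_univ x) : x ∈ U ∨ x ∈ V) with hx | hx
    · exact ⟨_, U.ι, inferInstance, ⟨x, hx⟩, rfl,
        ((DerivedCategory.homologyFunctor _ i).map_isZero hCU).of_iso (restrictHDIso U.ι C i).symm⟩
    · obtain ⟨y, hy⟩ := hx
      exact ⟨_, j, inferInstance, y, hy, ((((tilde.functor (CommRingCat.of A)).map_isZero (hM i hi)).of_iso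
        ((TildeD.nuT (CommRingCat.of A) i).app M)).of_iso
          ((DerivedCategory.homologyFunctor _ i).mapIso e₀.symm)).of_iso (restrictHDIso j C i).symm⟩
  -- the vanishing descends to the open
  have hVanU : Van up EU := fun P hP => by
    obtain ⟨R, -, s, r, hR, -, hsr, -⟩ := liftUpTo_main (Set.univ : Set X) isClosed_univ
      (by rw [Set.compl_univ]; exact isCompact_empty) U hU E hq P hP
      (fun i x _ => Set.mem_univ _) 0
    obtain ⟨N₁, h₁⟩ := hE R hR
    obtain ⟨N₂, h₂⟩ := van_of_bd hCq hCb R hR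
    obtain ⟨N, hN⟩ := ray_inter up N₁ N₂
    refine ⟨N, fun i hi φ => hom_shift_zero i (fun ψ => ?_) φ⟩
    let S := shiftFunctor (DCoh.D (U : Scheme.{u})) (-i)
    let c := ((DCoh.restrictD U.ι).commShiftIso (-i)).app R
    have hθ : ∀ θ : R⟦-i⟧ ⟶ (DCoh.Rpush U.ι).obj EU, θ = 0 := fun θ => by
      have h3 : θ ≫ π = 0 := hom_shift_zero' i (h₂ i (hN i hi).2) _
      obtain ⟨α, hα⟩ := Triangle.coyoneda_exact₂ _ hT θ h3
      have hα0 : α = 0 := hom_shift_zero' i (h₁ i (hN i hi).1) _
      rw [hα, hα0]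
      exact zero_comp
    have h0 : c.hom ≫ S.map r ≫ ψ = 0 :=
      (adj.homEquiv _ _).injective ((hθ _).trans (hθ _).symm)
    have h5 : S.map r ≫ ψ = 0 := by
      rw [← cancel_epi c.hom, comp_zero]
      exact h0
    calc ψ = S.map (s ≫ r) ≫ ψ := by rw [hsr, CategoryTheory.Functor.map_id, Category.id_comp]
      _ = 0 := by rw [Functor.map_comp, Category.assoc, h5, comp_zero]
  exact Bd.obj₂ _ (inv_rot_of_distTriang _ hT)
    (hCb.elim fun N hN => ⟨N + 1, fun i hi => (hN (-1 + i) (by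
      cases up <;> simp [Ray] at hi ⊢ <;> omega)).of_iso (hdShift C (-1) i)⟩)
    (bd_rpush U.ι up hEU (ih EU hEU hVanU))

end Groth.Agent.DCohMore
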