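import Groth.Agent.DCohMore.GoodMod
import Groth.Agent.DCohLib.LpullTensor
import Groth.Agent.DCohLib.PullPerf
import Groth.Agent.PullbackMod.FibreLocus

/-!
# Base change of direct images of good complexes
-/

set_option autoImplicit false
set_option linter.style.haveILetI false
set_option linter.unusedSectionVars false
set_option backward.isDefEq.respectTransparency false

universe u

open CategoryTheory CategoryTheory.Limits AlgebraicGeometry TopologicalSpace
open CategoryTheory.Pretriangulated

attribute [local instance] HasDerivedCategory.standard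

noncomputable section

namespace Groth.Agent.DCohMore

open Groth.Agent.DCohLib Groth.Agent.SiteCmpLib

variable {X S X' S' : Scheme.{u}} {f : X ⟶ S} {g : S' ⟶ S} {f' : X' ⟶ S'} {g' : X' ⟶ X}

/-- The direct image of a good module to an affine scheme is flat. -/
theorem GoodMod.isFlat_push [IsAffine S] [X.IsSeparated] [QuasiCompact f] {N : X.Modules} (hN : GoodMod f N) :
    FlatMod.IsFlat ((Scheme.Modules.pushforward f).obj N) := by
  suffices H : FlatMod.IsFlatOver (𝟙 S) ((Scheme.Modules.pushforward f).obj N) from
    fun x => (PullbackMod.isFlatOverAt_id_iff _ x).1 (H x)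
  induction hN with
  | @push U j _ _ M hM hfl =>
    haveI := hM
    haveI : IsAffineHom (j ≫ f) := isAffineHom_of_isAffine _
    exact isFlatOver_of_iso _ ((Scheme.Modules.pushforwardComp j f).app M).symm
      (isFlatOver_pushforward_affine (j ≫ f) (𝟙 S) M (by rwa [Category.comp_id]))
  | zero Z hZ => exact isFlatOver_of_isZero _ ((Scheme.Modules.pushforward f).map_isZero hZ)
  | @biprod M N _ _ ih₁ ih₂ =>
    haveI := preservesBinaryBiproducts_of_preservesBiproducts (Scheme.Modules.pushforward f)
    exact fun x => isFlatOverAt_biprod _ (ih₁ x) (ih₂ x) ((Scheme.Modules.pushforward f).mapBiprod M N)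
  | iso e _ ih => exact isFlatOver_of_iso _ ((Scheme.Modules.pushforward f).mapIso e) ih

/-- The direct image of a complex of good modules is computed termwise. -/
theorem nonempty_rpush_good [IsAffine S] [X.IsSeparated] [QuasiCompact f] [DCoh.HasRpush f]
    (C : CochainComplex X.Modules ℤ) (hC : ∀ n, GoodMod f (C.X n)) :
    Nonempty ((DCoh.Rpush f).obj (DerivedCategory.Q.obj C) ≅
      DerivedCategory.Q.obj (((Scheme.Modules.pushforward f).mapHomologicalComplex (ComplexShape.up ℤ)).obj C)) := by
  haveI := isIso_rpushUnit_app_acyclic f C (fun n => (hC n).isQCoh) fun n => (hC n).isAcyclicFor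
  exact ⟨(DCoh.Rpush f).mapIso ((DerivedCategory.quotientCompQhIso X.Modules).app C).symm ≪≫
    (asIso ((rpushUnit f).app ((quotM X).obj C))).symm ≪≫
    DerivedCategory.Qh.mapIso (((Scheme.Modules.pushforward f).mapHomotopyCategoryFactors _).app C) ≪≫
    (DerivedCategory.quotientCompQhIso S.Modules).app _⟩

/-- Base change for bounded above complexes of good modules. -/
theorem nonempty_rpush_pullCx_good [IsAffine S] [IsAffine S'] [X.IsSeparated] [QuasiCompact f]
    (h : IsPullback g' f' f g) [DCoh.HasRpush f] [DCoh.HasRpush f'] [DCoh.HasLpull g]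
    (C : CochainComplex X.Modules ℤ) (b : ℤ) (hb : ∀ n, b < n → IsZero (C.X n)) (hC : ∀ n, GoodMod f (C.X n)) :
    Nonempty ((DCoh.Rpush f').obj (DerivedCategory.Q.obj ((pullCx g').obj C)) ≅
      (DCoh.Lpull g).obj ((DCoh.Rpush f).obj (DerivedCategory.Q.obj C))) := by
  haveI : IsAffineHom g := isAffineHom_of_isAffine _
  haveI : IsAffineHom g' := MorphismProperty.of_isPullback (P := @IsAffineHom) h.flip inferInstance
  haveI : X'.IsSeparated := ⟨by
    haveI : IsSeparated g' := inferInstance
    have : IsSeparated (g' ≫ terminal.from X) := inferInstance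
    rwa [Subsingleton.elim (g' ≫ terminal.from X) (terminal.from X')] at this⟩
  haveI : QuasiCompact f' := MorphismProperty.of_isPullback (P := @QuasiCompact) h inferInstance
  obtain ⟨e⟩ := nonempty_rpush_good (f := f) C hC
  obtain ⟨e'⟩ := nonempty_rpush_good (f := f') ((pullCx g').obj C) fun n => (hC n).pullback h
  let pC := ((Scheme.Modules.pushforward f).mapHomologicalComplex (ComplexShape.up ℤ)).obj C
  have hK : DCoh.IsKFlat pC := isKFlat_of_flat_bddAbove pC b
    (fun n hn => (Scheme.Modules.pushforward f).map_isZero (hb n hn)) fun n => (hC n).isFlat_push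
  let β : (pullCx g).obj pC ⟶
      ((Scheme.Modules.pushforward f').mapHomologicalComplex (ComplexShape.up ℤ)).obj ((pullCx g').obj C) :=
    { f := fun n => (bc0Nat f g f' g' h.w).app (C.X n)
      comm' := fun i j _ => ((bc0Nat f g f' g' h.w).naturality (C.d i j)).symm }
  haveI : ∀ n, IsIso (β.f n) := fun n => (hC n).isIso_bc0 h
  haveI : IsIso β := HomologicalComplex.Hom.isIso_of_components β
  exact ⟨e' ≪≫ DerivedCategory.Q.mapIso (asIso β).symm ≪≫ (lpullIsoK g pC hK).symm ≪≫
    (DCoh.Lpull g).mapIso e.symm⟩

/-- On a scheme flat over the base, termwise inverse images compute the derived inverse image. -/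
theorem nonempty_lpull_good [X.IsSeparated] [Flat f] (h : IsPullback g' f' f g) [DCoh.HasLpull g']
    (C : CochainComplex X.Modules ℤ) (b : ℤ) (hb : ∀ n, b < n → IsZero (C.X n)) (hC : ∀ n, GoodMod f (C.X n)) :
    Nonempty ((DCoh.Lpull g').obj (DerivedCategory.Q.obj C) ≅ DerivedCategory.Q.obj ((pullCx g').obj C)) := by
  obtain ⟨P, c, hc, hfl, hPb⟩ := exists_bdd_flat_resolution X.sheaf C b hb
  let P' : CochainComplex X.Modules ℤ := P
  let c' : P' ⟶ C := c
  haveI : QuasiIso c' := hc
  have hP : ∀ n, FlatMod.IsFlat (P'.X n) := fun n => (isFlat_iff _).2 (hfl n)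
  haveI := quasiIso_pullback_bc h c' b hPb hb (fun n => isFlatOver_of_isFlat f (hP n)) fun n => (hC n).isFlatOver
  haveI : IsIso (DerivedCategory.Q.map c') := inferInstance
  exact ⟨(DCoh.Lpull g').mapIso (asIso (DerivedCategory.Q.map c')).symm ≪≫
    lpullIsoK g' P' (isKFlat_of_flat_bddAbove P' b hPb hP) ≪≫
    asIso (DerivedCategory.Q.map ((pullCx g').map c'))⟩

end Groth.Agent.DCohMore
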