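import Groth.Agent.DCohMore.GoodGlue

/-!
# A perfect generator given by a bounded complex of good modules
-/

set_option autoImplicit false
set_option linter.style.haveILetI false
set_option linter.unusedSectionVars false
set_option backward.isDefEq.respectTransparency false

universe u

open CategoryTheory Limits AlgebraicGeometry Pretriangulated ZeroObject TopologicalSpace
attribute [local instance] HasDerivedCategory.standard

noncomputable section

namespace Groth.Agent.DCohMore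

open Groth.Agent.DRingLib Groth.Agent.DCohLib

variable {X Y S : Scheme.{u}}

/-- There is a perfect generator given by a bounded complex of good modules. -/
def GoodGen (f : X ⟶ S) : Prop :=
  ∃ C : CochainComplex X.Modules ℤ, GoodCx f C ∧ DCoh.IsPerfect (DerivedCategory.Q.obj C) ∧
    ∀ E : DCoh.D X, DCoh.IsQCohD E → (∀ (n : ℤ) (φ : DerivedCategory.Q.obj C ⟶ E⟦n⟧), φ = 0) → IsZero E

theorem GoodGen.of_isEmpty [IsEmpty X] (f : X ⟶ S) : GoodGen f := by
  obtain ⟨Z, hZ⟩ : ∃ Z : CochainComplex X.Modules ℤ, IsZero Z := ⟨0, isZero_zero _⟩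
  exact ⟨Z, ⟨⟨0, 0, fun n _ => (HomologicalComplex.eval X.Modules (ComplexShape.up ℤ) n).map_isZero hZ⟩,
      fun n => .zero _ ((HomologicalComplex.eval X.Modules (ComplexShape.up ℤ) n).map_isZero hZ)⟩,
    isPerfect_of_local fun x => isEmptyElim x, fun E _ _ => isZero_of_isEmpty E⟩

theorem GoodGen.of_iso [Y.IsSeparated] (e : X ≅ Y) (f : Y ⟶ S) (h : GoodGen (e.hom ≫ f)) : GoodGen f := by
  obtain ⟨C, hC, hP, hgen⟩ := h
  haveI : IsAffineHom e.inv := inferInstance
  haveI : X.IsSeparated := ⟨by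
    have h : IsSeparated (e.hom ≫ terminal.from Y) := inferInstance
    rwa [Subsingleton.elim (e.hom ≫ terminal.from Y) (terminal.from _)] at h⟩
  refine ⟨(resCx e.inv).obj C, ?_, isPerfect_iso (restrictDQ e.inv C) (isPerfect_restrict e.inv hP), fun E hE h => ?_⟩
  · have := hC.restrictOpen e.inv
    rwa [Iso.inv_hom_id_assoc] at this
  · refine IsZero.of_iso ?_ ((restrictDEquiv e).unitIso.app E)
    refine (DCoh.restrictD e.inv).map_isZero (hgen _ (TildeD.isQCohD_restrict e.hom E hE) fun n φ => ?_)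
    let w := (restrictDEquiv e).counitIso.app (DerivedCategory.Q.obj C)
    haveI : (DCoh.restrictD e.hom).Faithful := inferInstanceAs (restrictDEquiv e).functor.Faithful
    haveI : (DCoh.restrictD e.hom).Full := inferInstanceAs (restrictDEquiv e).functor.Full
    let R := DCoh.restrictD e.hom
    obtain ⟨ψ, hψ⟩ := R.map_surjective (w.hom ≫ φ ≫ (R.commShiftIso n).inv.app E)
    have h1 : (restrictDQ e.inv C).inv ≫ ψ = 0 := h n _
    have h0 : ψ = 0 := by
      rw [← cancel_epi (restrictDQ e.inv C).inv, h1, comp_zero]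
    rw [h0, Functor.map_zero] at hψ
    rw [← cancel_epi w.hom, ← cancel_mono ((R.commShiftIso n).inv.app E), Category.assoc, comp_zero, zero_comp]
    exact hψ.symm

set_option maxHeartbeats 1600000 in
/-- The step: adjoining an affine open. -/
theorem goodGen_step [IsAffine S] [X.IsSeparated] (f : X ⟶ S) [Flat f] [CompactSpace X] (U : X.Opens)
    (hU : IsCompact (U : Set X)) {A : Type u} [CommRing A] (j : Spec (CommRingCat.of A) ⟶ X) [IsOpenImmersion j]
    (hcov : U ⊔ j.opensRange = ⊤) (h : GoodGen (U.ι ≫ f)) : GoodGen f := by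
  obtain ⟨CU, hCU, hP, hgen⟩ := h
  haveI := TildeD.preservesFiniteLimits_tilde (R := CommRingCat.of A)
  haveI : QuasiSeparatedSpace X := inferInstance
  haveI : QuasiCompact j := quasiCompact_of_compactSpace j
  obtain ⟨gs, hgs⟩ := exists_gOpen_eq (j ⁻¹ᵁ U : Set (Spec (CommRingCat.of A))) (j ⁻¹ᵁ U).2
    (QuasiCompact.isCompact_preimage (f := j) U U.2 hU)
  have hO : gOpen gs = j ⁻¹ᵁ U := SetLike.ext' hgs
  let O := j ⁻¹ᵁ U
  let σ := j ∣_ U
  have hext : ∀ F : DCoh.D (O : Scheme.{u}), DCoh.IsPerfect F →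
      ∃ G : Dual.D A, Perf FProj G ∧
        Nonempty ((DCoh.restrictD O.ι).obj ((DCoh.tildeD (CommRingCat.of A)).obj G) ≅ F⟦(1 : ℤ)⟧ ⊞ F) := by
    show ∀ F : DCoh.D ((j ⁻¹ᵁ U : (Spec (CommRingCat.of A)).Opens) : Scheme.{u}), DCoh.IsPerfect F →
      ∃ G : Dual.D A, Perf FProj G ∧ Nonempty ((DCoh.restrictD (j ⁻¹ᵁ U).ι).obj
        ((DCoh.tildeD (CommRingCat.of A)).obj G) ≅ F⟦(1 : ℤ)⟧ ⊞ F)
    rw [← hO]
    intro F hF
    obtain ⟨G, hG, -, hiso⟩ := exists_extend gs [] F hF fun i y hy => by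
      obtain ⟨a, ha, -⟩ := mem_gOpen.1 hy
      cases ha
    exact ⟨G, hG, hiso⟩
  let P := DerivedCategory.Q.obj CU
  obtain ⟨G, hG, ⟨eG⟩⟩ := hext ((DCoh.restrictD σ).obj P) (isPerfect_restrict σ hP)
  obtain ⟨N, hN, ⟨eN⟩⟩ := hG
  let C₁ := (shiftFunctor (CochainComplex (U : Scheme.{u}).Modules ℤ) (1 : ℤ)).obj CU ⊞ CU
  haveI := preservesBinaryBiproducts_of_preservesBiproducts (DerivedCategory.Q (C := (U : Scheme.{u}).Modules))
  haveI := preservesBinaryBiproducts_of_preservesBiproducts (DCoh.restrictD σ)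
  let A' := P⟦(1 : ℤ)⟧ ⊞ P
  let e₁ : DerivedCategory.Q.obj C₁ ≅ A' :=
    (DerivedCategory.Q (C := (U : Scheme.{u}).Modules)).mapBiprod _ _ ≪≫
      biprod.mapIso (((DerivedCategory.Q (C := (U : Scheme.{u}).Modules)).commShiftIso (1 : ℤ)).app CU) (Iso.refl _)
  let c : (DCoh.restrictD O.ι).obj (DerivedCategory.Q.obj (TildePerf.tilC N)) ≅
      (DCoh.restrictD σ).obj (DerivedCategory.Q.obj C₁) :=
    (DCoh.restrictD O.ι).mapIso ((TildePerf.tildeDQ N).symm ≪≫ (DCoh.tildeD _).mapIso eN) ≪≫ eG ≪≫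
      biprod.mapIso (((DCoh.restrictD σ).commShiftIso (1 : ℤ)).app P).symm (Iso.refl _) ≪≫
      ((DCoh.restrictD σ).mapBiprod _ _).symm ≪≫ (DCoh.restrictD σ).mapIso e₁.symm
  obtain ⟨F, hF, ⟨eU₁⟩, ⟨eV⟩⟩ := exists_glue_good U hU j C₁ ((hCU.shift 1).biprod hCU) N hN c
  let eU : (DCoh.restrictD U.ι).obj (DerivedCategory.Q.obj F) ≅ A' := eU₁ ≪≫ e₁
  have cover : ∀ x : X, x ∈ U ∨ x ∈ j.opensRange := fun x => hcov.ge (Set.mem_univ x)
  have hA' : DCoh.IsPerfect A' :=
    isPerfect_obj₂ _ (binaryBiproductTriangle_distinguished (P⟦(1 : ℤ)⟧) P) (isPerfect_shift hP 1) hP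
  have hperf_til : ∀ (K : DRing.Cx A), Bdd FProj K → DCoh.IsPerfect (DerivedCategory.Q.obj (TildePerf.tilC K)) :=
    fun K hK => isPerfect_iso (TildePerf.tildeDQ K) (TildePerf.perfect_tilde ⟨K, hK, ⟨Iso.refl _⟩⟩)
  have hFperf : DCoh.IsPerfect (DerivedCategory.Q.obj F) := isPerfect_of_local fun x => by
    rcases cover x with hx | hx
    · exact ⟨_, U.ι, inferInstance, ⟨x, hx⟩, rfl, isPerfect_iso eU.symm hA'⟩
    · obtain ⟨y, hy⟩ := hx
      exact ⟨_, j, inferInstance, y, hy, isPerfect_iso eV.symm (hperf_til N hN)⟩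
  -- the generator supported away from the open
  obtain ⟨P₀, hP₀', hP₀t, hgen₀⟩ := exists_koszul_gen gs
  obtain ⟨N₀, hN₀, ⟨eN₀⟩⟩ := hP₀'
  obtain ⟨Z, hZ⟩ : ∃ Z : CochainComplex (U : Scheme.{u}).Modules ℤ, IsZero Z := ⟨0, isZero_zero _⟩
  have hgz : GoodCx (U.ι ≫ f) Z :=
    ⟨⟨0, 0, fun n _ => (HomologicalComplex.eval _ _ n).map_isZero hZ⟩,
      fun n => .zero _ ((HomologicalComplex.eval _ _ n).map_isZero hZ)⟩
  have hz₀ : IsZero ((DCoh.restrictD O.ι).obj (DerivedCategory.Q.obj (TildePerf.tilC N₀))) := by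
    refine IsZero.of_iso ?_ ((DCoh.restrictD O.ι).mapIso ((TildePerf.tildeDQ N₀).symm ≪≫ (DCoh.tildeD _).mapIso eN₀))
    have h1 := (tors_iff_isZero gs P₀).1 hP₀t
    show IsZero ((DCoh.restrictD (j ⁻¹ᵁ U).ι).obj _)
    rw [← hO]
    exact h1
  obtain ⟨Q₀, hQ, ⟨qU⟩, ⟨qV⟩⟩ := exists_glue_good U hU j Z hgz N₀ hN₀
    (hz₀.iso ((DCoh.restrictD σ).map_isZero (Functor.map_isZero _ hZ)))
  have hQperf : DCoh.IsPerfect (DerivedCategory.Q.obj Q₀) := isPerfect_of_local fun x => by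
    rcases cover x with hx | hx
    · exact ⟨_, U.ι, inferInstance, ⟨x, hx⟩, rfl, isPerfect_iso qU.symm
        (isPerfect_of_perfOn (perfOn_of_isZero (Functor.map_isZero _ hZ)))⟩
    · obtain ⟨y, hy⟩ := hx
      exact ⟨_, j, inferInstance, y, hy, isPerfect_iso qV.symm (hperf_til N₀ hN₀)⟩
  haveI := preservesBinaryBiproducts_of_preservesBiproducts (DerivedCategory.Q (C := X.Modules))
  let F' := DerivedCategory.Q.obj F
  let Q := DerivedCategory.Q.obj Q₀
  let eS : DerivedCategory.Q.obj (F ⊞ Q₀) ≅ F' ⊞ Q := (DerivedCategory.Q (C := X.Modules)).mapBiprod _ _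
  refine ⟨F ⊞ Q₀, hF.biprod hQ, isPerfect_iso eS.symm
    (isPerfect_obj₂ _ (binaryBiproductTriangle_distinguished F' Q) hFperf hQperf), fun E hE hEh => ?_⟩
  have hEh' : ∀ (n : ℤ) (φ : F' ⊞ Q ⟶ E⟦n⟧), φ = 0 := fun n φ => by
    rw [← cancel_epi eS.hom, comp_zero]
    exact hEh n _
  have hFE : ∀ (n : ℤ) (φ : F' ⟶ E⟦n⟧), φ = 0 := fun n φ => by
    rw [← biprod.inl_fst_assoc (X := F') (Y := Q) φ, hEh' n (biprod.fst ≫ φ), comp_zero]
  have hQE : ∀ (n : ℤ) (φ : Q ⟶ E⟦n⟧), φ = 0 := fun n φ => by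
    rw [← biprod.inr_snd_assoc (X := F') (Y := Q) φ, hEh' n (biprod.snd ≫ φ), comp_zero]
  haveI : DCoh.HasRpush U.ι := Groth.Agent.KInj.hasRightDerivedFunctor (hres_modules _) _
  haveI := hasLpull U.ι
  haveI : CompactSpace (U : Scheme.{u}) := isCompact_iff_compactSpace.1 hU
  haveI : QuasiCompact U.ι := quasiCompact_of_compactSpace U.ι
  let adj := (lpullRpushAdj U.ι).ofNatIsoLeft (lpullRestrictNatIso U.ι)
  haveI : IsIso adj.counit := adj.isIso_counit_of_iso (rpushRestrictId U)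
  let EU := (DCoh.restrictD U.ι).obj E
  let R := (DCoh.Rpush U.ι).obj EU
  let η : E ⟶ R := adj.unit.app E
  obtain ⟨C, π, d, hη⟩ := distinguished_cocone_triangle η
  haveI : IsIso ((DCoh.restrictD U.ι).map η) := by
    have h := adj.left_triangle_components E
    haveI : IsIso ((DCoh.restrictD U.ι).map η ≫ adj.counit.app EU) := by rw [h]; exact IsIso.id _
    exact IsIso.of_isIso_comp_right _ (adj.counit.app EU)
  have hQR : ∀ (n : ℤ) (φ : Q ⟶ R⟦n⟧), φ = 0 := fun n => hom_shift_zero n fun φ =>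
    (adj.homEquiv _ _).symm.injective ((((shiftFunctor _ (-n)).map_isZero
      ((Functor.map_isZero _ hZ).of_iso qU)).of_iso
        (((DCoh.restrictD U.ι).commShiftIso (-n)).app Q)).eq_of_src _ _)
  have hQC : ∀ (n : ℤ) (φ : Q ⟶ C⟦n⟧), φ = 0 := fun n φ => by
    let S := (Triangle.shiftFunctor (DCoh.D X) n).obj (Triangle.mk η π d)
    have hS : S ∈ distTriang _ := Triangle.shift_distinguished _ hη n
    have h0 : φ ≫ S.mor₃ = 0 := by
      rw [← cancel_mono ((shiftFunctorAdd' (DCoh.D X) n 1 (n + 1) rfl).app E).inv, zero_comp]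
      exact hQE (n + 1) _
    obtain ⟨ψ, hψ⟩ := Triangle.coyoneda_exact₃ S hS φ h0
    rw [hψ, show ψ = 0 from hQR n ψ, zero_comp]
  have hCz : IsZero C := by
    have hCU : IsZero ((DCoh.restrictD U.ι).obj C) :=
      (Triangle.isZero₃_iff_isIso₁ _ ((DCoh.restrictD U.ι).map_distinguished _ hη)).2 ‹_›
    have hCq : DCoh.IsQCohD C := isQCohD_obj₃' _ hη hE (isQCohD_rpush U.ι EU (TildeD.isQCohD_restrict U.ι E hE))
    let V := j.opensRange
    haveI : DCoh.HasRpush V.ι := Groth.Agent.KInj.hasRightDerivedFunctor (hres_modules _) _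
    haveI := hasLpull V.ι
    let adjV := (lpullRpushAdj V.ι).ofNatIsoLeft (lpullRestrictNatIso V.ι)
    have hCZ : ∀ i, CohB1.support (DCoh.HD C i) ⊆ ((U : Set X)ᶜ) := fun i x hx hxU =>
      (isZero_restrictD_iff_support U C).1 hCU i hx hxU
    obtain ⟨eC⟩ := nonempty_iso_rpush_restrict V _ U.2.isClosed_compl (fun x hx => (cover x).resolve_left hx) C hCZ
    obtain ⟨C₀, ⟨e₀⟩⟩ := ((TildeD.main (CommRingCat.of A)).2.2 _).1 (TildeD.isQCohD_restrict j C hCq)
    have hC₀t : Tors gs C₀ := (tors_iff_isZero gs C₀).2 (by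
      rw [hO]
      refine IsZero.of_iso ?_ ((DCoh.restrictD (j ⁻¹ᵁ U).ι).mapIso e₀)
      haveI : IsOpenImmersion (σ ≫ U.ι) := inferInstance
      refine ((DCoh.restrictD σ).map_isZero hCU).of_iso (((restrictDComp O.ι j).app C).symm ≪≫
        (restrictDCongr (morphismRestrict_ι j U).symm).app C ≪≫ (restrictDComp σ U.ι).app C))
    have hC₀ : IsZero C₀ := hgen₀ C₀ hC₀t fun n φ => by
      let T' := DCoh.tildeD (CommRingCat.of A)
      haveI : T'.Faithful := (TildeD.main (CommRingCat.of A)).2.1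
      apply T'.map_injective
      rw [Functor.map_zero]
      let b : (V : Scheme.{u}) ⟶ Spec (CommRingCat.of A) := j.isoOpensRange.inv
      haveI : IsIso b := inferInstanceAs (IsIso j.isoOpensRange.inv)
      have hb : b ≫ j = V.ι := j.isoOpensRange_inv_comp
      haveI : (DCoh.restrictD b).Faithful := inferInstanceAs (restrictDEquiv (asIso b)).functor.Faithful
      apply (DCoh.restrictD b).map_injective
      rw [Functor.map_zero]
      let q : (DCoh.restrictD V.ι).obj Q ≅ (DCoh.restrictD b).obj (T'.obj P₀) :=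
        (restrictDCongr hb.symm).app Q ≪≫ (restrictDComp b j).app Q ≪≫
          (DCoh.restrictD b).mapIso (qV ≪≫ (TildePerf.tildeDQ N₀).symm ≪≫ T'.mapIso eN₀)
      let m : (DCoh.restrictD b).obj (T'.obj (C₀⟦n⟧)) ≅ ((DCoh.restrictD V.ι).obj C)⟦n⟧ :=
        (DCoh.restrictD b).mapIso ((T'.commShiftIso n).app C₀ ≪≫ (shiftFunctor _ n).mapIso e₀) ≪≫
          ((DCoh.restrictD b).commShiftIso n).app _ ≪≫
          (shiftFunctor _ n).mapIso (((restrictDComp b j).app C).symm ≪≫ (restrictDCongr hb).app C)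
      have key : ∀ ψ : (DCoh.restrictD V.ι).obj Q ⟶ ((DCoh.restrictD V.ι).obj C)⟦n⟧, ψ = 0 :=
        hom_shift_zero n fun φ' => by
          have hu : ∀ u : Q⟦-n⟧ ⟶ C, u = 0 := hom_shift_zero' n (hQC n)
          have hψ : ((DCoh.restrictD V.ι).commShiftIso (-n)).hom.app Q ≫ φ' = 0 :=
            (adjV.homEquiv _ _).injective (by
              rw [← cancel_mono eC.inv]
              exact (hu _).trans (hu _).symm)
          rwa [Preadditive.IsIso.comp_left_eq_zero] at hψ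
      rw [← cancel_epi q.hom, ← cancel_mono m.hom, comp_zero, zero_comp]
      exact key _
    refine IsZero.of_iso ?_ eC
    refine (IsZero.iff_id_eq_zero _).2 ((adjV.homEquiv _ _).symm.injective ((IsZero.of_iso ?_
      ((restrictDCongr (j.isoOpensRange_inv_comp).symm).app C ≪≫ (restrictDComp _ j).app C)).eq_of_tgt _ _))
    exact (DCoh.restrictD _).map_isZero (((DCoh.tildeD (CommRingCat.of A)).map_isZero hC₀).of_iso e₀.symm)
  haveI : IsIso η := (Triangle.isZero₃_iff_isIso₁ _ hη).1 hCz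
  have hEU : IsZero EU := hgen EU (TildeD.isQCohD_restrict U.ι E hE) fun n φ => by
    have hu : ∀ u : (DCoh.restrictD U.ι).obj F' ⟶ EU⟦n⟧, u = 0 := hom_shift_zero n fun u => by
      have hw : ∀ w : F'⟦-n⟧ ⟶ E, w = 0 := hom_shift_zero' n (hFE n)
      have h2 : ((DCoh.restrictD U.ι).commShiftIso (-n)).hom.app F' ≫ u = 0 := (adj.homEquiv _ _).injective (by
        rw [← cancel_mono (asIso η).inv]
        exact (hw _).trans (hw _).symm)
      rwa [Preadditive.IsIso.comp_left_eq_zero] at h2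
    have h1 : biprod.inr ≫ eU.inv ≫ (eU.hom ≫ biprod.snd ≫ φ) = φ := by simp [A']
    rw [← h1, hu (eU.hom ≫ biprod.snd ≫ φ), comp_zero, comp_zero]
  exact ((IsZero.iff_id_eq_zero _).2 ((adj.homEquiv _ _).symm.injective (hEU.eq_of_tgt _ _))).of_iso (asIso η)

end Groth.Agent.DCohMore
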