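import Groth.Agent.DCohMore.GoodOps
import Groth.Agent.DCohMore.BvdBStep

/-!
# Gluing good complexes along an affine open
-/

set_option autoImplicit false
set_option linter.style.haveILetI false
set_option linter.unusedSectionVars false
set_option backward.isDefEq.respectTransparency false

universe u

open CategoryTheory CategoryTheory.Limits AlgebraicGeometry TopologicalSpace
open CategoryTheory.Pretriangulated

attribute [local instance] HasDerivedCategory.standard

noncomputable section

namespace Groth.Agent.DCohMore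

open Groth.Agent.DCohLib Groth.Agent.SiteCmpLib Groth.Agent.DRingLib

variable {X Y S : Scheme.{u}}

/-- Pushing complexes forward. -/
abbrev pCx (h : X ⟶ Y) : CochainComplex X.Modules ℤ ⥤ CochainComplex Y.Modules ℤ :=
  (Scheme.Modules.pushforward h).mapHomologicalComplex (ComplexShape.up ℤ)

/-- Isomorphy of the class of a pushed map of acyclic complexes. -/
theorem isIso_pushQ_of_isIso (h : X ⟶ Y) [DCoh.HasRpush h] {K L : CochainComplex X.Modules ℤ} (φ : K ⟶ L)
    (hK : IsIso ((rpushUnit h).app ((quotM X).obj K))) (hL : IsIso ((rpushUnit h).app ((quotM X).obj L)))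
    {E : Type*} [Category E] (R : DCoh.D Y ⥤ E)
    (hφ : IsIso (R.map ((DCoh.Rpush h).map (DerivedCategory.Q.map φ)))) :
    IsIso (R.map (DerivedCategory.Q.map ((pCx h).map φ))) := by
  haveI := hK
  haveI := hL
  let a : ∀ M : CochainComplex X.Modules ℤ, DerivedCategory.Q.obj ((pCx h).obj M) ≅
      (DCoh.pushKh h).obj ((quotM X).obj M) := fun M =>
    ((DerivedCategory.quotientCompQhIso Y.Modules).app _).symm ≪≫
      DerivedCategory.Qh.mapIso (((Scheme.Modules.pushforward h).mapHomotopyCategoryFactors _).app M).symm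
  have ha : DerivedCategory.Q.map ((pCx h).map φ) ≫ (a L).hom = (a K).hom ≫ (DCoh.pushKh h).map ((quotM X).map φ) := by
    have n1 := ((Scheme.Modules.pushforward h).mapHomotopyCategoryFactors (ComplexShape.up ℤ)).inv.naturality φ
    have n1' := congrArg DerivedCategory.Qh.map n1
    have n2 := (DerivedCategory.quotientCompQhIso Y.Modules).inv.naturality ((pCx h).map φ)
    simp only [Functor.map_comp] at n1'
    dsimp only [a, Iso.trans_hom, Iso.symm_hom, Functor.mapIso_hom, Iso.app_inv, Functor.comp_map] at n1' n2 ⊢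
    rw [reassoc_of% n2, n1', Category.assoc]
  let b : ∀ (M : CochainComplex X.Modules ℤ) (_ : IsIso ((rpushUnit h).app ((quotM X).obj M))),
      DerivedCategory.Q.obj ((pCx h).obj M) ≅ (DCoh.Rpush h).obj (DerivedCategory.Q.obj M) := fun M hM =>
    a M ≪≫ @asIso _ _ _ _ ((rpushUnit h).app ((quotM X).obj M)) hM ≪≫
      (DCoh.Rpush h).mapIso ((DerivedCategory.quotientCompQhIso X.Modules).app M)
  have hb : DerivedCategory.Q.map ((pCx h).map φ) ≫ (b L hL).hom =
      (b K hK).hom ≫ (DCoh.Rpush h).map (DerivedCategory.Q.map φ) := by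
    have n3 := (rpushUnit h).naturality ((quotM X).map φ)
    have n4 := congrArg (DCoh.Rpush h).map ((DerivedCategory.quotientCompQhIso X.Modules).hom.naturality φ)
    simp only [Functor.map_comp] at n4
    dsimp only [b, Iso.trans_hom, asIso_hom, Functor.mapIso_hom, Iso.app_hom, Functor.comp_map] at n3 n4 ⊢
    rw [reassoc_of% ha, Category.assoc, Category.assoc, reassoc_of% n3, n4]
  let eA : Arrow.mk (DerivedCategory.Q.map ((pCx h).map φ)) ≅
      Arrow.mk ((DCoh.Rpush h).map (DerivedCategory.Q.map φ)) := Arrow.isoMk (b K hK) (b L hL) hb.symm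
  exact ((MorphismProperty.isomorphisms E).arrow_mk_iso_iff (R.mapArrow.mapIso eA)).2 hφ

/-- The unit of restriction followed by pushing back, seen on an open on which it is trivial. -/
theorem isIso_restrict_push_unit {V Z : Scheme.{u}} (i : V ⟶ X) [IsOpenImmersion i] (σ : Z ⟶ V) [IsOpenImmersion σ]
    (j : Y ⟶ X) [IsOpenImmersion j] (hr : ∀ v : V, i.base v ∈ j.opensRange → v ∈ σ.opensRange) (M : V.Modules) :
    IsIso ((Scheme.Modules.restrictFunctor j).map ((Scheme.Modules.pushforward i).map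
      ((Scheme.Modules.restrictAdjunction σ).unit.app M))) := by
  rw [Scheme.Modules.Hom.isIso_iff_isIso_app]
  intro W
  let O : V.Opens := i ⁻¹ᵁ (j ''ᵁ W)
  have hO : O = σ ''ᵁ (σ ⁻¹ᵁ O) := le_antisymm (fun v hv => by
    obtain ⟨z, rfl⟩ := hr v (j.image_le_opensRange W hv)
    exact ⟨z, hv, rfl⟩) (σ.image_preimage_le O)
  show IsIso (((Scheme.Modules.restrictAdjunction σ).unit.app M).app O)
  rw [Scheme.Modules.restrictAdjunction_unit_app_app]
  rw [show (homOfLE (σ.image_preimage_le O)).op = eqToHom (congrArg Opposite.op hO) from Subsingleton.elim _ _]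
  infer_instance

variable {f : X ⟶ S}

set_option maxHeartbeats 1600000 in
/-- A good complex on an open and a complex of projective modules on an affine open glue. -/
theorem exists_glue_good [IsAffine S] [X.IsSeparated] [Flat f] (U : X.Opens) (hU : IsCompact (U : Set X))
    {A : Type u} [CommRing A] (j : Spec (CommRingCat.of A) ⟶ X) [IsOpenImmersion j]
    (C : CochainComplex (U : Scheme.{u}).Modules ℤ) (hC : GoodCx (U.ι ≫ f) C) (N : DRing.Cx A) (hN : Bdd FProj N)
    (c : (DCoh.restrictD (j ⁻¹ᵁ U).ι).obj (DerivedCategory.Q.obj (TildePerf.tilC N)) ≅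
      (DCoh.restrictD (j ∣_ U)).obj (DerivedCategory.Q.obj C)) :
    ∃ F : CochainComplex X.Modules ℤ, GoodCx f F ∧
      Nonempty ((DCoh.restrictD U.ι).obj (DerivedCategory.Q.obj F) ≅ DerivedCategory.Q.obj C) ∧
      Nonempty ((DCoh.restrictD j).obj (DerivedCategory.Q.obj F) ≅ DerivedCategory.Q.obj (TildePerf.tilC N)) := by
  haveI := TildeD.preservesFiniteLimits_tilde (R := CommRingCat.of A)
  haveI : IsAffineHom j := isAffineHom_to_separated j
  haveI : CompactSpace (U : Scheme.{u}) := isCompact_iff_compactSpace.1 hU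
  let O := j ⁻¹ᵁ U
  let σ := j ∣_ U
  haveI : IsAffineHom σ := IsZariskiLocalAtTarget.restrict ‹IsAffineHom j› U
  haveI : (U : Scheme.{u}).IsSeparated := ⟨by
    have h : IsSeparated (U.ι ≫ terminal.from X) := inferInstance
    rwa [Subsingleton.elim (U.ι ≫ terminal.from X) (terminal.from _)] at h⟩
  haveI : (O : Scheme.{u}).IsSeparated := ⟨by
    have h : IsSeparated (O.ι ≫ terminal.from (Spec (CommRingCat.of A))) := inferInstance
    rwa [Subsingleton.elim (O.ι ≫ terminal.from (Spec (CommRingCat.of A))) (terminal.from _)] at h⟩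
  have hσ : σ ≫ U.ι = O.ι ≫ j := morphismRestrict_ι j U
  haveI : CompactSpace (O : Scheme.{u}) := isCompact_iff_compactSpace.1 (QuasiCompact.isCompact_preimage (f := j) U U.2 hU)
  haveI : QuasiCompact O.ι := quasiCompact_of_compactSpace O.ι
  haveI : DCoh.HasRpush O.ι := Groth.Agent.KInj.hasRightDerivedFunctor (hres_modules _) _
  haveI := hasLpull O.ι
  -- the restriction of the given complex, pushed to the affine open
  let D := (resCx σ).obj C
  have hD : GoodCx ((O.ι ≫ j) ≫ f) D := by
    rw [← hσ, Category.assoc]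
    exact hC.restrictOpen σ
  let T := (pCx O.ι).obj D
  have hT : GoodCx (j ≫ f) T := GoodCx.pushOpen O.ι (by rwa [← Category.assoc])
  haveI hDu := isIso_rpushUnit_app_acyclic O.ι D (fun n => (hD.2 n).isQCoh) fun n => (hD.2 n).isAcyclicFor_to_affine O.ι
  let eT : DerivedCategory.Q.obj T ≅ (DCoh.Rpush O.ι).obj (DerivedCategory.Q.obj D) :=
    ((DerivedCategory.quotientCompQhIso _).app _).symm ≪≫
      DerivedCategory.Qh.mapIso (((Scheme.Modules.pushforward O.ι).mapHomotopyCategoryFactors _).app D).symm ≪≫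
      asIso ((rpushUnit O.ι).app ((quotM _).obj D)) ≪≫
      (DCoh.Rpush O.ι).mapIso ((DerivedCategory.quotientCompQhIso _).app D)
  let adj := (lpullRpushAdj O.ι).ofNatIsoLeft (lpullRestrictNatIso O.ι)
  haveI : IsIso adj.counit := adj.isIso_counit_of_iso (rpushRestrictId O)
  let R := DCoh.restrictD O.ι
  haveI hη : IsIso (adj.unit.app (DerivedCategory.Q.obj T)) := by
    haveI : IsIso (adj.unit.app ((DCoh.Rpush O.ι).obj (DerivedCategory.Q.obj D))) := by
      have h := adj.right_triangle_components (DerivedCategory.Q.obj D)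
      haveI : IsIso ((DCoh.Rpush O.ι).map (adj.counit.app (DerivedCategory.Q.obj D))) := inferInstance
      haveI : IsIso (adj.unit.app ((DCoh.Rpush O.ι).obj (DerivedCategory.Q.obj D)) ≫
          (DCoh.Rpush O.ι).map (adj.counit.app (DerivedCategory.Q.obj D))) := by rw [h]; exact IsIso.id _
      exact IsIso.of_isIso_comp_right _ ((DCoh.Rpush O.ι).map (adj.counit.app (DerivedCategory.Q.obj D)))
    exact (NatTrans.isIso_app_iff_of_iso adj.unit eT).2 ‹_›
  let c' : R.obj (DerivedCategory.Q.obj (TildePerf.tilC N)) ≅ R.obj (DerivedCategory.Q.obj T) :=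
    c ≪≫ restrictDQ σ C ≪≫ (asIso (adj.counit.app (DerivedCategory.Q.obj D))).symm ≪≫ R.mapIso eT.symm
  let ψD : DerivedCategory.Q.obj (TildePerf.tilC N) ⟶ DerivedCategory.Q.obj T :=
    adj.homEquiv _ _ c'.hom ≫ inv (adj.unit.app (DerivedCategory.Q.obj T))
  have hψD : R.map ψD = c'.hom := by
    have h1 : R.map (adj.unit.app (DerivedCategory.Q.obj T)) ≫ adj.counit.app (R.obj (DerivedCategory.Q.obj T)) = 𝟙 _ :=
      adj.left_triangle_components _
    have h2 : R.map (inv (adj.unit.app (DerivedCategory.Q.obj T))) = adj.counit.app (R.obj (DerivedCategory.Q.obj T)) := by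
      rw [Functor.map_inv]
      exact IsIso.inv_eq_of_hom_inv_id h1
    rw [Functor.map_comp, h2, ← Adjunction.homEquiv_counit, Equiv.symm_apply_apply]
  -- realised by a map of complexes
  obtain ⟨ψ, hψ⟩ : ∃ ψ : TildePerf.tilC N ⟶ T, IsIso (R.map (DerivedCategory.Q.map ψ)) := by
    obtain ⟨L, ⟨eL⟩⟩ := exists_tilC_iso (A := CommRingCat.of A) T fun n => (hT.2 n).isQCoh
    let T' := DCoh.tildeD (CommRingCat.of A)
    haveI : T'.Full := (TildeD.main (CommRingCat.of A)).1
    let e1 := TildePerf.tildeDQ N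
    let e2 := TildePerf.tildeDQ L ≪≫ DerivedCategory.Q.mapIso eL
    obtain ⟨⟨a, b, hab⟩, hP⟩ := hN
    haveI : N.IsStrictlyLE b := (CochainComplex.isStrictlyLE_iff _ _).2 fun i hi => hab i (Or.inr hi)
    haveI : ∀ n, CategoryTheory.Projective (N.X n) := fun n =>
      haveI : Module.Projective A (N.X n) := (hP n).2
      inferInstance
    haveI : N.IsKProjective := CochainComplex.isKProjective_of_projective N b
    obtain ⟨n, hn⟩ := DRingLib.Q_map_surjective N L (T'.preimage (e1.hom ≫ ψD ≫ e2.inv))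
    refine ⟨(TildePerf.tilCF _).map n ≫ eL.hom, ?_⟩
    have nat : T'.map (DerivedCategory.Q.map n) ≫ (TildePerf.tildeDQ L).hom =
        e1.hom ≫ DerivedCategory.Q.map ((TildePerf.tilCF (CommRingCat.of A)).map n) :=
      (TildePerf.tildeDFac (CommRingCat.of A)).hom.naturality n
    have key : DerivedCategory.Q.map ((TildePerf.tilCF _).map n ≫ eL.hom) = ψD := by
      rw [← cancel_epi e1.hom, Functor.map_comp, ← reassoc_of% nat, hn, Functor.map_preimage]
      simp [e2]
    rw [key, hψD]
    infer_instance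
  haveI := hψ
  -- the map of the pushed complexes
  let w : (Scheme.Modules.pushforward σ ⋙ Scheme.Modules.pushforward U.ι) ≅
      (Scheme.Modules.pushforward O.ι ⋙ Scheme.Modules.pushforward j) :=
    Scheme.Modules.pushforwardComp σ U.ι ≪≫ Scheme.Modules.pushforwardCongr hσ ≪≫
      (Scheme.Modules.pushforwardComp O.ι j).symm
  let η₁ : (pCx U.ι).obj C ⟶ (pCx j).obj T :=
    { f := fun n => (Scheme.Modules.pushforward U.ι).map ((Scheme.Modules.restrictAdjunction σ).unit.app (C.X n)) ≫
        w.hom.app ((Scheme.Modules.restrictFunctor σ).obj (C.X n))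
      comm' := fun n m _ => by
        have h0 := congrArg (Scheme.Modules.pushforward U.ι).map
          ((Scheme.Modules.restrictAdjunction σ).unit.naturality (C.d n m))
        have h1 := w.hom.naturality ((Scheme.Modules.restrictFunctor σ).map (C.d n m))
        simp only [Functor.map_comp, Functor.id_map, Functor.comp_map] at h0 h1
        show _ ≫ (Scheme.Modules.pushforward j).map ((Scheme.Modules.pushforward O.ι).map
            ((Scheme.Modules.restrictFunctor σ).map (C.d n m))) =
          (Scheme.Modules.pushforward U.ι).map (C.d n m) ≫ _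
        rw [Category.assoc, ← h1, reassoc_of% h0] }
  let Mid := (pCx U.ι).obj C ⊞ (pCx j).obj (TildePerf.tilC N)
  let φ : Mid ⟶ (pCx j).obj T := biprod.desc η₁ ((pCx j).map ψ)
  let F := (shiftFunctor (CochainComplex X.Modules ℤ) (-1 : ℤ)).obj (CochainComplex.mappingCone φ)
  have hgood : GoodCx f F := (GoodCx.mappingCone φ ((hC.pushOpen U.ι).biprod
    ((goodCx_tilC j hN).pushOpen j)) (hT.pushOpen j)).shift (-1)
  refine ⟨F, hgood, ?_⟩
  -- the triangle
  let Qm := (@DerivedCategory.Q X.Modules _ _ _)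
  haveI : Qm.Additive := inferInstance
  let δ₀ : Triangle (DCoh.D X) := (DerivedCategory.Q.mapTriangle.obj (CochainComplex.mappingCone.triangle φ)).invRotate
  have hdist : δ₀ ∈ distTriang (DCoh.D X) := inv_rot_of_distTriang _
    ((DerivedCategory.mem_distTriang_iff _).2 ⟨_, _, φ, ⟨Iso.refl _⟩⟩)
  let eF : Qm.obj F ≅ δ₀.obj₁ :=
    ((DerivedCategory.Q (C := X.Modules)).commShiftIso (-1 : ℤ)).app (CochainComplex.mappingCone φ)
  let iA : Qm.obj ((pCx U.ι).obj C) ⟶ δ₀.obj₂ := Qm.map (biprod.inl : (pCx U.ι).obj C ⟶ Mid)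
  let pA : δ₀.obj₂ ⟶ Qm.obj ((pCx U.ι).obj C) := Qm.map (biprod.fst : Mid ⟶ (pCx U.ι).obj C)
  let iB : Qm.obj ((pCx j).obj (TildePerf.tilC N)) ⟶ δ₀.obj₂ := Qm.map (biprod.inr : (pCx j).obj (TildePerf.tilC N) ⟶ Mid)
  let pB : δ₀.obj₂ ⟶ Qm.obj ((pCx j).obj (TildePerf.tilC N)) := Qm.map (biprod.snd : Mid ⟶ (pCx j).obj (TildePerf.tilC N))
  have htot : pA ≫ iA + pB ≫ iB = 𝟙 _ := by
    show Qm.map _ ≫ Qm.map _ + Qm.map _ ≫ Qm.map _ = 𝟙 (Qm.obj Mid)
    rw [← Qm.map_comp, ← Qm.map_comp, ← Qm.map_add, biprod.total]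
    exact Qm.map_id Mid
  have hA : iA ≫ pA = 𝟙 _ := by simp [iA, pA, ← Functor.map_comp]
  have hB : iB ≫ pB = 𝟙 _ := by simp [iB, pB, ← Functor.map_comp]
  have hBA : iB ≫ pA = 0 := by simp [iB, pA, ← Functor.map_comp]
  have hAB : iA ≫ pB = 0 := by simp [iA, pB, ← Functor.map_comp]
  have hiA : iA ≫ δ₀.mor₂ = Qm.map η₁ := by
    show Qm.map _ ≫ Qm.map φ = _
    rw [← Functor.map_comp, biprod.inl_desc]
  have hiB : iB ≫ δ₀.mor₂ = Qm.map ((pCx j).map ψ) := by
    show Qm.map _ ≫ Qm.map φ = _
    rw [← Functor.map_comp, biprod.inr_desc]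
  constructor
  · -- on the open
    let RU := DCoh.restrictD U.ι
    haveI : DCoh.HasRpush j := Groth.Agent.KInj.hasRightDerivedFunctor (hres_modules _) _
    haveI : DCoh.HasRpush (j ∣_ U) := Groth.Agent.KInj.hasRightDerivedFunctor (hres_modules _) _
    obtain ⟨eR⟩ := nonempty_restrictD_rpush j U
    have h1 : IsIso (RU.map ((DCoh.Rpush j).map (DerivedCategory.Q.map ψ))) := by
      refine (NatIso.isIso_map_iff eR _).2 ?_
      show IsIso ((DCoh.Rpush (j ∣_ U)).map (R.map (DerivedCategory.Q.map ψ)))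
      infer_instance
    have h2 := isIso_pushQ_of_isIso j ψ
      (isIso_rpushUnit_app_acyclic j _ (fun n => ((goodCx_tilC (f := f) j hN).2 n).isQCoh) fun n => by
        haveI := ((goodCx_tilC (f := f) j hN).2 n).isQCoh
        exact isAcyclicFor_affine j _)
      (isIso_rpushUnit_app_acyclic j _ (fun n => (hT.2 n).isQCoh) fun n => by
        haveI := (hT.2 n).isQCoh
        exact isAcyclicFor_affine j _) RU h1
    haveI : IsIso (RU.map iB ≫ RU.map δ₀.mor₂) := by rw [← Functor.map_comp, hiB]; exact h2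
    haveI hI := isIso_fst_of_triangle _ _ _ (RU.map_distinguished _ hdist) (RU.map iA) (RU.map pA) (RU.map iB) (RU.map pB)
      ((congrArg₂ (· + ·) (RU.map_comp _ _).symm (RU.map_comp _ _).symm).trans (RU.map_add.symm.trans ((congrArg RU.map htot).trans (RU.map_id _))))
      (by simp only [← Functor.map_comp, hA, CategoryTheory.Functor.map_id])
      (by simp only [← Functor.map_comp, hBA, Functor.map_zero])
    exact ⟨RU.mapIso eF ≪≫ @asIso _ _ _ _ _ hI ≪≫ restrictDQ U.ι _ ≪≫
      DerivedCategory.Q.mapIso ((NatIso.mapHomologicalComplex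
        (Scheme.Modules.restrictFunctorAdjCounitIso U.ι) (ComplexShape.up ℤ)).app C)⟩
  · -- on the affine open
    let RJ := DCoh.restrictD j
    haveI : ∀ n, IsIso (((resCx j).map η₁).f n) := fun n => by
      haveI := isIso_restrict_push_unit U.ι σ j (fun v hv => by
        obtain ⟨a, ha⟩ := hv
        exact ⟨⟨a, show j.base a ∈ U from ha ▸ v.2⟩, U.ι.isOpenEmbedding.injective (by
          rw [← Scheme.Hom.comp_apply, hσ]; exact ha)⟩) (C.X n)
      show IsIso ((Scheme.Modules.restrictFunctor j).map (_ ≫ _))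
      rw [Functor.map_comp]
      infer_instance
    haveI : IsIso ((resCx j).map η₁) := HomologicalComplex.Hom.isIso_of_components _
    haveI : IsIso (RJ.map (Qm.map η₁)) := by
      refine (NatIso.isIso_map_iff ((Scheme.Modules.restrictFunctor j).mapDerivedCategoryFactors) _).2 ?_
      show IsIso (DerivedCategory.Q.map ((resCx j).map η₁))
      infer_instance
    haveI : IsIso (RJ.map iA ≫ RJ.map δ₀.mor₂) := by rw [← Functor.map_comp, hiA]; infer_instance
    haveI hI := isIso_fst_of_triangle _ _ _ (RJ.map_distinguished _ hdist) (RJ.map iB) (RJ.map pB) (RJ.map iA) (RJ.map pA)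
      ((congrArg₂ (· + ·) (RJ.map_comp _ _).symm (RJ.map_comp _ _).symm).trans (RJ.map_add.symm.trans ((congrArg RJ.map ((add_comm _ _).trans htot)).trans (RJ.map_id _))))
      (by simp only [← Functor.map_comp, hB, CategoryTheory.Functor.map_id])
      (by simp only [← Functor.map_comp, hAB, Functor.map_zero])
    exact ⟨RJ.mapIso eF ≪≫ @asIso _ _ _ _ _ hI ≪≫ restrictDQ j _ ≪≫
      DerivedCategory.Q.mapIso ((NatIso.mapHomologicalComplex
        (Scheme.Modules.restrictFunctorAdjCounitIso j) (ComplexShape.up ℤ)).app (TildePerf.tilC N))⟩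

end Groth.Agent.DCohMore
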