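import Groth.Agent.DCohMore.GoodBC
import Groth.Agent.DCohLib.RpushTri
import Groth.Agent.KFlat.ResolutionMain
import Groth.Agent.TildePerf.PC

/-!
# Operations on complexes of good modules
-/

set_option autoImplicit false
set_option linter.style.haveILetI false
set_option linter.unusedSectionVars false
set_option backward.isDefEq.respectTransparency false

universe u

open CategoryTheory CategoryTheory.Limits AlgebraicGeometry TopologicalSpace
open CategoryTheory.Pretriangulated

attribute [local instance] HasDerivedCategory.standard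

noncomputable section

namespace Groth.Agent.DCohMore

open Groth.Agent.DCohLib Groth.Agent.SiteCmpLib

variable {X W S : Scheme.{u}} {f : X ⟶ S}

/-- A bounded complex of good modules. -/
def GoodCx (f : X ⟶ S) (C : CochainComplex X.Modules ℤ) : Prop :=
  (∃ a b : ℤ, ∀ n, (n < a ∨ b < n) → IsZero (C.X n)) ∧ ∀ n, GoodMod f (C.X n)

theorem GoodMod.pushOpen (i : W ⟶ X) [IsOpenImmersion i] {N : W.Modules} (h : GoodMod (i ≫ f) N) :
    GoodMod f ((Scheme.Modules.pushforward i).obj N) := by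
  induction h with
  | @push U j _ _ M hM hfl =>
    exact .iso ((Scheme.Modules.pushforwardComp j i).app M).symm (.push (j ≫ i) M hM (by rwa [Category.assoc]))
  | zero Z hZ => exact .zero _ ((Scheme.Modules.pushforward i).map_isZero hZ)
  | @biprod M N _ _ ih₁ ih₂ =>
    haveI := preservesBinaryBiproducts_of_preservesBiproducts (Scheme.Modules.pushforward i)
    exact .iso ((Scheme.Modules.pushforward i).mapBiprod M N).symm (ih₁.biprod ih₂)
  | iso e _ ih => exact .iso ((Scheme.Modules.pushforward i).mapIso e) ih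

theorem GoodMod.restrictOpen [X.IsSeparated] (k : W ⟶ X) [IsOpenImmersion k] [IsAffineHom k] {N : X.Modules}
    (h : GoodMod f N) : GoodMod (k ≫ f) ((Scheme.Modules.restrictFunctor k).obj N) := by
  induction h with
  | @push U j _ _ M hM hfl =>
    haveI := hM
    haveI := isAffineHom_to_separated j
    let p := pullback.fst j k
    let q := pullback.snd j k
    have hsq : IsPullback p q j k := IsPullback.of_hasPullback j k
    haveI := isIso_bc0_affine j q p hsq M
    haveI : IsAffine (Limits.pullback j k) := isAffine_of_isAffineHom p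
    refine .iso ((asIso (CohBC.bc0 j k q p hsq.w M)).symm ≪≫
      ((Scheme.Modules.restrictFunctorIsoPullback k).app _).symm)
      (.push q _ (PullbackMod.isQCoh_pullback p M) fun x => ?_)
    have hw : q ≫ k ≫ f = p ≫ j ≫ f := by rw [← Category.assoc, ← hsq.w, Category.assoc]
    rw [hw]
    exact PullbackMod.isFlatOverAt_of_iso ((Scheme.Modules.restrictFunctorIsoPullback p).app M) _ x
      ((isFlatOverAt_restrict_iff p (j ≫ f) M x).2 (hfl _))
  | zero Z hZ => exact .zero _ ((Scheme.Modules.restrictFunctor k).map_isZero hZ)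
  | @biprod M N _ _ ih₁ ih₂ =>
    haveI := preservesBinaryBiproducts_of_preservesBiproducts (Scheme.Modules.restrictFunctor k)
    exact .iso ((Scheme.Modules.restrictFunctor k).mapBiprod M N).symm (ih₁.biprod ih₂)
  | iso e _ ih => exact .iso ((Scheme.Modules.restrictFunctor k).mapIso e) ih

theorem GoodMod.mapBase {T : Scheme.{u}} {f' : X ⟶ T} (hf : ∀ {U : Scheme.{u}} (j : U ⟶ X) (M : U.Modules),
    FlatMod.IsFlatOver (j ≫ f) M → FlatMod.IsFlatOver (j ≫ f') M) {N : X.Modules} (h : GoodMod f N) :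
    GoodMod f' N := by
  induction h with
  | @push U j _ _ M hM hfl => exact .push j M hM (hf j M hfl)
  | zero Z hZ => exact .zero Z hZ
  | biprod _ _ ih₁ ih₂ => exact ih₁.biprod ih₂
  | iso e _ ih => exact .iso e ih

theorem GoodCx.pushOpen (i : W ⟶ X) [IsOpenImmersion i] {C : CochainComplex W.Modules ℤ} (h : GoodCx (i ≫ f) C) :
    GoodCx f (((Scheme.Modules.pushforward i).mapHomologicalComplex (ComplexShape.up ℤ)).obj C) := by
  obtain ⟨⟨a, b, hab⟩, hC⟩ := h
  exact ⟨⟨a, b, fun n hn => (Scheme.Modules.pushforward i).map_isZero (hab n hn)⟩, fun n => (hC n).pushOpen i⟩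

theorem GoodCx.restrictOpen [X.IsSeparated] (k : W ⟶ X) [IsOpenImmersion k] [IsAffineHom k]
    {C : CochainComplex X.Modules ℤ} (h : GoodCx f C) : GoodCx (k ≫ f) ((resCx k).obj C) := by
  obtain ⟨⟨a, b, hab⟩, hC⟩ := h
  exact ⟨⟨a, b, fun n hn => (Scheme.Modules.restrictFunctor k).map_isZero (hab n hn)⟩,
    fun n => (hC n).restrictOpen k⟩

theorem GoodCx.biprod {A B : CochainComplex X.Modules ℤ} (hA : GoodCx f A) (hB : GoodCx f B) :
    GoodCx f (A ⊞ B) := by
  obtain ⟨⟨a, b, hab⟩, hA⟩ := hA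
  obtain ⟨⟨a', b', hab'⟩, hB⟩ := hB
  exact ⟨⟨min a a', max b b', fun n hn => (KFlat.isZero_biprod (hab n (hn.imp (fun h => by omega) fun h => by omega))
      (hab' n (hn.imp (fun h => by omega) fun h => by omega))).of_iso (HomologicalComplex.biprodXIso A B n)⟩,
    fun n => .iso (HomologicalComplex.biprodXIso A B n).symm ((hA n).biprod (hB n))⟩

theorem GoodCx.shift {A : CochainComplex X.Modules ℤ} (hA : GoodCx f A) (k : ℤ) :
    GoodCx f ((shiftFunctor (CochainComplex X.Modules ℤ) k).obj A) := by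
  obtain ⟨⟨a, b, hab⟩, hA⟩ := hA
  exact ⟨⟨a - k, b - k, fun n hn => hab (n + k) (hn.imp (fun h => by omega) fun h => by omega)⟩,
    fun n => hA (n + k)⟩

theorem GoodCx.mappingCone {A B : CochainComplex X.Modules ℤ} (φ : A ⟶ B) (hA : GoodCx f A) (hB : GoodCx f B) :
    GoodCx f (CochainComplex.mappingCone φ) := by
  obtain ⟨⟨a, b, hab⟩, hA⟩ := hA
  obtain ⟨⟨a', b', hab'⟩, hB⟩ := hB
  exact ⟨⟨min (a - 1) a', max (b - 1) b', fun n hn =>
      (KFlat.isZero_biprod (hab (n + 1) (hn.imp (fun h => by omega) fun h => by omega))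
        (hab' n (hn.imp (fun h => by omega) fun h => by omega))).of_iso (KFlat.coneXIso φ n)⟩,
    fun n => .iso (KFlat.coneXIso φ n).symm ((hA (n + 1)).biprod (hB n))⟩

theorem GoodCx.of_iso {A B : CochainComplex X.Modules ℤ} (e : A ≅ B) (h : GoodCx f A) : GoodCx f B := by
  obtain ⟨⟨a, b, hab⟩, hA⟩ := h
  exact ⟨⟨a, b, fun n hn => (hab n hn).of_iso ((HomologicalComplex.eval _ _ n).mapIso e).symm⟩,
    fun n => .iso ((HomologicalComplex.eval _ _ n).mapIso e) (hA n)⟩

/-- A bounded complex of projective modules on an affine scheme is good. -/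
theorem goodCx_tilC [Flat f] {A : Type u} [CommRing A] (j : Spec (CommRingCat.of A) ⟶ X) [IsOpenImmersion j]
    {N : DRing.Cx A} (hN : DRingLib.Bdd DRingLib.FProj N) :
    GoodCx (j ≫ f) (TildePerf.tilC N) := by
  obtain ⟨⟨a, b, hab⟩, hP⟩ := hN
  refine ⟨⟨a, b, fun n hn => TildePerf.map_isZero_tilde (R := CommRingCat.of A) (hab n hn)⟩, fun n => ?_⟩
  refine .iso ((Scheme.Modules.pushforwardId (Spec (CommRingCat.of A))).app _) (.push (𝟙 _) _ ?_ ?_)
  · exact inferInstanceAs (tilde (R := CommRingCat.of A) (N.X n)).IsQuasicoherent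
  · refine isFlatOver_of_isFlat _ (isFlat_of_flf (M := (tilde.functor (CommRingCat.of A)).obj (N.X n)) ?_)
    haveI : Module.Projective A (N.X n) := (hP n).2
    haveI : Module.Finite A (N.X n) := (hP n).1
    exact TildePerf.isFinLocFree_tilde (R := CommRingCat.of A) (N.X n)

/-- The kernel of a map out of a sum which is invertible on one summand is the other summand. -/
theorem isIso_fst_of_triangle {D : Type*} [Category D] [HasZeroObject D] [HasShift D ℤ] [Preadditive D]
    [∀ n : ℤ, (shiftFunctor D n).Additive] [Pretriangulated D]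
    {K M T A B : D} (ι : K ⟶ M) (π : M ⟶ T) (δ : T ⟶ K⟦(1 : ℤ)⟧) (hT : Triangle.mk ι π δ ∈ distTriang D)
    (iA : A ⟶ M) (pA : M ⟶ A) (iB : B ⟶ M) (pB : M ⟶ B) (htot : pA ≫ iA + pB ≫ iB = 𝟙 M)
    (hA : iA ≫ pA = 𝟙 A) (hBA : iB ≫ pA = 0) [IsIso (iB ≫ π)] : IsIso (ι ≫ pA) := by
  haveI : IsSplitEpi π := ⟨⟨inv (iB ≫ π) ≫ iB, by rw [Category.assoc, IsIso.inv_hom_id]⟩⟩
  haveI : Mono ι := (Triangle.mor₃_eq_zero_iff_mono₁ _ hT).1 ((Triangle.mor₃_eq_zero_iff_epi₂ _ hT).2
    (inferInstanceAs (Epi π)))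
  let w := iA - (iA ≫ π) ≫ inv (iB ≫ π) ≫ iB
  obtain ⟨u, hu⟩ : ∃ u : A ⟶ K, w = u ≫ ι := Triangle.coyoneda_exact₂ _ hT w (by
    show w ≫ π = 0
    simp [w])
  refine ⟨u, ?_, ?_⟩
  · rw [← cancel_mono ι, Category.id_comp, Category.assoc, Category.assoc, ← hu]
    have h0 : ι ≫ π = 0 := comp_distTriang_mor_zero₁₂ _ hT
    have h1 : ι ≫ pB ≫ iB ≫ π = -(ι ≫ pA ≫ iA ≫ π) := by
      rw [eq_neg_iff_add_eq_zero, ← h0]
      conv_rhs => rw [← Category.id_comp π, ← htot]
      simp [add_comm]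
    have h2 : ι ≫ pB = (-(ι ≫ pA ≫ iA ≫ π)) ≫ inv (iB ≫ π) := by
      refine (IsIso.eq_comp_inv (iB ≫ π)).2 ?_
      rw [Category.assoc]
      exact h1
    calc ι ≫ pA ≫ w = ι ≫ pA ≫ iA + ((-(ι ≫ pA ≫ iA ≫ π)) ≫ inv (iB ≫ π)) ≫ iB := by simp [w]; abel
      _ = ι := by rw [← h2, Category.assoc, ← Preadditive.comp_add, htot, Category.comp_id]
  · rw [← Category.assoc, ← hu]
    simp [w, hA, hBA]

end Groth.Agent.DCohMore
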