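import Groth.Agent.DCohMore.PseudoInv
import Groth.Agent.DCohMore.FibreOneMain
import Groth.Agent.SteinEtLib.Etale

/-!
# The degree zero kernel of a model of `Rf_* O` for geometrically reduced fibres
-/

set_option autoImplicit false
set_option linter.style.haveILetI false
set_option linter.unusedSectionVars false
set_option backward.isDefEq.respectTransparency false
set_option maxHeartbeats 1000000

universe u

open CategoryTheory Limits AlgebraicGeometry TopologicalSpace Opposite MonoidalCategory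
attribute [local instance] HasDerivedCategory.standard

noncomputable section

namespace Groth.Agent.DCohMore.H0Split

open Groth.Agent.DCohLib Groth.Agent.TildePerf Groth.Agent.DRingLib Groth.Agent.DCohMore.FibreOne

variable {X : Scheme.{u}} {A : Type u} [CommRing A]

/-- Cohomology after tensoring with the functions on an affine base change. -/
theorem homology_fibre_push (f : X ⟶ Spec (CommRingCat.of A)) [IsProper f] [Flat f] [DCoh.HasRpush f]
    [PreservesFiniteLimits (tilde.functor (CommRingCat.of A))] (N : DRing.Cx A) (hN : DCoh.IsStrictlyPerfect (tilC N))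
    (eN : DerivedCategory.Q.obj (tilC N) ≅ (DCoh.Rpush f).obj (DerivedCategory.Q.obj (sgl₀ (Coh.structureModule X))))
    {Z : Scheme.{u}} [IsAffine Z] (g : Z ⟶ Spec (CommRingCat.of A)) [IsAffineHom g] :
    (∀ i : ℤ, i < 0 → (((tensorLeft (secO g)).mapHomologicalComplex (ComplexShape.up ℤ)).obj N).ExactAt i) ∧
      Nonempty ((((tensorLeft (secO g)).mapHomologicalComplex (ComplexShape.up ℤ)).obj N).homology 0 ≅
        secO (Limits.pullback.snd f g ≫ g)) := by
  haveI : Coh.IsQCoh (Coh.structureModule Z) := CohBase.isQCoh_structureModule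
  haveI hGq : Coh.IsQCoh ((Scheme.Modules.pushforward g).obj (Coh.structureModule Z)) :=
    QCohLib.isQCoh_pushforward _ g
  obtain ⟨r⟩ := nonempty_tensor_model f N hN eN (secO g)
  obtain ⟨p⟩ := nonempty_push_fibre f g
  let W := ((tensorLeft (secO g)).mapHomologicalComplex (ComplexShape.up ℤ)).obj N
  let F := (Scheme.Modules.pullback f).obj ((tilde.functor (CommRingCat.of A)).obj (secO g))
  let E := DerivedCategory.Q.obj (sgl₀ F)
  haveI : E.IsGE 0 := isGE_sgl F
  haveI : ((DCoh.Rpush f).obj E).IsGE 0 := isGE_rpush f _ 0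
  let t : ∀ i : ℤ, _ ≅ DCoh.HD ((DCoh.Rpush f).obj E) i := fun i =>
    ((TildeD.nuT (CommRingCat.of A) i).app (DRing.toD W)).symm ≪≫
      (DerivedCategory.homologyFunctor _ i).mapIso (tildeDQ W ≪≫ r)
  refine ⟨fun i hi => ?_, ?_⟩
  · refine (HomologicalComplex.exactAt_iff_isZero_homology _ _).2 ?_
    refine IsZero.of_iso (isZero_of_isZero_tilde ?_) ((DerivedCategory.homologyFunctorFactors _ i).app W).symm
    exact (DerivedCategory.isZero_of_isGE _ 0 i hi).of_iso (t i)
  · obtain ⟨e⟩ := nonempty_HD_zero_rpush f E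
    let eT := t 0 ≪≫ e ≪≫ (Scheme.Modules.pushforward f).mapIso
      (HDsgl F ≪≫ (Scheme.Modules.pullback f).mapIso (tildeΓIso _)) ≪≫ p
    haveI := isQCoh_of_iso' eT (TildeD.isQCoh_tilde (R := CommRingCat.of A) _)
    obtain ⟨a⟩ := nonempty_of_tilde_iso (eT ≪≫ (tildeΓIso _).symm)
    let c := (moduleSpecΓFunctor (R := CommRingCat.of A)).mapIso
      ((Scheme.Modules.pushforwardComp (Limits.pullback.snd f g) g).app (Coh.structureModule _))
    exact ⟨((DerivedCategory.homologyFunctorFactors _ 0).app W).symm ≪≫ a ≪≫ c⟩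

/-- The functions on the point of a prime. -/
theorem nonempty_secO_point (p : PrimeSpectrum A) :
    Nonempty (secO (Spec.map (CommRingCat.ofHom (algebraMap A p.asIdeal.ResidueField))) ≅
      DTenLib.baseMod (algebraMap A p.asIdeal.ResidueField)) := by
  let R := CommRingCat.of A
  let φ : R ⟶ CommRingCat.of p.asIdeal.ResidueField := CommRingCat.ofHom (algebraMap A p.asIdeal.ResidueField)
  refine ⟨(TildePullback.pushforwardΓIso φ).app (Coh.structureModule _) ≪≫ LinearEquiv.toModuleIso
    (X₁ := (moduleSpecΓFunctor (R := CommRingCat.of p.asIdeal.ResidueField) ⋙ ModuleCat.restrictScalars φ.hom).obj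
      (Coh.structureModule _))
    (X₂ := DTenLib.baseMod (algebraMap A p.asIdeal.ResidueField)) ?_⟩
  refine
    { __ := (Scheme.ΓSpecIso (CommRingCat.of p.asIdeal.ResidueField)).commRingCatIsoToRingEquiv.toAddEquiv
      map_smul' := fun c x => ?_ }
  let ψ := Scheme.ΓSpecIso (CommRingCat.of p.asIdeal.ResidueField)
  let T := Spec (CommRingCat.of p.asIdeal.ResidueField)
  show ψ.hom.hom ((show Γ(T, ⊤) from T.presheaf.map (𝟙 _) (ψ.inv (φ c))) * (show Γ(T, ⊤) from x)) =
    φ c * ψ.hom.hom x
  rw [map_mul, CategoryTheory.Functor.map_id, CommRingCat.id_apply]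
  exact congrArg (· * _) (ψ.inv_hom_id_apply _)

/-- Scalars of a residue field are linear for free. -/
theorem map_residue_smul (p : Ideal A) [p.IsPrime] {M M' : Type u} [AddCommGroup M] [Module A M]
    [Module p.ResidueField M] [IsScalarTower A p.ResidueField M] [AddCommGroup M'] [Module A M']
    [Module p.ResidueField M'] [IsScalarTower A p.ResidueField M'] (e : M ≃ₗ[A] M') (k : p.ResidueField) (x : M) :
    e (k • x) = k • e x := by
  obtain ⟨⟨a, b⟩, hab⟩ := IsLocalization.surj (nonZeroDivisors (A ⧸ p)) k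
  obtain ⟨a, rfl⟩ := Ideal.Quotient.mk_surjective a
  obtain ⟨b, hb⟩ := b
  obtain ⟨b, rfl⟩ := Ideal.Quotient.mk_surjective b
  have hb0 : algebraMap A p.ResidueField b ≠ 0 := fun h0 =>
    nonZeroDivisors.ne_zero hb (Ideal.Quotient.eq_zero_iff_mem.2 (Ideal.algebraMap_residueField_eq_zero.1 h0))
  have hab' : k * algebraMap A p.ResidueField b = algebraMap A p.ResidueField a := hab
  apply smul_right_injective M' hb0
  simp only
  rw [algebraMap_smul, ← map_smul, ← algebraMap_smul p.ResidueField b (k • x), smul_smul, mul_comm _ k, hab',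
    algebraMap_smul, map_smul, smul_smul, mul_comm _ k, hab', algebraMap_smul]

theorem bijective_tensor_points {X Y : Scheme.{u}} (f : X ⟶ Spec (CommRingCat.of A)) [IsProper f] [Flat f]
    [LocallyOfFinitePresentation f] [GeometricallyReduced f] {B : Type u} [CommRing B] [Algebra A B]
    {q : Y ⟶ X} {fs : Y ⟶ Spec (CommRingCat.of B)}
    (hc : IsPullback q fs f (Spec.map (CommRingCat.ofHom (algebraMap A B)))) :
    Nonempty (TensorProduct A B (secO f) ≃ₗ[A] secO (fs ≫ Spec.map (CommRingCat.ofHom (algebraMap A B)))) := by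
  let g := Spec.map (CommRingCat.ofHom (algebraMap A B))
  have e : (⊤ : (Spec (CommRingCat.of B)).Opens) ≤ g ⁻¹ᵁ ⊤ := fun x _ => trivial
  let A' := Γ(Spec (CommRingCat.of A), ⊤)
  let B' := Γ(Spec (CommRingCat.of B), ⊤)
  let εA : A ≃+* A' := (Scheme.ΓSpecIso (CommRingCat.of A)).symm.commRingCatIsoToRingEquiv
  let M := Γ(X, f ⁻¹ᵁ ⊤)
  letI : Algebra A' M := (f.app ⊤).hom.toAlgebra
  letI : Algebra A' B' := (g.appLE ⊤ ⊤ e).hom.toAlgebra
  letI : Algebra A A' := εA.toRingHom.toAlgebra
  letI : Algebra A M := ((f.app ⊤).hom.comp εA.toRingHom).toAlgebra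
  letI : Algebra A B' := ((g.appLE ⊤ ⊤ e).hom.comp εA.toRingHom).toAlgebra
  haveI : IsScalarTower A A' M := .of_algebraMap_eq fun _ => rfl
  haveI : IsScalarTower A A' B' := .of_algebraMap_eq fun _ => rfl
  have hAB : ∀ a, (Scheme.ΓSpecIso (CommRingCat.of B)).inv (algebraMap A B a) = algebraMap A B' a := fun a => by
    show _ = g.appLE ⊤ ⊤ e _
    have h := congr($(Scheme.ΓSpecIso_inv_naturality (CommRingCat.ofHom (algebraMap A B))) a)
    rw [show g.appLE ⊤ ⊤ e = g.appTop by simp [Scheme.Hom.appTop, Scheme.Hom.app_eq_appLE]]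
    exact h
  let εB : B ≃ₐ[A] B' :=
    AlgEquiv.ofRingEquiv (f := (Scheme.ΓSpecIso (CommRingCat.of B)).symm.commRingCatIsoToRingEquiv) hAB
  let sX : secO f ≃ₗ[A] M :=
    { AddEquiv.refl _ with
      map_smul' := fun a s => by
        show f.app ⊤ ((Spec (CommRingCat.of A)).presheaf.map (𝟙 _) ((Scheme.ΓSpecIso (CommRingCat.of A)).inv a)) *
          (show M from s) = _
        rw [CategoryTheory.Functor.map_id, CommRingCat.id_apply, RingHom.id_apply, Algebra.smul_def]
        rfl }
  haveI : TensorProduct.CompatibleSMul A A' B' M := ⟨fun a x y => by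
    obtain ⟨a, rfl⟩ := εA.surjective a
    show (algebraMap A A' a • x) ⊗ₜ[A] y = x ⊗ₜ[A] (algebraMap A A' a • y)
    rw [algebraMap_smul, algebraMap_smul, TensorProduct.smul_tmul]⟩
  have hb := SteinEtLib.bcHom_bijective (f := f) hc (isAffineOpen_top _) (isAffineOpen_top _) e
  let Φ : TensorProduct A' B' M ≃+* Γ(Y, fs ⁻¹ᵁ ⊤) := RingEquiv.ofBijective _ hb
  let E : TensorProduct A B (secO f) ≃+ secO (fs ≫ g) :=
    ((TensorProduct.congr εB.toLinearEquiv sX).trans
      (TensorProduct.equivOfCompatibleSMul A' A A B' M)).toAddEquiv.trans Φ.toAddEquiv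
  refine ⟨{ E with map_smul' := fun a z => ?_ }⟩
  let z' := (TensorProduct.equivOfCompatibleSMul A' A A B' M) (TensorProduct.congr εB.toLinearEquiv sX z)
  have h1 : E (a • z) = Φ (a • z') := by
    show Φ _ = Φ _
    congr 1
    show (TensorProduct.equivOfCompatibleSMul A' A A B' M) (TensorProduct.congr εB.toLinearEquiv sX (a • z)) = _
    rw [map_smul, map_smul]
  show E (a • z) = _
  rw [h1, Algebra.smul_def, map_mul]
  show Φ (algebraMap A B' a ⊗ₜ[A'] (1 : M)) * Φ z' = (show Γ(Y, ⊤) from (fs ≫ g).app ⊤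
    ((Spec (CommRingCat.of A)).presheaf.map (𝟙 _) ((Scheme.ΓSpecIso (CommRingCat.of A)).inv a))) * (show Γ(Y, ⊤) from Φ z')
  rw [CategoryTheory.Functor.map_id, CommRingCat.id_apply]
  congr 1
  show SteinEtLib.bcHom hc.w e (algebraMap A B' a ⊗ₜ[A'] (1 : M)) = _
  rw [SteinEtLib.bcHom_tmul, map_one, mul_one]
  show fs.app ⊤ (g.appLE ⊤ ⊤ e _) = (fs ≫ g).app ⊤ _
  rw [show g.appLE ⊤ ⊤ e = g.appTop by simp [Scheme.Hom.appTop, Scheme.Hom.app_eq_appLE]]
  rfl

/-- The fibre rank of the kernel of a model is the rank of the functions. -/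
theorem finrank_ker_fibre_eq (f : X ⟶ Spec (CommRingCat.of A)) [IsProper f] [Flat f] [LocallyOfFinitePresentation f]
    [GeometricallyReduced f] [DCoh.HasRpush f] (N : DRing.Cx A) (hN : Bdd FProj N) (hN0 : IsZero (N.X (-1)))
    (eN : DerivedCategory.Q.obj (tilC N) ≅ (DCoh.Rpush f).obj (DerivedCategory.Q.obj (sgl₀ (Coh.structureModule X))))
    (p : PrimeSpectrum A) :
    Module.finrank p.asIdeal.ResidueField (LinearMap.ker ((N.d 0 1).hom.baseChange p.asIdeal.ResidueField)) =
      Module.finrank p.asIdeal.ResidueField (TensorProduct A p.asIdeal.ResidueField (LinearMap.ker (N.d 0 1).hom)) := by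
  haveI := TildeD.preservesFiniteLimits_tilde (R := CommRingCat.of A)
  let κ := p.asIdeal.ResidueField
  let g := Spec.map (CommRingCat.ofHom (algebraMap A κ))
  obtain ⟨eM⟩ := nonempty_secO_point p
  obtain ⟨-, ⟨a⟩⟩ := homology_fibre_push f N (isStrictlyPerfect_tilC hN) eN g
  obtain ⟨-, ⟨m⟩⟩ := homology_model f N eN
  obtain ⟨t⟩ := bijective_tensor_points f (IsPullback.of_hasPullback f g)
  let W := ((tensorLeft (secO g)).mapHomologicalComplex (ComplexShape.up ℤ)).obj N
  let b := kerIso W ((tensorLeft (secO g)).map_isZero hN0) ≪≫ a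
  let ε : secO g ≃ₗ[A] κ := eM.toLinearEquiv.trans (baseModEquiv A κ)
  let v : ∀ n, W.X n ≃ₗ[A] TensorProduct A κ (N.X n) := fun n =>
    TensorProduct.congr ε (LinearEquiv.refl A (N.X n))
  have hv : ∀ z, v 1 ((W.d 0 1).hom z) = (N.d 0 1).hom.baseChange κ (v 0 z) := fun z => by
    induction z using TensorProduct.induction_on with
    | zero => simp
    | tmul m x => rfl
    | add x y hx hy => rw [map_add, map_add, map_add, map_add, hx, hy]
  let w : LinearMap.ker (W.d 0 1).hom ≃ₗ[A] LinearMap.ker ((N.d 0 1).hom.baseChange κ) :=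
    { toFun := fun z => ⟨v 0 z.1, by
        rw [LinearMap.mem_ker, ← hv, LinearMap.mem_ker.1 z.2, map_zero]⟩
      invFun := fun z => ⟨(v 0).symm z.1, by
        rw [LinearMap.mem_ker]
        apply (v 1).injective
        rw [hv, LinearEquiv.apply_symm_apply, map_zero]
        exact z.2⟩
      left_inv := fun z => Subtype.ext ((v 0).symm_apply_apply _)
      right_inv := fun z => Subtype.ext ((v 0).apply_symm_apply _)
      map_add' := fun x y => Subtype.ext (map_add (v 0) x.1 y.1)
      map_smul' := fun c x => Subtype.ext (map_smul (v 0) c x.1) }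
  let E : LinearMap.ker ((N.d 0 1).hom.baseChange κ) ≃ₗ[A] TensorProduct A κ (LinearMap.ker (N.d 0 1).hom) :=
    w.symm.trans (b.toLinearEquiv.trans (t.symm.trans
      (TensorProduct.congr (LinearEquiv.refl A κ) (m.symm ≪≫ (kerIso N hN0).symm).toLinearEquiv)))
  exact LinearEquiv.finrank_eq { E with map_smul' := fun k x => map_residue_smul p.asIdeal E k x }

end Groth.Agent.DCohMore.H0Split
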