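import Groth.Agent.DCohMore.PseudoInv
import Groth.Agent.DCohMore.FibreOneSplit

/-!
# Complexes with a split projective piece in degree zero
-/

set_option autoImplicit false
set_option linter.style.haveILetI false
set_option linter.unusedSectionVars false
set_option backward.isDefEq.respectTransparency false

universe u

open CategoryTheory Limits AlgebraicGeometry MonoidalCategory
attribute [local instance] HasDerivedCategory.standard

noncomputable section

namespace Groth.Agent.DCohMore.H0Split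

open Groth.Agent.DCohLib Groth.Agent.TildePerf Groth.Agent.DRingLib Groth.Agent.DCohMore.FibreOne

variable {A : Type u} [CommRing A]

/-- A complex with a split piece in degree zero. -/
theorem exists_split_model {K : ModuleCat.{u} A} (P : DRing.Cx A) (hP : Bdd FProj P) (hP0 : ∀ i, i < 0 → IsZero (P.X i))
    (α : K ⟶ P.X 0) (φ : P.X 0 ⟶ K) (h : P.X 1 ⟶ P.X 0) (hα : α ≫ P.d 0 1 = 0)
    (hαφ : α ≫ φ = 𝟙 _) (hid : φ ≫ α + P.d 0 1 ≫ h = 𝟙 _) :
    ∃ (T : DRing.Cx A) (b : ℤ), DRing.VanishesOutside T 1 b ∧ (∀ j, FProj (T.X j)) ∧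
      Nonempty (DerivedCategory.Q.obj P ≅ DerivedCategory.Q.obj
        ((HomologicalComplex.single (ModuleCat.{u} A) (ComplexShape.up ℤ) 0).obj K ⊞ T)) := by
  obtain ⟨⟨a, b, hab⟩, hPf⟩ := hP
  let L := (HomologicalComplex.single (ModuleCat.{u} A) (ComplexShape.up ℤ) 0).obj K
  let u : L ⟶ P := HomologicalComplex.mkHomFromSingle α fun i hi => by
    obtain rfl : i = 1 := by simp at hi; omega
    exact hα
  let r : P ⟶ L := HomologicalComplex.mkHomToSingle φ fun i hi => (hP0 i (by simp at hi; omega)).eq_of_src _ _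
  have hur : u ≫ r = 𝟙 L := HomologicalComplex.from_single_hom_ext (by
    simp [u, r]
    rw [reassoc_of% hαφ, Iso.hom_inv_id])
  have hcyc : HomologicalComplex.cyclesMap (r ≫ u) 0 = 𝟙 (P.cycles 0) := by
    rw [← cancel_mono (P.iCycles 0), HomologicalComplex.cyclesMap_i, Category.id_comp]
    have : (r ≫ u).f 0 = 𝟙 _ - P.d 0 1 ≫ h := by
      simp only [HomologicalComplex.comp_f, u, r, HomologicalComplex.mkHomToSingle_f,
        HomologicalComplex.mkHomFromSingle_f, Category.assoc, Iso.inv_hom_id_assoc]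
      rw [← hid, add_sub_cancel_right]
    rw [this, Preadditive.comp_sub, Category.comp_id, HomologicalComplex.iCycles_d_assoc, zero_comp, sub_zero]
  have hr : IsIso (HomologicalComplex.homologyMap r 0) := by
    refine ⟨⟨HomologicalComplex.homologyMap u 0, ?_, ?_⟩⟩
    · rw [← HomologicalComplex.homologyMap_comp, ← cancel_epi (P.homologyπ 0), HomologicalComplex.homologyπ_naturality,
        hcyc, Category.id_comp, Category.comp_id]
    · rw [← HomologicalComplex.homologyMap_comp, hur, HomologicalComplex.homologyMap_id]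
  let T := P.truncGE 1
  let ψ : P ⟶ L ⊞ T := biprod.lift r (P.πTruncGE 1)
  haveI : QuasiIso ψ := ⟨fun i => by
    rw [quasiIsoAt_iff_isIso_homologyMap]
    let H := HomologicalComplex.homologyFunctor (ModuleCat.{u} A) (ComplexShape.up ℤ) i
    show IsIso (H.map ψ)
    have hT : i ≤ 0 → IsZero (H.obj T) := fun hi =>
      (HomologicalComplex.exactAt_iff_isZero_homology _ _).1
        (HomologicalComplex.ExactAt.of_isZero (CochainComplex.isZero_of_isStrictlyGE T 1 i (by omega)))
    have hL : i ≠ 0 → IsZero (H.obj L) := fun hi =>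
      HomologicalComplex.isZero_single_obj_homology _ _ _ _ (by omega)
    rcases lt_trichotomy i 0 with hi | rfl | hi
    · have hPi : IsZero (H.obj P) := (HomologicalComplex.exactAt_iff_isZero_homology _ _).1
        (HomologicalComplex.ExactAt.of_isZero (hP0 i hi))
      haveI := isIso_map_fst H L T (hT (by omega))
      exact hPi.isIso ((hL (by omega)).of_iso (asIso (H.map (biprod.fst : L ⊞ T ⟶ L)))) _
    · haveI := isIso_map_fst H L T (hT le_rfl)
      haveI : IsIso (H.map ψ ≫ H.map biprod.fst) := by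
        rw [← H.map_comp, biprod.lift_fst]
        exact hr
      exact IsIso.of_isIso_comp_right _ (H.map biprod.fst)
    · haveI := isIso_map_snd H L T (hL (by omega))
      haveI : IsIso (H.map ψ ≫ H.map biprod.snd) := by
        rw [← H.map_comp, biprod.lift_snd]
        haveI : QuasiIsoAt (P.πTruncGE 1) i := P.quasiIsoAt_πTruncGE 1 i (by omega)
        exact inferInstanceAs (IsIso (HomologicalComplex.homologyMap (P.πTruncGE 1) i))
      exact IsIso.of_isIso_comp_right _ (H.map biprod.snd)⟩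
  haveI : IsIso (DerivedCategory.Q.map ψ) := (DerivedCategory.isIso_Q_map_iff_quasiIso _ ψ).2 inferInstance
  refine ⟨T, max 1 b, fun j hj => ?_, fun j => ?_, ⟨asIso (DerivedCategory.Q.map ψ)⟩⟩
  · rcases hj with hj | hj
    · exact CochainComplex.isZero_of_isStrictlyGE T 1 j hj
    · exact (hab j (Or.inr (by omega))).of_iso (CochainComplex.truncGEXIso P 1 j (by omega))
  · rcases lt_trichotomy j 1 with hj | rfl | hj
    · exact projClass_fProj.zero (CochainComplex.isZero_of_isStrictlyGE T 1 j hj)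
    · refine projClass_fProj.iso (CochainComplex.truncGEXIsoOpcycles P 1).symm ⟨?_, ?_⟩
      · haveI := (hPf 1).1
        exact Module.Finite.of_surjective (P.pOpcycles 1).hom ((ModuleCat.epi_iff_surjective _).1 inferInstance)
      · have he : P.d 0 1 ≫ (𝟙 _ - h ≫ P.d 0 1) = 0 := by
          have := congrArg (· ≫ P.d 0 1) hid
          simp only [Preadditive.add_comp, Category.assoc, hα, comp_zero, zero_add, Category.id_comp] at this
          simp [Preadditive.comp_sub, this]
        let s := P.descOpcycles (𝟙 _ - h ≫ P.d 0 1) 0 (CochainComplex.prev ℤ 1 |>.trans (by omega)) he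
        have hs : s ≫ P.pOpcycles 1 = 𝟙 _ := by
          rw [← cancel_epi (P.pOpcycles 1), HomologicalComplex.p_descOpcycles_assoc, Category.comp_id]
          simp [Preadditive.sub_comp]
        haveI : Projective (P.X 1) := by
          haveI := (hPf 1).2
          exact ModuleCat.projective_of_categoryTheory_projective (P.X 1)
        exact (IsProjective.iff_projective _).2 (Retract.mk s (P.pOpcycles 1) hs).projective
    · exact projClass_fProj.iso (CochainComplex.truncGEXIso P 1 j hj).symm (hPf j)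

/-- Inverting the scalar of a split piece. -/
theorem exists_split_data_ext {B : Type u} [CommRing B] (ψ : A →+* B) (c : A) (hc : IsUnit (ψ c)) (P : DRing.Cx A)
    {K : ModuleCat.{u} A} (α : K ⟶ P.X 0) (φ : P.X 0 ⟶ K) (h : P.X 1 ⟶ P.X 0) (hα : α ≫ P.d 0 1 = 0)
    (hαφ : α ≫ φ = c • 𝟙 _) (hid : φ ≫ α + P.d 0 1 ≫ h = c • 𝟙 _) :
    let K' := (ModuleCat.extendScalars.{u, u, u} ψ).obj K
    ∃ (α' : K' ⟶ ((DTen.extCx ψ).obj P).X 0) (φ' : ((DTen.extCx ψ).obj P).X 0 ⟶ K')
      (h' : ((DTen.extCx ψ).obj P).X 1 ⟶ ((DTen.extCx ψ).obj P).X 0),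
      α' ≫ ((DTen.extCx ψ).obj P).d 0 1 = 0 ∧ α' ≫ φ' = 𝟙 _ ∧
        φ' ≫ α' + ((DTen.extCx ψ).obj P).d 0 1 ≫ h' = 𝟙 _ := by
  intro K'
  let F := ModuleCat.extendScalars.{u, u, u} ψ
  letI := ψ.toAlgebra
  obtain ⟨v, hv⟩ := hc
  have e1 : F.map α ≫ F.map (P.d 0 1) = 0 := by rw [← F.map_comp, hα, F.map_zero]
  have e2 : F.map α ≫ F.map φ = (v : B) • 𝟙 _ := by
    rw [← F.map_comp, hαφ, hv]; exact extendScalars_map_smul_id ψ _ c
  have e3 : F.map φ ≫ F.map α + F.map (P.d 0 1) ≫ F.map h = (v : B) • 𝟙 _ := by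
    rw [← F.map_comp, ← F.map_comp, ← F.map_add, hid, hv]; exact extendScalars_map_smul_id ψ _ c
  refine ⟨F.map α, ((v⁻¹ : Bˣ) : B) • F.map φ, ((v⁻¹ : Bˣ) : B) • F.map h, ?_, ?_, ?_⟩
  · exact e1
  · rw [Linear.comp_smul, e2, smul_smul, Units.inv_mul, one_smul]
  · show _ + F.map (P.d 0 1) ≫ _ = _
    rw [Linear.smul_comp, Linear.comp_smul, ← smul_add]
    refine (congrArg _ e3).trans ?_
    rw [smul_smul, Units.inv_mul, one_smul]
    rfl

/-- The split data of a differential with a pseudo-inverse. -/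
theorem exists_split_data (P : DRing.Cx A) (c : A) (h : P.X 1 →ₗ[A] P.X 0)
    (hh : ∀ x, (P.d 0 1).hom (h ((P.d 0 1).hom x)) = c • (P.d 0 1).hom x) :
    let K := ModuleCat.of A (LinearMap.ker (P.d 0 1).hom)
    ∃ (α : K ⟶ P.X 0) (φ : P.X 0 ⟶ K) (h : P.X 1 ⟶ P.X 0),
      α ≫ P.d 0 1 = 0 ∧ α ≫ φ = c • 𝟙 _ ∧ φ ≫ α + P.d 0 1 ≫ h = c • 𝟙 _ := by
  intro K
  let d := (P.d 0 1).hom
  let φ : P.X 0 →ₗ[A] LinearMap.ker d := (c • LinearMap.id - h ∘ₗ d).codRestrict _ fun x => by
    show d (c • x - h (d x)) = 0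
    rw [map_sub, map_smul, hh, sub_self]
  refine ⟨ModuleCat.ofHom (LinearMap.ker d).subtype, ModuleCat.ofHom φ, ModuleCat.ofHom h,
    ModuleCat.hom_ext (LinearMap.ext fun x => x.2), ModuleCat.hom_ext (LinearMap.ext fun x => Subtype.ext ?_),
    ModuleCat.hom_ext (LinearMap.ext fun x => ?_)⟩
  · show c • x.1 - h (d x.1) = c • x.1
    rw [LinearMap.mem_ker.1 x.2, map_zero, sub_zero]
  · show (c • x - h (d x)) + h (d x) = c • x
    rw [sub_add_cancel]

end Groth.Agent.DCohMore.H0Split
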