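import Groth.Agent.DCohMore.ProjSpaceOverDer
import Groth.Agent.KZeroLib.Heart
import Groth.Prelude.Def_SGA6

/-!
# The Grothendieck group of perfect complexes of projective space over a scheme
-/

set_option autoImplicit false
set_option linter.style.haveILetI false
set_option linter.unusedSectionVars false
set_option maxHeartbeats 1000000
set_option backward.isDefEq.respectTransparency false

universe u v' u' v

open CategoryTheory CategoryTheory.Limits AlgebraicGeometry TopologicalSpace Opposite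
open CategoryTheory.Pretriangulated ZeroObject
open Groth.Agent.DCohLib Groth.Agent.KZeroLib

attribute [local instance] HasDerivedCategory.standard

noncomputable section

namespace Groth.Agent.DCohMore.TwistOver

section MapTr

variable {C : Type u} [Category.{v} C] [Preadditive C] [HasZeroObject C] [HasShift C ℤ]
  [∀ n : ℤ, (shiftFunctor C n).Additive] [Pretriangulated C]
variable {D : Type u'} [Category.{v'} D] [Preadditive D] [HasZeroObject D] [HasShift D ℤ]
  [∀ n : ℤ, (shiftFunctor D n).Additive] [Pretriangulated D]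

theorem mapTr_clTr (F : C ⥤ D) [F.CommShift ℤ] [F.IsTriangulated] (P₁ : ObjectProperty C)
    (Q : ObjectProperty D) (h : ∀ X, P₁ X → Q (F.obj X)) {K : C} (hK : P₁ K) :
    SGA6.mapTr F P₁ Q h (KZero.clTr P₁ K) = KZero.clTr Q (F.obj K) := by
  rw [clTr_of hK, clTr_of (h K hK)]
  rfl

theorem addHom_ext_clTr {G : Type*} [AddGroup G] {P₁ : ObjectProperty C} {f g : KZero.K0tr P₁ →+ G}
    (h : ∀ K, P₁ K → f (KZero.clTr P₁ K) = g (KZero.clTr P₁ K)) : f = g := by
  refine QuotientAddGroup.addMonoidHom_ext _ ?_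
  refine DFunLike.ext _ _ fun z => ?_
  induction z using FreeAbelianGroup.induction_on with
  | zero => rw [map_zero, map_zero]
  | of x =>
    have h' := h x.1 x.2
    rw [clTr_of x.2] at h'
    exact h'
  | neg x hx => rw [map_neg, map_neg, hx]
  | add x y hx hy => rw [map_add, map_add, hx, hy]

end MapTr

variable {r : ℕ} {S : Scheme.{u}}

theorem isPerfect_zero (X : Scheme.{u}) : SGA6.perfP X 0 :=
  isPerfect_of_perfOn (perfOn_of_isZero (isZero_zero _))

theorem isQCohD_of_isPerfect {X : Scheme.{u}} {K : DCoh.D X} (h : DCoh.IsPerfect K) : DCoh.IsQCohD K :=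
  fun i => (isQCoh_HD_of_pseudoCoherent (((isPerfect_iff_pc K).1 h).1 (i - 1))).1 i (by omega)

/-- `K^•` of projective space over a scheme is free on the twists. -/
theorem kperf_proj_bijective
    [DCoh.HasLpull (KRR.pr r S)] [(DCoh.Lpull (KRR.pr r S)).CommShift ℤ] [(DCoh.Lpull (KRR.pr r S)).IsTriangulated]
    (hf : ∀ K : DCoh.D S, DCoh.IsPerfect K → DCoh.IsPerfect ((DCoh.Lpull (KRR.pr r S)).obj K))
    (ht : ∀ (i : ℕ) (K : DCoh.D (KRR.PY r S)), DCoh.IsPerfect K → DCoh.IsPerfect ((F r S (i : ℤ)).obj K)) :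
    Function.Bijective (fun x : Fin (r + 1) → SGA6.Kperf S =>
      ∑ i : Fin (r + 1), SGA6.mapTr (F r S ((i : ℕ) : ℤ)) (SGA6.perfP (KRR.PY r S)) (SGA6.perfP (KRR.PY r S)) (ht i)
        (SGA6.mapTr (DCoh.Lpull (KRR.pr r S)) (SGA6.perfP S) (SGA6.perfP (KRR.PY r S)) hf (x i))) := by
  classical
  haveI := BC.hasRpush (KRR.pr r S)
  haveI : SiteCmp.HasRpushD (ModSite.RMor.ofScheme (KRR.pr r S)) := ‹DCoh.HasRpush (KRR.pr r S)›
  obtain ⟨h₁, h₂⟩ := SiteCmpLib.exists_triangulated_rpushD (ModSite.RMor.ofScheme (KRR.pr r S))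
  letI : (DCoh.Rpush (KRR.pr r S)).CommShift ℤ := h₁
  haveI : (DCoh.Rpush (KRR.pr r S)).IsTriangulated := h₂
  let π := KRR.pr r S
  let P₀ := SGA6.perfP S
  let P₁ := SGA6.perfP (KRR.PY r S)
  let G : ℕ → DCoh.D (KRR.PY r S) ⥤ DCoh.D S := fun j => F r S (-(j : ℤ)) ⋙ DCoh.Rpush π
  have hG : ∀ (j : ℕ) K, P₁ K → P₀ ((G j).obj K) := fun j K hK => isPerfect_rpush_F r S _ K hK
  let Ψ : ℕ → SGA6.Kperf (KRR.PY r S) →+ SGA6.Kperf S := fun j =>
    SGA6.mapTr (F r S (-(j : ℤ)) ⋙ DCoh.Rpush π) P₁ P₀ (hG j)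
  let θ : ℕ → SGA6.Kperf S →+ SGA6.Kperf (KRR.PY r S) := fun i =>
    (SGA6.mapTr (F r S (i : ℤ)) P₁ P₁ (ht i)).comp (SGA6.mapTr (DCoh.Lpull π) P₀ P₁ hf)
  have hθ : ∀ (i : ℕ) K, P₀ K → θ i (KZero.clTr P₀ K) = KZero.clTr P₁ ((F r S (i : ℤ)).obj ((DCoh.Lpull π).obj K)) :=
    fun i K hK => by
      show SGA6.mapTr (F r S (i : ℤ)) P₁ P₁ (ht i) (SGA6.mapTr (DCoh.Lpull π) P₀ P₁ hf (KZero.clTr P₀ K)) = _
      rw [mapTr_clTr _ _ _ _ hK, mapTr_clTr _ _ _ _ (hf K hK)]
  have key : ∀ (j i : ℕ) (K : DCoh.D S), Nonempty ((G j).obj ((F r S (i : ℤ)).obj ((DCoh.Lpull π).obj K)) ≅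
      (DCoh.Rpush π).obj ((F r S ((i : ℤ) - j)).obj ((DCoh.Lpull π).obj K))) := fun j i K => by
    obtain ⟨e⟩ := nonempty_F_comp r S (show (i : ℤ) + -(j : ℤ) = i - j by ring)
    exact ⟨(DCoh.Rpush π).mapIso (e.app _)⟩
  have keyz : ∀ (j i : ℕ) (K : DCoh.D S), DCoh.IsQCohD K → i < j → j ≤ r →
      IsZero ((G j).obj ((F r S (i : ℤ)).obj ((DCoh.Lpull π).obj K))) := fun j i K hK hij hj => by
    obtain ⟨e⟩ := key j i K
    exact (isZero_rpush_F_lpull r S _ (by omega) (by omega) K hK).of_iso e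
  have hzero : ∀ j i : ℕ, i < j → j ≤ r → ∀ x, Ψ j (θ i x) = 0 := fun j i hij hj => by
    refine DFunLike.congr_fun (addHom_ext_clTr (f := (Ψ j).comp (θ i)) (g := 0) fun K hK => ?_)
    show Ψ j (θ i (KZero.clTr P₀ K)) = 0
    rw [hθ i K hK]
    exact (mapTr_clTr _ _ _ _ (ht i _ (hf K hK))).trans
      (clTr_isZero (keyz j i K (isQCohD_of_isPerfect hK) hij hj) (hG j _ (ht i _ (hf K hK))))
  have hdiag : ∀ i : ℕ, ∀ x, Ψ i (θ i x) = x := fun i => by
    refine DFunLike.congr_fun (addHom_ext_clTr (f := (Ψ i).comp (θ i)) (g := AddMonoidHom.id _) fun K hK => ?_)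
    show Ψ i (θ i (KZero.clTr P₀ K)) = KZero.clTr P₀ K
    rw [hθ i K hK]
    refine (mapTr_clTr _ _ _ _ (ht i _ (hf K hK))).trans ?_
    obtain ⟨e⟩ := key i i K
    obtain ⟨z⟩ := nonempty_F_zero r S
    haveI := isIso_unit r S K (isQCohD_of_isPerfect hK)
    exact clTr_iso (isPerfect_zero S)
      (asIso ((lpullRpushAdj π).unit.app K) ≪≫ (DCoh.Rpush π).mapIso ((z.app _).symm ≪≫
        eqToIso (by rw [sub_self])) ≪≫ e.symm) hK (hG i _ (ht i _ (hf K hK)))
  let Θ : (Fin (r + 1) → SGA6.Kperf S) →+ SGA6.Kperf (KRR.PY r S) :=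
    ∑ i : Fin (r + 1), (θ i).comp (Pi.evalAddMonoidHom (fun _ => SGA6.Kperf S) i)
  have hΘ : ∀ x, Θ x = ∑ i : Fin (r + 1), θ i (x i) := fun x => by
    simp [Θ, AddMonoidHom.finsetSum_apply]
  suffices h : Function.Bijective Θ by
    refine (funext fun x => ?_ : (fun x => ∑ i : Fin (r + 1), θ i (x i)) = Θ) ▸ h
    exact (hΘ x).symm
  constructor
  · refine (injective_iff_map_eq_zero Θ).2 fun x hx => ?_
    suffices h : ∀ (k : ℕ) (i : Fin (r + 1)), r ≤ i.1 + k → x i = 0 from
      funext fun i => h r i (by omega)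
    intro k
    induction k with
    | zero => ?_
    | succ k ih => ?_
    all_goals
      intro i hi
      have := congrArg (Ψ i.1) ((hΘ x).symm.trans hx)
      rw [map_sum, map_zero, Finset.sum_eq_single i] at this
      · rwa [hdiag] at this
      · intro l _ hl
        rcases lt_or_gt_of_ne (Fin.val_ne_of_ne hl) with h | h
        · exact hzero _ _ h (by omega) _
        · first
            | omega
            | rw [ih l (by omega), map_zero, map_zero]
      · exact fun h => absurd (Finset.mem_univ i) h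
  · intro y
    suffices h : ∀ k : ℕ, k ≤ r + 1 → ∀ C, DCoh.IsPerfect C →
        (∀ j : ℕ, k ≤ j → j ≤ r → IsZero ((G j).obj C)) → KZero.clTr P₁ C ∈ Θ.range by
      have : (⊤ : AddSubgroup (SGA6.Kperf (KRR.PY r S))) ≤ Θ.range := fun z hz => by
        clear hz
        induction z using QuotientAddGroup.induction_on with
        | H z =>
          induction z using FreeAbelianGroup.induction_on with
          | zero => exact zero_mem _
          | of C =>
            have h' := h (r + 1) le_rfl C.1 C.2 fun j hj hj' => absurd hj' (by omega)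
            rw [clTr_of C.2] at h'
            exact h'
          | neg C hC => exact neg_mem hC
          | add a b ha hb => exact add_mem ha hb
      exact this (AddSubgroup.mem_top y)
    intro k
    induction k with
    | zero =>
      intro _ C hC hz
      rw [clTr_isZero (isZero_of_window r S C (isQCohD_of_isPerfect hC) fun j hj => hz j (Nat.zero_le _) hj) hC]
      exact zero_mem _
    | succ k ih =>
      intro hk C hC hz
      let M := (G k).obj C
      have hM : P₀ M := hG k C hC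
      let E := (F r S (k : ℤ)).obj ((DCoh.Lpull π).obj M)
      have hE : P₁ E := ht k _ (hf M hM)
      obtain ⟨c⟩ := nonempty_F_comp r S (neg_add_cancel (k : ℤ))
      obtain ⟨c'⟩ := nonempty_F_comp r S (add_neg_cancel (k : ℤ))
      obtain ⟨z⟩ := nonempty_F_zero r S
      let adj := lpullRpushAdj π
      let C' := (F r S (-(k : ℤ))).obj C
      let ε := adj.counit.app C'
      let φ : E ⟶ C := (F r S (k : ℤ)).map ε ≫ (c ≪≫ z).hom.app C
      obtain ⟨Q, b, d, hT⟩ := distinguished_cocone_triangle φ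
      have hQ : P₁ Q := isPerfect_obj₃ _ hT hE hC
      have hε : IsIso ((DCoh.Rpush π).map ε) := by
        haveI : IsIso (adj.unit.app ((DCoh.Rpush π).obj C')) := isIso_unit r S _ (isQCohD_of_isPerfect hM)
        haveI : IsIso (adj.unit.app ((DCoh.Rpush π).obj C') ≫ (DCoh.Rpush π).map ε) := by
          erw [adj.right_triangle_components]
          exact inferInstanceAs (IsIso (𝟙 _))
        exact IsIso.of_isIso_comp_left (adj.unit.app ((DCoh.Rpush π).obj C')) _
      have hk0 : IsIso ((G k).map φ) := by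
        haveI := hε
        haveI : IsIso ((DCoh.Rpush π).map ((F r S (k : ℤ) ⋙ F r S (-(k : ℤ))).map ε)) :=
          (NatIso.isIso_map_iff (Functor.isoWhiskerRight (c' ≪≫ z) (DCoh.Rpush π)) ε).2 hε
        show IsIso ((DCoh.Rpush π).map ((F r S (-(k : ℤ))).map ((F r S (k : ℤ)).map ε ≫ (c ≪≫ z).hom.app C)))
        rw [Functor.map_comp, Functor.map_comp]
        haveI : IsIso ((DCoh.Rpush π).map ((F r S (-(k : ℤ))).map ((F r S (k : ℤ)).map ε))) := by assumption
        infer_instance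
      have hzQ : ∀ j : ℕ, k ≤ j → j ≤ r → IsZero ((G j).obj Q) := fun j hj hj' => by
        have hT' := (G j).map_distinguished _ hT
        rcases eq_or_lt_of_le hj with rfl | hlt
        · exact Triangle.isZero₃_of_isIso₁ _ hT' hk0
        · exact Triangle.isZero₃_of_isIso₁ _ hT' (IsZero.isIso
            (keyz j k M (isQCohD_of_isPerfect hM) hlt hj') (hz j hlt hj') _)
      have hsum : KZero.clTr P₁ C = KZero.clTr P₁ E + KZero.clTr P₁ Q := clTr_add (Q := P₁) _ hT hE hC hQ
      rw [hsum]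
      refine add_mem ⟨Pi.single (⟨k, by omega⟩ : Fin (r + 1)) (KZero.clTr P₀ M), ?_⟩ (ih (by omega) Q hQ hzQ)
      rw [hΘ, Finset.sum_eq_single (⟨k, by omega⟩ : Fin (r + 1))]
      · rw [Pi.single_eq_same, hθ k M hM]
      · intro l _ hl
        rw [Pi.single_eq_of_ne hl, map_zero]
      · exact fun h => absurd (Finset.mem_univ _) h

end Groth.Agent.DCohMore.TwistOver
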