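import Groth.Agent.DCohMore.KoszulUnit
import Groth.Agent.DCohMore.ApproxAffine
import Groth.Agent.DCohMore.AffinePushPC

/-! Morphisms from the structure sheaf factor through Koszul complexes on powers. -/

set_option autoImplicit false
set_option linter.style.haveILetI false
set_option backward.isDefEq.respectTransparency false

universe u

open CategoryTheory Limits AlgebraicGeometry Pretriangulated ZeroObject
attribute [local instance] HasDerivedCategory.standard

noncomputable section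

namespace Groth.Agent.DCohMore

open Groth.Agent.DRingLib Groth.Agent.DCohLib

variable {A : Type u} [CommRing A]

/-- The second map of the Koszul triangle. -/
def kosInr (f : A) (l : List A) : kosD l ⟶ kosD (f :: l) :=
  DerivedCategory.Q.map (CochainComplex.mappingCone.inr (f • 𝟙 (Koszul.koszul A l)))

theorem kosInr_triangle (f : A) (l : List A) :
    ∃ d : kosD (f :: l) ⟶ (kosD l)⟦(1 : ℤ)⟧, Triangle.mk (f • 𝟙 (kosD l)) (kosInr f l) d ∈ distTriang _ := by
  let T := DerivedCategory.Q.mapTriangle.obj (CochainComplex.mappingCone.triangle (f • 𝟙 (Koszul.koszul A l)))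
  refine ⟨T.mor₃, ?_⟩
  have e : DerivedCategory.Q.map (f • 𝟙 (Koszul.koszul A l)) = f • 𝟙 (kosD l) := by
    rw [Functor.map_smul, CategoryTheory.Functor.map_id]
  rw [← e]
  exact DerivedCategory.mappingCone_triangle_distinguished (f • 𝟙 (Koszul.koszul A l))

/-- The unit of a Koszul object. -/
def unitK : ∀ l : List A, kosD ([] : List A) ⟶ kosD l
  | [] => 𝟙 _
  | f :: l => unitK l ≫ kosInr f l

theorem exists_trans (l : List A) (e e' : ℕ) (he : e ≤ e') :
    ∃ c : kosD (l.map (· ^ e')) ⟶ kosD (l.map (· ^ e)),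
      unitK (l.map (· ^ e')) ≫ c = unitK (l.map (· ^ e)) := by
  induction l with
  | nil => exact ⟨𝟙 _, Category.comp_id _⟩
  | cons f l ih =>
    obtain ⟨c, hc⟩ := ih
    obtain ⟨d', h'⟩ := kosInr_triangle (f ^ e') (l.map (· ^ e'))
    obtain ⟨d, h⟩ := kosInr_triangle (f ^ e) (l.map (· ^ e))
    obtain ⟨k, rfl⟩ := Nat.exists_eq_add_of_le he
    obtain ⟨c', hc', -⟩ := complete_distinguished_triangle_morphism _ _ h' h (f ^ k • c) c (by
      show (f ^ (e + k) • 𝟙 _) ≫ c = (f ^ k • c) ≫ (f ^ e • 𝟙 _)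
      rw [Linear.smul_comp, Category.id_comp, Linear.smul_comp, Linear.comp_smul, Category.comp_id, smul_smul]
      congr 1
      ring)
    refine ⟨c', ?_⟩
    show (unitK (l.map (· ^ (e + k))) ≫ kosInr _ _) ≫ c' = unitK (l.map (· ^ e)) ≫ kosInr _ _
    rw [Category.assoc, ← hc, Category.assoc]
    exact congrArg (unitK _ ≫ ·) hc'

set_option maxHeartbeats 800000 in
theorem exists_kos_factor : ∀ (l : List A) (M : Dual.D A),
    (∀ f ∈ l, ∀ i : ℤ, -(l.length : ℤ) < i → i ≤ 0 → ∀ x : (hdA A i).obj M, ∃ n : ℕ, f ^ n • x = 0) →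
      ∀ s : kosD ([] : List A) ⟶ M,
        ∃ (e : ℕ) (ψ : kosD (l.map (· ^ e)) ⟶ M), unitK (l.map (· ^ e)) ≫ ψ = s := by
  intro l
  induction l with
  | nil => exact fun M _ s => ⟨0, s, Category.id_comp s⟩
  | cons f l ih =>
    intro M hM s
    obtain ⟨e₁, ψ₁, h₁⟩ := ih M (fun g hg i hi hi0 => hM g (List.mem_cons_of_mem _ hg) i
      (by simp only [List.length_cons]; push_cast; omega) hi0) s
    obtain ⟨hP, hA1, hL, -, -⟩ := kos_props (l.map (· ^ e₁))
    rw [List.length_map] at hL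
    let t := stdT A
    haveI : t.IsLE (kosD (l.map (· ^ e₁))) 0 :=
      (DerivedCategory.isLE_iff _ _).2 fun i hi => hA1 i (by omega)
    let N := (t.truncLT 1).obj M
    have h0 : ψ₁ ≫ (t.truncGEπ 1).app M = 0 :=
      haveI : t.IsGE ((t.truncGE 1).obj M) 1 := inferInstance
      t.zero _ 0 1 (by omega)
    obtain ⟨ψ', hψ'⟩ := Triangle.coyoneda_exact₂ _ (t.triangleLTGE_distinguished 1 M) ψ₁ h0
    have hN : TorsGE [f] (-(l.length : ℤ)) N := fun g hg i hi x => by
      rw [List.mem_singleton.1 hg]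
      rcases lt_or_ge i 1 with h | h
      · haveI := DCohLib.isIso_homology_truncLTι M 1 i h
        let e := asIso ((DerivedCategory.homologyFunctor (ModuleCat.{u} A) i).map ((t.truncLTι 1).app M))
        obtain ⟨n, hn⟩ := hM f (List.mem_cons_self ..) i
          (by simp only [List.length_cons]; push_cast; omega) (by omega) (e.hom x)
        exact ⟨n, e.toLinearEquiv.injective ((map_smul e.hom.hom _ x).trans (hn.trans (map_zero e.hom.hom).symm))⟩
      · haveI : N.IsLE 0 := t.isLE_truncLT_obj M 1 _ (by omega)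
        haveI := ModuleCat.subsingleton_of_isZero (DerivedCategory.isZero_of_isLE N 0 i (by omega))
        exact ⟨0, Subsingleton.elim _ _⟩
    obtain ⟨n, hn⟩ := killed_of_perf f hP _ (tors_truncGE hN) (ψ' ≫ (t.truncGEπ (-(l.length : ℤ))).app N)
    obtain ⟨θ, hθ⟩ := Triangle.coyoneda_exact₂ _ (t.triangleLTGE_distinguished (-(l.length : ℤ)) N) (f ^ n • ψ')
      ((Linear.smul_comp _ _ _ (f ^ n) ψ' _).trans hn)
    have hθ0 : θ = 0 := hL _ (fun i hi => by
      haveI : ((t.truncLT (-(l.length : ℤ))).obj N).IsLE (-(l.length : ℤ) - 1) :=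
        t.isLE_truncLT_obj N _ _ (by omega)
      exact DerivedCategory.isZero_of_isLE _ (-(l.length : ℤ) - 1) i (by omega)) θ
    have hkill : f ^ n • ψ₁ = 0 := by
      rw [hψ', ← Linear.smul_comp, hθ, hθ0]
      simp
    obtain ⟨c, hc⟩ := exists_trans l e₁ (max e₁ n) (le_max_left _ _)
    obtain ⟨d, hQ⟩ := kosInr_triangle (f ^ max e₁ n) (l.map (· ^ max e₁ n))
    obtain ⟨ψ, hψ⟩ := Triangle.yoneda_exact₂ _ hQ (c ≫ ψ₁) (by
      obtain ⟨k, hk⟩ := Nat.exists_eq_add_of_le (le_max_right e₁ n)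
      show (f ^ max e₁ n • 𝟙 _) ≫ c ≫ ψ₁ = 0
      have h2 : f ^ max e₁ n • (c ≫ ψ₁) = 0 := by
        have h3 : f ^ max e₁ n = f ^ k * f ^ n := by rw [hk, pow_add, mul_comm]
        rw [← Linear.comp_smul, h3, ← smul_smul, hkill, smul_zero, comp_zero]
      exact ((Linear.smul_comp _ _ _ _ _ _).trans (congrArg _ (Category.id_comp _))).trans h2)
    refine ⟨max e₁ n, ψ, ?_⟩
    show (unitK _ ≫ kosInr _ _) ≫ ψ = s
    rw [Category.assoc, ← h₁, ← hc, Category.assoc]
    exact congrArg (unitK _ ≫ ·) hψ.symm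

variable [PreservesFiniteLimits (tilde.functor (CommRingCat.of A))]

theorem exists_kos_factor_sheaf (fs : List A) (E : DCoh.D (Spec (CommRingCat.of A))) (hE : DCoh.IsQCohD E)
    (hU : ∀ i : ℤ, -(fs.length : ℤ) < i → i ≤ 0 → IsZero ((DCoh.HD E i).restrict (gOpen fs).ι))
    (s : DCoh.inD (Spec (CommRingCat.of A)) (Coh.structureModule (Spec (CommRingCat.of A))) ⟶ E) :
    ∃ (e : ℕ) (ψ : (DCoh.tildeD (CommRingCat.of A)).obj (kosD (fs.map (· ^ e))) ⟶ E)
      (t : DCoh.inD (Spec (CommRingCat.of A)) (Coh.structureModule (Spec (CommRingCat.of A))) ⟶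
        (DCoh.tildeD (CommRingCat.of A)).obj (kosD (fs.map (· ^ e)))), t ≫ ψ = s := by
  obtain ⟨M, ⟨eM⟩⟩ := ((TildeD.main (CommRingCat.of A)).2.2 _).1 hE
  let T := DCoh.tildeD (CommRingCat.of A)
  haveI : PreservesColimitsOfSize.{0, 0} (tilde.functor (CommRingCat.of A)) :=
    (tilde.adjunction (R := CommRingCat.of A)).leftAdjoint_preservesColimits
  haveI : PreservesBinaryBiproducts (tilde.functor (CommRingCat.of A)) := preservesBinaryBiproducts_of_preservesBinaryCoproducts _
  haveI : (tilde.functor (CommRingCat.of A)).Additive := Functor.additive_of_preservesBinaryBiproducts _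
  haveI : T.Full := (TildeD.main (CommRingCat.of A)).1
  let eO : DCoh.inD (Spec (CommRingCat.of A)) (Coh.structureModule (Spec (CommRingCat.of A))) ≅
      T.obj (kosD ([] : List A)) :=
    (DerivedCategory.singleFunctor (Spec (CommRingCat.of A)).Modules 0).mapIso tildeSelf.symm ≪≫
      (((tilde.functor (CommRingCat.of A)).mapDerivedCategorySingleFunctor 0).app _).symm ≪≫
      T.mapIso (singleQZeroIso (ModuleCat.of A A)).symm
  obtain ⟨e, ψ, hψ⟩ := exists_kos_factor fs M (fun f hf i hi hi0 x => by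
    refine (tors_module_iff fs ((hdA A i).obj M)).2 (fun p hp => (subsingleton_stalk_HD_tilde M i p).1 ?_) f hf x
    refine (((stkF p).mapIso ((DerivedCategory.homologyFunctor _ i).mapIso eM))).toLinearEquiv.toEquiv.subsingleton_congr.2 ?_
    exact ((Scheme.Modules.restrictStalkNatIso (gOpen fs).ι ⟨p, hp⟩).app _).addCommGroupIsoToAddEquiv.toEquiv.subsingleton_congr.1
      (subsingleton_stalk_of_isZero (hU i hi hi0) _)) (T.preimage (eO.inv ≫ s ≫ eM.inv))
  refine ⟨e, T.map ψ ≫ eM.hom, eO.hom ≫ T.map (unitK _), ?_⟩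
  rw [Category.assoc, ← Functor.map_comp_assoc, hψ, Functor.map_preimage]
  simp

end Groth.Agent.DCohMore
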