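import Groth.Agent.CMRegLib.Koszul
import Groth.Agent.DCohMore.TwistProj

/-!
# The Koszul complex of twisting sheaves on projective space
-/

set_option autoImplicit false
set_option linter.style.haveILetI false
set_option linter.unusedSectionVars false
set_option backward.isDefEq.respectTransparency false

universe u

open CategoryTheory CategoryTheory.Limits AlgebraicGeometry TopologicalSpace CochainComplex
open Groth.Agent.CMRegLib

noncomputable section

namespace Groth.Agent.DCohMore.TwistFam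

variable {X : Scheme.{u}} {ι : Type}

/-- A sum of two sums of copies. -/
def sumCopiesIso (F : X.Modules) (a b : ℕ) :
    (∐ fun _ : Fin a => F) ⊞ (∐ fun _ : Fin b => F) ≅ ∐ fun _ : Fin (a + b) => F where
  hom := biprod.desc (Sigma.desc fun i => Sigma.ι (fun _ : Fin (a + b) => F) (Fin.castAdd b i))
    (Sigma.desc fun i => Sigma.ι (fun _ : Fin (a + b) => F) (Fin.natAdd a i))
  inv := Sigma.desc fun i => Fin.addCases (motive := fun _ => F ⟶ _)
    (fun i => Sigma.ι (fun _ : Fin a => F) i ≫ biprod.inl) (fun i => Sigma.ι (fun _ : Fin b => F) i ≫ biprod.inr) i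
  hom_inv_id := by
    refine biprod.hom_ext' _ _ ?_ ?_ <;> refine Sigma.hom_ext _ _ fun i => ?_ <;> simp
  inv_hom_id := by
    refine Sigma.hom_ext _ _ fun i => ?_
    induction i using Fin.addCases <;> simp

/-- The terms of the Koszul stage. -/
theorem nonempty_stage_X (T : ProjCoh.MulData X ι) : ∀ (l : List ι) (d : ℤ) (k : ℕ),
    Nonempty (((stage T l).K d).X (-(k : ℤ)) ≅ ∐ fun _ : Fin (l.length.choose k) => T.F (d - k))
  | [], d, 0 => by
      refine ⟨?_⟩
      exact eqToIso (congrArg ((baseStage T).K d).X (by simp)) ≪≫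
        HomologicalComplex.singleObjXSelf (ComplexShape.up ℤ) 0 (T.F d) ≪≫
        eqToIso (congrArg T.F (show d = d - ((0 : ℕ) : ℤ) by simp)) ≪≫
        (coproductUniqueIso fun _ : Fin 1 => T.F (d - ((0 : ℕ) : ℤ))).symm
  | [], d, k + 1 => by
      refine ⟨(HomologicalComplex.isZero_single_obj_X (ComplexShape.up ℤ) 0 (T.F d) (-((k + 1 : ℕ) : ℤ)) (by omega)).iso ?_⟩
      rw [IsZero.iff_id_eq_zero]
      exact Sigma.hom_ext _ _ fun i => i.elim0
  | a :: l, d, k => by
      let S := stage T l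
      obtain ⟨e₂⟩ := nonempty_stage_X T l d k
      let c : ((stage T (a :: l)).K d).X (-(k : ℤ)) ≅ (S.K (d - 1)).X (-(k : ℤ) + 1) ⊞ (S.K d).X (-(k : ℤ)) :=
        coneXIso _ _
      cases k with
      | zero =>
        refine ⟨c ≪≫ (isoZeroBiprod (S.pos (d - 1) _ (by simp))).symm ≪≫ e₂ ≪≫ ?_⟩
        exact Sigma.whiskerEquiv (f := fun _ : Fin (l.length.choose 0) => T.F (d - ((0 : ℕ) : ℤ)))
          (g := fun _ : Fin ((a :: l).length.choose 0) => T.F (d - ((0 : ℕ) : ℤ)))
          (finCongr (by rw [Nat.choose_zero_right, Nat.choose_zero_right])) fun _ => Iso.refl _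
      | succ k =>
        obtain ⟨e₁⟩ := nonempty_stage_X T l (d - 1) k
        refine ⟨c ≪≫ biprod.mapIso (eqToIso (congrArg (S.K (d - 1)).X (by push_cast; ring)) ≪≫ e₁ ≪≫
          eqToIso (by rw [show d - 1 - (k : ℤ) = d - ((k + 1 : ℕ) : ℤ) by push_cast; ring])) e₂ ≪≫
          sumCopiesIso (T.F (d - ((k + 1 : ℕ) : ℤ))) _ _⟩

/-- The exact Koszul complex of twisting sheaves. -/
theorem exists_koszul_twist (n : ℕ) (A : Type u) [CommRing A] (a : ℤ) :
    ∃ C : CochainComplex (CohB1.ProjSpace n A).Modules ℤ, (∀ i : ℤ, C.ExactAt i) ∧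
      (∀ i : ℕ, i ≤ n + 1 → Nonempty (C.X (i : ℤ) ≅ ∐ fun _ : Fin (Nat.choose (n + 1) i) => Twist.twistProjSpace n A (a + i))) ∧
      (∀ i : ℤ, i < 0 ∨ (n : ℤ) + 1 < i → IsZero (C.X i)) := by
  let T := projMul n A
  let l := List.finRange (n + 1)
  let d : ℤ := a + (n + 1 : ℕ)
  let K := (stage T l).K d
  have hK : ∀ j, K.ExactAt j := acyclic_stage T l (fun i => List.mem_finRange i) d
  have hl : l.length = n + 1 := List.length_finRange
  let m : ℤ := -((n + 1 : ℕ) : ℤ)
  refine ⟨K⟦m⟧, fun i => (HomologicalComplex.exactAt_iff _ _).2 (ShortComplex.exact_of_iso ((CochainComplex.shiftShortComplexFunctorIso _ m i (m + i) rfl).app K).symm ((HomologicalComplex.exactAt_iff _ _).1 (hK (m + i)))), fun i hi => ?_, fun i hi => ?_⟩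
  · obtain ⟨k, hk⟩ : ∃ k : ℕ, k + i = n + 1 := ⟨n + 1 - i, by omega⟩
    obtain ⟨e⟩ := nonempty_stage_X T l d k
    refine ⟨eqToIso (congrArg K.X (show (i : ℤ) + m = -(k : ℤ) by omega)) ≪≫ e ≪≫ eqToIso ?_⟩
    rw [hl, ← Nat.choose_symm hi, show n + 1 - i = k by omega,
      show d - (k : ℤ) = a + i by simp only [d]; omega]
    rfl
  · rcases hi with hi | hi
    · obtain ⟨k, hk⟩ : ∃ k : ℕ, i + m = -(k : ℤ) := ⟨(-(i + m)).toNat, by omega⟩
      obtain ⟨e⟩ := nonempty_stage_X T l d k
      show IsZero (K.X (i + m))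
      rw [hk]
      refine IsZero.of_iso ?_ e
      rw [Nat.choose_eq_zero_of_lt (show l.length < k by omega), IsZero.iff_id_eq_zero]
      exact Sigma.hom_ext _ _ fun j => j.elim0
    · exact (stage T l).pos d (i + m) (by simp only [m]; omega)

end Groth.Agent.DCohMore.TwistFam
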