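import Groth.Agent.DCohMore.DescFPPF
import Groth.Agent.DCohLib.FreeInd
import Groth.Agent.DCohLib.LocFreeCx
import Groth.Agent.DCohLib.ProjClosed
import Groth.Agent.DCohLib.OpenD
import Groth.Agent.DCohLib.SuppOpen

/-!
# Pseudo-coherence and direct images along closed immersions
-/

set_option autoImplicit false
set_option linter.style.haveILetI false
set_option linter.unusedSectionVars false
set_option maxHeartbeats 1000000
set_option backward.isDefEq.respectTransparency false

universe u

open CategoryTheory CategoryTheory.Limits AlgebraicGeometry TopologicalSpace Opposite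
open CategoryTheory.Pretriangulated

attribute [local instance] HasDerivedCategory.standard

noncomputable section

namespace Groth.Agent.DCohMore.ClosedPush

open Groth.Agent.DCohLib

variable {Z X : Scheme.{u}} (i : Z ⟶ X) [IsClosedImmersion i]

/-- The termwise direct image. -/
abbrev pushD : DCoh.D Z ⥤ DCoh.D X := (Scheme.Modules.pushforward i).mapDerivedCategory

theorem nonempty_pushD_rpush [DCoh.HasRpush i] (K : DCoh.D Z) :
    Nonempty ((pushD i).obj K ≅ (DCoh.Rpush i).obj K) := by
  obtain ⟨a⟩ := nonempty_rpushIso i (DerivedCategory.Q.objPreimage K)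
  exact ⟨(pushD i).mapIso (DerivedCategory.Q.objObjPreimageIso K).symm ≪≫
    (Scheme.Modules.pushforward i).mapDerivedCategoryFactors.app _ ≪≫ a.symm ≪≫
    (DCoh.Rpush i).mapIso (DerivedCategory.Q.objObjPreimageIso K)⟩

theorem isClosedImmersion_restrict (U : X.Opens) : IsClosedImmersion (i ∣_ U) :=
  MorphismProperty.of_isPullback (P := @IsClosedImmersion) (isPullback_morphismRestrict i U).flip ‹_›

/-- The direct image commutes with restriction. -/
theorem nonempty_restrict_pushD (U : X.Opens) (K : DCoh.D Z) [IsClosedImmersion (i ∣_ U)] :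
    Nonempty ((DCoh.restrictD U.ι).obj ((pushD i).obj K) ≅
      (pushD (i ∣_ U)).obj ((DCoh.restrictD (i ⁻¹ᵁ U).ι).obj K)) := by
  haveI : DCoh.HasRpush i := Groth.Agent.KInj.hasRightDerivedFunctor (hres_modules _) _
  haveI : DCoh.HasRpush (i ∣_ U) := Groth.Agent.KInj.hasRightDerivedFunctor (hres_modules _) _
  obtain ⟨r⟩ := nonempty_restrictD_rpush i U
  obtain ⟨a⟩ := nonempty_pushD_rpush i K
  obtain ⟨b⟩ := nonempty_pushD_rpush (i ∣_ U) ((DCoh.restrictD (i ⁻¹ᵁ U).ι).obj K)
  exact ⟨(DCoh.restrictD U.ι).mapIso a ≪≫ r.app K ≪≫ b.symm⟩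

theorem aboveZero_pushD {m : ℤ} {K : DCoh.D Z} (h : AboveZero m K) : AboveZero m ((pushD i).obj K) :=
  fun q hq => ((Scheme.Modules.pushforward i).map_isZero (h q hq)).of_iso
    ((TildeD.nu (Scheme.Modules.pushforward i) q).app K)

theorem isPC_of_aboveZero {Y : Scheme.{u}} {m : ℤ} {K : DCoh.D Y} (h : AboveZero m K) :
    DCoh.IsPseudoCoherentD m K :=
  (isPseudoCoherentD_iff m K).2 fun _ => ⟨⊤, trivial, pcOn_of_aboveZero (h.restrict _)⟩

/-- The direct image of the structure sheaf is pseudo-coherent. -/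
def PushO : Prop :=
  ∀ m : ℤ, DCoh.IsPseudoCoherentD m ((pushD i).obj (DCoh.inD Z (Coh.structureModule Z)))

theorem pushO_of (hO : ∀ m : ℤ, DCoh.IsPseudoCoherentD m
    (DCoh.inD X ((Scheme.Modules.pushforward i).obj (Coh.structureModule Z)))) : PushO i := fun m =>
  isPseudoCoherentD_iso
    (((Scheme.Modules.pushforward i).mapDerivedCategorySingleFunctor 0).app (Coh.structureModule Z)).symm (hO m)

theorem pushO_restrict (hO : PushO i) (U : X.Opens) [IsClosedImmersion (i ∣_ U)] : PushO (i ∣_ U) := fun m => by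
  obtain ⟨e⟩ := nonempty_restrict_pushD i U (DCoh.inD Z (Coh.structureModule Z))
  refine isPseudoCoherentD_iso (e ≪≫ (pushD (i ∣_ U)).mapIso ?_) (isPseudoCoherentD_restrict U.ι (hO m))
  exact ((Scheme.Modules.restrictFunctor (i ⁻¹ᵁ U).ι).mapDerivedCategorySingleFunctor 0).app _ ≪≫
    (DerivedCategory.singleFunctor ((i ⁻¹ᵁ U : Z.Opens) : Scheme.{u}).Modules 0).mapIso
      (restrictUnit (i ⁻¹ᵁ U).ι)

/-- An open of the source comes from an open of the target. -/
theorem exists_preimage_eq (V : Z.Opens) : ∃ U : X.Opens, i ⁻¹ᵁ U = V := by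
  obtain ⟨t, ht, he⟩ := i.isClosedEmbedding.isInducing.isOpen_iff.1 V.2
  exact ⟨⟨t, ht⟩, Opens.ext he⟩

theorem freeClosed_push (hO : PushO i) :
    FreeClosed (X := Z) fun E => ∀ m : ℤ, DCoh.IsPseudoCoherentD m ((pushD i).obj (DerivedCategory.Q.obj E)) where
  iso e h m := isPseudoCoherentD_iso ((pushD i).mapIso (DerivedCategory.Q.mapIso e)) (h m)
  zero E h m := by
    refine isPC_of_aboveZero (aboveZero_pushD i fun q _ => ?_)
    exact ((HomologicalComplex.exactAt_iff_isZero_homology _ _).1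
      (HomologicalComplex.ExactAt.of_isZero (h q))).of_iso
      ((DerivedCategory.homologyFunctorFactors _ q).app E)
  unit a m := by
    let e : DerivedCategory.Q.obj (shiftUnitCx Z a) ≅ (DCoh.inD Z (Coh.structureModule Z))⟦-a⟧ :=
      ((DerivedCategory.singleFunctorIsoCompQ Z.Modules a).app (Coh.structureModule Z)).symm ≪≫
        (((DerivedCategory.singleFunctors Z.Modules).shiftIso (-a) a 0 (by omega)).app _).symm
    exact isPseudoCoherentD_iso (((pushD i).commShiftIso (-a)).symm.app _ ≪≫ (pushD i).mapIso e.symm)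
      (isPseudoCoherentD_shift (hO (m - a)) (-a) (by omega))
  split S hS h₁ h₃ m := by
    have hse : S.ShortExact :=
      HomologicalComplex.shortExact_of_degreewise_shortExact S fun q => (hS q).shortExact
    exact isPseudoCoherentD_obj₂ _
      ((pushD i).map_distinguished _ (DerivedCategory.triangleOfSES_distinguished hse)) (h₁ m) (h₃ m)

/-- Off the image the direct image vanishes. -/
theorem isPC_off (K : DCoh.D Z) (U : X.Opens) (hU : ∀ z : Z, i z ∉ U) (m : ℤ) :
    DCoh.IsPseudoCoherentD m ((DCoh.restrictD U.ι).obj ((pushD i).obj K)) := by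
  haveI := isClosedImmersion_restrict i U
  obtain ⟨e⟩ := nonempty_restrict_pushD i U K
  refine isPseudoCoherentD_iso e.symm (isPC_of_aboveZero (aboveZero_pushD _ fun q _ => ?_))
  exact isZero_of_stalks fun y => absurd y.2 (hU y.1)

/-- Direct images of strictly perfect complexes are pseudo-coherent. -/
theorem isPC_push_strictlyPerfect (hO : PushO i) {E : CochainComplex Z.Modules ℤ}
    (hE : DCoh.IsStrictlyPerfect E) (m : ℤ) :
    DCoh.IsPseudoCoherentD m ((pushD i).obj (DerivedCategory.Q.obj E)) := by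
  refine isPseudoCoherentD_of_local fun x => ?_
  by_cases hx : x ∈ Set.range i.base
  · obtain ⟨z, rfl⟩ := hx
    obtain ⟨W, hz, hfree⟩ := exists_open_free hE z
    obtain ⟨U, rfl⟩ := exists_preimage_eq i W
    haveI := isClosedImmersion_restrict i U
    obtain ⟨a, b, hab⟩ := hE.1
    obtain ⟨e⟩ := nonempty_restrict_pushD i U (DerivedCategory.Q.obj E)
    refine ⟨U, U.ι, inferInstance, ⟨i z, hz⟩, rfl,
      isPseudoCoherentD_iso (e ≪≫ (pushD (i ∣_ U)).mapIso (restrictDQ (i ⁻¹ᵁ U).ι E)).symm ?_⟩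
    exact (freeClosed_push (i ∣_ U) (pushO_restrict i hO U)).of_free (a := a) (b := b)
      (fun q hq => isZero_resCx _ (hab q hq)) hfree m
  · let U : X.Opens := ⟨(Set.range i.base)ᶜ, i.isClosedEmbedding.isClosed_range.isOpen_compl⟩
    exact ⟨U, U.ι, inferInstance, ⟨x, hx⟩, rfl, isPC_off i _ U (fun z hz => hz ⟨z, rfl⟩) m⟩

/-- Direct images preserve pseudo-coherence. -/
theorem isPC_push (hO : PushO i) {E : DCoh.D Z} {m : ℤ} (hE : DCoh.IsPseudoCoherentD m E) :
    DCoh.IsPseudoCoherentD m ((pushD i).obj E) := by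
  refine isPseudoCoherentD_of_local fun x => ?_
  by_cases hx : x ∈ Set.range i.base
  · obtain ⟨z, rfl⟩ := hx
    obtain ⟨W, hz, hW⟩ := (isPseudoCoherentD_iff m E).1 hE z
    obtain ⟨U, rfl⟩ := exists_preimage_eq i W
    haveI := isClosedImmersion_restrict i U
    obtain ⟨G, α, hG, D, g, k, hT, hD⟩ := hW
    obtain ⟨e⟩ := nonempty_restrict_pushD i U E
    refine ⟨U, U.ι, inferInstance, ⟨i z, hz⟩, rfl, isPseudoCoherentD_iso e.symm ?_⟩
    exact isPseudoCoherentD_obj₂ _ ((pushD (i ∣_ U)).map_distinguished _ hT)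
      (isPC_push_strictlyPerfect (i ∣_ U) (pushO_restrict i hO U) hG m)
      (isPC_of_aboveZero (aboveZero_pushD _ hD))
  · let U : X.Opens := ⟨(Set.range i.base)ᶜ, i.isClosedEmbedding.isClosed_range.isOpen_compl⟩
    exact ⟨U, U.ι, inferInstance, ⟨x, hx⟩, rfl, isPC_off i _ U (fun z hz => hz ⟨z, rfl⟩) m⟩

/-- Finite type is preserved by inverse images. -/
theorem isFT_pullback {Y Y' : Scheme.{u}} (f : Y' ⟶ Y) {M : Y.Modules} (h : CohB1.IsFT M) :
    CohB1.IsFT ((Scheme.Modules.pullback f).obj M) := by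
  refine isFT_of_local_epi fun y => ?_
  obtain ⟨V, n, p, hy, hp⟩ := exists_free_epi h (f y)
  haveI := hp
  let f' := f ∣_ V
  haveI : PreservesColimitsOfSize.{u, u} (Scheme.Modules.pullback f') :=
    (Scheme.Modules.pullbackPushforwardAdjunction f').leftAdjoint_preservesColimits
  haveI : PreservesColimitsOfSize.{0, 0} (Scheme.Modules.pullback f') :=
    preservesColimitsOfSize_shrink.{0, u, 0, u} _
  let eP : (Scheme.Modules.pullback f').obj ((Scheme.Modules.restrictFunctor V.ι).obj M) ≅
      (Scheme.Modules.restrictFunctor (f ⁻¹ᵁ V).ι).obj ((Scheme.Modules.pullback f).obj M) :=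
    (Scheme.Modules.pullback f').mapIso ((Scheme.Modules.restrictFunctorIsoPullback V.ι).app M) ≪≫
      (Scheme.Modules.pullbackComp f' V.ι).app M ≪≫
      (Scheme.Modules.pullbackCongr (morphismRestrict_ι f V)).app M ≪≫
      ((Scheme.Modules.pullbackComp (f ⁻¹ᵁ V).ι f).app M).symm ≪≫
      ((Scheme.Modules.restrictFunctorIsoPullback (f ⁻¹ᵁ V).ι).app _).symm
  let e : (Scheme.Modules.pullback f').obj (FlatMod.freeMod (V : Scheme.{u}) n) ≅
      FlatMod.freeMod ((f ⁻¹ᵁ V : Y'.Opens) : Scheme.{u}) n :=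
    PreservesCoproduct.iso (Scheme.Modules.pullback f') _ ≪≫ Sigma.mapIso fun _ => pullStructureIso f'
  refine ⟨_, (f ⁻¹ᵁ V).ι, inferInstance, ⟨y, hy⟩, n,
    e.inv ≫ (Scheme.Modules.pullback f').map p ≫ eP.hom, rfl, ?_⟩
  exact epi_comp' inferInstance (epi_comp' inferInstance inferInstance)

/-- Pseudo-coherence is detected after direct image. -/
theorem pc_of_push_aux (m : ℤ) : ∀ (d : ℕ) {Z X : Scheme.{u}} (i : Z ⟶ X) [IsClosedImmersion i], PushO i →
    ∀ K : DCoh.D Z, AboveZero (m + d) K → DCoh.IsPseudoCoherentD m ((pushD i).obj K) →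
      DCoh.IsPseudoCoherentD m K := by
  intro d
  induction d with
  | zero => exact fun i _ _ K hK _ => isPC_of_aboveZero (by simpa using hK)
  | succ d ih =>
    intro Z X i _ hO K hK h
    have hK' : AboveZero (m + d + 1) K := hK.mono (by push_cast; omega)
    have hFT : CohB1.IsFT (DCoh.HD K (m + d)) := by
      have h1 : CohB1.IsFT ((Scheme.Modules.pushforward i).obj (DCoh.HD K (m + d))) :=
        Groth.Agent.TildePerf.isFT_of_iso ((TildeD.nu (Scheme.Modules.pushforward i) (m + d)).app K)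
          (isFT_top (isPseudoCoherentD_mono (by omega) h)
            fun q hq => aboveZero_pushD i hK' q (by omega))
      haveI := isIso_counit_closedImmersion i (DCoh.HD K (m + d))
      exact Groth.Agent.TildePerf.isFT_of_iso
        (asIso ((Scheme.Modules.pullbackPushforwardAdjunction i).counit.app (DCoh.HD K (m + d))))
        (isFT_pullback i h1)
    refine isPseudoCoherentD_of_local fun z => ?_
    obtain ⟨W, hz, T, hT, ⟨e₂⟩, h1, h3⟩ := exists_kill_top_sheaf K hK' hFT z
    obtain ⟨U, rfl⟩ := exists_preimage_eq i W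
    haveI := isClosedImmersion_restrict i U
    refine ⟨_, (i ⁻¹ᵁ U).ι, inferInstance, ⟨z, hz⟩, rfl, isPseudoCoherentD_iso e₂ ?_⟩
    obtain ⟨e⟩ := nonempty_restrict_pushD i U K
    have hl : DCoh.IsPseudoCoherentD m ((pushD (i ∣_ U)).obj T.obj₂) :=
      isPseudoCoherentD_iso (e ≪≫ (pushD (i ∣_ U)).mapIso e₂.symm) (isPseudoCoherentD_restrict U.ι h)
    exact isPseudoCoherentD_obj₂ T hT (((isPerfect_iff_pc _).1 h1).1 m)
      (ih (i ∣_ U) (pushO_restrict i hO U) T.obj₃ h3
        (isPseudoCoherentD_obj₃ _ ((pushD (i ∣_ U)).map_distinguished T hT)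
          (isPC_push _ (pushO_restrict i hO U) (((isPerfect_iff_pc _).1 h1).1 (m + 1))) hl))

theorem isZero_of_isZero_pushforward {M : Z.Modules}
    (h : IsZero ((Scheme.Modules.pushforward i).obj M)) : IsZero M := by
  haveI := isIso_counit_closedImmersion i M
  haveI : PreservesColimitsOfSize.{u, u} (Scheme.Modules.pullback i) :=
    (Scheme.Modules.pullbackPushforwardAdjunction i).leftAdjoint_preservesColimits
  exact ((Scheme.Modules.pullback i).map_isZero h).of_iso
    (asIso ((Scheme.Modules.pullbackPushforwardAdjunction i).counit.app M)).symm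

theorem aboveZero_of_pushD {m : ℤ} {K : DCoh.D Z} (h : AboveZero m ((pushD i).obj K)) : AboveZero m K :=
  fun q hq => isZero_of_isZero_pushforward i ((h q hq).of_iso ((TildeD.nu (Scheme.Modules.pushforward i) q).app K).symm)

/-- Pseudo-coherence along a closed immersion with pseudo-coherent structure sheaf. -/
theorem isPC_push_iff (hO : PushO i) (E : DCoh.D Z) (m : ℤ) :
    DCoh.IsPseudoCoherentD m E ↔ DCoh.IsPseudoCoherentD m ((pushD i).obj E) := by
  refine ⟨isPC_push i hO, fun h => isPseudoCoherentD_of_local fun z => ?_⟩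
  obtain ⟨U, n, hz, hn⟩ := exists_open_aboveZero h (i z)
  haveI := isClosedImmersion_restrict i U
  obtain ⟨e⟩ := nonempty_restrict_pushD i U E
  have hK := aboveZero_of_pushD (i ∣_ U) (hn.of_iso e.symm)
  exact ⟨_, (i ⁻¹ᵁ U).ι, inferInstance, ⟨z, hz⟩, rfl,
    pc_of_push_aux m (n - m).toNat (i ∣_ U) (pushO_restrict i hO U) _ (hK.mono (by omega))
      (isPseudoCoherentD_iso e (isPseudoCoherentD_restrict U.ι h))⟩

end Groth.Agent.DCohMore.ClosedPush
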