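import Groth.Agent.DCohMore.ProjLoc
import Groth.Agent.DCohLib.CompactD
import Groth.Agent.DCohLib.DualCx
import Groth.Agent.TildeD.TensorQCoh
import Groth.Agent.TildeD.QCohPull
import Groth.Agent.TildeD.Main

/-!
# The projection map is an isomorphism on objects with quasi-coherent cohomology
-/

set_option autoImplicit false
set_option linter.style.haveILetI false
set_option linter.unusedSectionVars false

universe u

open CategoryTheory CategoryTheory.Limits AlgebraicGeometry
open CategoryTheory.Pretriangulated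

attribute [local instance] HasDerivedCategory.standard

noncomputable section

namespace Groth.Agent.DCohMore

open Groth.Agent.DCohLib

variable {X Y : Scheme.{u}}

theorem preservesCoproduct_mapCx {A B : Type*} [Category A] [Category B] [Abelian A] [Abelian B] {κ : Type u}
    (G : A ⥤ B) [G.Additive] [HasColimitsOfShape (Discrete κ) A] [HasColimitsOfShape (Discrete κ) B]
    [PreservesColimitsOfShape (Discrete κ) G] :
    PreservesColimitsOfShape (Discrete κ) (G.mapHomologicalComplex (ComplexShape.up ℤ)) :=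
  HomologicalComplex.preservesColimitsOfShape_of_eval _ fun n => by
    haveI : PreservesColimitsOfShape (Discrete κ) (HomologicalComplex.eval A (ComplexShape.up ℤ) n ⋙ G) :=
      inferInstance
    exact this

theorem preservesCoproduct_tensor {κ : Type u} (A : CochainComplex X.Modules ℤ) :
    PreservesColimitsOfShape (Discrete κ) (DCoh.tensorCx.obj A) :=
  haveI : ∀ M : X.Modules, PreservesColimitsOfShape (Discrete κ) ((DCoh.tensorBi (X := X)).obj M) := fun M =>
    (Groth.Agent.ModTensor.preservesColimitsOfSize_tensorBi_obj X.sheaf M).preservesColimitsOfShape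
  KFlat.preservesColimitsOfShape_tot (DCoh.tensorBi (X := X)) A (Discrete κ)

theorem preservesColimitsOfSize_extZero (V : Y.Opens) : PreservesColimitsOfSize.{u, u} (CxOX.extZero V.ι) :=
  (CxOX.extZeroAdj V.ι).leftAdjoint_preservesColimits

theorem preservesColimitsOfSize_pullback (f : X ⟶ Y) : PreservesColimitsOfSize.{u, u} (Scheme.Modules.pullback f) :=
  (Scheme.Modules.pullbackPushforwardAdjunction f).leftAdjoint_preservesColimits

theorem preservesCoproduct_ext_tensor (V : Y.Opens) (A : CochainComplex Y.Modules ℤ) (κ : Type u) :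
    PreservesColimitsOfShape (Discrete κ) (extCx V ⋙ DCoh.tensorCx.obj A) :=
  haveI := preservesColimitsOfSize_extZero V
  haveI := preservesCoproduct_mapCx (κ := κ) (CxOX.extZero V.ι)
  haveI := preservesCoproduct_tensor (κ := κ) A
  comp_preservesColimitsOfShape _ _

/-- A functor on complexes preserving a coproduct, followed by localisation. -/
theorem nonempty_isColimit_comp_Q {A : Type*} [Category A] {κ : Type u} (G : A ⥤ CochainComplex X.Modules ℤ)
    (E : κ → A) [HasCoproduct E] [PreservesColimit (Discrete.functor E) G] :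
    Nonempty (IsColimit (Cofan.mk (f := fun k => DerivedCategory.Q.obj (G.obj (E k)))
      (DerivedCategory.Q.obj (G.obj (∐ E))) fun k => DerivedCategory.Q.map (G.map (Sigma.ι E k)))) := by
  obtain ⟨h⟩ := nonempty_isColimit_Q (fun k => DerivedCategory.Q.obj (G.obj (E k)))
    (isColimitCofanMkObjOfIsColimit G _ _ (coproductIsCoproduct E)) fun _ => Iso.refl _
  exact ⟨h.ofIsoColimit (Cofan.ext (Iso.refl _) fun k => by simp)⟩

theorem nonempty_isColimit_map {C D : Type*} [Category C] [Category D] {κ : Type*} {M : κ → C} {c : Cofan M}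
    (G : C ⥤ D) [PreservesColimit (Discrete.functor M) G] (hc : IsColimit c) :
    Nonempty (IsColimit (Cofan.mk (f := fun k => G.obj (M k)) (G.obj c.pt) fun k => G.map (c.inj k))) :=
  ⟨isColimitCofanMkObjOfIsColimit G M c.inj (hc.ofIsoColimit (Cofan.ext (Iso.refl _) fun k => Category.comp_id _))⟩

variable (f : X ⟶ Y) [DCoh.HasRpush f] (I : CochainComplex X.Modules ℤ) (V : Y.Opens)

theorem nonempty_isColimit_srcV {κ : Type u} (E : κ → CochainComplex (V : Scheme.{u}).Modules ℤ) :
    Nonempty (IsColimit (Cofan.mk (f := fun k => (srcV f I V).obj (E k)) ((srcV f I V).obj (∐ E))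
      fun k => (srcV f I V).map (Sigma.ι E k))) := by
  haveI := preservesCoproduct_ext_tensor V ((pfCx f).obj I) κ
  obtain ⟨h⟩ := nonempty_isColimit_comp_Q (extCx V ⋙ DCoh.tensorCx.obj ((pfCx f).obj I)) E
  haveI := hasCoproduct_D' fun k => DerivedCategory.Q.obj ((extCx V ⋙ DCoh.tensorCx.obj ((pfCx f).obj I)).obj (E k))
  haveI := preservesCoproduct_restrictD V
    (fun k => DerivedCategory.Q.obj ((extCx V ⋙ DCoh.tensorCx.obj ((pfCx f).obj I)).obj (E k)))
  exact nonempty_isColimit_map (DCoh.restrictD V.ι) h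

theorem isQCohD_tgt_restrict (hI : DCoh.IsQCohD (DerivedCategory.Q.obj I))
    (E : CochainComplex (V : Scheme.{u}).Modules ℤ) (hE : DCoh.IsKFlat E)
    (hEq : DCoh.IsQCohD (DerivedCategory.Q.obj E)) :
    DCoh.IsQCohD ((DCoh.restrictD (f ⁻¹ᵁ V).ι).obj
      (DerivedCategory.Q.obj ((DCoh.tensorCx.obj I).obj ((pullCx f).obj ((extCx V).obj E))))) := by
  haveI := hasLpull (f ∣_ V)
  let U := f ⁻¹ᵁ V
  let B := (resCx U.ι).obj ((pullCx f).obj ((extCx V).obj E))
  let A := (resCx U.ι).obj I
  have hB : DCoh.IsKFlat B := isKFlat_resCx U.ι (isKFlat_pullback f (isKFlat_extCx V hE))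
  let e₁ : B ≅ (pullCx (f ∣_ V)).obj E :=
    (NatIso.mapHomologicalComplex (pullResIso f V) (ComplexShape.up ℤ)).app ((extCx V).obj E) ≪≫
      (pullCx (f ∣_ V)).mapIso (extUnit V E).symm
  have hBq : DCoh.IsQCohD (DerivedCategory.Q.obj B) := TildeD.isQCohD_of_iso
    (lpullIsoK (f ∣_ V) E hE ≪≫ DerivedCategory.Q.mapIso e₁.symm) (TildeD.isQCohD_lpull (f ∣_ V) _ hEq)
  have hAq : DCoh.IsQCohD (DerivedCategory.Q.obj A) :=
    TildeD.isQCohD_of_iso (restrictDQ U.ι I) (TildeD.isQCohD_restrict _ _ hI)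
  have h := TildeD.isQCohD_lTensorCx B hBq (DerivedCategory.Q.obj A) hAq
  refine TildeD.isQCohD_of_iso ((lTensorQIso B hB).app A ≪≫ ?_ ≪≫ (restrictDQ U.ι _).symm) h
  exact DerivedCategory.Q.mapIso ((restrictTensorNat U.ι ((pullCx f).obj ((extCx V).obj E))).app I).symm

theorem nonempty_isColimit_tgtV [QuasiCompact f] [QuasiSeparated f] (hV : IsAffineOpen V)
    (hI : DCoh.IsQCohD (DerivedCategory.Q.obj I))
    {κ : Type u} (E : κ → CochainComplex (V : Scheme.{u}).Modules ℤ) (hE : ∀ k, DCoh.IsKFlat (E k))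
    (hEq : ∀ k, DCoh.IsQCohD (DerivedCategory.Q.obj (E k))) :
    Nonempty (IsColimit (Cofan.mk (f := fun k => (tgtV f I V).obj (E k)) ((tgtV f I V).obj (∐ E))
      fun k => (tgtV f I V).map (Sigma.ι E k))) := by
  let G := (extCx V ⋙ pullCx f) ⋙ DCoh.tensorCx.obj I
  haveI := preservesColimitsOfSize_extZero V
  haveI := preservesColimitsOfSize_pullback f
  haveI := preservesCoproduct_mapCx (κ := κ) (CxOX.extZero V.ι)
  haveI := preservesCoproduct_mapCx (κ := κ) (Scheme.Modules.pullback f)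
  haveI := preservesCoproduct_tensor (κ := κ) I
  haveI : PreservesColimitsOfShape (Discrete κ) G := comp_preservesColimitsOfShape _ _
  obtain ⟨h⟩ := nonempty_isColimit_comp_Q G E
  let M := fun k => DerivedCategory.Q.obj (G.obj (E k))
  haveI : IsAffine (V : Scheme.{u}) := hV
  haveI : DCoh.HasRpush (f ∣_ V) := Groth.Agent.KInj.hasRightDerivedFunctor (hres_modules _) _
  obtain ⟨eV⟩ := Groth.Agent.S6508.result f V
  haveI := hasCoproduct_D' M
  haveI := preservesCoproduct_restrictD (f ⁻¹ᵁ V) M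
  haveI := hasCoproduct_D' fun k => (DCoh.restrictD (f ⁻¹ᵁ V).ι).obj (M k)
  haveI := hasCoproduct_D' fun k => (DCoh.Rpush (f ∣_ V)).obj ((DCoh.restrictD (f ⁻¹ᵁ V).ι).obj (M k))
  haveI := isIso_sigmaComparison_rpush_affine (f ∣_ V) (fun k => (DCoh.restrictD (f ⁻¹ᵁ V).ι).obj (M k))
    fun k => isQCohD_tgt_restrict f I V hI (E k) (hE k) (hEq k)
  haveI : PreservesColimit (Discrete.functor fun k => (DCoh.restrictD (f ⁻¹ᵁ V).ι).obj (M k))
      (DCoh.Rpush (f ∣_ V)) := PreservesCoproduct.of_iso_comparison _ _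
  haveI : PreservesColimit (Discrete.functor ((DCoh.restrictD (f ⁻¹ᵁ V).ι).obj ∘ M)) (DCoh.Rpush (f ∣_ V)) :=
    inferInstanceAs (PreservesColimit (Discrete.functor fun k => (DCoh.restrictD (f ⁻¹ᵁ V).ι).obj (M k))
      (DCoh.Rpush (f ∣_ V)))
  haveI : PreservesColimit (Discrete.functor M ⋙ DCoh.restrictD (f ⁻¹ᵁ V).ι) (DCoh.Rpush (f ∣_ V)) :=
    preservesColimit_of_iso_diagram _ (Discrete.compNatIsoDiscrete M (DCoh.restrictD (f ⁻¹ᵁ V).ι)).symm
  haveI : PreservesColimit (Discrete.functor M) (DCoh.Rpush f ⋙ DCoh.restrictD V.ι) :=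
    preservesColimit_of_natIso _ eV.symm
  exact nonempty_isColimit_map (DCoh.Rpush f ⋙ DCoh.restrictD V.ι) h

/-- A derived functor preserves the coproducts that the functor on complexes preserves. -/
theorem preservesCoproduct_derK {Z : Scheme.{u}} {H : Type*} [Category H] {Ψ : CochainComplex Z.Modules ℤ ⥤ H}
    (hΨ : InvKFlat Ψ) {κ : Type u} (W : κ → DCoh.D Z)
    (hcol : ∀ E : κ → CochainComplex Z.Modules ℤ, (∀ k, DCoh.IsKFlat (E k)) →
      (∀ k, Nonempty (W k ≅ DerivedCategory.Q.obj (E k))) →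
      Nonempty (IsColimit (Cofan.mk (f := fun k => Ψ.obj (E k)) (Ψ.obj (∐ E)) fun k => Ψ.map (Sigma.ι E k)))) :
    PreservesColimit (Discrete.functor W) (derK hΨ) := by
  let F := fun k => (resX Z).obj (DerivedCategory.Q.objPreimage (W k))
  have hF : ∀ k, DCoh.IsKFlat (F k) := fun k => isKFlat_resX _
  let eM := fun k => (resXIso (W k)).symm
  let c₀ : Cofan F := Cofan.mk (∐ F) (Sigma.ι F)
  obtain ⟨hQ⟩ := nonempty_isColimit_Q W (coproductIsCoproduct F : IsColimit c₀) eM
  obtain ⟨hψ⟩ := hcol F hF fun k => ⟨eM k⟩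
  let e := fun k => (derK hΨ).mapIso (eM k) ≪≫ derKIso hΨ (F k) (hF k)
  let e₀ := derKIso hΨ (∐ F) (isKFlat_sigma F hF)
  refine preservesColimit_of_preserves_colimit_cocone hQ
    ((isColimitMapCoconeCofanMkEquiv (derK hΨ) _ _).symm (IsColimit.ofIsoColimit
      ((IsColimit.precomposeHomEquiv (Discrete.natIso fun ⟨k⟩ => e k) _).symm hψ) ?_))
  refine Cofan.ext e₀.symm fun k => ?_
  show ((e k).hom ≫ Ψ.map (Sigma.ι F k)) ≫ e₀.inv = (derK hΨ).map ((eM k).hom ≫ DerivedCategory.Q.map (Sigma.ι F k))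
  refine (Iso.comp_inv_eq e₀).2 ?_
  rw [Functor.map_comp, Category.assoc]
  refine Eq.trans ?_ (congrArg (_ ≫ ·) (derKIso_natural hΨ (Sigma.ι F k) (hF k) (isKFlat_sigma F hF)).symm)
  exact Category.assoc _ _ _

theorem preservesCoproduct_srcV {κ : Type u} (W : κ → DCoh.D (V : Scheme.{u})) :
    PreservesColimit (Discrete.functor W) (derK (invKFlat_srcV f I V)) :=
  preservesCoproduct_derK _ W fun E _ _ => nonempty_isColimit_srcV f I V E

theorem preservesCoproduct_tgtV [QuasiCompact f] [QuasiSeparated f] (hV : IsAffineOpen V)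
    (hI : DCoh.IsQCohD (DerivedCategory.Q.obj I)) {κ : Type u} (W : κ → DCoh.D (V : Scheme.{u}))
    (hW : ∀ k, DCoh.IsQCohD (W k)) : PreservesColimit (Discrete.functor W) (derK (invKFlat_tgtV f I V)) :=
  preservesCoproduct_derK _ W fun E hE he => nonempty_isColimit_tgtV f I V hV hI E hE fun k =>
    TildeD.isQCohD_of_iso (he k).some (hW k)

end Groth.Agent.DCohMore
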