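import Groth.Agent.DCohMore.TwistOver
import Groth.Agent.DCohMore.ProjPC
import Groth.Agent.DCohMore.BCMain
import Groth.Agent.DCohMore.RpushPerfFP
import Mathlib.CategoryTheory.Adjunction.Mates

/-!
# Direct images along projective space over a scheme
-/

set_option autoImplicit false
set_option linter.style.haveILetI false
set_option linter.unusedSectionVars false
set_option maxHeartbeats 1000000
set_option backward.isDefEq.respectTransparency false

universe u

open CategoryTheory CategoryTheory.Limits AlgebraicGeometry TopologicalSpace Opposite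
open CategoryTheory.Pretriangulated
open Groth.Agent.DCohLib

attribute [local instance] HasDerivedCategory.standard

noncomputable section

namespace Groth.Agent.DCohMore.TwistOver

variable (r : ℕ) (S : Scheme.{u})

local notation "P" => KRR.PY r S
local notation "π" => KRR.pr r S

instance smooth_pr : Smooth π := by
  haveI := ProjSmoothLib.smooth_toSpec r (ULift.{u} ℤ)
  exact MorphismProperty.pullback_snd _ _ inferInstance

instance isProper_pr : IsProper π :=
  haveI : IsProper (CohB1.ProjSpace.toSpec r (ULift.{u} ℤ)) := inferInstance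
  MorphismProperty.pullback_snd _ _ inferInstance

instance flat_pr : Flat π := inferInstance

/-- An isomorphism is detected on affine charts of the base. -/
theorem isZero_of_lpull_charts {Z : DCoh.D S}
    (h : ∀ (W : S.Opens) (hW : IsAffineOpen W) [DCoh.HasLpull hW.fromSpec],
      IsZero ((DCoh.Lpull hW.fromSpec).obj Z)) : IsZero Z := by
  refine isZero_of_isZero_HD fun i => isZero_of_local fun x => ?_
  obtain ⟨_, ⟨W : S.Opens, hW, rfl⟩, hx, -⟩ :=
    S.isBasis_affineOpens.exists_subset_of_mem_open (Set.mem_univ x) isOpen_univ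
  obtain ⟨y, hy⟩ : x ∈ Set.range hW.fromSpec := by rw [hW.range_fromSpec]; exact hx
  haveI := hasLpull hW.fromSpec
  exact ⟨_, hW.fromSpec, inferInstance, y, hy,
    (((DerivedCategory.homologyFunctor _ i).map_isZero
      ((h W hW).of_iso ((lpullRestrictNatIso hW.fromSpec).app Z).symm))).of_iso
      (DCohLib.restrictHDIso hW.fromSpec Z i).symm⟩

variable [DCoh.HasRpush (KRR.pr r S)] [DCoh.HasLpull (KRR.pr r S)]

/-- Base change to affine charts, compatibly with the units. -/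
theorem exists_bc_chart {A : Type u} [CommRing A] (g : Spec (CommRingCat.of A) ⟶ S)
    (g' : CohB1.ProjSpace r A ⟶ P) (hsq : IsPullback g' (CohB1.ProjSpace.toSpec r A) π g)
    [DCoh.HasLpull g] [DCoh.HasLpull g'] [DCoh.HasLpull (CohB1.ProjSpace.toSpec r A)]
    [DCoh.HasRpush (CohB1.ProjSpace.toSpec r A)] :
    (∀ K : DCoh.D P, DCoh.IsQCohD K → Nonempty ((DCoh.Lpull g).obj ((DCoh.Rpush π).obj K) ≅
      (DCoh.Rpush (CohB1.ProjSpace.toSpec r A)).obj ((DCoh.Lpull g').obj K))) ∧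
    (∀ M : DCoh.D S, Nonempty ((DCoh.Lpull g').obj ((DCoh.Lpull π).obj M) ≅
      (DCoh.Lpull (CohB1.ProjSpace.toSpec r A)).obj ((DCoh.Lpull g).obj M))) ∧
    (∀ M : DCoh.D S, DCoh.IsQCohD M →
      IsIso ((lpullRpushAdj (CohB1.ProjSpace.toSpec r A)).unit.app ((DCoh.Lpull g).obj M)) →
      IsIso ((DCoh.Lpull g).map ((lpullRpushAdj π).unit.app M))) := by
  let πA := CohB1.ProjSpace.toSpec r A
  haveI := BC.hasRpush g
  haveI := BC.hasRpush g'
  let adjg := lpullRpushAdj g
  let adjg' := lpullRpushAdj g'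
  let adjπ := lpullRpushAdj π
  let adjA := lpullRpushAdj πA
  obtain ⟨e, he⟩ := BC.exists_iso_baseChange π g πA g' hsq (BC.TI.of_flat_left (f := π) (g := g)) adjg adjg'
  let adj₁ := adjπ.comp adjg'
  let adj₂ := adjg.comp adjA
  let α : DCoh.Lpull g ⋙ DCoh.Lpull πA ≅ DCoh.Lpull π ⋙ DCoh.Lpull g' :=
    (conjugateIsoEquiv adj₁ adj₂).symm e
  have hα : conjugateEquiv adj₁ adj₂ α.hom = e.hom := by
    exact congrArg Iso.hom ((conjugateIsoEquiv adj₁ adj₂).apply_symm_apply e)
  refine ⟨fun K hK => ?_, fun M => ⟨(α.app M).symm⟩, fun M hM hu => ?_⟩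
  · haveI : IsIso ((BC.bc adjg adjg' e).app K) := he K hK
    exact ⟨asIso ((BC.bc adjg adjg' e).app K)⟩
  · let K := (DCoh.Lpull π).obj M
    haveI : IsIso ((BC.bc adjg adjg' e).app K) := he K (TildeD.isQCohD_lpull π M hM)
    have h1 : (DCoh.Lpull g).map (adjπ.unit.app M) ≫ (BC.bc adjg adjg' e).app K =
        adjA.unit.app ((DCoh.Lpull g).obj M) ≫ (DCoh.Rpush πA).map (α.hom.app M) := by
      apply (adjg.homEquiv _ _).injective
      have h2 : adj₁.unit.app M ≫ e.hom.app ((DCoh.Lpull π ⋙ DCoh.Lpull g').obj M) =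
          adj₂.unit.app M ≫ (DCoh.Rpush πA ⋙ DCoh.Rpush g).map (α.hom.app M) := by
        rw [← hα]
        exact unit_conjugateEquiv adj₁ adj₂ α.hom M
      rw [adjg.homEquiv_unit, adjg.homEquiv_unit, Functor.map_comp, Functor.map_comp]
      have h3 := BC.unit_bc adjg adjg' e K
      refine ((adjg.unit_naturality_assoc _ _).trans (congrArg (adjπ.unit.app M ≫ ·) h3)).trans ?_
      simpa [adj₁, adj₂, Adjunction.comp] using h2
    haveI := hu
    haveI : IsIso ((DCoh.Lpull g).map (adjπ.unit.app M) ≫ (BC.bc adjg adjg' e).app K) := by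
      rw [h1]
      exact inferInstanceAs (IsIso (adjA.unit.app ((DCoh.Lpull g).obj M) ≫
        (DCoh.Rpush πA).map (α.hom.app M)))
    exact IsIso.of_isIso_comp_right _ ((BC.bc adjg adjg' e).app K)

/-- The unit at quasi-coherent objects. -/
theorem isIso_unit (M : DCoh.D S) (hM : DCoh.IsQCohD M) : IsIso ((lpullRpushAdj π).unit.app M) := by
  obtain ⟨Z, b, c, hT⟩ := distinguished_cocone_triangle ((lpullRpushAdj π).unit.app M)
  refine (Triangle.isZero₃_iff_isIso₁ _ hT).1 (isZero_of_lpull_charts S fun W hW _ => ?_)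
  obtain ⟨g', hsq, -⟩ := exists_chart r S (A := Γ(S, W)) hW.fromSpec
  haveI := hasLpull g'
  haveI := hasLpull (CohB1.ProjSpace.toSpec r Γ(S, W))
  haveI := BC.hasRpush (CohB1.ProjSpace.toSpec r Γ(S, W))
  obtain ⟨-, -, h3⟩ := exists_bc_chart r S hW.fromSpec g' hsq
  obtain ⟨c', hc'⟩ := BC.exTri_lpull hW.fromSpec _ hT
  exact Triangle.isZero₃_of_isIso₁ _ hc'
    (h3 M hM (TwistFam.isIso_unit_qcoh r Γ(S, W) _ (TildeD.isQCohD_lpull _ M hM)))

theorem isQCohD_F (d : ℤ) (K : DCoh.D P) (hK : DCoh.IsQCohD K) : DCoh.IsQCohD ((F r S d).obj K) := by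
  obtain ⟨e⟩ := nonempty_F_lTensorMod r S d K
  exact TildeD.isQCohD_of_iso e.symm (BC.isQCohD_lTensorMod _
    (PullbackMod.isQCoh_and_isFP_of_isFinLocFree _ (isFinLocFree_O r S d)).1 K hK)

/-- Twisted inverse images have zero direct image in the window. -/
theorem isZero_rpush_F_lpull (d : ℤ) (h₀ : d < 0) (hr : -(r : ℤ) ≤ d) (M : DCoh.D S) (hM : DCoh.IsQCohD M) :
    IsZero ((DCoh.Rpush π).obj ((F r S d).obj ((DCoh.Lpull π).obj M))) := by
  refine isZero_of_lpull_charts S fun W hW _ => ?_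
  obtain ⟨g', hsq, htw⟩ := exists_chart r S (A := Γ(S, W)) hW.fromSpec
  haveI := hasLpull g'
  haveI := hasLpull (CohB1.ProjSpace.toSpec r Γ(S, W))
  haveI := BC.hasRpush (CohB1.ProjSpace.toSpec r Γ(S, W))
  obtain ⟨h1, h2, -⟩ := exists_bc_chart r S hW.fromSpec g' hsq
  obtain ⟨e⟩ := h1 _ (isQCohD_F r S d _ (TildeD.isQCohD_lpull π M hM))
  obtain ⟨t⟩ := htw d
  obtain ⟨e'⟩ := nonempty_lpull_F r S g' d t ((DCoh.Lpull π).obj M)
  obtain ⟨e''⟩ := h2 M
  exact (TwistFam.isZero_rpush_twist_lpull r Γ(S, W) d h₀ hr _ (TildeD.isQCohD_lpull _ M hM)).of_iso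
    (e ≪≫ (DCoh.Rpush _).mapIso (e' ≪≫ (DCoh.LTensorMod _).mapIso e''))

/-- The twists `0, -1, …, -r` detect zero. -/
theorem isZero_of_window (K : DCoh.D P) (hK : DCoh.IsQCohD K)
    (h : ∀ j : ℕ, j ≤ r → IsZero ((DCoh.Rpush π).obj ((F r S (-(j : ℤ))).obj K))) : IsZero K := by
  refine isZero_of_isZero_HD fun i => isZero_of_local fun x => ?_
  obtain ⟨_, ⟨W : S.Opens, hW, rfl⟩, hx, -⟩ :=
    S.isBasis_affineOpens.exists_subset_of_mem_open (Set.mem_univ ((KRR.pr r S) x)) isOpen_univ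
  obtain ⟨g', hsq, htw⟩ := exists_chart r S (A := Γ(S, W)) hW.fromSpec
  haveI : IsOpenImmersion g' := MorphismProperty.of_isPullback hsq.flip (inferInstance : IsOpenImmersion hW.fromSpec)
  haveI := hasLpull g'
  haveI := hasLpull hW.fromSpec
  let πA := CohB1.ProjSpace.toSpec r Γ(S, W)
  haveI := hasLpull πA
  haveI := BC.hasRpush πA
  obtain ⟨h1, -, -⟩ := exists_bc_chart r S hW.fromSpec g' hsq
  have hz : IsZero ((DCoh.Lpull g').obj K) := by
    refine TwistFam.isZero_of_twists (TwistFam.projMul r Γ(S, W)) (TwistFam.isAffineOpen_projMul r _)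
      (TwistFam.isQCoh_projMul r _) (TwistFam.projMulZero r _) _ (TildeD.isQCohD_lpull g' K hK)
      (-(r : ℤ)) fun e he k φ => ?_
    have he' : e ≤ r := by simpa [Nat.lt_succ_iff] using he
    obtain ⟨j, hj, hje⟩ : ∃ j : ℕ, j ≤ r ∧ -(j : ℤ) = -(r : ℤ) + e := ⟨r - e, by omega, by omega⟩
    obtain ⟨t⟩ := htw (-(r : ℤ) + e)
    obtain ⟨e₁⟩ := nonempty_lpull_F r S g' (-(r : ℤ) + e) t K
    obtain ⟨e₂⟩ := h1 _ (isQCohD_F r S (-(r : ℤ) + e) K hK)
    have hzero : IsZero ((DCoh.Rpush πA).obj ((DCoh.LTensorMod (Twist.twistProjSpace r Γ(S, W) (-(r : ℤ) + e))).obj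
        ((DCoh.Lpull g').obj K))) :=
      (((DCoh.restrictD hW.fromSpec).map_isZero (hje ▸ h j hj)).of_iso ((lpullRestrictNatIso hW.fromSpec).app _)).of_iso
        ((DCoh.Rpush πA).mapIso e₁.symm ≪≫ e₂.symm)
    let O₀ := Coh.structureModule (Spec (CommRingCat.of Γ(S, W)))
    let q := -k
    haveI : IsIso ((BC.lamN πA q).app O₀) :=
      BC.isIso_lamN_app_flat πA q _ ((isFlat_iff _).2 (SiteBase.ExtZeroPre.isFlat_unit (Spec (CommRingCat.of Γ(S, W))).sheaf))
    let sX := ((DerivedCategory.singleFunctors (CohB1.ProjSpace r Γ(S, W)).Modules).shiftIso k q 0 (by omega)).app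
      (Coh.structureModule (CohB1.ProjSpace r Γ(S, W)))
    let b : (DCoh.Lpull πA).obj ((BC.TT _ q).obj O₀) ≅
        (DCoh.inD (CohB1.ProjSpace r Γ(S, W)) (Coh.structureModule (CohB1.ProjSpace r Γ(S, W))))⟦k⟧ :=
      asIso ((BC.lamN πA q).app O₀) ≪≫ (BC.TT _ q).mapIso (pullStructureIso πA) ≪≫ sX.symm
    rw [← cancel_epi b.hom, comp_zero]
    exact ((lpullRpushAdj πA).homEquiv _ _).injective (hzero.eq_of_tgt _ _)
  obtain ⟨y, hy⟩ : (KRR.pr r S) x ∈ Set.range hW.fromSpec := by rw [hW.range_fromSpec]; exact hx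
  obtain ⟨w, hw, -⟩ := Scheme.Pullback.exists_preimage_pullback (f := KRR.pr r S) (g := hW.fromSpec) x y hy.symm
  obtain ⟨z, hz1⟩ : ∃ z, g' z = x := ⟨hsq.isoPullback.inv w, by
    rw [← Scheme.Hom.comp_apply, hsq.isoPullback_inv_fst]
    exact hw⟩
  exact ⟨_, g', inferInstance, z, hz1,
    ((DerivedCategory.homologyFunctor _ i).map_isZero
      (hz.of_iso ((lpullRestrictNatIso g').app K).symm)).of_iso (DCohLib.restrictHDIso g' K i).symm⟩

/-- Twisted direct images preserve perfect objects. -/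
theorem isPerfect_rpush_F (d : ℤ) (K : DCoh.D P) (hK : DCoh.IsPerfect K) :
    DCoh.IsPerfect ((DCoh.Rpush π).obj ((F r S d).obj K)) := by
  obtain ⟨e⟩ := nonempty_F_lTensorMod r S d K
  have hfl := isFinLocFree_O r S d
  have huniv : ClSub.IsProperOver π (Set.univ : Set P) :=
    (ClSubLib.isProperOver_iff π (𝟙 _) (Set.range_id)).2 (by rw [Category.id_comp]; infer_instance)
  exact isPerfect_iso ((DCoh.Rpush π).mapIso e).symm
    (isPerfect_rpush_lTensorMod_fp π K hK _ (PullbackMod.isQCoh_and_isFP_of_isFinLocFree _ hfl).2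
      (TwistFam.isFlatOver_of_isFinLocFree π hfl)
      (ClSubLib.isProperOver_subset π huniv (PullbackMod.isClosed_support_of_isFT
        (ExactConstrLib.isFT_of_isFP (PullbackMod.isQCoh_and_isFP_of_isFinLocFree _ hfl).2)) (Set.subset_univ _)))

end Groth.Agent.DCohMore.TwistOver
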