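import Groth.Agent.DCohLib.ProjPerf
import Groth.Agent.DCohLib.RpushTri
import Groth.Agent.DCohLib.LTensorCongr
import Groth.Agent.DCohMore.ExTri

/-!
# The natural comparison map of the projection formula
-/

set_option autoImplicit false
set_option linter.style.haveILetI false
set_option linter.unusedSectionVars false

universe u

open CategoryTheory CategoryTheory.Limits AlgebraicGeometry
open CategoryTheory.Pretriangulated

attribute [local instance] HasDerivedCategory.standard

noncomputable section

namespace Groth.Agent.DCohMore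

open Groth.Agent.DCohLib

variable {X Y : Scheme.{u}} (f : X ⟶ Y) [DCoh.HasRpush f]

/-- The natural map from the direct image of a complex to its derived direct image. -/
def rpushNat : pfCx f ⋙ DerivedCategory.Q ⟶ DerivedCategory.Q ⋙ DCoh.Rpush f :=
  Functor.whiskerLeft (pfCx f) (DerivedCategory.quotientCompQhIso Y.Modules).inv ≫
    (Functor.associator _ _ _).inv ≫
    Functor.whiskerRight ((Scheme.Modules.pushforward f).mapHomotopyCategoryFactors (ComplexShape.up ℤ)).inv
      DerivedCategory.Qh ≫
    (Functor.associator _ _ _).hom ≫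
    Functor.whiskerLeft (HomotopyCategory.quotient X.Modules (ComplexShape.up ℤ)) (rpushUnit f) ≫
    (Functor.associator _ _ _).inv ≫
    Functor.whiskerRight (DerivedCategory.quotientCompQhIso X.Modules).hom (DCoh.Rpush f)

theorem rpushNat_app_eq (J : CochainComplex X.Modules ℤ) [J.IsKInjective] :
    (rpushNat f).app J = (rpushInjIso f J).hom := by
  simp [rpushNat, rpushInjIso]

variable (I : CochainComplex X.Modules ℤ)

/-- The source of the projection map. -/
abbrev projSrc : CochainComplex Y.Modules ℤ ⥤ DCoh.D Y :=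
  DCoh.tensorCx.obj ((pfCx f).obj I) ⋙ DerivedCategory.Q

/-- The target of the projection map. -/
abbrev projTgt : CochainComplex Y.Modules ℤ ⥤ DCoh.D Y :=
  ((pullCx f ⋙ DCoh.tensorCx.obj I) ⋙ DerivedCategory.Q) ⋙ DCoh.Rpush f

/-- The projection map of complexes. -/
abbrev ptm (P : CochainComplex Y.Modules ℤ) :
    (DCoh.tensorCx.obj ((pfCx f).obj I)).obj P ⟶ (pfCx f).obj ((DCoh.tensorCx.obj I).obj ((pullCx f).obj P)) :=
  projPhi f P (𝟙 _)

theorem projPhi_eq {P : CochainComplex Y.Modules ℤ} {J : CochainComplex X.Modules ℤ}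
    (φ : (DCoh.tensorCx.obj I).obj ((pullCx f).obj P) ⟶ J) : projPhi f P φ = ptm f I P ≫ (pfCx f).map φ := by
  unfold ptm projPhi
  refine Eq.trans ?_ (Category.assoc _ _ _).symm
  refine congrArg (_ ≫ ·) ?_
  exact ((congrArg (pfCx f).map (Category.id_comp φ)).symm.trans ((pfCx f).map_comp _ _))

theorem projPhi_id_natural {P P' : CochainComplex Y.Modules ℤ} (β : P ⟶ P') :
    (DCoh.tensorCx.obj ((pfCx f).obj I)).map β ≫ ptm f I P' =
      ptm f I P ≫ (pfCx f).map ((DCoh.tensorCx.obj I).map ((pullCx f).map β)) :=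
  (projPhi_natural f β (𝟙 _)).trans ((projPhi_eq f I _).trans
    (congrArg (fun m => ptm f I P ≫ (pfCx f).map m) (Category.comp_id _)))

/-- The projection map, naturally in the complex on the target. -/
def projTau : projSrc f I ⟶ projTgt f I where
  app P := DerivedCategory.Q.map (ptm f I P) ≫
    (rpushNat f).app ((DCoh.tensorCx.obj I).obj ((pullCx f).obj P))
  naturality P P' β := by
    have h := congrArg DerivedCategory.Q.map (projPhi_id_natural f I β)
    rw [DerivedCategory.Q.map_comp, DerivedCategory.Q.map_comp] at h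
    show DerivedCategory.Q.map ((DCoh.tensorCx.obj ((pfCx f).obj I)).map β) ≫ _ ≫ _ =
      (_ ≫ _) ≫ (DCoh.Rpush f).map (DerivedCategory.Q.map ((DCoh.tensorCx.obj I).map ((pullCx f).map β)))
    refine (Category.assoc _ _ _).symm.trans ((congrArg (· ≫ _) h).trans ?_)
    exact (Category.assoc _ _ _).trans ((congrArg (_ ≫ ·) ((rpushNat f).naturality _)).trans (Category.assoc _ _ _).symm)

theorem projTau_app_comp {J : CochainComplex X.Modules ℤ} [J.IsKInjective] (P : CochainComplex Y.Modules ℤ)
    (φ : (DCoh.tensorCx.obj I).obj ((pullCx f).obj P) ⟶ J) :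
    (projTau f I).app P ≫ (DCoh.Rpush f).map (DerivedCategory.Q.map φ) =
      DerivedCategory.Q.map (projPhi f P φ) ≫ (rpushInjIso f J).hom := by
  rw [← rpushNat_app_eq f J, projPhi_eq f I φ, DerivedCategory.Q.map_comp]
  exact (Category.assoc _ _ _).trans ((congrArg (_ ≫ ·) ((rpushNat f).naturality φ).symm).trans
    (Category.assoc _ _ _).symm)

theorem isIso_projTau_iff {J : CochainComplex X.Modules ℤ} [J.IsKInjective] (P : CochainComplex Y.Modules ℤ)
    (φ : (DCoh.tensorCx.obj I).obj ((pullCx f).obj P) ⟶ J) [QuasiIso φ] (V : Y.Opens)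
    (h : QuasiIso ((resCx V.ι).map (projPhi f P φ))) : IsIso ((DCoh.restrictD V.ι).map ((projTau f I).app P)) := by
  haveI := h
  haveI : IsIso ((DCoh.restrictD V.ι).map (DerivedCategory.Q.map (projPhi f P φ))) := by
    refine (NatIso.isIso_map_iff ((Scheme.Modules.restrictFunctor V.ι).mapDerivedCategoryFactors) _).2 ?_
    exact inferInstanceAs (IsIso (DerivedCategory.Q.map ((resCx V.ι).map (projPhi f P φ))))
  haveI : IsIso ((DCoh.restrictD V.ι).map ((projTau f I).app P) ≫
      (DCoh.restrictD V.ι).map ((DCoh.Rpush f).map (DerivedCategory.Q.map φ))) := by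
    rw [← Functor.map_comp, projTau_app_comp f I P φ, Functor.map_comp]
    infer_instance
  exact IsIso.of_isIso_comp_right _ ((DCoh.restrictD V.ι).map ((DCoh.Rpush f).map (DerivedCategory.Q.map φ)))

/-- The projection formula from the bijectivity of the natural map. -/
theorem nonempty_projection_of_isIso [I.IsKInjective] (K M : CochainComplex Y.Modules ℤ) (hKM : DerivedCategory.Q.obj M ≅ DerivedCategory.Q.obj K)
    (hM : DCoh.IsKFlat M) [DCoh.HasLTensorCx K] (N : CochainComplex X.Modules ℤ) [DCoh.HasLTensorCx N]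
    (hN : DerivedCategory.Q.obj ((pullCx f).obj M) ≅ DerivedCategory.Q.obj N)
    [IsIso ((projTau f I).app M)] :
    Nonempty ((DCoh.LTensorCx K).obj ((DCoh.Rpush f).obj (DerivedCategory.Q.obj I)) ≅
      (DCoh.Rpush f).obj ((DCoh.LTensorCx N).obj (DerivedCategory.Q.obj I))) := by
  obtain ⟨e1⟩ := nonempty_lTensor_of_iso (E := K) (E' := M) hKM
  obtain ⟨e2⟩ := nonempty_lTensor_of_iso (E := N) (E' := (pullCx f).obj M) hN
  obtain ⟨a⟩ := nonempty_lTensor_pfCx f M hM I
  exact ⟨e1.symm.app _ ≪≫ a ≪≫ asIso ((projTau f I).app M) ≪≫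
    (DCoh.Rpush f).mapIso ((@asIso _ _ _ _ ((lTensorCounit ((pullCx f).obj M)).app I)
      (isIso_lTensorCounit_app_of_isKFlat _ (isKFlat_pullback f hM) _)).symm ≪≫ e2.app _)⟩

end Groth.Agent.DCohMore
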