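import Groth.Agent.CAlgBasics.McCoy

/-!
# Splitting a map whose kernel keeps its rank on the fibre
-/

set_option autoImplicit false
set_option linter.style.haveILetI false
set_option backward.isDefEq.respectTransparency false
set_option maxHeartbeats 800000

universe u

open TensorProduct Matrix

namespace Groth.Agent.DCohMore.H0Split

variable {A : Type u} [CommRing A]

/-- The determinant of an injective endomorphism is not a zero divisor. -/
theorem det_mem_nonZeroDivisors {n : ℕ} (M : Matrix (Fin n) (Fin n) A) (h : Function.Injective M.mulVecLin) :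
    M.det ∈ nonZeroDivisors A := by
  rw [mem_nonZeroDivisors_iff_right]
  intro a ha
  have hann := (CAlgBasics.injective_iff_annihilator_minorIdeal M).1 h
  rw [← Ideal.mem_bot, ← hann, Submodule.mem_annihilator]
  intro d hd
  induction hd using Submodule.span_induction with
  | zero => exact smul_zero a
  | add x y _ _ hx hy => rw [smul_add, hx, hy, add_zero]
  | smul c x _ hx => rw [smul_comm, hx, smul_zero]
  | mem d hd =>
    obtain ⟨⟨f, g⟩, rfl⟩ := hd
    show a * (M.submatrix f g).det = 0
    by_cases hg : Function.Injective g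
    · by_cases hf : Function.Injective f
      · let σ : Equiv.Perm (Fin n) := Equiv.ofBijective f (Finite.injective_iff_bijective.1 hf)
        let τ : Equiv.Perm (Fin n) := Equiv.ofBijective g (Finite.injective_iff_bijective.1 hg)
        have e : M.submatrix f g = (M.submatrix σ id).submatrix id τ := rfl
        rw [e, Matrix.det_permute', Matrix.det_permute, mul_left_comm, mul_left_comm a, ha, mul_zero, mul_zero]
      · obtain ⟨i, j, hij, hne⟩ := Function.not_injective_iff.mp hf
        rw [Matrix.det_zero_of_row_eq (M := M.submatrix f g) hne (funext fun k => by simp [hij]), mul_zero]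
    · obtain ⟨i, j, hij, hne⟩ := Function.not_injective_iff.mp hg
      rw [Matrix.det_zero_of_column_eq (M := M.submatrix f g) hne fun k => by simp [hij], mul_zero]

/-- A functional killing the image of an injective endomorphism of a free module vanishes. -/
theorem comp_cancel_injective {n : ℕ} {Q : Type u} [AddCommGroup Q] [Module A Q] [Module.Free A Q]
    (U : (Fin n → A) →ₗ[A] (Fin n → A)) (hU : Function.Injective U) (g : (Fin n → A) →ₗ[A] Q) (h : g ∘ₗ U = 0) :
    g = 0 := by
  let M := LinearMap.toMatrix' U
  have hM : M.mulVecLin = U := Matrix.toLin'_toMatrix' U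
  have hdet := det_mem_nonZeroDivisors M (hM ▸ hU)
  refine LinearMap.ext fun x => (Module.Free.chooseBasis A Q).ext_elem fun j => ?_
  have h1 : g (M.det • x) = 0 := by
    have hx : M.det • x = U (M.adjugate *ᵥ x) := by
      rw [← hM, Matrix.mulVecLin_apply, Matrix.mulVec_mulVec, Matrix.mul_adjugate, Matrix.smul_mulVec, Matrix.one_mulVec]
    rw [hx, ← LinearMap.comp_apply, h, LinearMap.zero_apply]
  have h2 := congrArg (fun q => (Module.Free.chooseBasis A Q).repr q j) h1
  simp only [map_smul, Finsupp.smul_apply, smul_eq_mul, map_zero, Finsupp.zero_apply] at h2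
  rw [LinearMap.zero_apply, map_zero, Finsupp.zero_apply]
  exact mem_nonZeroDivisors_iff_right.1 hdet _ (by rw [mul_comm]; exact h2)

/-- Over a local ring: if the kernel is free and keeps its rank on the closed fibre, the map splits. -/
theorem exists_pseudoinverse_local {L : Type u} [CommRing L] [IsLocalRing L] {P Q : Type u} [AddCommGroup P]
    [Module L P] [Module.Free L P] [Module.Finite L P] [AddCommGroup Q] [Module L Q] [Module.Free L Q]
    [Module.Finite L Q] (d : P →ₗ[L] Q) [Module.Free L (LinearMap.ker d)] [Module.Finite L (LinearMap.ker d)]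
    (hd : Module.finrank (IsLocalRing.ResidueField L) (LinearMap.ker (d.baseChange (IsLocalRing.ResidueField L))) =
      Module.finrank L (LinearMap.ker d)) :
    ∃ h : Q →ₗ[L] P, ∀ x, d (h (d x)) = d x := by
  classical
  let κ := IsLocalRing.ResidueField L
  let n := Module.finrank L (LinearMap.ker d)
  let Kκ := LinearMap.ker (d.baseChange κ)
  obtain ⟨π, hπ⟩ : ∃ π : κ ⊗[L] P →ₗ[κ] Kκ, π ∘ₗ Kκ.subtype = LinearMap.id := by
    obtain ⟨W, hW⟩ := Kκ.exists_isCompl
    exact ⟨Submodule.linearProjOfIsCompl Kκ W hW, LinearMap.ext fun z => Submodule.linearProjOfIsCompl_apply_left hW z⟩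
  haveI : Module.Free κ Kκ := Module.Free.of_divisionRing κ ↥Kκ
  let ε : Kκ ≃ₗ[κ] (Fin n → κ) := (Module.finBasisOfFinrankEq κ Kκ hd).equivFun
  let res : (Fin n → L) →ₗ[L] (Fin n → κ) := LinearMap.compLeft (Algebra.linearMap L κ) (Fin n)
  have hres : Function.Surjective res := fun v => by
    choose w hw using fun i => IsLocalRing.residue_surjective (v i)
    exact ⟨w, funext hw⟩
  let ψ : P →ₗ[L] (Fin n → κ) := ((ε.toLinearMap ∘ₗ π).restrictScalars L) ∘ₗ TensorProduct.mk L κ P 1
  obtain ⟨φ, hφ⟩ := Module.projective_lifting_property res ψ hres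
  let l : P →ₗ[L] (Fin n → L) × Q := φ.prod d
  let μ : κ ⊗[L] (Fin n → L) →ₗ[L] (Fin n → κ) :=
    TensorProduct.lift ((LinearMap.lsmul κ (Fin n → κ)).restrictScalars₁₂ L L |>.compl₂ res)
  have hl : Function.Injective (l.lTensor κ) := by
    rw [injective_iff_map_eq_zero]
    intro z hz
    have hz₂ : z ∈ Kκ := by
      have h := congrArg ((LinearMap.snd L (Fin n → L) Q).lTensor κ) hz
      rw [map_zero, ← LinearMap.comp_apply, ← LinearMap.lTensor_comp, LinearMap.snd_prod] at h
      rw [LinearMap.mem_ker, LinearMap.baseChange_eq_ltensor]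
      exact h
    have hμ : ∀ y : κ ⊗[L] P, μ (φ.lTensor κ y) = ε (π y) := fun y => by
      induction y using TensorProduct.induction_on with
      | zero => simp
      | tmul a x =>
        have h1 : (a ⊗ₜ[L] x : κ ⊗[L] P) = a • ((1 : κ) ⊗ₜ[L] x) := by rw [TensorProduct.smul_tmul', smul_eq_mul, mul_one]
        rw [LinearMap.lTensor_tmul, h1, map_smul, map_smul]
        show a • res (φ x) = a • ψ x
        rw [← hφ, LinearMap.comp_apply]
      | add x y hx hy => simp only [map_add, hx, hy]
    have hz₁ : ε (π z) = 0 := by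
      have h := congrArg ((LinearMap.fst L (Fin n → L) Q).lTensor κ) hz
      rw [map_zero, ← LinearMap.comp_apply, ← LinearMap.lTensor_comp, LinearMap.fst_prod] at h
      rw [← hμ, h, map_zero]
    rw [map_eq_zero_iff _ ε.injective] at hz₁
    have := LinearMap.congr_fun hπ ⟨z, hz₂⟩
    simp only [LinearMap.comp_apply, Submodule.coe_subtype, LinearMap.id_apply] at this
    rw [hz₁] at this
    exact (congrArg Subtype.val this).symm
  obtain ⟨l', hl'⟩ := (IsLocalRing.split_injective_iff_lTensor_residueField_injective l).2 hl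
  let α := l' ∘ₗ LinearMap.inl L (Fin n → L) Q
  let h := l' ∘ₗ LinearMap.inr L (Fin n → L) Q
  have hid : ∀ x, x = α (φ x) + h (d x) := fun x => by
    conv_lhs => rw [← LinearMap.id_apply (R := L) x, ← hl']
    simp [α, h, l, ← map_add]
  refine ⟨h, ?_⟩
  let T : (Fin n → L) →ₗ[L] P := (LinearMap.ker d).subtype ∘ₗ (Module.finBasis L (LinearMap.ker d)).equivFun.symm.toLinearMap
  have hdT : ∀ v, d (T v) = 0 := fun v => ((Module.finBasis L (LinearMap.ker d)).equivFun.symm v).2
  have hT : ∀ v, T v = α (φ (T v)) := fun v => by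
    conv_lhs => rw [hid (T v), hdT, map_zero, add_zero]
  have hU : Function.Injective (φ ∘ₗ T) := fun v w hvw => by
    have h1 : T v = T w := (hT v).trans ((congrArg α hvw).trans (hT w).symm)
    exact (Module.finBasis L (LinearMap.ker d)).equivFun.symm.injective (Subtype.ext h1)
  have hdα : d ∘ₗ α = 0 := comp_cancel_injective (φ ∘ₗ T) hU _ (LinearMap.ext fun v => by
    show d (α (φ (T v))) = 0
    rw [← hT, hdT])
  intro x
  conv_rhs => rw [hid x, map_add, ← LinearMap.comp_apply (g := α), hdα, LinearMap.zero_apply, zero_add]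

variable {P Q : Type u} [AddCommGroup P] [Module A P] [Module.Finite A P] [Module.Projective A P]
  [AddCommGroup Q] [Module A Q] [Module.Finite A Q] [Module.Projective A Q]

/-- Near a prime where the kernel keeps its rank, the map has a pseudo-inverse. -/
theorem exists_pseudoinverse_near (d : P →ₗ[A] Q) [Module.Finite A (LinearMap.ker d)]
    [Module.Projective A (LinearMap.ker d)] (p : PrimeSpectrum A)
    (hd : Module.finrank p.asIdeal.ResidueField (LinearMap.ker (d.baseChange p.asIdeal.ResidueField)) =
      Module.rankAtStalk (LinearMap.ker d) p) :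
    ∃ c : A, c ∉ p.asIdeal ∧ ∃ h : Q →ₗ[A] P, ∀ x, d (h (d x)) = c • d x := by
  let L := Localization.AtPrime p.asIdeal
  let κ := p.asIdeal.ResidueField
  let dL := d.baseChange L
  let eK : L ⊗[A] LinearMap.ker d ≃ₗ[L] LinearMap.ker dL :=
    (LinearMap.tensorKerEquiv L L d).trans (LinearEquiv.ofEq _ _ (by
      congr 1))
  haveI : Module.Free L (L ⊗[A] P) := Module.free_of_flat_of_isLocalRing
  haveI : Module.Free L (L ⊗[A] Q) := Module.free_of_flat_of_isLocalRing
  haveI : Module.Free L (L ⊗[A] LinearMap.ker d) := Module.free_of_flat_of_isLocalRing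
  haveI : Module.Free L (LinearMap.ker dL) := Module.Free.of_equiv eK
  haveI : Module.Finite L (LinearMap.ker dL) := Module.Finite.equiv eK
  let cP : κ ⊗[L] (L ⊗[A] P) ≃ₗ[κ] κ ⊗[A] P := TensorProduct.AlgebraTensorModule.cancelBaseChange A L κ κ P
  let cQ : κ ⊗[L] (L ⊗[A] Q) ≃ₗ[κ] κ ⊗[A] Q := TensorProduct.AlgebraTensorModule.cancelBaseChange A L κ κ Q
  have hnat : ∀ z, cQ (dL.baseChange κ z) = d.baseChange κ (cP z) := fun z => by
    induction z using TensorProduct.induction_on with
    | zero => simp
    | tmul a y =>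
      induction y using TensorProduct.induction_on with
      | zero => simp
      | tmul l x => simp [cP, cQ, dL]
      | add y y' hy hy' => simp only [tmul_add, map_add, hy, hy']
    | add y y' hy hy' => simp only [map_add, hy, hy']
  have hker : (LinearMap.ker (dL.baseChange κ)).map cP.toLinearMap = LinearMap.ker (d.baseChange κ) := by
    ext z
    constructor
    · rintro ⟨y, hy, rfl⟩
      show d.baseChange κ (cP y) = 0
      rw [← hnat, LinearMap.mem_ker.1 hy, map_zero]
    · intro hz
      refine ⟨cP.symm z, cQ.injective ?_, cP.apply_symm_apply z⟩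
      rw [hnat, cP.apply_symm_apply, map_zero]
      exact hz
  obtain ⟨hL, hhL⟩ := exists_pseudoinverse_local dL (by
    rw [← eK.finrank_eq, ← Module.rankAtStalk_eq_finrank_tensorProduct, ← hd, ← hker]
    exact (cP.submoduleMap _).finrank_eq)
  haveI : Module.FinitePresentation A Q := Module.finitePresentation_of_projective A Q
  let S := p.asIdeal.primeCompl
  let mP : P →ₗ[A] L ⊗[A] P := TensorProduct.mk A L P 1
  let mQ : Q →ₗ[A] L ⊗[A] Q := TensorProduct.mk A L Q 1
  haveI : IsLocalizedModule S mP := (isLocalizedModule_iff_isBaseChange S L _).2 (TensorProduct.isBaseChange A P L)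
  haveI : IsLocalizedModule S mQ := (isLocalizedModule_iff_isBaseChange S L _).2 (TensorProduct.isBaseChange A Q L)
  obtain ⟨h, s, hs⟩ := Module.FinitePresentation.exists_lift_of_isLocalizedModule S mP (hL.restrictScalars A ∘ₗ mQ)
  obtain ⟨t, ht⟩ := Module.Finite.exists_smul_of_comp_eq_of_isLocalizedModule S mQ (d ∘ₗ h ∘ₗ d) ((s : A) • d) (by
    refine LinearMap.ext fun x => ?_
    have h1 : mP (h (d x)) = (s : A) • hL (mQ (d x)) := LinearMap.congr_fun hs (d x)
    have h2 : ∀ y, mQ (d y) = dL (mP y) := fun y => (LinearMap.baseChange_tmul d (1 : L) y).symm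
    simp only [LinearMap.comp_apply, LinearMap.smul_apply, map_smul]
    rw [h2, h1, LinearMap.map_smul_of_tower, h2, hhL])
  refine ⟨t * s, fun hm => ((p.2.mem_or_mem hm).elim t.2 s.2).elim, (t : A) • h, fun x => ?_⟩
  have := LinearMap.congr_fun ht x
  simp only [Submonoid.smul_def, LinearMap.smul_apply, LinearMap.comp_apply] at this
  rw [LinearMap.smul_apply, map_smul, this, mul_smul]

end Groth.Agent.DCohMore.H0Split
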