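import Groth.Agent.DCohMore.RHomCoh
import Groth.Agent.DCohMore.ProjLoc

/-!
# Internal Hom into bounded complexes of injectives
-/

set_option autoImplicit false
set_option linter.style.haveILetI false
set_option linter.unusedSectionVars false
set_option maxHeartbeats 1000000

universe u

open CategoryTheory CategoryTheory.Limits AlgebraicGeometry TopologicalSpace
open CategoryTheory.Pretriangulated

attribute [local instance] HasDerivedCategory.standard

noncomputable section

namespace Groth.Agent.DCohMore

open Groth.Agent.DCohLib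

variable {X : Scheme.{u}}

/-- The internal Hom out of a complex with cohomology in degrees `≥ c` into a K-injective complex in
degrees `≤ b` has cohomology in degrees `≤ b - c`. -/
theorem isZero_homology_hCx_gt (C J : CochainComplex X.Modules ℤ) [J.IsKInjective] (b c : ℤ)
    (hJ : ∀ n, b < n → IsZero (J.X n)) (hC : ∀ i, i < c → IsZero (C.homology i)) (j : ℤ) (hj : b - c < j) :
    IsZero (((hCx C).obj J).homology j) := by
  let T := (hCx C).obj J
  obtain ⟨F, q, hF, hq⟩ : ∃ (F : X.Modules) (q : F ⟶ T.cycles j), ModSite.IsFlat (O := X.sheaf) F ∧ Epi q :=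
    ModTensor.exists_flat_cover X.sheaf (T.cycles j)
  let g : (HomologicalComplex.single X.Modules (ComplexShape.up ℤ) j).obj F ⟶ T :=
    HomologicalComplex.mkHomFromSingle (q ≫ T.iCycles j) (fun k _ => by
      rw [Category.assoc, HomologicalComplex.iCycles_d, comp_zero])
  let S := (HomologicalComplex.single X.Modules (ComplexShape.up ℤ) j).obj F
  have hS : DCoh.IsKFlat S := (isKFlat_iff _).2 (KFlat.isKFlat_single X.sheaf j hF)
  haveI : C.IsGE c := (CochainComplex.isGE_iff C c).2 fun i hi => (HomologicalComplex.exactAt_iff_isZero_homology _ _).2 (hC i hi)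
  haveI hπ : QuasiIso (C.πTruncGE c) := (C.quasiIso_πTruncGE_iff c).mpr inferInstance
  let t := (DCoh.tensorCx.obj S).map (C.πTruncGE c)
  haveI : IsIso (DerivedCategory.Q.map t) :=
    (DerivedCategory.isIso_Q_map_iff_quasiIso (C := X.Modules) _).2
      (quasiIso_tensorCx_obj_map hS (C.πTruncGE c) hπ)
  -- every map out of `S ⊗ C` is null homotopic
  have key : ∀ a : (DCoh.tensorCx.obj S).obj C ⟶ J, (quotM X).map a = (quotM X).map 0 := by
    intro a
    obtain ⟨φ, hφ⟩ := exists_Q_map (inv (DerivedCategory.Q.map t) ≫ DerivedCategory.Q.map a)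
    have h0 : φ = 0 := HomologicalComplex.hom_ext _ _ fun n => HomologicalComplex.mapBifunctor.hom_ext
      fun p r hpr => by
        have hpr' : p + r = n := hpr
        by_cases hn : b < n
        · exact (hJ n hn).eq_of_tgt _ _
        · refine IsZero.eq_of_src ?_ _ _
          by_cases hp : p = j
          · exact ((DCoh.tensorBi (X := X)).obj (S.X p)).map_isZero
              (CochainComplex.isZero_of_isStrictlyGE (C.truncGE c) c r (by omega))
          · exact ((DCoh.tensorBi (X := X)).flip.obj ((C.truncGE c).X r)).map_isZero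
              (HomologicalComplex.isZero_single_obj_X _ _ _ _ hp)
    have : DerivedCategory.Q.map a = DerivedCategory.Q.map 0 := by
      rw [← cancel_epi (inv (DerivedCategory.Q.map t)), ← hφ, h0, Functor.map_zero, Functor.map_zero,
        comp_zero]
    exact (Q_map_eq_iff a 0).1 this
  have hg : (quotM X).map g = (quotM X).map 0 := by
    refine (quotient_symm_eq_iff g 0).2 ?_
    have e0 : ((hAdj C).homEquiv S J).symm 0 = 0 := by
      rw [Adjunction.homEquiv_counit, Functor.map_zero, zero_comp]
    exact (key _).trans (congrArg (quotM X).map e0.symm)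
  let h := HomotopyCategory.homotopyOfEq _ _ hg
  have hcomm := h.comm j
  have e1 : dNext j h.hom = 0 := by
    rw [dNext_eq h.hom (show (ComplexShape.up ℤ).Rel j (j + 1) by simp)]
    rw [HomologicalComplex.single_obj_d, zero_comp]
  have e2 : prevD j h.hom = h.hom j (j - 1) ≫ T.d (j - 1) j :=
    prevD_eq h.hom (show (ComplexShape.up ℤ).Rel (j - 1) j by simp)
  rw [e1, e2, zero_add, HomologicalComplex.zero_f, add_zero] at hcomm
  let l := (HomologicalComplex.singleObjXSelf (ComplexShape.up ℤ) j F).inv ≫ h.hom j (j - 1)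
  have hl : l ≫ T.toCycles (j - 1) j = q := by
    rw [← cancel_mono (T.iCycles j), Category.assoc, HomologicalComplex.toCycles_i]
    show ((HomologicalComplex.singleObjXSelf (ComplexShape.up ℤ) j F).inv ≫ h.hom j (j - 1)) ≫ _ = _
    rw [Category.assoc, ← hcomm, HomologicalComplex.mkHomFromSingle_f, Iso.inv_hom_id_assoc]
  haveI : Epi (T.toCycles (j - 1) j) := epi_of_epi_fac hl
  have hπ0 : T.toCycles (j - 1) j ≫ T.homologyπ j = 0 := HomologicalComplex.toCycles_comp_homologyπ _ _ _
  rw [IsZero.iff_id_eq_zero, ← cancel_epi (T.homologyπ j), ← cancel_epi (T.toCycles (j - 1) j), reassoc_of% hπ0]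
  simp

variable [IsLocallyNoetherian X]

/-- The cohomology of an internal Hom out of a complex with coherent cohomology is, in each degree,
that of an internal Hom out of a pseudo-coherent complex. -/
theorem exists_homology_hCx_iso (K : CochainComplex X.Modules ℤ) (hK : DCoh.IsKFlat K)
    (hKc : DCoh.IsCohD (DerivedCategory.Q.obj K)) (J : CochainComplex X.Modules ℤ) [J.IsKInjective] (b : ℤ)
    (hJ : ∀ n, b < n → IsZero (J.X n)) (m j : ℤ) :
    ∃ N : CochainComplex X.Modules ℤ, DCoh.IsKFlat N ∧ DCoh.IsPseudoCoherentD m (DerivedCategory.Q.obj N) ∧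
      Nonempty (((hCx K).obj J).homology j ≅ ((hCx N).obj J).homology (j + 1)) := by
  let n := b - j
  let P := (resX X).obj (K.truncLE n)
  haveI hπ : QuasiIso ((resXπ X).app (K.truncLE n)) := quasiIso_resXπ _
  let φ : P ⟶ K := (resXπ X).app (K.truncLE n) ≫ K.ιTruncLE n
  have hP : DCoh.IsKFlat P := isKFlat_resX _
  have hPlo : ∀ i, i ≤ n → IsIso (HomologicalComplex.homologyMap φ i) := fun i hi => by
    haveI : QuasiIsoAt ((resXπ X).app (K.truncLE n)) i := inferInstance
    haveI := CochainComplex.quasiIsoAt_ιTruncLE K n i hi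
    exact (quasiIsoAt_iff_isIso_homologyMap _ _).1 inferInstance
  have hPhi : ∀ i, n < i → IsZero (P.homology i) := fun i hi => by
    refine IsZero.of_iso ?_ (isoOfQuasiIsoAt ((resXπ X).app (K.truncLE n)) i)
    exact ShortComplex.isZero_homology_of_isZero_X₂ _
      (CochainComplex.isZero_of_isStrictlyLE (K.truncLE n) n i hi)
  let C := CochainComplex.mappingCone φ
  have hC : ∀ i, i < n + 1 → IsZero (C.homology i) := by
    intro i hi
    let T := DerivedCategory.Q.mapTriangle.obj (CochainComplex.mappingCone.triangle φ)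
    have hT : T ∈ distinguishedTriangles := DerivedCategory.mappingCone_triangle_distinguished φ
    let H := DerivedCategory.homologyFunctor X.Modules
    have iso : ∀ k, k ≤ n → IsIso ((H k).map T.mor₁) := fun k hk => by
      haveI := hPlo k hk
      exact (NatIso.isIso_map_iff (DerivedCategory.homologyFunctorFactors X.Modules k) φ).2
        (inferInstanceAs (IsIso (HomologicalComplex.homologyMap φ k)))
    haveI hi' := iso i (by omega)
    have e2 : (H i).map T.mor₂ = 0 := by
      have := DerivedCategory.HomologySequence.epi_homologyMap_mor₁_iff T hT i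
      exact this.1 inferInstance
    have e3 : DerivedCategory.HomologySequence.δ T i (i + 1) rfl = 0 := by
      rcases lt_or_ge i n with hin | hin
      · haveI := iso (i + 1) (by omega)
        exact (DerivedCategory.HomologySequence.mono_homologyMap_mor₁_iff T hT i (i + 1) rfl).1 inferInstance
      · refine IsZero.eq_of_tgt ?_ _ _
        exact (hPhi (i + 1) (by omega)).of_iso
          ((DerivedCategory.homologyFunctorFactors X.Modules (i + 1)).app P)
    exact ((DerivedCategory.HomologySequence.exact₃ T hT i (i + 1) rfl).isZero_of_both_zeros e2 e3).of_iso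
      ((DerivedCategory.homologyFunctorFactors X.Modules i).app C).symm
  let S := CochainComplex.mappingCone.triangleRotateShortComplex φ
  have hS := shortExact_hSeq (S := S) (CochainComplex.mappingCone.triangleRotateShortComplexSplitting φ) J
  have hmid : ∀ i, j ≤ i → IsZero (((hCx C).obj J).homology i) := fun i hi =>
    isZero_homology_hCx_gt C J b (n + 1) hJ hC i (by omega)
  haveI hδ : IsIso (hS.δ j (j + 1) rfl) :=
    hS.isIso_δ j (j + 1) rfl (hmid j le_rfl) (hmid (j + 1) (by omega))
  have eH : ∀ i, (P⟦(1 : ℤ)⟧).homology i ≅ P.homology (i + 1) := fun i =>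
    ((HomologicalComplex.homologyFunctor X.Modules (ComplexShape.up ℤ) 0).shiftIso (1 : ℤ) i (i + 1)
      (by omega)).app P
  have hcoh : DCoh.IsCohD (DerivedCategory.Q.obj (P⟦(1 : ℤ)⟧)) := fun i => by
    refine isCoh_iso (((DerivedCategory.homologyFunctorFactors X.Modules i).app (P⟦(1 : ℤ)⟧)) ≪≫ eH i).symm ?_
    rcases lt_or_ge n (i + 1) with hin | hin
    · exact isCoh_of_isFinLocFree (isFinLocFree_of_isZero (hPhi _ hin))
    · haveI := hPlo (i + 1) hin
      exact isCoh_iso ((DerivedCategory.homologyFunctorFactors X.Modules (i + 1)).app K ≪≫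
        (asIso (HomologicalComplex.homologyMap φ (i + 1))).symm) (hKc (i + 1))
  haveI : (DerivedCategory.Q.obj (P⟦(1 : ℤ)⟧)).IsLE n :=
    (DerivedCategory.isLE_iff _ _).2 fun i hi =>
      (hPhi (i + 1) (by omega)).of_iso
        (((DerivedCategory.homologyFunctorFactors X.Modules i).app (P⟦(1 : ℤ)⟧)) ≪≫ eH i)
  exact ⟨P⟦(1 : ℤ)⟧, isKFlat_shift hP 1, isPseudoCoherentD_of_coh _ n hcoh m, ⟨@asIso _ _ _ _ _ hδ⟩⟩

/-- Coherence of the cohomology of the internal Hom into a bounded complex of injectives. -/
theorem isCoh_homology_hCx_bdd (K : CochainComplex X.Modules ℤ) (hK : DCoh.IsKFlat K)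
    (hKc : DCoh.IsCohD (DerivedCategory.Q.obj K)) (J : CochainComplex X.Modules ℤ) [J.IsKInjective] (a b : ℤ)
    (hJa : ∀ n, n < a → IsZero (J.X n)) (hJb : ∀ n, b < n → IsZero (J.X n))
    (hJc : DCoh.IsCohD (DerivedCategory.Q.obj J)) (j : ℤ) : Coh.IsCoh (((hCx K).obj J).homology j) := by
  obtain ⟨N, hN, hpc, ⟨e⟩⟩ := exists_homology_hCx_iso K hK hKc J b hJb (a - j - 2) j
  exact isCoh_iso e.symm (isCoh_homology_hCx N hN _ a hpc J hJa hJc (j + 1) (by omega))

/-- Quasi-coherence of the cohomology of the internal Hom into a bounded complex of injectives. -/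
theorem isQCoh_homology_hCx_bdd (K : CochainComplex X.Modules ℤ) (hK : DCoh.IsKFlat K)
    (hKc : DCoh.IsCohD (DerivedCategory.Q.obj K)) (J : CochainComplex X.Modules ℤ) [J.IsKInjective] (a b : ℤ)
    (hJa : ∀ n, n < a → IsZero (J.X n)) (hJb : ∀ n, b < n → IsZero (J.X n))
    (hJq : DCoh.IsQCohD (DerivedCategory.Q.obj J)) (j : ℤ) : Coh.IsQCoh (((hCx K).obj J).homology j) := by
  obtain ⟨N, hN, hpc, ⟨e⟩⟩ := exists_homology_hCx_iso K hK hKc J b hJb (a - j - 2) j
  exact isQCoh_of_iso' e.symm (isQCoh_homology_hCx N hN _ a hpc J hJa hJq (j + 1) (by omega))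

/-- The derived internal Hom may be computed by a K-flat resolution and an internal Hom complex. -/
theorem nonempty_homology_rSheafHom (K : CochainComplex X.Modules ℤ) [DCoh.HasLTensorCx K] [DCoh.HasRSheafHom K]
    (J : CochainComplex X.Modules ℤ) [J.IsKInjective] {L : DCoh.D X} (eJ : DerivedCategory.Q.obj J ≅ L) (j : ℤ) :
    Nonempty (((hCx ((resX X).obj K)).obj J).homology j ≅ DCoh.HD ((DCoh.RSheafHom K).obj L) j) := by
  haveI := hasRSheafHom_of_isKFlat ((resX X).obj K) (isKFlat_resX K)
  obtain ⟨t⟩ := nonempty_lTensor_of_qis ((resXπ X).app K) (quasiIso_resXπ K)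
  let u : DCoh.RSheafHom ((resX X).obj K) ≅ DCoh.RSheafHom K :=
    (DCoh.RSheafHomAdj _).rightAdjointUniq ((DCoh.RSheafHomAdj K).ofNatIsoLeft t.symm)
  obtain ⟨e⟩ := nonempty_rSheafHom_hCx _ (isKFlat_resX K) J
  exact ⟨((DerivedCategory.homologyFunctorFactors _ j).app _).symm ≪≫
    (DerivedCategory.homologyFunctor X.Modules j).mapIso (e ≪≫ (DCoh.RSheafHom _).mapIso eJ ≪≫ u.app L)⟩

end Groth.Agent.DCohMore
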