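import Groth.Agent.DerSchH7.Amp
import Groth.Prelude.Def_DCoh3
import Mathlib.RingTheory.Flat.Stability

/-! Relative flat amplitude is tested on stalks over the base. -/

set_option autoImplicit false
set_option backward.isDefEq.respectTransparency false

universe u

open CategoryTheory Limits AlgebraicGeometry
attribute [local instance] HasDerivedCategory.standard

noncomputable section

namespace Groth.Agent.DCohMore

open Groth.Agent.DRingLib Groth.Agent.DCohLib Groth.Agent.DerSchH7

variable {X S : Scheme.{u}}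

theorem isFlatOverAt_iff_stalkOver (f : X ⟶ S) (M : X.Modules) (x : X) :
    FlatMod.IsFlatOverAt f M x ↔
      Module.Flat (S.presheaf.stalk (f.base x)) ((DerSch.stalkOver f x).obj M) := Iff.rfl

theorem isFlatOver_of_isZero (f : X ⟶ S) {M : X.Modules} (h : IsZero M) : FlatMod.IsFlatOver f M :=
  fun x => by
    rw [isFlatOverAt_iff_stalkOver]
    haveI : Subsingleton ((DerSch.stalkOver f x).obj M) :=
      ModuleCat.subsingleton_of_isZero ((DerSch.stalkOver f x).map_isZero h)
    exact inferInstance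

theorem isFlatOver_of_iso (f : X ⟶ S) {M N : X.Modules} (e : M ≅ N) (h : FlatMod.IsFlatOver f M) :
    FlatMod.IsFlatOver f N := fun x => by
  rw [isFlatOverAt_iff_stalkOver]
  haveI := (isFlatOverAt_iff_stalkOver f M x).1 (h x)
  exact Module.Flat.of_linearEquiv ((DerSch.stalkOver f x).mapIso e).toLinearEquiv.symm

theorem isFlatOver_of_isFlatMod (f : X ⟶ S) [Flat f] {M : X.Modules} (h : FlatMod.IsFlat M) :
    FlatMod.IsFlatOver f M := fun x => by
  letI : Algebra (S.presheaf.stalk (f.base x)) (X.presheaf.stalk x) := (f.stalkMap x).hom.toAlgebra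
  letI := Module.compHom (M.presheaf.stalk x) (f.stalkMap x).hom
  haveI : IsScalarTower (S.presheaf.stalk (f.base x)) (X.presheaf.stalk x) (M.presheaf.stalk x) :=
    ⟨fun r s m => mul_smul _ s m⟩
  haveI : Module.Flat (S.presheaf.stalk (f.base x)) (X.presheaf.stalk x) := Flat.stalkMap f x
  haveI : Module.Flat (X.presheaf.stalk x) (M.presheaf.stalk x) := h x
  show Module.Flat (S.presheaf.stalk (f.base x)) (M.presheaf.stalk x)
  exact Module.Flat.trans (S.presheaf.stalk (f.base x)) (X.presheaf.stalk x) (M.presheaf.stalk x)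

theorem hasTorAmplitude_of_relFlatAmplitude {f : X ⟶ S} {F : CochainComplex X.Modules ℤ} {a b : ℤ}
    (h : DCoh.HasRelFlatAmplitudeIn f a b (DCoh.toD X F)) : DerSch.HasTorAmplitude f a b F := fun x => by
  obtain ⟨E, hE, hfl, ⟨e⟩⟩ := h
  refine hasTorAmplitudeAt_congr _ e ?_
  exact ⟨(DerSch.stalkCxOver f x).obj E, fun i hi => (DerSch.stalkOver f x).map_isZero (hE i hi),
    fun i => (isFlatOverAt_iff_stalkOver f (E.X i) x).1 (hfl i x), ⟨Iso.refl _⟩⟩

theorem exactAt_of_hasTorAmplitude {f : X ⟶ S} {F : CochainComplex X.Modules ℤ} {a b : ℤ}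
    (h : DerSch.HasTorAmplitude f a b F) (i : ℤ) (hi : i < a ∨ b < i) : F.ExactAt i := by
  rw [HomologicalComplex.exactAt_iff_isZero_homology]
  refine isZero_of_stalks fun x => ?_
  obtain ⟨E, hE, -, ⟨e⟩⟩ := h x
  let G := (DerSch.stalkCxOver f x).obj F
  have h1 : IsZero (G.homology i) :=
    ((HomologicalComplex.exactAt_iff_isZero_homology _ _).1
      (ShortComplex.exact_of_isZero_X₂ _ (hE i hi))).of_iso
        (((DerivedCategory.homologyFunctorFactors _ i).app _).symm ≪≫
          (DerivedCategory.homologyFunctor _ i).mapIso e.symm ≪≫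
          (DerivedCategory.homologyFunctorFactors _ i).app _)
  have h2 : IsZero ((DerSch.stalkOver f x).obj (F.homology i)) :=
    h1.of_iso ((F.sc i).mapHomologyIso (DerSch.stalkOver f x)).symm
  exact ModuleCat.subsingleton_of_isZero h2

theorem isFlatOver_opcycles {f : X ⟶ S} {N : CochainComplex X.Modules ℤ} {c : ℤ}
    (hNb : ∀ i, c < i → IsZero (N.X i)) (hfl : ∀ i, FlatMod.IsFlatOver f (N.X i)) {a b : ℤ}
    (h : DerSch.HasTorAmplitude f a b N) : FlatMod.IsFlatOver f (N.opcycles a) := fun x => by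
  rw [isFlatOverAt_iff_stalkOver]
  let G : DRing.Cx (S.presheaf.stalk (f.base x)) := (DerSch.stalkCxOver f x).obj N
  haveI := flat_cokernel (K := G) (b := c) (fun i hi => (DerSch.stalkOver f x).map_isZero (hNb i hi))
    (fun i => (isFlatOverAt_iff_stalkOver f (N.X i) x).1 (hfl i x)) (h x)
  obtain ⟨q⟩ := opcycles_equiv G a
  have e : G.opcycles a ≅ (DerSch.stalkOver f x).obj (N.opcycles a) :=
    (N.sc a).mapOpcyclesIso (DerSch.stalkOver f x)
  haveI : Module.Flat (S.presheaf.stalk (f.base x)) (G.opcycles a) := Module.Flat.of_linearEquiv q.symm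
  exact Module.Flat.of_linearEquiv e.toLinearEquiv.symm

theorem relFlatAmplitude_of_hasTorAmplitude (f : X ⟶ S) [Flat f] {F : CochainComplex X.Modules ℤ} {a b : ℤ}
    (h : DerSch.HasTorAmplitude f a b F) : DCoh.HasRelFlatAmplitudeIn f a b (DCoh.toD X F) := by
  haveI : F.IsLE b := (CochainComplex.isLE_iff _ _).2 fun i hi =>
    exactAt_of_hasTorAmplitude h i (Or.inr hi)
  obtain ⟨N, c, hc, hN, hNb⟩ : ∃ (N : CochainComplex X.Modules ℤ) (c : N ⟶ F.truncLE b), QuasiIso c ∧
      (∀ n, ModSite.IsFlat (O := X.sheaf) (N.X n)) ∧ ∀ n, b < n → IsZero (N.X n) :=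
    exists_bdd_flat_resolution X.sheaf (F.truncLE b) b
      (fun n hn => CochainComplex.isZero_of_isStrictlyLE (F.truncLE b) b n hn)
  haveI := hc
  haveI : IsIso (DerivedCategory.Q.map (c ≫ F.ιTruncLE b)) :=
    Localization.inverts DerivedCategory.Q (HomologicalComplex.quasiIso X.Modules (ComplexShape.up ℤ)) _
      ((HomologicalComplex.mem_quasiIso_iff _).2 inferInstance)
  let e : DCoh.toD X N ≅ DCoh.toD X F := asIso (DerivedCategory.Q.map (c ≫ F.ιTruncLE b))
  have hN' : ∀ n, FlatMod.IsFlatOver f (N.X n) := fun n =>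
    isFlatOver_of_isFlatMod f ((DCohLib.isFlat_iff _).2 (hN n))
  have hT : DerSch.HasTorAmplitude f a b N := fun x => hasTorAmplitudeAt_congr _ e.symm (h x)
  haveI : CochainComplex.IsGE N a := (CochainComplex.isGE_iff _ _).2 fun i hi =>
    exactAt_of_hasTorAmplitude hT i (Or.inl hi)
  haveI : IsIso (DerivedCategory.Q.map (CochainComplex.πTruncGE N a)) :=
    Localization.inverts DerivedCategory.Q (HomologicalComplex.quasiIso X.Modules (ComplexShape.up ℤ)) _
      ((HomologicalComplex.mem_quasiIso_iff _).2 inferInstance)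
  refine ⟨CochainComplex.truncGE N a, fun i hi => ?_, fun i => ?_,
    ⟨(asIso (DerivedCategory.Q.map (CochainComplex.πTruncGE N a))).symm ≪≫ e⟩⟩
  · rcases hi with hi | hi
    · exact CochainComplex.isZero_of_isStrictlyGE _ a i hi
    · rcases lt_trichotomy i a with hia | rfl | hia
      · exact CochainComplex.isZero_of_isStrictlyGE _ a i hia
      · exact (IsZero.of_epi (N.pOpcycles i) (hNb i hi)).of_iso (CochainComplex.truncGEXIsoOpcycles N i)
      · exact (hNb i hi).of_iso (CochainComplex.truncGEXIso N a i hia)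
  · rcases lt_trichotomy i a with hia | rfl | hia
    · exact isFlatOver_of_isZero f (CochainComplex.isZero_of_isStrictlyGE _ a i hia)
    · exact isFlatOver_of_iso f (CochainComplex.truncGEXIsoOpcycles N i).symm
        (isFlatOver_opcycles hNb hN' hT)
    · exact isFlatOver_of_iso f (CochainComplex.truncGEXIso N a i hia).symm (hN' i)

/-- Relative flat amplitude is the stalkwise tor amplitude over the base. -/
theorem relFlatAmplitude_iff (f : X ⟶ S) [Flat f] (F : CochainComplex X.Modules ℤ) (a b : ℤ) :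
    DCoh.HasRelFlatAmplitudeIn f a b (DCoh.toD X F) ↔ DerSch.HasTorAmplitude f a b F :=
  ⟨hasTorAmplitude_of_relFlatAmplitude, relFlatAmplitude_of_hasTorAmplitude f⟩

end Groth.Agent.DCohMore
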