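import Groth.Agent.DCohMore.RelAmp
import Groth.Agent.DerSchH7.TensorPull
import Groth.Agent.DRingLib.RestrictAmp2
import Groth.Agent.TildePerf.PC
import Mathlib.RingTheory.Etale.Weakly
import Mathlib.RingTheory.Localization.BaseChange

/-! Relative tor amplitude of the sheaf of a complex of modules on an affine scheme. -/

set_option autoImplicit false
set_option backward.isDefEq.respectTransparency false
set_option linter.style.haveILetI false

universe u

open CategoryTheory Limits AlgebraicGeometry MonoidalCategory
open scoped TensorProduct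
attribute [local instance] HasDerivedCategory.standard

noncomputable section

namespace Groth.Agent.DCohMore

open Groth.Agent.DRingLib Groth.Agent.DCohLib Groth.Agent.DTenLib

theorem weaklyEtale_of_isLocalization {R S : Type u} [CommRing R] [CommRing S] [Algebra R S]
    (M : Submonoid R) [IsLocalization M S] : Algebra.WeaklyEtale R S := by
  haveI : Module.Flat R S := IsLocalization.flat S M
  refine ⟨inferInstance, ?_⟩
  haveI := IsLocalization.tensorProduct_compatibleSMul M S S S
  refine RingHom.Flat.of_bijective ⟨?_, fun s => ⟨s ⊗ₜ 1, mul_one s⟩⟩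
  refine (injective_iff_map_eq_zero _).2 fun z hz => ?_
  have key : ∀ z : S ⊗[R] S, z = Algebra.TensorProduct.lmul' R (S := S) z ⊗ₜ[R] 1 := fun z => by
    induction z with
    | zero => simp
    | add a b ha hb => rw [map_add, TensorProduct.add_tmul, ← ha, ← hb]
    | tmul s t =>
      show s ⊗ₜ[R] t = (s * t) ⊗ₜ[R] 1
      rw [mul_comm, ← smul_eq_mul, TensorProduct.smul_tmul, smul_eq_mul, mul_one]
  rw [key z]
  have hz' : Algebra.TensorProduct.lmul' R (S := S) z = 0 := hz
  rw [hz', TensorProduct.zero_tmul]

section Stalk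

variable {A : CommRingCat.{u}}

/-- The map from the ring to a local ring of its spectrum. -/
def toStk (x : Spec A) : A →+* (Spec A).presheaf.stalk x :=
  (StructureSheaf.toStalk A x).hom

/-- The map from a module to the stalk of its sheaf. -/
def tildeUnit (x : Spec A) (N : ModuleCat.{u} A) :
    N ⟶ (ModuleCat.restrictScalars.{u} (toStk x)).obj ((stkF x).obj ((tilde.functor A).obj N)) :=
  ModuleCat.ofHom (X := N) (Y := (ModuleCat.restrictScalars.{u} (toStk x)).obj
      ((stkF x).obj ((tilde.functor A).obj N)))
    { toFun := fun n => (tilde.toStalk N x).hom n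
      map_add' := fun _ _ => map_add _ _ _
      map_smul' := fun r n => (tilde.toStalk N x).hom.map_smul r n }

/-- The comparison from the extension of scalars to the stalk. -/
def tildeStalkNat (x : Spec A) :
    ModuleCat.extendScalars.{u, u, u} (toStk x) ⟶ tilde.functor A ⋙ stkF x where
  app N := ((ModuleCat.extendRestrictScalarsAdj.{u} (toStk x)).homEquiv N _).symm (tildeUnit x N)
  naturality {N N'} g := by
    refine (((ModuleCat.extendRestrictScalarsAdj.{u} (toStk x)).homEquiv_naturality_left_symm g _).symm.trans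
      (congrArg _ ?_)).trans ((ModuleCat.extendRestrictScalarsAdj.{u} (toStk x)).homEquiv_naturality_right_symm _ _)
    ext n
    have h1 := congrArg (fun φ => φ n) (tilde.toOpen_map_app g ⊤)
    exact ((DerSch.stalkFunctor_map_germ x ((tilde.functor A).map g) ⊤ trivial
      ((tilde.toOpen N ⊤).hom n)).trans
      (congrArg (((tilde.functor A).obj N').presheaf.germ ⊤ x trivial) h1)).symm

theorem isIso_tildeStalkNat_app (x : Spec A) (N : ModuleCat.{u} A) :
    IsIso ((tildeStalkNat x).app N) := by
  rw [ConcreteCategory.isIso_iff_bijective]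
  letI : Algebra A ((Spec A).presheaf.stalk x) := StructureSheaf.stalkAlgebra A x
  haveI : IsLocalization.AtPrime ((Spec A).presheaf.stalk x) x.asIdeal :=
    StructureSheaf.IsLocalization.to_stalk A x
  haveI : IsScalarTower A ((Spec A).presheaf.stalk x) (ModuleCat.of A ((tilde N).presheaf.stalk x)) :=
    .of_algebraMap_smul fun _ _ => rfl
  have hb := (IsLocalizedModule.isBaseChange x.asIdeal.primeCompl ((Spec A).presheaf.stalk x)
    (tilde.toStalk N x).hom).equiv.bijective
  have heq : ∀ z : (Spec A).presheaf.stalk x ⊗[A] N, ((tildeStalkNat x).app N).hom z =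
      (IsLocalizedModule.isBaseChange x.asIdeal.primeCompl ((Spec A).presheaf.stalk x)
        (tilde.toStalk N x).hom).equiv z := fun z => by
    induction z with
    | zero => exact (map_zero _).trans (map_zero _).symm
    | add a b ha hb => exact ((map_add _ _ _).trans (congrArg₂ (· + ·) ha hb)).trans (map_add _ _ _).symm
    | tmul s n =>
      exact ((IsLocalizedModule.isBaseChange x.asIdeal.primeCompl ((Spec A).presheaf.stalk x)
        (tilde.toStalk N x).hom).equiv_tmul s n).symm
  exact ⟨fun z w h => hb.1 ((heq z).symm.trans (h.trans (heq w))), fun y => by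
    obtain ⟨z, hz⟩ := hb.2 y
    exact ⟨z, (heq z).trans hz⟩⟩

/-- Stalks of the sheaf of a module are localisations. -/
def tildeStalkIso (x : Spec A) :
    ModuleCat.extendScalars.{u, u, u} (toStk x) ≅ tilde.functor A ⋙ stkF x :=
  haveI : ∀ N, IsIso ((tildeStalkNat x).app N) := isIso_tildeStalkNat_app x
  haveI : IsIso (tildeStalkNat x) := NatIso.isIso_of_isIso_app _
  asIso (tildeStalkNat x)

end Stalk

variable {A : Type u} [CommRing A]

/-- The stalk complex of the sheaf of a complex. -/
def tildeStalkCxIso (x : Spec (CommRingCat.of A)) (K : DRing.Cx A) :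
    (DTen.extCx (toStk x)).obj K ≅
      ((stkF x).mapHomologicalComplex (ComplexShape.up ℤ)).obj (TildePerf.tilC K) :=
  HomologicalComplex.Hom.isoOfComponents (fun n => (tildeStalkIso x).app (K.X n))
    (fun n m _ => ((tildeStalkIso x).hom.naturality (K.d n m)).symm)

variable {R : Type u} [CommRing R] (φ : R →+* A)

theorem toStk_comp (x : Spec (CommRingCat.of A)) :
    ((Spec.map (CommRingCat.ofHom φ)).stalkMap x).hom.comp
        (toStk ((Spec.map (CommRingCat.ofHom φ)).base x)) = (toStk x).comp φ :=
  congrArg CommRingCat.Hom.hom (AlgebraicGeometry.stalkMap_toStalk (CommRingCat.ofHom φ) x)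

theorem amp_restrict_ext_iff {B : Type u} [CommRing B] (χ : A →+* B) (K : DRing.Cx A) (a b : ℤ) :
    DRing.HasTorAmplitudeIn R a b ((DRing.restrictD (χ.comp φ)).obj (DRing.toD ((DTen.extCx χ).obj K))) ↔
      ∀ (M : ModuleCat.{u} R) (i : ℤ), (i < a ∨ b < i) →
        ((tensM (baseMod χ)).obj (K ⊗ (DTen.extCx φ).obj (resM M) : DRing.Cx A)).ExactAt i :=
  (amp_restrict_iff _ _ a b).trans (forall_congr' fun M => forall_congr' fun i => imp_congr_right fun _ =>
    exactAt_extCx_tensor_iff' φ χ K (resM M) i)

theorem amp_restrict_ext_of_flat {B : Type u} [CommRing B] (χ : A →+* B) (hχ : Module.Flat A (baseMod χ))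
    (K : DRing.Cx A) {a b : ℤ} (h : DRing.HasTorAmplitudeIn R a b ((DRing.restrictD φ).obj (DRing.toD K))) :
    DRing.HasTorAmplitudeIn R a b ((DRing.restrictD (χ.comp φ)).obj (DRing.toD ((DTen.extCx χ).obj K))) := by
  refine (amp_restrict_ext_iff φ χ K a b).2 fun M i hi => ?_
  haveI := preservesHomology_tensorLeft_of_flat (baseMod χ) hχ
  rw [HomologicalComplex.exactAt_iff]
  exact (((HomologicalComplex.exactAt_iff _ _).1 ((amp_restrict_iff φ K a b).1 h M i hi))).map
    (tensorLeft (baseMod χ))

/-- Tor amplitude at a point of the spectrum, over the base ring. -/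
theorem hasTorAmplitudeAt_tilde_iff (K : DRing.Cx A) (a b : ℤ) (x : Spec (CommRingCat.of A)) :
    DerSch.HasTorAmplitudeAt (Spec.map (CommRingCat.ofHom φ)) a b (TildePerf.tilC K) x ↔
      DRing.HasTorAmplitudeIn R a b ((DRing.restrictD ((toStk x).comp φ)).obj
        (DRing.toD ((DTen.extCx (toStk x)).obj K))) := by
  let f := Spec.map (CommRingCat.ofHom φ)
  let C := (Spec (CommRingCat.of R)).presheaf.stalk (f.base x)
  let ψ : R →+* C := toStk (f.base x)
  let χ : C →+* (Spec (CommRingCat.of A)).presheaf.stalk x := (f.stalkMap x).hom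
  letI : Algebra R C := StructureSheaf.stalkAlgebra R (f.base x)
  haveI : IsLocalization.AtPrime C (f.base x).asIdeal := StructureSheaf.IsLocalization.to_stalk R (f.base x)
  haveI : Algebra.WeaklyEtale R C := weaklyEtale_of_isLocalization (f.base x).asIdeal.primeCompl
  have hc : (toStk x).comp φ = χ.comp ψ := (toStk_comp φ x).symm
  have e₁ : DRing.toD ((DerSch.stalkCxOver f x).obj (TildePerf.tilC K)) ≅
      (DRing.restrictD χ).obj (DRing.toD ((DTen.extCx (toStk x)).obj K)) :=
    DerivedCategory.Q.mapIso (DerSchH7.stalkCxOverResIso f x _ ≪≫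
      (DTen.resCx χ).mapIso (tildeStalkCxIso x K).symm) ≪≫ ((DTen.resFactors χ).app _).symm
  have e₂ : (DRing.restrictD ψ).obj ((DRing.restrictD χ).obj (DRing.toD ((DTen.extCx (toStk x)).obj K))) ≅
      (DRing.restrictD ((toStk x).comp φ)).obj (DRing.toD ((DTen.extCx (toStk x)).obj K)) :=
    (DRing.restrictD ψ).mapIso ((DTen.resFactors χ).app _) ≪≫ (DTen.resFactors ψ).app _ ≪≫
      DerivedCategory.Q.mapIso (((NatIso.mapHomologicalComplex
        (ModuleCat.restrictScalarsComp'.{u} ψ χ ((toStk x).comp φ) hc) (ComplexShape.up ℤ)).app _).symm) ≪≫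
      ((DTen.resFactors _).app _).symm
  constructor
  · intro h
    exact amp_of_iso e₂ (amp_restrict_of_flat ψ (RingHom.flat_algebraMap_iff.2 inferInstance)
      (amp_of_iso e₁ h))
  · intro h
    exact amp_of_iso e₁.symm (amp_of_restrict_weaklyEtale (A := R) (amp_of_iso e₂.symm h))

/-- Tor amplitude at all points of the spectrum is tor amplitude over the base ring. -/
theorem hasTorAmplitude_tilde_iff (K : DRing.Cx A) (a b : ℤ) :
    DerSch.HasTorAmplitude (Spec.map (CommRingCat.ofHom φ)) a b (TildePerf.tilC K) ↔
      DRing.HasTorAmplitudeIn R a b ((DRing.restrictD φ).obj (DRing.toD K)) := by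
  constructor
  · intro h
    refine amp_restrict_of_maximal φ K a b fun m hm => (amp_restrict_ext_iff φ _ K a b).2 fun M i hi => ?_
    let x : Spec (CommRingCat.of A) := ⟨m, hm.isPrime⟩
    have h1 := (amp_restrict_ext_iff φ _ K a b).1 ((hasTorAmplitudeAt_tilde_iff φ K a b x).1 (h x)) M i hi
    letI : Algebra A ((Spec (CommRingCat.of A)).presheaf.stalk x) := StructureSheaf.stalkAlgebra A x
    haveI : IsLocalization m.primeCompl ((Spec (CommRingCat.of A)).presheaf.stalk x) :=
      StructureSheaf.IsLocalization.to_stalk A x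
    let g := IsLocalization.algEquiv m.primeCompl ((Spec (CommRingCat.of A)).presheaf.stalk x)
      (Localization.AtPrime m)
    let e : baseMod (toStk x) ≅ baseMod (algebraMap A (Localization.AtPrime m)) :=
      ((baseModEquiv A _).trans (g.toLinearEquiv.trans (baseModEquiv A _).symm)).toModuleIso
    exact (exactAt_iff_of_iso ((NatIso.mapHomologicalComplex ((tensoringLeft (ModuleCat.{u} A)).mapIso e)
      (ComplexShape.up ℤ)).app _) i).1 h1
  · intro h x
    refine (hasTorAmplitudeAt_tilde_iff φ K a b x).2 (amp_restrict_ext_of_flat φ _ ?_ K h)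
    letI : Algebra A ((Spec (CommRingCat.of A)).presheaf.stalk x) := StructureSheaf.stalkAlgebra A x
    haveI : IsLocalization x.asIdeal.primeCompl ((Spec (CommRingCat.of A)).presheaf.stalk x) :=
      StructureSheaf.IsLocalization.to_stalk A x
    haveI := IsLocalization.flat ((Spec (CommRingCat.of A)).presheaf.stalk x) x.asIdeal.primeCompl
    exact flat_baseMod A _

end Groth.Agent.DCohMore
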