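import Groth.Agent.DCohMore.RelTorLoc
import Groth.Agent.DCohMore.TildeStalkAmp
import Groth.Agent.DerSchH7.Stalk

/-! Relative tor dimension in affine charts. -/

set_option autoImplicit false
set_option backward.isDefEq.respectTransparency false
set_option linter.style.haveILetI false

universe u

open CategoryTheory Limits AlgebraicGeometry
attribute [local instance] HasDerivedCategory.standard

noncomputable section

namespace Groth.Agent.DCohMore

open Groth.Agent.DRingLib Groth.Agent.DCohLib Groth.Agent.DerSchH7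

variable {R A : Type u} [CommRing R] [CommRing A] (φ : R →+* A)

theorem flat_specMap_of_flat (hφ : φ.Flat) : Flat (Spec.map (CommRingCat.ofHom φ)) :=
  (HasRingHomProperty.Spec_iff (P := @Flat)).2 hφ

theorem locFiniteTorAmplitude_tilde_iff (K : DRing.Cx A) :
    DerSch.LocFiniteTorAmplitude (Spec.map (CommRingCat.ofHom φ)) (TildePerf.tilC K) ↔
      DRing.HasFiniteTorDimCx R ((DRing.restrictD φ).obj (DRing.toD K)) := by
  constructor
  · intro h
    choose V a b hx hV using h
    obtain ⟨t, ht⟩ := isCompact_univ.elim_finite_subcover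
      (fun x => (V x : Set (Spec (CommRingCat.of A))))
      (fun x => (V x).isOpen) fun x _ => Set.mem_iUnion.2 ⟨x, hx x⟩
    obtain ⟨a₀, ha₀⟩ := (t.finite_toSet.image a).bddBelow
    obtain ⟨b₀, hb₀⟩ := (t.finite_toSet.image b).bddAbove
    refine ⟨a₀, b₀, (hasTorAmplitude_tilde_iff φ K a₀ b₀).1 fun x => ?_⟩
    obtain ⟨y, hy, hxy⟩ := Set.mem_iUnion₂.1 (ht (Set.mem_univ x))
    exact DRingLib.hasTorAmplitudeIn_mono (ha₀ ⟨y, hy, rfl⟩) (hb₀ ⟨y, hy, rfl⟩) (hV y x hxy)
  · rintro ⟨a, b, h⟩ x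
    exact ⟨⊤, a, b, trivial, fun x' _ => (hasTorAmplitude_tilde_iff φ K a b).2 h x'⟩

section Target

variable {X Y Z : Scheme.{u}} (g : X ⟶ Y) (j : Y ⟶ Z) [IsOpenImmersion j]

theorem weaklyEtale_of_bijective {R S : Type u} [CommRing R] [CommRing S] [Algebra R S]
    (h : Function.Bijective (algebraMap R S)) : Algebra.WeaklyEtale R S := by
  haveI : IsLocalization (⊥ : Submonoid R) S :=
    IsLocalization.of_le_isUnit_of_bijective
      (by rintro _ ⟨y, rfl : y = 1, rfl⟩; exact (map_one (algebraMap R S)).symm ▸ isUnit_one) h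
  exact weaklyEtale_of_isLocalization ⊥

/-- Relative tor amplitude does not see open immersions of the base. -/
theorem hasTorAmplitudeAt_comp_iff (F : CochainComplex X.Modules ℤ) (a b : ℤ) (x : X) :
    DerSch.HasTorAmplitudeAt (g ≫ j) a b F x ↔ DerSch.HasTorAmplitudeAt g a b F x := by
  let ψ := (j.stalkMap (g.base x)).hom
  letI := ψ.toAlgebra
  have hbij : Function.Bijective ψ := ConcreteCategory.bijective_of_isIso (j.stalkMap (g.base x))
  haveI := weaklyEtale_of_bijective (R := Z.presheaf.stalk (j.base (g.base x)))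
    (S := Y.presheaf.stalk (g.base x)) hbij
  have e := (DTen.resFactors ψ).app ((DerSch.stalkCxOver g x).obj F) ≪≫
    DerivedCategory.Q.mapIso (stalkCxOverCompIso g j x F).symm
  exact ⟨fun h => amp_of_restrict_weaklyEtale (A := Z.presheaf.stalk (j.base (g.base x)))
      (amp_of_iso e.symm h),
    fun h => amp_of_iso e (amp_restrict_of_flat ψ (RingHom.Flat.of_bijective hbij) h)⟩

end Target

section Chart

variable {X S : Scheme.{u}} (f : X ⟶ S)

/-- Relative tor dimension, read in an affine chart. -/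
theorem hasFiniteTorDimCx_of_chart [Flat f] {E : DCoh.D X} (hE : DCoh.LocHasFiniteRelTorDim f E)
    {R A : CommRingCat.{u}} (ψ : R ⟶ A) [PreservesFiniteLimits (tilde.functor A)]
    (g : Spec A ⟶ X) [IsOpenImmersion g] (k : Spec R ⟶ S)
    [IsOpenImmersion k] (hgk : Spec.map ψ ≫ k = g ≫ f) (M : Dual.D A)
    (e : (DCoh.restrictD g).obj E ≅ (DCoh.tildeD A).obj M) :
    DRing.HasFiniteTorDimCx R ((DRing.restrictD ψ.hom).obj M) := by
  let K := DerivedCategory.Q.objPreimage M
  let eK : DRing.toD K ≅ M := DerivedCategory.Q.objObjPreimageIso M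
  let F := DerivedCategory.Q.objPreimage E
  have hF := (locHasFiniteRelTorDim_iff_preimage f E).1 hE
  let eT : DCoh.toD (Spec A) ((resCx g).obj F) ≅ DCoh.toD (Spec A) (TildePerf.tilC (A := A) K) :=
    (restrictDQ g F).symm ≪≫ (DCoh.restrictD g).mapIso (DerivedCategory.Q.objObjPreimageIso E) ≪≫ e ≪≫
      (DCoh.tildeD A).mapIso eK.symm ≪≫ TildePerf.tildeDQ K
  have h : DerSch.LocFiniteTorAmplitude (Spec.map ψ) (TildePerf.tilC (A := A) K) := fun y => by
    obtain ⟨V, a, b, hy, hV⟩ := hF (g.base y)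
    refine ⟨g ⁻¹ᵁ V, a, b, hy, fun y' hy' => hasTorAmplitudeAt_congr _ eT ?_⟩
    refine (hasTorAmplitudeAt_comp_iff (Spec.map ψ) k _ a b y').1 ?_
    rw [hgk]
    exact (hasTorAmplitudeAt_restrict_iff g f y' F a b).2 (hV (g.base y') hy')
  obtain ⟨a, b, hab⟩ := (locFiniteTorAmplitude_tilde_iff ψ.hom K).1 h
  exact ⟨a, b, amp_of_iso ((DRing.restrictD ψ.hom).mapIso eK) hab⟩

/-- Affine charts with finite tor dimension give relative finite tor dimension near their points. -/
theorem exists_open_of_chart {E : DCoh.D X} (F : CochainComplex X.Modules ℤ) (eF : DCoh.toD X F ≅ E)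
    {R A : CommRingCat.{u}} (ψ : R ⟶ A) [PreservesFiniteLimits (tilde.functor A)]
    (g : Spec A ⟶ X) [IsOpenImmersion g] (k : Spec R ⟶ S)
    [IsOpenImmersion k] (hgk : Spec.map ψ ≫ k = g ≫ f) (M : Dual.D A)
    (e : (DCoh.restrictD g).obj E ≅ (DCoh.tildeD A).obj M)
    (h : DRing.HasFiniteTorDimCx R ((DRing.restrictD ψ.hom).obj M)) :
    ∃ a b : ℤ, ∀ x' : X, x' ∈ g.opensRange → DerSch.HasTorAmplitudeAt f a b F x' := by
  obtain ⟨a, b, hab⟩ := h
  refine ⟨a, b, ?_⟩
  rintro _ ⟨y, rfl⟩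
  let K := DerivedCategory.Q.objPreimage M
  let eK : DRing.toD K ≅ M := DerivedCategory.Q.objObjPreimageIso M
  let eT : DCoh.toD (Spec A) (TildePerf.tilC (A := A) K) ≅ DCoh.toD (Spec A) ((resCx g).obj F) :=
    (TildePerf.tildeDQ K).symm ≪≫ (DCoh.tildeD A).mapIso eK ≪≫ e.symm ≪≫
      (DCoh.restrictD g).mapIso eF.symm ≪≫ restrictDQ g F
  refine (hasTorAmplitudeAt_restrict_iff g f y F a b).1 ?_
  rw [← hgk]
  exact (hasTorAmplitudeAt_comp_iff (Spec.map ψ) k _ a b y).2 (hasTorAmplitudeAt_congr _ eT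
    ((hasTorAmplitude_tilde_iff ψ.hom K a b).2 (amp_of_iso ((DRing.restrictD ψ.hom).mapIso eK.symm) hab) y))

end Chart

end Groth.Agent.DCohMore
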