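import Groth.Agent.S1064
import Groth.Agent.S1065
import Groth.Agent.S1066
import Groth.Agent.DCohMore.RpushPerfFP
import Groth.Agent.DCohMore.BCTwistAffine
import Groth.Agent.DCohMore.BCGeneral
import Groth.Agent.DCohLib.ProjMap
/-!
Loci where derived direct images of flat modules are locally free in one degree.
-/

set_option autoImplicit false
set_option linter.style.haveILetI false
set_option linter.unusedSectionVars false
set_option backward.isDefEq.respectTransparency false
set_option maxHeartbeats 1000000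

universe u

open CategoryTheory Limits AlgebraicGeometry TopologicalSpace Pretriangulated ZeroObject
attribute [local instance] HasDerivedCategory.standard

noncomputable section

namespace Groth.Agent.DCohMore

open Groth.Agent.DRingLib Groth.Agent.DCohLib

variable {X X' : Scheme.{u}}

/-- The structure sheaf in the derived category. -/
abbrev oD (X : Scheme.{u}) : DCoh.D X := DCoh.toD X (unitCx X)

theorem isPerfect_oD : DCoh.IsPerfect (oD X) :=
  isPerfect_of_perfOn ⟨_, isStrictlyPerfect_shiftUnitCx 0, ⟨Iso.refl _⟩⟩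

theorem isFlat_unitCx (n : ℤ) : FlatMod.IsFlat ((unitCx X).X n) := by
  rcases eq_or_ne n 0 with rfl | hn
  · exact isFlat_congr (HomologicalComplex.singleObjXSelf _ _ _).symm
      ((isFlat_iff _).2 (SiteBase.ExtZeroPre.isFlat_unit X.sheaf))
  · exact (isFlat_iff _).2 (ModTensor.isFlat_of_isZero X.sheaf (HomologicalComplex.isZero_single_obj_X _ _ _ _ hn))

theorem nonempty_lTensorMod_oD (G : X.Modules) [DCoh.HasLTensorMod G] :
    Nonempty ((DCoh.LTensorMod G).obj (oD X) ≅ DCoh.inD X G) := by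
  obtain ⟨e⟩ := BC.nonempty_unit_tensor G
  exact ⟨lTensorModIso G (unitCx X) isKFlat_unitCx ≪≫ DerivedCategory.Q.mapIso
    ((HomologicalComplex.singleMapHomologicalComplex (DCoh.tensorRightMod G) (ComplexShape.up ℤ) 0).app _ ≪≫
      (HomologicalComplex.single X.Modules (ComplexShape.up ℤ) 0).mapIso e) ≪≫
    ((DerivedCategory.singleFunctorIsoCompQ X.Modules 0).app G).symm⟩

theorem nonempty_lpull_oD (p : X' ⟶ X) [DCoh.HasLpull p] :
    Nonempty ((DCoh.Lpull p).obj (oD X) ≅ oD X') :=
  ⟨lpullIso p (unitCx X) isKFlat_unitCx isFlat_unitCx ≪≫ DerivedCategory.Q.mapIso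
    ((HomologicalComplex.singleMapHomologicalComplex (Scheme.Modules.pullback p) (ComplexShape.up ℤ) 0).app _ ≪≫
      (HomologicalComplex.single X'.Modules (ComplexShape.up ℤ) 0).mapIso (pullStructureIso p))⟩

theorem exists_open_rpush_locFree {S : Scheme.{u}} (f : X ⟶ S) [IsProper f] [LocallyOfFinitePresentation f]
    (F : X.Modules) (hF : CohB1.IsFP F) (hflat : FlatMod.IsFlatOver f F) (i : ℤ) (r : ℕ) :
    ∃ U : S.Opens, ∀ (T : Scheme.{u}) (g : T ⟶ S) [DCoh.HasRpush (pullback.snd f g)],
      Set.range g.base ⊆ (U : Set S) ↔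
        ∃ V : T.Modules, FlatMod.IsFinLocFreeOfRank r V ∧
          Nonempty ((DCoh.Rpush (pullback.snd f g)).obj (DCoh.inD (pullback f g) ((Scheme.Modules.pullback (pullback.fst f g)).obj F)) ≅ (DCoh.inD T V)⟦-i⟧) := by
  haveI := BC.hasRpush f
  have hFq : Coh.IsQCoh F := FibreDepth.isQCoh_of_isFP F hF
  have hsupp : ClSub.IsProperOver f (CohB1.support F) :=
    ClSubLib.isProperOver_subset f ((ClSubLib.isProperOver_iff f (𝟙 X) (Set.range_id)).2 (by rwa [Category.id_comp]))
      (PullbackMod.isClosed_support_of_isFT (ExactConstrLib.isFT_of_isFP hF)) (Set.subset_univ _)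
  have hE : DCoh.IsPerfect ((DCoh.Rpush f).obj ((DCoh.LTensorMod F).obj (oD X))) :=
    Groth.Agent.S1065.result f (oD X) isPerfect_oD F hF hflat hsupp
  obtain ⟨U, hU⟩ := Groth.Agent.S1064.result S _ hE i r
  refine ⟨U, fun T g _ => ?_⟩
  haveI := hasLpull g
  haveI := hasLpull (pullback.fst f g)
  obtain ⟨e⟩ := Groth.Agent.S1066.result f g (oD X) (isQCohD_of_isPerfect isPerfect_oD) F hFq hflat
  obtain ⟨a⟩ := nonempty_lpull_oD (pullback.fst f g)
  obtain ⟨b⟩ := nonempty_lTensorMod_oD ((Scheme.Modules.pullback (pullback.fst f g)).obj F)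
  let k := e ≪≫ (DCoh.Rpush (pullback.snd f g)).mapIso ((DCoh.LTensorMod _).mapIso a ≪≫ b)
  rw [hU T g]
  exact exists_congr fun V => and_congr_right fun _ =>
    ⟨fun ⟨h⟩ => ⟨k.symm ≪≫ h⟩, fun ⟨h⟩ => ⟨k ≪≫ h⟩⟩

end Groth.Agent.DCohMore
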