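import Groth.Agent.DCohMore.SpecTors
import Groth.Agent.DCohMore.TildeStalkAmp
import Groth.Agent.DCohLib.TwoThree
import Groth.Agent.DCohLib.PCTop
import Groth.Agent.TildePerf.PC
import Groth.Agent.TildeD.QCohPull
import Groth.Agent.PullbackMod.SuppClosed
import Groth.Agent.PullbackMod.OpenLocus
import Groth.Agent.S4812
import Mathlib.CategoryTheory.Triangulated.Triangulated

/-! Approximation of torsion objects on a quasi-compact open of an affine scheme. -/

set_option autoImplicit false
set_option linter.style.haveILetI false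
set_option backward.isDefEq.respectTransparency false

universe u

open CategoryTheory Limits AlgebraicGeometry Pretriangulated
open scoped TensorProduct
attribute [local instance] HasDerivedCategory.standard

noncomputable section

namespace Groth.Agent.DCohMore

open Groth.Agent.DRingLib Groth.Agent.DCohLib

section Stalks

variable {R : CommRingCat.{u}}

/-- Finitely many elements generate a finite stalk. -/
theorem exists_finset_stalk (N : ModuleCat.{u} R) (W : (Spec R).Opens)
    (hFT : CohB1.IsFT ((Scheme.Modules.restrictFunctor W.ι).obj ((tilde.functor R).obj N))) (x : Spec R)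
    (hx : x ∈ W) :
    ∃ T : Finset N, Subsingleton ((tilde (ModuleCat.of R (N ⧸ Submodule.span R (T : Set N)))).presheaf.stalk x) := by
  classical
  haveI : Coh.IsQCoh ((tilde.functor R).obj N) := inferInstanceAs ((tilde N).IsQuasicoherent)
  haveI : Coh.IsQCoh ((Scheme.Modules.restrictFunctor W.ι).obj ((tilde.functor R).obj N)) :=
    inferInstanceAs ((Scheme.Modules.restrictFunctor W.ι).obj (tilde N)).IsQuasicoherent
  let y : (W : Scheme.{u}) := ⟨x, hx⟩
  obtain ⟨G, hG⟩ := (PullbackMod.finite_stalk_of_isFT hFT y).fg_top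
  let τ := fun P : ModuleCat.{u} R => (tildeStalkIso x).app P
  let E := fun P : ModuleCat.{u} R =>
    ((Scheme.Modules.restrictStalkNatIso W.ι y).app ((tilde.functor R).obj P)).addCommGroupIsoToAddEquiv
  let zf : ((Scheme.Modules.restrictFunctor W.ι).obj ((tilde.functor R).obj N)).presheaf.stalk y →
      (ModuleCat.extendScalars.{u, u, u} (toStk x)).obj N := fun g => (τ N).inv.hom (E N g)
  have hfin : ∀ z : (ModuleCat.extendScalars.{u, u, u} (toStk x)).obj N,
      ∃ T : Finset N, ∀ (Q : ModuleCat.{u} R) (π : N ⟶ Q), (∀ t ∈ T, π.hom t = 0) →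
        (ModuleCat.extendScalars.{u, u, u} (toStk x)).map π z = 0 := by
    intro z
    induction z using TensorProduct.induction_on with
    | zero => exact ⟨∅, fun Q π _ => map_zero _⟩
    | tmul s n => exact ⟨{n}, fun Q π h => by
        rw [ModuleCat.ExtendScalars.map_tmul]
        rw [show π.hom n = 0 from h n (Finset.mem_singleton_self n), TensorProduct.tmul_zero]⟩
    | add a b ha hb =>
      obtain ⟨T₁, h₁⟩ := ha
      obtain ⟨T₂, h₂⟩ := hb
      exact ⟨T₁ ∪ T₂, fun Q π h => by
        rw [map_add, h₁ Q π fun t ht => h t (Finset.mem_union_left _ ht),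
          h₂ Q π fun t ht => h t (Finset.mem_union_right _ ht), add_zero]⟩
  choose T hT using fun g => hfin (zf g)
  refine ⟨G.biUnion T, ?_⟩
  let Q := ModuleCat.of R (N ⧸ Submodule.span R ((G.biUnion T : Finset N) : Set N))
  let π : N ⟶ Q := ModuleCat.ofHom (Submodule.mkQ _)
  let ψ := (stkF y).map ((Scheme.Modules.restrictFunctor W.ι).map ((tilde.functor R).map π))
  have hcomm : ∀ g, (τ Q).inv.hom (E Q (ψ.hom g)) =
      (ModuleCat.extendScalars.{u, u, u} (toStk x)).map π (zf g) := fun g => by
    have h1 : E Q (ψ.hom g) = ((stkF x).map ((tilde.functor R).map π)).hom (E N g) :=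
      ConcreteCategory.congr_hom
        ((Scheme.Modules.restrictStalkNatIso W.ι y).hom.naturality ((tilde.functor R).map π)) g
    rw [h1]
    exact ConcreteCategory.congr_hom ((tildeStalkIso x).inv.naturality π) (E N g)
  have hψ : ψ.hom = 0 := LinearMap.ext_on hG fun g hg => by
    apply (E Q).injective
    apply (τ Q).symm.toLinearEquiv.injective
    show (τ Q).inv.hom (E Q (ψ.hom g)) = (τ Q).inv.hom (E Q 0)
    rw [hcomm g, hT g Q π fun t ht => ?_, map_zero, map_zero]
    exact (Submodule.Quotient.mk_eq_zero _).2 (Submodule.subset_span (Finset.mem_biUnion.2 ⟨g, hg, ht⟩))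
  refine (τ Q).toLinearEquiv.toEquiv.subsingleton_congr.1 ?_
  refine subsingleton_of_forall_eq 0 fun w => ?_
  obtain ⟨z, rfl⟩ : ∃ z, (ModuleCat.extendScalars.{u, u, u} (toStk x)).map π z = w := by
    induction w using TensorProduct.induction_on with
    | zero => exact ⟨0, map_zero _⟩
    | tmul s q =>
      obtain ⟨n, rfl⟩ := Submodule.mkQ_surjective _ q
      exact ⟨s ⊗ₜ n, ModuleCat.ExtendScalars.map_tmul ..⟩
    | add a b ha hb =>
      obtain ⟨za, rfl⟩ := ha
      obtain ⟨zb, rfl⟩ := hb
      exact ⟨za + zb, map_add _ _ _⟩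
  obtain ⟨g, rfl⟩ : ∃ g, zf g = z :=
    ⟨(E N).symm ((τ N).hom.hom z), by
      show (τ N).inv.hom (E N ((E N).symm ((τ N).hom.hom z))) = z
      rw [AddEquiv.apply_symm_apply]
      exact (τ N).toLinearEquiv.symm_apply_apply z⟩
  rw [← hcomm g, hψ]
  exact (congrArg (τ Q).inv.hom (map_zero (E Q))).trans (map_zero _)

/-- Finitely many elements generate all stalks over a quasi-compact open. -/
theorem exists_finset_open (N : ModuleCat.{u} R) (W : (Spec R).Opens) (hW : IsCompact (W : Set (Spec R)))
    (hFT : CohB1.IsFT ((Scheme.Modules.restrictFunctor W.ι).obj ((tilde.functor R).obj N))) :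
    ∃ T : Finset N, ∀ x ∈ W, ∀ n : N, ∃ s ∉ x.asIdeal, s • n ∈ Submodule.span R (T : Set N) := by
  classical
  let M := fun T : Finset N => ModuleCat.of R (N ⧸ Submodule.span R (T : Set N))
  choose T hT using fun x : W => exists_finset_stalk N W hFT x.1 x.2
  have hcl : ∀ x : W, IsClosed (CohB1.support ((Scheme.Modules.restrictFunctor W.ι).obj ((tilde.functor R).obj (M (T x))))) := by
    intro x
    haveI := TildeD.preservesFiniteLimits_tilde (R := R)
    let π : N ⟶ M (T x) := ModuleCat.ofHom (Submodule.mkQ _)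
    haveI : Epi π := (ModuleCat.epi_iff_surjective _).2 (Submodule.mkQ_surjective _)
    haveI : Coh.IsQCoh ((Scheme.Modules.restrictFunctor W.ι).obj ((tilde.functor R).obj N)) :=
      inferInstanceAs ((Scheme.Modules.restrictFunctor W.ι).obj (tilde N)).IsQuasicoherent
    haveI : Coh.IsQCoh ((Scheme.Modules.restrictFunctor W.ι).obj ((tilde.functor R).obj (M (T x)))) :=
      inferInstanceAs ((Scheme.Modules.restrictFunctor W.ι).obj (tilde (M (T x)))).IsQuasicoherent
    haveI : PreservesColimitsOfSize.{0, 0} (tilde.functor R) :=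
      (tilde.adjunction (R := R)).leftAdjoint_preservesColimits
    haveI : Epi ((tilde.functor R).map π) := Functor.map_epi _ π
    haveI : (Scheme.Modules.pullback W.ι).PreservesEpimorphisms :=
      Functor.preservesEpimorphisms_of_adjunction (Scheme.Modules.pullbackPushforwardAdjunction W.ι)
    haveI : (Scheme.Modules.restrictFunctor W.ι).PreservesEpimorphisms :=
      Functor.PreservesEpimorphisms.of_iso (Scheme.Modules.restrictFunctorIsoPullback W.ι).symm
    haveI : Epi ((Scheme.Modules.restrictFunctor W.ι).map ((tilde.functor R).map π)) := Functor.map_epi _ _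
    exact PullbackMod.isClosed_support_of_isFT
      (Groth.Agent.S4812.isFT_of_epi hFT ((Scheme.Modules.restrictFunctor W.ι).map ((tilde.functor R).map π)))
  let O := fun x : W => W.ι '' (CohB1.support ((Scheme.Modules.restrictFunctor W.ι).obj ((tilde.functor R).obj (M (T x)))))ᶜ
  have hO : ∀ (x z : W), W.ι z ∈ O x ↔ Subsingleton ((tilde (M (T x))).presheaf.stalk z.1) := by
    intro x z
    rw [show O x = _ from rfl, W.ι.isOpenEmbedding.injective.mem_set_image, Set.mem_compl_iff]
    exact not_not.trans ((Scheme.Modules.restrictStalkNatIso W.ι z).app _).addCommGroupIsoToAddEquiv.toEquiv.subsingleton_congr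
  obtain ⟨t, ht⟩ := hW.elim_finite_subcover O (fun x => W.ι.isOpenEmbedding.isOpenMap _ (hcl x).isOpen_compl)
    fun x hx => Set.mem_iUnion.2 ⟨⟨x, hx⟩, (hO ⟨x, hx⟩ ⟨x, hx⟩).2 (hT ⟨x, hx⟩)⟩
  refine ⟨t.biUnion T, fun x hx n => ?_⟩
  obtain ⟨x₀, hx₀, hxO⟩ := Set.mem_iUnion₂.1 (ht hx)
  obtain ⟨s, hs, hsn⟩ := (subsingleton_stalk_tilde_iff (M (T x₀)) x).1 ((hO x₀ ⟨x, hx⟩).1 hxO)
    (Submodule.Quotient.mk n)
  refine ⟨s, hs, Submodule.span_mono ?_ ((Submodule.Quotient.mk_eq_zero _).1
    ((Submodule.Quotient.mk_smul _ s n).trans hsn))⟩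
  exact fun a ha => Finset.mem_biUnion.2 ⟨x₀, hx₀, ha⟩

end Stalks

variable {A : Type u} [CommRing A]

/-- The cohomology is zero from the given degree on near every point of an open. -/
def AboveW (W : (Spec (CommRingCat.of A)).Opens) (b : ℤ) (M : Dual.D A) : Prop :=
  ∀ i : ℤ, b ≤ i → ∀ x ∈ W, ∀ n : (hdA A i).obj M, ∃ s ∉ x.asIdeal, s • n = 0

theorem AboveW.shift {W : (Spec (CommRingCat.of A)).Opens} {b : ℤ} {M : Dual.D A} (h : AboveW W b M)
    (k b' : ℤ) (hb : b ≤ b' + k) : AboveW W b' (M⟦k⟧) := fun i hi x hx n => by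
  let e : (hdA A i).obj (M⟦k⟧) ≅ (hdA A (k + i)).obj M :=
    ((DerivedCategory.homologyFunctor (ModuleCat.{u} A) 0).shiftIso k i (k + i) rfl).app M
  obtain ⟨s, hs, hsn⟩ := h (k + i) (by omega) x hx (e.hom n)
  exact ⟨s, hs, e.toLinearEquiv.injective ((map_smul e.hom.hom s n).trans (hsn.trans (map_zero e.hom.hom).symm))⟩

theorem AboveW.of_iso {W : (Spec (CommRingCat.of A)).Opens} {b : ℤ} {M N : Dual.D A} (h : AboveW W b M)
    (e : M ≅ N) : AboveW W b N := fun i hi x hx n => by
  let e' := (hdA A i).mapIso e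
  obtain ⟨s, hs, hsn⟩ := h i hi x hx (e'.inv n)
  exact ⟨s, hs, e'.symm.toLinearEquiv.injective
    ((map_smul e'.inv.hom s n).trans (hsn.trans (map_zero e'.inv.hom).symm))⟩

variable [PreservesFiniteLimits (tilde.functor (CommRingCat.of A))]

theorem aboveW_iff (W : (Spec (CommRingCat.of A)).Opens) (b : ℤ) (M : Dual.D A) :
    AboveW W b M ↔ AboveZero b ((DCoh.restrictD W.ι).obj ((DCoh.tildeD (CommRingCat.of A)).obj M)) := by
  constructor
  · intro h i hi
    refine (isZero_of_stalks fun y => ?_ : IsZero ((Scheme.Modules.restrictFunctor W.ι).obj _)).of_iso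
      (restrictHDIso W.ι _ i)
    exact ((Scheme.Modules.restrictStalkNatIso W.ι y).app _).addCommGroupIsoToAddEquiv.toEquiv.subsingleton_congr.2
      ((subsingleton_stalk_HD_tilde M i _).2 ((subsingleton_stalk_tilde_iff (R := CommRingCat.of A) _ _).2
        fun n => h i hi _ y.2 n))
  · intro h i hi x hx n
    have hz : IsZero ((Scheme.Modules.restrictFunctor W.ι).obj
        (DCoh.HD ((DCoh.tildeD (CommRingCat.of A)).obj M) i)) := (h i hi).of_iso (restrictHDIso W.ι _ i).symm
    exact (subsingleton_stalk_tilde_iff (R := CommRingCat.of A) _ x).1 ((subsingleton_stalk_HD_tilde M i x).1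
      (((Scheme.Modules.restrictStalkNatIso W.ι ⟨x, hx⟩).app _).addCommGroupIsoToAddEquiv.toEquiv.subsingleton_congr.1
        (subsingleton_stalk_of_isZero hz _))) n

/-- One step of the approximation, in degree zero. -/
theorem exists_step_zero (W : (Spec (CommRingCat.of A)).Opens) (hW : IsCompact (W : Set (Spec (CommRingCat.of A))))
    (ls : List A) (M : Dual.D A) (hM : Tors ls M)
    (hpc : ∀ m, DCoh.IsPseudoCoherentD m
      ((DCoh.restrictD W.ι).obj ((DCoh.tildeD (CommRingCat.of A)).obj M)))
    (hb : AboveW W 1 M) :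
    ∃ T : Triangle (Dual.D A), T ∈ distTriang _ ∧ T.obj₂ = M ∧ Perf FProj T.obj₁ ∧ Tors ls T.obj₁ ∧
      AboveW W 0 T.obj₃ := by
  let N := (hdA A 0).obj M
  have hFT : CohB1.IsFT ((Scheme.Modules.restrictFunctor W.ι).obj
      ((tilde.functor (CommRingCat.of A)).obj N)) :=
    TildePerf.isFT_of_iso (restrictHDIso W.ι _ 0 ≪≫
      (Scheme.Modules.restrictFunctor W.ι).mapIso ((TildeD.nuT (CommRingCat.of A) 0).app M))
      (isFT_top (hpc 0) fun i hi => (aboveW_iff W 1 M).1 hb i (by omega))
  obtain ⟨S, hS⟩ := exists_finset_open (R := CommRingCat.of A) N W hW hFT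
  let P : ModuleCat.{u} A := ModuleCat.of A ((↥S : Type u) → A)
  let ψ : P ⟶ N := ModuleCat.ofHom (Fintype.linearCombination A (fun s : ↥S => (s.1 : N)))
  haveI : Module.Projective A P := inferInstanceAs (Module.Projective A ((↥S : Type u) → A))
  haveI : Projective P := (IsProjective.iff_projective _).1 inferInstance
  obtain ⟨φ, hφ⟩ := (DComplLib.bijective_toH0 P M).2 ψ
  obtain ⟨P', α, β, hP', hT', hA', hαβ⟩ := exists_tors_factor ls []
    (perf_inD projClass_fProj (M := P) ⟨inferInstanceAs (Module.Finite A ((↥S : Type u) → A)), inferInstance⟩)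
    (fun f hf => absurd hf (List.not_mem_nil)) hM φ
  rw [List.append_nil] at hT'
  obtain ⟨C, p, d, hC⟩ := distinguished_cocone_triangle β
  refine ⟨Triangle.mk β p d, hC, rfl, hP', hT', fun i hi x hx y => ?_⟩
  have hz : IsZero ((hdA A (i + 1)).obj P') := hA' 1 (fun j hj =>
    (DerivedCategory.isLE_iff (Dual.inD A P) 0).1 inferInstance j (by omega)) (i + 1) (by omega)
  obtain ⟨(n : (hdA A i).obj M), hn⟩ := (ShortComplex.moduleCat_exact_iff _).1
    (DerivedCategory.HomologySequence.exact₂ _ (rot_of_distTriang _ hC) i) y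
    (by
      haveI := ModuleCat.subsingleton_of_isZero (((hdA A i).map_isZero
        (isZero_zero (Dual.D A))).of_iso (Iso.refl _))
      exact (ModuleCat.subsingleton_of_isZero (hz.of_iso
        (((DerivedCategory.homologyFunctor (ModuleCat.{u} A) 0).shiftIso 1 i (i + 1) (by omega)).app P'))).elim _ _)
  change (hdA A i).map p n = y at hn
  by_cases hi1 : 1 ≤ i
  · obtain ⟨s, hs, hsn⟩ := hb i hi1 x hx n
    exact ⟨s, hs, by rw [← hn]; exact ((map_smul _ s n).symm.trans (congrArg _ hsn)).trans (map_zero _)⟩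
  · obtain rfl : i = 0 := by omega
    obtain ⟨s, hs, hsn⟩ := hS x hx n
    refine ⟨s, hs, ?_⟩
    rw [← hn]
    refine (map_smul ((hdA A 0).map p).hom s n).symm.trans ?_
    have hker : Submodule.span A (S : Set N) ≤ LinearMap.ker ((hdA A 0).map p).hom := by
      refine Submodule.span_le.2 fun a ha => ?_
      classical
      have h1 : ψ (Pi.single (⟨a, ha⟩ : ↥S) 1) = a := by
        show Fintype.linearCombination A _ _ = a
        rw [Fintype.linearCombination_apply_single, one_smul]
      rw [← h1, ← hφ, SetLike.mem_coe, LinearMap.mem_ker]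
      show (DComplLib.toH0 P M φ ≫ (hdA A 0).map p) _ = 0
      rw [DComplLib.toH0, Category.assoc, ← Functor.map_comp, ← hαβ, Category.assoc,
        show β ≫ p = 0 from comp_distTriang_mor_zero₁₂ _ hC, comp_zero, Functor.map_zero, comp_zero]
      rfl
    exact hker hsn

end Groth.Agent.DCohMore
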