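import Groth.Agent.DCohMore.TorsFac
import Groth.Agent.DCohLib.SuppOpen
import Groth.Agent.TildeD.Main
import Mathlib.AlgebraicGeometry.Modules.Tilde
import Mathlib.Algebra.Module.LocalizedModule.Submodule

/-! Torsion objects of the derived category of a ring and supports of their sheaves. -/

set_option autoImplicit false
set_option linter.style.haveILetI false
set_option backward.isDefEq.respectTransparency false

universe u

open CategoryTheory Limits AlgebraicGeometry
attribute [local instance] HasDerivedCategory.standard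

noncomputable section

namespace Groth.Agent.DCohMore

open Groth.Agent.DRingLib Groth.Agent.DCohLib

theorem isZero_restrictD_iff_support {X : Scheme.{u}} (W : X.Opens) (K : DCoh.D X) :
    IsZero ((DCoh.restrictD W.ι).obj K) ↔
      ∀ i : ℤ, CohB1.support (DCoh.HD K i) ⊆ (W : Set X)ᶜ := by
  refine ⟨fun h i x hx hW => hx ?_, fun h => isZero_restrictD_of_support W fun i x hW hx => h i hx hW⟩
  have hz : IsZero ((Scheme.Modules.restrictFunctor W.ι).obj (DCoh.HD K i)) :=
    ((DerivedCategory.homologyFunctor _ i).map_isZero h).of_iso (restrictHDIso W.ι K i).symm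
  exact ((Scheme.Modules.restrictStalkNatIso W.ι ⟨x, hW⟩).app (DCoh.HD K i)).addCommGroupIsoToAddEquiv.toEquiv.subsingleton_congr.1
    (subsingleton_stalk_of_isZero hz _)

section Stalk

variable {R : CommRingCat.{u}}

theorem subsingleton_stalk_tilde_iff (N : ModuleCat.{u} R) (x : Spec R) :
    Subsingleton ((tilde N).presheaf.stalk x) ↔ ∀ n : N, ∃ s ∉ x.asIdeal, s • n = 0 := by
  let q := (tilde.toStalk N x).hom
  haveI : IsLocalizedModule x.asIdeal.primeCompl q := inferInstance
  constructor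
  · intro h n
    obtain ⟨⟨s, hs⟩, hn⟩ := (IsLocalizedModule.eq_zero_iff x.asIdeal.primeCompl q).1
      (h.elim (q n) 0)
    exact ⟨s, hs, hn⟩
  · intro h
    refine subsingleton_of_forall_eq 0 fun y => ?_
    obtain ⟨⟨n, s⟩, hy⟩ := IsLocalizedModule.surj x.asIdeal.primeCompl q y
    obtain ⟨t, ht, htn⟩ := h n
    have h0 : q n = 0 := (IsLocalizedModule.eq_zero_iff x.asIdeal.primeCompl q).2 ⟨⟨t, ht⟩, htn⟩
    exact IsLocalizedModule.smul_injective q s (hy.trans (h0.trans (smul_zero _).symm))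

end Stalk

variable {A : Type u} [CommRing A]

/-- The open complement of the common zero locus of a list. -/
def gOpen (gs : List A) : (Spec (CommRingCat.of A)).Opens :=
  ⟨(PrimeSpectrum.zeroLocus {a | a ∈ gs})ᶜ, (PrimeSpectrum.isClosed_zeroLocus _).isOpen_compl⟩

theorem mem_gOpen {gs : List A} {x : Spec (CommRingCat.of A)} :
    x ∈ gOpen gs ↔ ∃ f ∈ gs, f ∉ x.asIdeal :=
  ⟨fun h => by
    obtain ⟨f, hf, hfx⟩ := Set.not_subset.1 h
    exact ⟨f, hf, hfx⟩, fun ⟨f, hf, hfx⟩ h => hfx (h hf)⟩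

theorem isCompact_gOpen (gs : List A) : IsCompact (gOpen gs : Set (Spec (CommRingCat.of A))) := by
  show IsCompact ((PrimeSpectrum.zeroLocus {a | a ∈ gs})ᶜ : Set (PrimeSpectrum A))
  exact (PrimeSpectrum.isCompact_isOpen_iff.2 ⟨(List.finite_toSet gs).toFinset, by simp⟩).1

theorem tors_module_iff (gs : List A) (N : ModuleCat.{u} A) :
    (∀ f ∈ gs, ∀ x : N, ∃ n : ℕ, f ^ n • x = 0) ↔
      ∀ p ∈ gOpen gs, Subsingleton ((tilde (R := CommRingCat.of A) N).presheaf.stalk p) := by
  constructor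
  · intro h p hp
    obtain ⟨f, hf, hfp⟩ := mem_gOpen.1 hp
    refine (subsingleton_stalk_tilde_iff (R := CommRingCat.of A) N p).2 fun x => ?_
    obtain ⟨n, hn⟩ := h f hf x
    exact ⟨f ^ n, fun hh => hfp (p.isPrime.mem_of_pow_mem n hh), hn⟩
  · intro h f hf x
    have hr : f ∈ Ideal.radical (LinearMap.ker (LinearMap.toSpanSingleton A N x)) := by
      rw [Ideal.radical_eq_sInf, Ideal.mem_sInf]
      rintro J ⟨hJ, hJp⟩
      by_contra hfJ
      obtain ⟨s, hs, hsx⟩ := (subsingleton_stalk_tilde_iff (R := CommRingCat.of A) N (⟨J, hJp⟩ : PrimeSpectrum A)).1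
        (h ⟨J, hJp⟩ (mem_gOpen.2 ⟨f, hf, hfJ⟩)) x
      exact hs (hJ (LinearMap.mem_ker.2 hsx))
    obtain ⟨n, hn⟩ := hr
    exact ⟨n, hn⟩

variable [PreservesFiniteLimits (tilde.functor (CommRingCat.of A))]

theorem subsingleton_stalk_HD_tilde (M : Dual.D A) (i : ℤ) (p : Spec (CommRingCat.of A)) :
    Subsingleton ((DCoh.HD ((DCoh.tildeD (CommRingCat.of A)).obj M) i).presheaf.stalk p) ↔
      Subsingleton ((tilde (R := CommRingCat.of A) ((hdA A i).obj M)).presheaf.stalk p) :=
  ((stkF p).mapIso ((TildeD.nuT (CommRingCat.of A) i).app M)).toLinearEquiv.toEquiv.subsingleton_congr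

theorem tors_iff_support (gs : List A) (M : Dual.D A) :
    Tors gs M ↔ ∀ i : ℤ, CohB1.support (DCoh.HD ((DCoh.tildeD (CommRingCat.of A)).obj M) i) ⊆
      (gOpen gs : Set (Spec (CommRingCat.of A)))ᶜ := by
  constructor
  · intro h i p hp hW
    exact hp ((subsingleton_stalk_HD_tilde M i p).2
      ((tors_module_iff gs _).1 (fun f hf x => h f hf i x) p hW))
  · intro h f hf i x
    refine (tors_module_iff gs ((hdA A i).obj M)).2 (fun p hp => ?_) f hf x
    exact (subsingleton_stalk_HD_tilde M i p).1 (not_not.1 fun hs => h i hs hp)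

theorem tors_iff_isZero (gs : List A) (M : Dual.D A) :
    Tors gs M ↔ IsZero ((DCoh.restrictD (gOpen gs).ι).obj ((DCoh.tildeD (CommRingCat.of A)).obj M)) :=
  (tors_iff_support gs M).trans (isZero_restrictD_iff_support _ _).symm

end Groth.Agent.DCohMore
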