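import Groth.Agent.DCohMore.H0Model
import Groth.Agent.DCohMore.H0Fibre
import Groth.Agent.SteinConn.FlatCount
import Groth.Agent.FPModelLib.Fibre
import Groth.Prelude.Def_RelSpec

/-!
# `Rf_* O` splits off the functions when a fibre is geometrically reduced
-/

set_option autoImplicit false
set_option linter.style.haveILetI false
set_option linter.unusedSectionVars false
set_option backward.isDefEq.respectTransparency false
set_option maxHeartbeats 1000000

universe u

open CategoryTheory Limits AlgebraicGeometry TopologicalSpace Opposite MonoidalCategory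
attribute [local instance] HasDerivedCategory.standard

noncomputable section

namespace Groth.Agent.DCohMore.H0Split

open Groth.Agent.DCohLib Groth.Agent.TildePerf Groth.Agent.DRingLib
open Groth.Agent.DCohMore.FibreOne hiding exists_split_model exists_split_data_ext exists_near_model exists_chart_model

variable {X S : Scheme.{u}} {A : Type u} [CommRing A]

/-- A model in non-negative degrees near a point. -/
theorem exists_near_model (f : X ⟶ Spec (CommRingCat.of A)) [IsProper f] [Flat f] [LocallyOfFinitePresentation f]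
    [DCoh.HasRpush f] (p : PrimeSpectrum A) :
    ∃ c : A, c ∉ p.asIdeal ∧ ∃ P : DRing.Cx (Localization.Away c), Bdd FProj P ∧ (∀ i, i < 0 → IsZero (P.X i)) ∧
      ∀ [IsOpenImmersion (Spec.map (CommRingCat.ofHom (algebraMap A (Localization.Away c))))],
      Nonempty (DerivedCategory.Q.obj (tilC P) ≅
        (DCoh.restrictD (Spec.map (CommRingCat.ofHom (algebraMap A (Localization.Away c))))).obj
          ((DCoh.Rpush f).obj (DerivedCategory.Q.obj (sgl₀ (Coh.structureModule X))))) := by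
  haveI := TildeD.preservesFiniteLimits_tilde (R := CommRingCat.of A)
  let O := DerivedCategory.Q.obj (sgl₀ (Coh.structureModule X))
  have hO : DCoh.IsPerfect O := isPerfect_iso ((DerivedCategory.singleFunctorIsoCompQ X.Modules 0).app _)
    (isPerfect_inD (BCLib.isFinLocFree_structureModule X))
  have hK := isPerfect_rpush_proper f O hO
  obtain ⟨M, ⟨eM⟩⟩ := ((TildeD.main (CommRingCat.of A)).2.2 _).1 (isQCohD_of_isPerfect hK)
  obtain ⟨N, hN, ⟨e₀⟩⟩ := (perfect_tilde_iff M).1 (isPerfect_iso eM.symm hK)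
  let eN : DerivedCategory.Q.obj (tilC N) ≅ (DCoh.Rpush f).obj O :=
    (tildeDQ N).symm ≪≫ (DCoh.tildeD (CommRingCat.of A)).mapIso e₀ ≪≫ eM
  let κ := p.asIdeal.ResidueField
  let φ := algebraMap A κ
  haveI := hasLBaseChange φ
  let g := Spec.map (CommRingCat.ofHom φ)
  obtain ⟨eG⟩ := nonempty_secO_point p
  obtain ⟨hex, -⟩ := homology_fibre_push f N (isStrictlyPerfect_tilC hN) eN g
  have hexκ : ((DTen.extCx φ).obj N).ExactAt (-1) := by
    refine (HomologicalComplex.exactAt_iff' _ (-1 - 1) (-1) (-1 + 1) (by simp) (by simp)).2 ?_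
    refine (ShortComplex.exact_map_iff_of_faithful _ (ModuleCat.restrictScalars.{u} φ)).1 ?_
    let T := ((ModuleCat.restrictScalars.{u} φ).mapHomologicalComplex (ComplexShape.up ℤ)).obj ((DTen.extCx φ).obj N)
    let τ : tensorLeft (secO g) ≅ ModuleCat.extendScalars.{u, u, u} φ ⋙ ModuleCat.restrictScalars φ :=
      (tensoringLeft (ModuleCat.{u} A)).mapIso eG ≪≫ (DTenLib.extResIso φ).symm
    have hT : T.ExactAt (-1) := HomologicalComplex.ExactAt.of_iso (hex (-1) (by omega))
      (HomologicalComplex.Hom.isoOfComponents (fun n => τ.app (N.X n)) fun i k _ => (τ.hom.naturality (N.d i k)).symm)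
    exact (HomologicalComplex.exactAt_iff' T (-1 - 1) (-1) (-1 + 1) (by simp) (by simp)).1 hT
  have hsub : Subsingleton (Dual.HD κ ((DRing.LBaseChange φ).obj (DRing.toD N)) (-1)) := by
    obtain ⟨⟨a, b, hab⟩, hP⟩ := id hN
    refine ModuleCat.subsingleton_of_isZero (IsZero.of_iso ((exactAt_iff_isZero_homologyFunctor _ _).1 hexκ)
      ((DerivedCategory.homologyFunctor _ (-1)).mapIso
        (lbcIso φ N (isKFlat_of_projective (fun i hi => hab i (Or.inr hi)) fun j => (hP j).2))))
  obtain ⟨c, hc, P, b, hPb, hP, ⟨eP⟩, -⟩ := split_near p.asIdeal (-1) N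
    (pcPrime_of_perf ⟨N, hN, ⟨Iso.refl _⟩⟩) hsub
  refine ⟨c, hc, P, ⟨⟨0, b, hPb⟩, hP⟩, fun i hi => hPb i (Or.inl hi), fun {hj} => ?_⟩
  let ψ := algebraMap A (Localization.Away c)
  let N' := (DTen.extCx ψ).obj N
  haveI : ((DCoh.Rpush f).obj O).IsGE 0 := haveI := isGE_sgl (Coh.structureModule X); isGE_rpush f _ 0
  haveI := TildeD.preservesFiniteLimits_tilde (R := CommRingCat.of (Localization.Away c))
  let e' : (DCoh.tildeD (CommRingCat.of (Localization.Away c))).obj (DRing.toD N') ≅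
      (DCoh.restrictD (Spec.map (CommRingCat.ofHom ψ))).obj ((DCoh.Rpush f).obj O) :=
    tildeDQ N' ≪≫ (restrictModel ψ N).symm ≪≫ (DCoh.restrictD _).mapIso eN
  haveI : (DRing.toD N').IsGE 0 := (DerivedCategory.isGE_iff _ _).2 fun i hi => isZero_of_isZero_tilde <|
    IsZero.of_iso (IsZero.of_iso ((Scheme.Modules.restrictFunctor _).map_isZero
      (DerivedCategory.isZero_of_isGE ((DCoh.Rpush f).obj O) 0 i hi)) (restrictHDIso _ _ i))
      (((TildeD.nuT (CommRingCat.of (Localization.Away c)) i).app _).symm ≪≫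
        (DerivedCategory.homologyFunctor _ i).mapIso e')
  haveI : (stdT (Localization.Away c)).IsGE (DRing.toD N') 0 := ‹(DRing.toD N').IsGE 0›
  haveI : IsIso (((stdT (Localization.Away c)).truncGEπ 0).app (DRing.toD N')) :=
    ((stdT (Localization.Away c)).isGE_iff_isIso_truncGEπ_app 0 _).1 inferInstance
  exact ⟨(tildeDQ P).symm ≪≫ (DCoh.tildeD _).mapIso (eP ≪≫ (asIso (((stdT (Localization.Away c)).truncGEπ 0).app
    (DRing.toD N'))).symm) ≪≫ e'⟩

/-- A chart around a point carrying a model in non-negative degrees. -/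
theorem exists_chart_model (f : X ⟶ S) [IsProper f] [Flat f] [LocallyOfFinitePresentation f] [DCoh.HasRpush f]
    {U : S.Opens} {s : S} (hs : s ∈ U) :
    ∃ (B : Type u) (_ : CommRing B) (j : Spec (CommRingCat.of B) ⟶ S) (_ : IsOpenImmersion j) (P : DRing.Cx B),
      s ∈ j.opensRange ∧ j.opensRange ≤ U ∧ Bdd FProj P ∧ (∀ i, i < 0 → IsZero (P.X i)) ∧
      Nonempty (DerivedCategory.Q.obj (tilC P) ≅
        (DCoh.restrictD j).obj ((DCoh.Rpush f).obj (DerivedCategory.Q.obj (sgl₀ (Coh.structureModule X))))) := by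
  obtain ⟨_, ⟨W : S.Opens, hW, rfl⟩, hsW, hWU⟩ :=
    S.isBasis_affineOpens.exists_subset_of_mem_open (a := s) hs U.2
  obtain ⟨p, hp⟩ : s ∈ Set.range hW.fromSpec := by rw [hW.range_fromSpec]; exact hsW
  let A := (Γ(S, W) : Type u)
  let j₀ : Spec (CommRingCat.of A) ⟶ S := hW.fromSpec
  haveI : IsOpenImmersion j₀ := inferInstanceAs (IsOpenImmersion hW.fromSpec)
  obtain ⟨X₂, a, f₂, hc, -⟩ := exists_chart_map f j₀
  haveI : IsProper f₂ := MorphismProperty.of_isPullback (P := @IsProper) hc ‹_›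
  haveI : Flat f₂ := MorphismProperty.of_isPullback (P := @Flat) hc ‹_›
  haveI : LocallyOfFinitePresentation f₂ := MorphismProperty.of_isPullback (P := @LocallyOfFinitePresentation) hc ‹_›
  haveI : DCoh.HasRpush f₂ := Groth.Agent.KInj.hasRightDerivedFunctor (hres_modules _) _
  obtain ⟨c, hcp, P, hP, hP0, hiso⟩ := exists_near_model f₂ p
  obtain ⟨er⟩ := nonempty_rpush_chart f j₀ hc
  let j₁ := Spec.map (CommRingCat.ofHom (algebraMap A (Localization.Away c)))
  haveI : IsOpenImmersion j₁ := IsOpenImmersion.of_isLocalization c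
  obtain ⟨eP⟩ := hiso
  refine ⟨Localization.Away c, inferInstance, j₁ ≫ j₀, inferInstance, P, ?_, ?_, hP, hP0,
    ⟨eP ≪≫ (DCoh.restrictD j₁).mapIso er ≪≫ ((restrictDComp j₁ j₀).app _).symm⟩⟩
  · obtain ⟨z, hz⟩ : p ∈ Set.range (PrimeSpectrum.comap (algebraMap A (Localization.Away c))) := by
      rw [PrimeSpectrum.localization_away_comap_range (Localization.Away c) c]
      exact hcp
    exact ⟨z, by rw [Scheme.Hom.comp_apply]; exact (congrArg (fun q => j₀ q) hz).trans hp⟩
  · rintro _ ⟨z, rfl⟩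
    refine hWU ?_
    show (j₁ ≫ j₀) z ∈ W
    have : j₀ (j₁ z) ∈ Set.range hW.fromSpec := ⟨_, rfl⟩
    rwa [hW.range_fromSpec] at this

/-- The functions on the source of a model form a finite projective module. -/
theorem finite_projective_ker (f : X ⟶ Spec (CommRingCat.of A)) [IsProper f] [Flat f] [LocallyOfFinitePresentation f]
    [GeometricallyReduced f] [DCoh.HasRpush f] (N : DRing.Cx A) (hN0 : IsZero (N.X (-1)))
    (eN : DerivedCategory.Q.obj (tilC N) ≅ (DCoh.Rpush f).obj (DerivedCategory.Q.obj (sgl₀ (Coh.structureModule X)))) :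
    Module.Finite A (LinearMap.ker (N.d 0 1).hom) ∧ Module.Projective A (LinearMap.ker (N.d 0 1).hom) := by
  haveI := TildeD.preservesFiniteLimits_tilde (R := CommRingCat.of A)
  obtain ⟨hfin, het⟩ := SteinEtLib.finite_etale (f := f) (isAffineOpen_top (Spec (CommRingCat.of A)))
  let εA : A ≃+* Γ(Spec (CommRingCat.of A), ⊤) := (Scheme.ΓSpecIso (CommRingCat.of A)).symm.commRingCatIsoToRingEquiv
  let M := Γ(X, f ⁻¹ᵁ ⊤)
  let ψ : A →+* M := (f.app ⊤).hom.comp εA.toRingHom
  letI : Algebra A M := ψ.toAlgebra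
  haveI : Module.Finite A M := RingHom.finite_algebraMap.1 (hfin.comp (RingHom.Finite.of_surjective _ εA.surjective))
  haveI : Algebra.Etale A M := RingHom.etale_algebraMap.1 (RingHom.Etale.stableUnderComposition _ _ (RingHom.Etale.of_bijective εA.bijective) het)
  haveI : Module.FinitePresentation A M := Module.FinitePresentation.of_finite_of_finitePresentation A M
  haveI : Module.Projective A M := Module.Flat.projective_of_finitePresentation
  let sX : secO f ≃ₗ[A] M :=
    { AddEquiv.refl _ with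
      map_smul' := fun a s => by
        show f.app ⊤ ((Spec (CommRingCat.of A)).presheaf.map (𝟙 _) ((Scheme.ΓSpecIso (CommRingCat.of A)).inv a)) *
          (show M from s) = _
        rw [CategoryTheory.Functor.map_id, CommRingCat.id_apply, RingHom.id_apply, Algebra.smul_def]
        rfl }
  obtain ⟨-, ⟨m⟩⟩ := homology_model f N eN
  let e : M ≃ₗ[A] LinearMap.ker (N.d 0 1).hom := sX.symm.trans (m.symm ≪≫ (kerIso N hN0).symm).toLinearEquiv
  exact ⟨Module.Finite.equiv e, Module.Projective.of_equiv e⟩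

/-- The relative spectrum of the functions is finite étale. -/
theorem finite_etale_directImage (f : X ⟶ S) [IsProper f] [Flat f] [LocallyOfFinitePresentation f]
    [GeometricallyReduced f] :
    IsFinite (RelSpec.QCAlg.directImage f).π ∧ Etale (RelSpec.QCAlg.directImage f).π := by
  let D := RelSpec.QCAlg.directImage f
  have key : ∀ U : S.Opens, IsAffineOpen U → (D.π.app U).hom.Finite ∧ (D.π.app U).hom.Etale := fun U hU => by
    obtain ⟨hfin, het⟩ := SteinEtLib.finite_etale (f := f) hU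
    have e := D.top_le_preimage U hU
    have hW : D.ι U hU ⁻¹ᵁ (D.π ⁻¹ᵁ U) = ⊤ := top_le_iff.1 e
    haveI : IsIso ((D.ι U hU).app (D.π ⁻¹ᵁ U)) := Scheme.Hom.isIso_app _ _ (D.π_preimage U hU).le
    haveI : IsIso (homOfLE e) := by
      rw [Subsingleton.elim (homOfLE e) (eqToHom hW.symm)]
      infer_instance
    haveI : IsIso (D.gammaAff U hU) := by
      unfold RelSpec.QCAlg.gammaAff
      rw [Scheme.Hom.appLE]
      infer_instance
    have h : D.π.app U = f.app U ≫ inv (D.gammaAff U hU) := by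
      rw [IsIso.eq_comp_inv]
      exact D.π_app_gammaAff U hU
    have hbij : Function.Bijective (inv (D.gammaAff U hU)).hom := ConcreteCategory.bijective_of_isIso _
    rw [h, CommRingCat.hom_comp]
    exact ⟨RingHom.Finite.comp (RingHom.Finite.of_surjective _ hbij.2) hfin,
      RingHom.Etale.stableUnderComposition _ _ het (RingHom.Etale.of_bijective hbij)⟩
  refine ⟨(isFinite_iff _).2 ⟨inferInstance, fun U hU => (key U hU).1⟩, ?_⟩
  refine (IsZariskiLocalAtTarget.iff_of_iSup_eq_top (P := @Etale) _ (iSup_affineOpens_eq_top S)).2 fun U => ?_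
  haveI : IsAffine (U.1 : Scheme.{u}) := U.2
  haveI : IsAffine (D.π ⁻¹ᵁ U.1 : Scheme.{u}) := U.2.preimage D.π
  rw [HasRingHomProperty.iff_of_isAffine (P := @Etale), morphismRestrict_appTop, CommRingCat.hom_comp]
  exact RingHom.Etale.stableUnderComposition _ _
    (key _ ((isAffineOpen_top _).image_of_isOpenImmersion U.1.ι)).2
    (RingHom.Etale.of_bijective (ConcreteCategory.bijective_of_isIso _))

/-- Near a point with geometrically reduced fibre `Rf_* O` splits off the functions. -/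
theorem exists_split (f : X ⟶ S) [IsProper f] [Flat f] [LocallyOfFinitePresentation f] (s : S)
    (hs : GeometricallyReduced (f.fiberToSpecResidueField s)) :
    ∃ V : S.Opens, s ∈ V ∧ GeometricallyReduced (f ∣_ V) ∧
      ∀ [DCoh.HasRpush (f ∣_ V)] [∀ A B : DCoh.D (V : Scheme.{u}), HasBinaryBiproduct A B],
      ∃ (P : DCoh.D (V : Scheme.{u})) (b : ℤ), DCoh.IsPerfect P ∧ DCoh.HasTorAmplitudeIn 1 b P ∧
        Nonempty ((DCoh.Rpush (f ∣_ V)).obj (DCoh.inD (f ⁻¹ᵁ V : Scheme.{u}) (Coh.structureModule (f ⁻¹ᵁ V : Scheme.{u}))) ≅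
          DCoh.inD (V : Scheme.{u}) ((Coh.push (f ∣_ V)).obj (Coh.structureModule (f ⁻¹ᵁ V : Scheme.{u}))) ⊞ P) := by
  haveI : DCoh.HasRpush f := Groth.Agent.KInj.hasRightDerivedFunctor (hres_modules _) _
  let W : S.Opens := ⟨_, SteinConn.isOpen_geometricallyReduced_fibres f⟩
  obtain ⟨B, _, j, _, P, hsj, hjW, hP, hP0, ⟨eP⟩⟩ := exists_chart_model f (U := W) (s := s) hs
  obtain ⟨p, hp⟩ := hsj
  obtain ⟨X₂, a, f₂, hc, -⟩ := exists_chart_map f j
  haveI : IsProper f₂ := MorphismProperty.of_isPullback (P := @IsProper) hc ‹_›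
  haveI : Flat f₂ := MorphismProperty.of_isPullback (P := @Flat) hc ‹_›
  haveI : LocallyOfFinitePresentation f₂ := MorphismProperty.of_isPullback (P := @LocallyOfFinitePresentation) hc ‹_›
  haveI : GeometricallyReduced f₂ := FPModelLib.geometricallyReduced_of_fibres fun z =>
    (FPModelLib.geometricallyReduced_fiber_iff hc z).2 (hjW ⟨z, rfl⟩)
  haveI : DCoh.HasRpush f₂ := Groth.Agent.KInj.hasRightDerivedFunctor (hres_modules _) _
  obtain ⟨er⟩ := nonempty_rpush_chart f j hc
  have hN0 : IsZero (P.X (-1)) := hP0 _ (by omega)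
  let d := (P.d 0 1).hom
  obtain ⟨hfin, hproj⟩ := finite_projective_ker f₂ P hN0 (eP ≪≫ er.symm)
  haveI := (hP.2 0).1
  haveI := (hP.2 0).2
  haveI := (hP.2 1).1
  haveI := (hP.2 1).2
  obtain ⟨c, hcp, h₀, hh⟩ := exists_pseudoinverse_near d p
    ((finrank_ker_fibre_eq f₂ P hP hN0 (eP ≪≫ er.symm) p).trans (Module.rankAtStalk_eq p).symm)
  obtain ⟨α, φ, g, hα, hαφ, hid⟩ := exists_split_data P c h₀ hh
  let C := Localization.Away c
  let ψ := algebraMap B C
  obtain ⟨α', φ', g', h1, h2, h3⟩ :=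
    exists_split_data_ext ψ c (IsLocalization.Away.algebraMap_isUnit c) P α φ g hα hαφ hid
  let K' := (ModuleCat.extendScalars.{u, u, u} ψ).obj (ModuleCat.of B (LinearMap.ker d))
  let P' := (DTen.extCx ψ).obj P
  have hP' : Bdd FProj P' := ⟨⟨hP.1.choose, hP.1.choose_spec.choose, fun i hi =>
      (ModuleCat.extendScalars.{u, u, u} ψ).map_isZero (hP.1.choose_spec.choose_spec i hi)⟩,
    fun i => fProj_extend ψ (hP.2 i)⟩
  obtain ⟨T, b, hTb, hT, ⟨eT⟩⟩ := exists_split_model P' hP'
    (fun i hi => (ModuleCat.extendScalars.{u, u, u} ψ).map_isZero (hP0 i hi)) α' φ' g' h1 h2 h3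
  let j₁ := Spec.map (CommRingCat.ofHom ψ)
  haveI : IsOpenImmersion j₁ := IsOpenImmersion.of_isLocalization c
  let k := j₁ ≫ j
  let V := k.opensRange
  have hVW : V ≤ W := by
    rintro _ ⟨z, rfl⟩
    exact hjW ⟨j₁ z, (Scheme.Hom.comp_apply _ _ _).symm⟩
  refine ⟨V, ?_, ?_, fun {_} {_} => ?_⟩
  · obtain ⟨z, hz⟩ : p ∈ Set.range (PrimeSpectrum.comap ψ) := by
      rw [PrimeSpectrum.localization_away_comap_range C c]
      exact hcp
    exact ⟨z, by rw [Scheme.Hom.comp_apply]; exact (congrArg (fun q => j q) hz).trans hp⟩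
  · exact FPModelLib.geometricallyReduced_of_fibres fun z =>
      (FPModelLib.geometricallyReduced_fiber_iff (isPullback_morphismRestrict f V).flip z).2 (hVW z.2)
  let R := DCoh.restrictD k.isoOpensRange.inv
  let TT := DerivedCategory.Q.obj (tilC T)
  haveI := TildeD.preservesFiniteLimits_tilde (R := CommRingCat.of C)
  have hbdd : Bdd FProj T := ⟨⟨1, b, hTb⟩, hT⟩
  have hTT : DCoh.IsPerfect TT := isPerfect_of_perfOn ⟨_, isStrictlyPerfect_tilC hbdd, ⟨Iso.refl _⟩⟩
  refine ⟨R.obj TT, b, isPerfect_restrict _ hTT, ?_, ?_⟩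
  · obtain ⟨E, hE, hEf, ⟨eE⟩⟩ := flatAmplitude_tilde (A := C) (M := DRing.toD T) ⟨T, hTb, fun i =>
        haveI := (hT i).2
        inferInstance, ⟨Iso.refl _⟩⟩
    exact hasTorAmplitudeIn_of_hasFlatAmplitudeIn (hasFlatAmplitudeIn_restrict k.isoOpensRange.inv
      ⟨E, hE, hEf, ⟨eE ≪≫ tildeDQ T⟩⟩)
  obtain ⟨eV⟩ := Groth.Agent.DCohLib.nonempty_restrictD_rpush f V
  obtain ⟨u₂⟩ := nonempty_restrictD_structure (f ⁻¹ᵁ V).ι
  let O := DerivedCategory.Q.obj (sgl₀ (Coh.structureModule X))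
  let sglIso : ∀ (Y : Scheme.{u}) (M : Y.Modules), DCoh.inD Y M ≅ DerivedCategory.Q.obj (sgl₀ M) :=
    fun Y M => (DerivedCategory.singleFunctorIsoCompQ Y.Modules 0).app M
  let G := tilCF (CommRingCat.of C) ⋙ DerivedCategory.Q ⋙ R
  haveI : G.Additive := inferInstance
  haveI : PreservesBinaryBiproducts G := preservesBinaryBiproducts_of_preservesBiproducts G
  let L := (HomologicalComplex.single (ModuleCat.{u} C) (ComplexShape.up ℤ) 0).obj K'
  let eQ : DerivedCategory.Q.obj (tilC P') ≅ DerivedCategory.Q.obj (tilC (L ⊞ T)) :=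
    (tildeDQ P').symm ≪≫ (DCoh.tildeD (CommRingCat.of C)).mapIso eT ≪≫ tildeDQ _
  let M := (Scheme.Modules.restrictFunctor k.isoOpensRange.inv).obj ((tilde.functor (CommRingCat.of C)).obj K')
  let eL : R.obj (DerivedCategory.Q.obj (tilC L)) ≅ DCoh.inD (V : Scheme.{u}) M :=
    R.mapIso (DerivedCategory.Q.mapIso ((HomologicalComplex.singleMapHomologicalComplex (tilde.functor (CommRingCat.of C)) _ 0).app _)) ≪≫
      restrictDQ k.isoOpensRange.inv _ ≪≫ DerivedCategory.Q.mapIso
        ((HomologicalComplex.singleMapHomologicalComplex (Scheme.Modules.restrictFunctor k.isoOpensRange.inv) _ 0).app _) ≪≫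
      (sglIso _ M).symm
  let Θ := (DCoh.Rpush (f ∣_ V)).mapIso (sglIso _ _ ≪≫ u₂.symm) ≪≫ (eV.app O).symm ≪≫
    (restrictDCongr (show V.ι = k.isoOpensRange.inv ≫ k from k.isoOpensRange_inv_comp.symm)).app _ ≪≫
    (restrictDComp _ k).app _ ≪≫ R.mapIso ((restrictDComp j₁ j).app _ ≪≫ (DCoh.restrictD j₁).mapIso eP.symm ≪≫
      restrictModel ψ P ≪≫ eQ) ≪≫ G.mapBiprod L T ≪≫ biprod.mapIso eL (Iso.refl (R.obj TT))
  have hR0 : IsZero (DCoh.HD (R.obj TT) 0) := by
    refine IsZero.of_iso ((Scheme.Modules.restrictFunctor _).map_isZero ?_) (restrictHDIso _ _ 0)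
    refine IsZero.of_iso ?_ ((DerivedCategory.homologyFunctorFactors _ 0).app (tilC T))
    exact (HomologicalComplex.exactAt_iff_isZero_homology _ _).1 (HomologicalComplex.ExactAt.of_isZero
      ((tilde.functor (CommRingCat.of C)).map_isZero (hTb 0 (Or.inl one_pos))))
  let H0 := DerivedCategory.homologyFunctor (V : Scheme.{u}).Modules 0
  haveI := isIso_map_fst H0 (DCoh.inD (V : Scheme.{u}) M) (R.obj TT) hR0
  haveI : (DCoh.inD (f ⁻¹ᵁ V : Scheme.{u}) (Coh.structureModule (f ⁻¹ᵁ V : Scheme.{u}))).IsGE 0 := inferInstance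
  obtain ⟨e₀⟩ := nonempty_HD_zero_rpush (f ∣_ V) (DCoh.inD (f ⁻¹ᵁ V : Scheme.{u}) (Coh.structureModule (f ⁻¹ᵁ V : Scheme.{u})))
  let hd : ∀ (Y : Scheme.{u}) (N : Y.Modules), DCoh.HD (DCoh.inD Y N) 0 ≅ N := fun Y N =>
    (DerivedCategory.homologyFunctor Y.Modules 0).mapIso (sglIso Y N) ≪≫ HDsgl N
  let eM : M ≅ (Coh.push (f ∣_ V)).obj (Coh.structureModule (f ⁻¹ᵁ V : Scheme.{u})) :=
    (hd _ M).symm ≪≫ (asIso (H0.map (biprod.fst : DCoh.inD (V : Scheme.{u}) M ⊞ R.obj TT ⟶ _))).symm ≪≫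
      H0.mapIso Θ.symm ≪≫ e₀ ≪≫ (Scheme.Modules.pushforward (f ∣_ V)).mapIso (hd _ _)
  exact ⟨Θ ≪≫ biprod.mapIso ((DerivedCategory.singleFunctor (V : Scheme.{u}).Modules 0).mapIso eM) (Iso.refl _)⟩

end Groth.Agent.DCohMore.H0Split
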