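import Groth.Agent.PullbackMod.Flat
import Mathlib.RingTheory.Localization.BaseChange
import Mathlib.RingTheory.Flat.Localization

/-!
# Algebra: tensoring stalks of modules flat over the base along a base change
-/

set_option autoImplicit false
set_option linter.style.haveILetI false
set_option linter.unusedSectionVars false

universe u

open TensorProduct

noncomputable section

namespace Groth.Agent.DCohMore

variable {A₀ A₁ B₀ B₁ B B' : Type u} [CommRing A₀] [CommRing A₁] [CommRing B₀] [CommRing B₁] [CommRing B]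
  [CommRing B'] [Algebra A₀ A₁] [Algebra A₀ B₀] [Algebra A₀ B₁] [Algebra A₁ B₁] [Algebra B₀ B₁]
  [IsScalarTower A₀ B₀ B₁] [IsScalarTower A₀ A₁ B₁] [Algebra.IsPushout A₀ A₁ B₀ B₁]
  [Algebra B₀ B] [Algebra B₁ B'] [Algebra B B'] [Algebra B₀ B'] [IsScalarTower B₀ B B'] [IsScalarTower B₀ B₁ B']
  (T : Submonoid B₀) [IsLocalization T B]

section Equiv

variable (M : Type u) [AddCommGroup M] [Module B M] [Module B₀ M] [IsScalarTower B₀ B M]

/-- Base change of a module over a localization through an intermediate base change. -/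
def bcLocEquiv : B' ⊗[B] M ≃+ B' ⊗[B₁] (B₁ ⊗[B₀] M) :=
  haveI := IsLocalization.tensorProduct_compatibleSMul (R := B₀) T B B' M
  (TensorProduct.equivOfCompatibleSMul B₀ B B B' M).toAddEquiv.trans
    (TensorProduct.AlgebraTensorModule.cancelBaseChange B₀ B₁ B' B' M).symm.toAddEquiv

theorem bcLocEquiv_tmul (b : B') (m : M) :
    bcLocEquiv (B₁ := B₁) T M (b ⊗ₜ[B] m) = b ⊗ₜ[B₁] ((1 : B₁) ⊗ₜ[B₀] m) := rfl

end Equiv

variable {M₁ M₂ M₃ : Type u} [AddCommGroup M₁] [AddCommGroup M₂] [AddCommGroup M₃]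
  [Module B M₁] [Module B M₂] [Module B M₃] [Module A₀ M₁] [Module A₀ M₂] [Module A₀ M₃]
  [Module B₀ M₁] [Module B₀ M₂] [Module B₀ M₃] [IsScalarTower B₀ B M₁] [IsScalarTower B₀ B M₂] [IsScalarTower B₀ B M₃]
  [IsScalarTower A₀ B₀ M₁] [IsScalarTower A₀ B₀ M₂] [IsScalarTower A₀ B₀ M₃]

include T in
/-- Exactness after base change along the localized pushout. -/
theorem exact_lTensor_of_exact [Module.Flat B₁ B'] (f : M₁ →ₗ[B] M₂) (g : M₂ →ₗ[B] M₃)
    (f₀ : M₁ →ₗ[A₀] M₂) (g₀ : M₂ →ₗ[A₀] M₃) (hf : ∀ m, f₀ m = f m) (hg : ∀ m, g₀ m = g m)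
    (h : Function.Exact (f₀.lTensor A₁) (g₀.lTensor A₁)) :
    Function.Exact (f.lTensor B') (g.lTensor B') := by
  let fB : B₁ ⊗[B₀] M₁ →ₗ[B₁] B₁ ⊗[B₀] M₂ := (f.restrictScalars B₀).baseChange B₁
  let gB : B₁ ⊗[B₀] M₂ →ₗ[B₁] B₁ ⊗[B₀] M₃ := (g.restrictScalars B₀).baseChange B₁
  let c : ∀ (M : Type u) [AddCommGroup M] [Module A₀ M] [Module B₀ M] [IsScalarTower A₀ B₀ M],
      B₁ ⊗[B₀] M ≃ₗ[A₁] A₁ ⊗[A₀] M := fun M _ _ _ _ => Algebra.IsPushout.cancelBaseChange A₀ A₁ B₀ B₁ M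
  have hc : ∀ (M : Type u) [AddCommGroup M] [Module A₀ M] [Module B₀ M] [IsScalarTower A₀ B₀ M] (s : A₁) (m : M),
      (c M).symm (s ⊗ₜ m) = algebraMap A₁ B₁ s ⊗ₜ m := fun M _ _ _ _ s m =>
    Algebra.IsPushout.cancelBaseChange_symm_tmul _ _ _ _ _ s m
  have hex : Function.Exact fB gB := by
    refine (Function.Exact.iff_of_ladder_addEquiv (c M₁).symm.toAddEquiv (c M₂).symm.toAddEquiv
      (c M₃).symm.toAddEquiv (f₁₂ := (f₀.lTensor A₁).toAddMonoidHom) (f₂₃ := (g₀.lTensor A₁).toAddMonoidHom)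
      (g₁₂ := fB.toAddMonoidHom) (g₂₃ := gB.toAddMonoidHom) ?_ ?_).2 h
    · ext z
      induction z using TensorProduct.induction_on with
      | zero => simp
      | tmul s m => simp [fB, hc, hf]
      | add a b ha hb => simp only [map_add, ha, hb]
    · ext z
      induction z using TensorProduct.induction_on with
      | zero => simp
      | tmul s m => simp [gB, hc, hg]
      | add a b ha hb => simp only [map_add, ha, hb]
  refine (Function.Exact.iff_of_ladder_addEquiv (bcLocEquiv (B₁ := B₁) T M₁) (bcLocEquiv (B₁ := B₁) T M₂)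
    (bcLocEquiv (B₁ := B₁) T M₃) (f₁₂ := (f.lTensor B').toAddMonoidHom) (f₂₃ := (g.lTensor B').toAddMonoidHom)
    (g₁₂ := (fB.lTensor B').toAddMonoidHom) (g₂₃ := (gB.lTensor B').toAddMonoidHom) ?_ ?_).1
    (Module.Flat.lTensor_exact B' hex)
  · ext z
    induction z using TensorProduct.induction_on with
    | zero => simp
    | tmul s m => simp [fB, bcLocEquiv_tmul]
    | add a b ha hb => simp only [map_add, ha, hb]
  · ext z
    induction z using TensorProduct.induction_on with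
    | zero => simp
    | tmul s m => simp [gB, bcLocEquiv_tmul]
    | add a b ha hb => simp only [map_add, ha, hb]

include T in
/-- Flatness of the base change along the localized pushout. -/
theorem flat_bc_of_flat [Module.Flat B₁ B'] [Algebra A₁ B'] [IsScalarTower A₁ B₁ B']
    [Module.Flat A₀ M₁] : Module.Flat A₁ (B' ⊗[B] M₁) := by
  haveI : Module.Flat A₁ (B₁ ⊗[B₀] M₁) :=
    Module.Flat.of_linearEquiv (Algebra.IsPushout.cancelBaseChange A₀ A₁ B₀ B₁ M₁)
  haveI : Module.Flat A₁ (B' ⊗[B₁] (B₁ ⊗[B₀] M₁)) :=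
    PullbackMod.flat_of_isBaseChange_flat (A := A₁) (TensorProduct.mk B₁ B' (B₁ ⊗[B₀] M₁) 1)
      (TensorProduct.isBaseChange B₁ (B₁ ⊗[B₀] M₁) B')
  refine Module.Flat.of_linearEquiv
    (AddEquiv.toLinearEquiv (bcLocEquiv (B₁ := B₁) T M₁) (?_ : ∀ (a : A₁) (z : B' ⊗[B] M₁), _))
  intro a z
  induction z using TensorProduct.induction_on with
  | zero => simp
  | tmul b m => simp [TensorProduct.smul_tmul', bcLocEquiv_tmul]
  | add x y hx hy => simp only [smul_add, map_add, hx, hy]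

end Groth.Agent.DCohMore
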