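import Groth.Agent.DCohMore.ThickGen
import Groth.Agent.DCohMore.CompactPerf
import Groth.Agent.DCohMore.BvdBStep
import Groth.Agent.DCohMore.CountableHom
import Groth.Agent.TwistShriek.Basic
import Groth.Agent.DCohLib.ExtTensorD
/-!
Maps from perfect objects into supported objects.
-/

set_option autoImplicit false
set_option backward.isDefEq.respectTransparency false
set_option linter.style.haveILetI false
set_option maxHeartbeats 1000000

universe u

open CategoryTheory CategoryTheory.Limits AlgebraicGeometry TopologicalSpace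
open CategoryTheory.Pretriangulated

attribute [local instance] HasDerivedCategory.standard

noncomputable section

namespace Groth.Agent.DCohMore

open Groth.Agent.DRingLib Groth.Agent.DCohLib

variable {X : Scheme.{u}} {G : DCoh.D X}

/-- Sums of supported objects are supported. -/
theorem sup_coproduct {T : Set X} (hT : IsClosed T) {I : Type u} (L : I → DCoh.D X) [HasCoproduct L]
    (h : ∀ i, Sup T (L i)) : Sup T (∐ L) := by
  rw [sup_iff hT]
  let U := complOpen hT
  haveI : DCoh.HasRpush U.ι := Groth.Agent.KInj.hasRightDerivedFunctor (hres_modules _) _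
  let adj := (lpullRpushAdj U.ι).ofNatIsoLeft (lpullRestrictNatIso U.ι)
  haveI : (DCoh.restrictD U.ι).IsLeftAdjoint := adj.isLeftAdjoint
  haveI : PreservesColimit (Discrete.functor L) (DCoh.restrictD U.ι) := inferInstance
  rw [IsZero.iff_id_eq_zero]
  refine (isColimitOfPreserves (DCoh.restrictD U.ι) (coproductIsCoproduct L)).hom_ext fun i => ?_
  exact ((sup_iff hT _).1 (h i.as)).eq_of_src _ _

set_option maxHeartbeats 4000000 in
/-- Maps from perfect objects into supported objects factor through built objects. -/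
theorem thru_of_support [CompactSpace X] [QuasiSeparatedSpace X] (hG : DCoh.IsPerfect G)
    {T₀ : Set X} (hT₀ : IsClosed T₀) (hGT : Sup T₀ G)
    (hgen : ∀ E : DCoh.D X, DCoh.IsQCohD E → Sup T₀ E → (∀ (n : ℤ) (φ : G⟦n⟧ ⟶ E), φ = 0) → IsZero E)
    {P : DCoh.D X} (hP : DCoh.IsPerfect P) {E₀ : DCoh.D X} (hE₀ : DCoh.IsQCohD E₀) (hE₀T : Sup T₀ E₀)
    (φ₀ : P ⟶ E₀) : Thru G φ₀ := by
  classical
  let St := {Y : DCoh.D X // DCoh.IsQCohD Y ∧ Sup T₀ Y}
  choose nI nm ni nY ny nf nz hnT hnq hkill using fun s : St => exists_thick_step hG s.1 s.2.1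
  have hnS : ∀ s : St, Sup T₀ (nY s) := fun s => by
    haveI := ni s
    exact sup_obj₃ hT₀ _ (hnT s) (sup_coproduct hT₀ _ fun k => sup_shift hT₀ hGT _) s.2.2
  let st : ℕ → St := fun n => Nat.rec ⟨E₀, hE₀, hE₀T⟩ (fun _ s => ⟨nY s, hnq s, hnS s⟩) n
  let Y : ULift.{u} ℕ → DCoh.D X := fun n => (st n.down).1
  let f : ∀ n : ℕ, Y ⟨n⟩ ⟶ Y ⟨n + 1⟩ := fun n => nf (st n)
  haveI := hasCoproduct_D' Y
  have hYq : ∀ n, DCoh.IsQCohD (Y n) := fun n => (st n.down).2.1
  have hYT : Sup T₀ (∐ Y) := sup_coproduct hT₀ Y fun n => (st n.down).2.2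
  let sh : (∐ Y) ⟶ ∐ Y := Sigma.desc fun n => f n.down ≫ Sigma.ι Y ⟨n.down + 1⟩
  let d : (∐ Y) ⟶ ∐ Y := 𝟙 _ - sh
  obtain ⟨L, g, c, hT⟩ := distinguished_cocone_triangle d
  let π : ∀ n, (∐ Y) ⟶ Y n := fun n => sigmaProj (coproductIsCoproduct Y) n
  have hπs : ∀ n, Sigma.ι Y n ≫ π n = 𝟙 _ := fun n => inj_sigmaProj_self (coproductIsCoproduct Y) n
  have hπn : ∀ {i j : ULift.{u} ℕ}, j ≠ i → Sigma.ι Y j ≫ π i = 0 := fun h =>
    inj_sigmaProj_ne (coproductIsCoproduct Y) h
  have hd0 : d ≫ π ⟨0⟩ = π ⟨0⟩ := by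
    have : sh ≫ π ⟨0⟩ = 0 := Sigma.hom_ext _ _ fun n => by
      rw [Sigma.ι_desc_assoc, Category.assoc, hπn (fun h => absurd (congrArg ULift.down h) (Nat.succ_ne_zero _)),
        comp_zero, comp_zero]
    rw [Preadditive.sub_comp, this, Category.id_comp, sub_zero]
  have hd1 : ∀ n : ℕ, d ≫ π ⟨n + 1⟩ = π ⟨n + 1⟩ - π ⟨n⟩ ≫ f n := fun n => by
    have : sh ≫ π ⟨n + 1⟩ = π ⟨n⟩ ≫ f n := Sigma.hom_ext _ _ fun k => by
      rw [Sigma.ι_desc_assoc, Category.assoc]
      by_cases hk : k = ⟨n⟩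
      · subst hk
        rw [hπs, Category.comp_id, ← Category.assoc, hπs, Category.id_comp]
      · rw [hπn (fun h => hk (ULift.ext _ _ (Nat.succ_injective (congrArg ULift.down h)))), comp_zero,
          ← Category.assoc, hπn hk, zero_comp]
    rw [Preadditive.sub_comp, this, Category.id_comp]
  have habs : ∀ {Q : DCoh.D X}, DCoh.IsPerfect Q → ∀ α : Q ⟶ ∐ Y,
      ∃ T : Finset (ULift.{u} ℕ), α ≫ sigmaTrunc (coproductIsCoproduct Y) T = α := fun hQ α =>
    absorbs_of_isPerfect hQ Y hYq α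
  -- the homotopy colimit vanishes
  have hL : IsZero L := by
    refine hgen L (isQCohD_obj₃' _ hT (isQCohD_coproduct Y hYq) (isQCohD_coproduct Y hYq))
      (sup_obj₃ hT₀ _ hT hYT hYT) fun n φ => ?_
    have hc : φ ≫ c = 0 := by
      obtain ⟨η, hη⟩ : ∃ η : G⟦-(1 : ℤ) + n⟧ ⟶ ∐ Y, (shiftFunctor (DCoh.D X) (1 : ℤ)).map η =
          ((shiftFunctorAdd' (DCoh.D X) (-(1 : ℤ) + n) 1 n (by omega)).app G).inv ≫ φ ≫ c :=
        (shiftFunctor (DCoh.D X) (1 : ℤ)).map_surjective _
      have hη0 : η = 0 := by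
        have hηd : η ≫ d = 0 := by
          apply (shiftFunctor (DCoh.D X) (1 : ℤ)).map_injective
          rw [Functor.map_comp, hη, Functor.map_zero, Category.assoc, Category.assoc]
          exact (congrArg (fun t => _ ≫ φ ≫ t) (comp_distTriang_mor_zero₃₁ _ hT)).trans (by simp)
        obtain ⟨T, hTη⟩ := habs (isPerfect_shift hG _) η
        rw [← hTη]
        have hk : ∀ k : ℕ, η ≫ π ⟨k⟩ = 0 := fun k => by
          induction k with
          | zero => rw [← hd0, ← Category.assoc, hηd, zero_comp]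
          | succ k ih =>
            have h2 : η ≫ d ≫ π ⟨k + 1⟩ = 0 := by rw [← Category.assoc, hηd, zero_comp]
            rw [hd1, Preadditive.comp_sub, ← Category.assoc η (π ⟨k⟩), ih, zero_comp, sub_zero] at h2
            exact h2
        rw [sigmaTrunc, Preadditive.comp_sum]
        refine Finset.sum_eq_zero fun k _ => ?_
        rw [← Category.assoc]
        exact (congrArg (· ≫ _) (hk k.down)).trans zero_comp
      rw [hη0, Functor.map_zero] at hη
      rw [← cancel_epi ((shiftFunctorAdd' (DCoh.D X) (-(1 : ℤ) + n) 1 n (by omega)).app G).inv, comp_zero]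
      exact hη.symm
    obtain ⟨α, hα⟩ := Triangle.coyoneda_exact₃ _ hT φ hc
    obtain ⟨T, hTα⟩ := habs (isPerfect_shift hG n) α
    rw [hα]
    show α ≫ g = 0
    rw [← hTα, sigmaTrunc, Preadditive.comp_sum, Preadditive.sum_comp]
    refine Finset.sum_eq_zero fun k _ => ?_
    have hg : Sigma.ι Y k ≫ g = f k.down ≫ Sigma.ι Y ⟨k.down + 1⟩ ≫ g := by
      have h0 : Sigma.ι Y k ≫ d ≫ g = 0 :=
        (congrArg (Sigma.ι Y k ≫ ·) (comp_distTriang_mor_zero₁₂ _ hT)).trans comp_zero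
      simpa [d, sh, Preadditive.sub_comp, Preadditive.comp_sub, sub_eq_zero] using h0
    have hk : (α ≫ π k) ≫ f k.down = 0 := hkill (st k.down) n (α ≫ π k)
    show (α ≫ π k ≫ Sigma.ι Y k) ≫ g = 0
    rw [Category.assoc, Category.assoc, hg, ← Category.assoc (π k), ← Category.assoc α, ← Category.assoc α, hk,
      zero_comp]
  haveI : IsIso d := (Triangle.isZero₃_iff_isIso₁ _ hT).1 hL
  let a : P ⟶ ∐ Y := φ₀ ≫ Sigma.ι Y ⟨0⟩ ≫ inv d
  obtain ⟨T, hTa⟩ := habs hP a
  obtain ⟨n, hn⟩ : ∃ n : ℕ, (⟨n⟩ : ULift.{u} ℕ) ∉ T :=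
    (Infinite.exists_notMem_finset (T.image ULift.down)).imp fun n hn h => hn (Finset.mem_image_of_mem ULift.down h)
  let F : ∀ n : ℕ, P ⟶ Y ⟨n⟩ := fun n => Nat.rec φ₀ (fun k g => g ≫ f k) n
  have hF : ∀ k, a ≫ π ⟨k⟩ = F k := fun k => by
    induction k with
    | zero =>
      rw [← hd0, Category.assoc, Category.assoc, IsIso.inv_hom_id_assoc]
      exact (congrArg (φ₀ ≫ ·) (hπs _)).trans (Category.comp_id φ₀)
    | succ k ih =>
      have h2 : a ≫ d ≫ π ⟨k + 1⟩ = 0 := by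
        rw [Category.assoc, Category.assoc, IsIso.inv_hom_id_assoc]
        exact (congrArg (φ₀ ≫ ·) (hπn (fun h => absurd (congrArg ULift.down h).symm (Nat.succ_ne_zero _)))).trans comp_zero
      rw [hd1, Preadditive.comp_sub, sub_eq_zero, ← Category.assoc, ih] at h2
      exact h2
  have hFn : F n = 0 := by
    rw [← hF, ← hTa, sigmaTrunc, Preadditive.comp_sum, Preadditive.sum_comp]
    refine Finset.sum_eq_zero fun k hk => ?_
    show (a ≫ π k ≫ Sigma.ι Y k) ≫ π ⟨n⟩ = 0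
    simp only [Category.assoc]
    rw [@hπn ⟨n⟩ k (fun h => hn (h ▸ hk))]
    simp
  -- descend along the tower
  have key : ∀ k : ℕ, Thru G (F k) → Thru G φ₀ := fun k => by
    induction k with
    | zero => exact id
    | succ k ih =>
      intro h
      haveI := ni (st k)
      exact ih (thru_of_step hG (nm (st k)) (ny (st k)) (nf (st k)) (nz (st k)) (hnT (st k)) hP (F k) h)
  exact key n (by rw [hFn]; exact Thru.zero)

theorem Built.sup {T : Set X} (hT : IsClosed T) (hG : Sup T G) {K : DCoh.D X} (h : Built G K) : Sup T K := by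
  induction h with
  | shift m => exact sup_shift hT hG m
  | zero Z hZ => exact (sup_iff hT _).2 ((DCoh.restrictD _).map_isZero hZ)
  | iso e _ ih => exact (sup_iff hT _).2 (((sup_iff hT _).1 ih).of_iso ((DCoh.restrictD _).mapIso e).symm)
  | ext S hS _ _ ih₁ ih₃ => exact sup_obj₂ hT S hS ih₁ ih₃

/-- A map from a perfect object into a supported object dies on a perfect object agreeing with it off the support. -/
theorem exists_kill_of_support [CompactSpace X] [QuasiSeparatedSpace X] (U : X.Opens) (hU : IsCompact (U : Set X))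
    {P E : DCoh.D X} (hP : DCoh.IsPerfect P) (hE : DCoh.IsQCohD E) (hEU : IsZero ((DCoh.restrictD U.ι).obj E))
    (s : P ⟶ E) :
    ∃ (I : DCoh.D X) (i : I ⟶ P), DCoh.IsPerfect I ∧ i ≫ s = 0 ∧ IsIso ((DCoh.restrictD U.ι).map i) := by
  let T : Set X := (U : Set X)ᶜ
  have hT : IsClosed T := U.isOpen.isClosed_compl
  obtain ⟨G, hG, hGT, hgen⟩ := gen_main T hT (by simpa [T] using hU)
  have hU' : complOpen hT = U := Opens.ext (compl_compl (U : Set X))
  have hz : ∀ K : DCoh.D X, Sup T K ↔ IsZero ((DCoh.restrictD U.ι).obj K) := fun K => by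
    rw [sup_iff hT, hU']
  obtain ⟨C, g, k, hC, rfl⟩ := thru_of_support hG hT hGT (fun Z hZ hZT h => hgen Z hZ hZT (hom_shift_left h))
    hP hE ((hz E).2 hEU) s
  obtain ⟨I, i, d, hS⟩ := distinguished_cocone_triangle₁ g
  refine ⟨I, i, ?_, ?_, ?_⟩
  · exact isPerfect_obj₁ _ hS hP (hC.perfect hG)
  · rw [← Category.assoc]
    exact (congrArg (· ≫ k) (comp_distTriang_mor_zero₁₂ _ hS)).trans zero_comp
  · exact (Triangle.isZero₃_iff_isIso₁ _ ((DCoh.restrictD U.ι).map_distinguished _ hS)).1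
      ((hz C).1 (hC.sup hT hGT))

/-- Killing a map out of a derived tensor product. -/
theorem exists_kill_tensor [CompactSpace X] [QuasiSeparatedSpace X] (U : X.Opens) (hU : IsCompact (U : Set X))
    (P : CochainComplex X.Modules ℤ) [DCoh.HasLTensorCx P] [DCoh.HasRSheafHom P] {E : DCoh.D X}
    (hEU : IsZero ((DCoh.restrictD U.ι).obj E)) (hq : DCoh.IsQCohD ((DCoh.RSheafHom P).obj E))
    {O : DCoh.D X} (hO : DCoh.IsPerfect O) (γ : (DCoh.LTensorCx P).obj O ⟶ E) :
    ∃ (I : DCoh.D X) (i : I ⟶ O), DCoh.IsPerfect I ∧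
      (DCoh.LTensorCx P).map i ≫ γ = 0 ∧ IsIso ((DCoh.restrictD U.ι).map i) := by
  let K' := (resX X).obj P
  haveI := hasRSheafHom_of_isKFlat K' (isKFlat_resX P)
  have hK'' : DCoh.IsKFlat ((resCx U.ι).obj K') := isKFlat_resCx U.ι (isKFlat_resX P)
  haveI := hasRSheafHom_of_isKFlat ((resCx U.ι).obj K') hK''
  haveI : PreservesFiniteLimits (Scheme.Modules.restrictFunctor U.ι) := inferInstance
  obtain ⟨t⟩ := nonempty_lTensor_of_qis ((resXπ X).app P) (quasiIso_resXπ P)
  let u : DCoh.RSheafHom K' ≅ DCoh.RSheafHom P :=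
    (DCoh.RSheafHomAdj K').rightAdjointUniq ((DCoh.RSheafHomAdj P).ofNatIsoLeft t.symm)
  obtain ⟨r⟩ := nonempty_restrictD_rSheafHom (U := U) K'
  have hR : IsZero ((DCoh.restrictD U.ι).obj ((DCoh.RSheafHom P).obj E)) := by
    let adjU := DCoh.RSheafHomAdj ((resCx U.ι).obj K')
    haveI : (DCoh.RSheafHom ((resCx U.ι).obj K')).IsRightAdjoint := adjU.isRightAdjoint
    refine IsZero.of_iso ?_ ((DCoh.restrictD U.ι).mapIso (u.app E).symm ≪≫ r.app E)
    exact (DCoh.RSheafHom ((resCx U.ι).obj K')).map_isZero hEU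
  let adj := DCoh.RSheafHomAdj P
  obtain ⟨I, i, hI, hi, hiso⟩ := exists_kill_of_support U hU hO hq hR (adj.homEquiv _ _ γ)
  refine ⟨I, i, hI, (adj.homEquiv _ _).injective ?_, hiso⟩
  rw [adj.homEquiv_naturality_left, hi]
  haveI : (DCoh.RSheafHom P).IsRightAdjoint := adj.isRightAdjoint
  rw [Adjunction.homEquiv_unit, Functor.map_zero, comp_zero]

end Groth.Agent.DCohMore
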