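import Groth.Agent.DRingLib.CompactPerfect
import Groth.Agent.DComplLib.Free
import Mathlib.Algebra.Homology.DerivedCategory.Linear

/-! Maps from perfect objects to torsion objects factor through torsion perfect objects. -/

set_option autoImplicit false
set_option linter.style.haveILetI false
set_option backward.isDefEq.respectTransparency false

universe u

open CategoryTheory Limits Pretriangulated
attribute [local instance] HasDerivedCategory.standard

noncomputable section

namespace Groth.Agent.DCohMore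

open Groth.Agent.DRingLib Groth.Agent.DCohLib

variable {A : Type u} [CommRing A]

/-- The cohomology functors on the derived category of a ring. -/
abbrev hdA (A : Type u) [CommRing A] (n : ℤ) : Dual.D A ⥤ ModuleCat.{u} A :=
  DerivedCategory.homologyFunctor (ModuleCat.{u} A) n

theorem hd_map_smul {K L : Dual.D A} (a : A) (φ : K ⟶ L) (n : ℤ) :
    (hdA A n).map (a • φ) = a • (hdA A n).map φ := by
  have key : ∀ K : Dual.D A, (hdA A n).map (a • 𝟙 K) = a • 𝟙 _ := by
    intro K
    let X := DerivedCategory.Q.objPreimage K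
    let e := DerivedCategory.Q.objObjPreimageIso K
    let η := DerivedCategory.homologyFunctorFactors (ModuleCat.{u} A) n
    have h0 : (hdA A n).map (a • 𝟙 (DerivedCategory.Q.obj X)) = a • 𝟙 _ := by
      have h1 : DerivedCategory.Q.map (a • 𝟙 X) = a • 𝟙 (DerivedCategory.Q.obj X) := by
        rw [Functor.map_smul, CategoryTheory.Functor.map_id]
      rw [← h1]
      refine (Iso.cancel_iso_hom_right _ _ (η.app X)).1 ?_
      refine (η.hom.naturality (a • 𝟙 X)).trans ?_
      show η.hom.app X ≫ HomologicalComplex.homologyMap (a • 𝟙 X) n = _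
      have h3 : HomologicalComplex.homologyMap (a • 𝟙 X) n = a • HomologicalComplex.homologyMap (𝟙 X) n :=
        ShortComplex.homologyMap_smul (φ := (HomologicalComplex.shortComplexFunctor _ _ n).map (𝟙 X)) (a := a)
      rw [h3, HomologicalComplex.homologyMap_id]
      exact ((Linear.comp_smul _ _ _ _ _ _).trans (congrArg (a • ·) (Category.comp_id _))).trans
        ((Linear.smul_comp _ _ _ a _ _).trans (congrArg (a • ·) (Category.id_comp _))).symm
    have h2 : a • 𝟙 K = e.inv ≫ (a • 𝟙 (DerivedCategory.Q.obj X)) ≫ e.hom := by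
      rw [Linear.smul_comp, Linear.comp_smul, Category.id_comp, e.inv_hom_id]
    rw [h2, Functor.map_comp, Functor.map_comp, h0, Linear.smul_comp, Linear.comp_smul, Category.id_comp,
      ← Functor.map_comp, e.inv_hom_id, CategoryTheory.Functor.map_id]
  have h : a • φ = (a • 𝟙 K) ≫ φ := by rw [Linear.smul_comp, Category.id_comp]
  rw [h, Functor.map_comp, key, Linear.smul_comp, Category.id_comp]

/-- Every cohomology class is killed by a power of each element of the list. -/
def Tors (l : List A) (K : Dual.D A) : Prop :=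
  ∀ f ∈ l, ∀ (i : ℤ) (x : (hdA A i).obj K), ∃ n : ℕ, f ^ n • x = 0

theorem Tors.of_iso {l : List A} {K L : Dual.D A} (h : Tors l K) (e : K ≅ L) : Tors l L := fun f hf i x => by
  obtain ⟨n, hn⟩ := h f hf i ((hdA A i).map e.inv x)
  refine ⟨n, ?_⟩
  have h1 := congrArg ((hdA A i).map e.hom) hn
  rw [map_smul, map_zero] at h1
  rwa [show (hdA A i).map e.hom ((hdA A i).map e.inv x) = x from by
    rw [← ConcreteCategory.comp_apply, ← Functor.map_comp, e.inv_hom_id, CategoryTheory.Functor.map_id,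
      ConcreteCategory.id_apply]] at h1

theorem Tors.shift {l : List A} {K : Dual.D A} (h : Tors l K) (n : ℤ) : Tors l (K⟦n⟧) := fun f hf i x => by
  let e : (hdA A i).obj (K⟦n⟧) ≅ (hdA A (n + i)).obj K :=
    (((DerivedCategory.homologyFunctor (ModuleCat.{u} A) 0).shiftIso n i (n + i) rfl).app K)
  obtain ⟨m, hm⟩ := h f hf (n + i) (e.hom x)
  refine ⟨m, e.toLinearEquiv.injective ?_⟩
  show e.hom (f ^ m • x) = e.hom 0
  rw [map_smul, hm, map_zero]

theorem Tors.obj₂ {l : List A} (T : Triangle (Dual.D A)) (hT : T ∈ distTriang _) (h₁ : Tors l T.obj₁)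
    (h₃ : Tors l T.obj₃) : Tors l T.obj₂ := fun f hf i x => by
  obtain ⟨n, hn⟩ := h₃ f hf i ((hdA A i).map T.mor₂ x)
  have h0 : (hdA A i).map T.mor₂ (f ^ n • x) = 0 := by rw [map_smul, hn]
  obtain ⟨y, hy⟩ := (ShortComplex.moduleCat_exact_iff _).1
    (DerivedCategory.HomologySequence.exact₂ T hT i) _ h0
  obtain ⟨m, hm⟩ := h₁ f hf i y
  refine ⟨m + n, ?_⟩
  change (hdA A i).map T.mor₁ y = _ at hy
  rw [pow_add, mul_smul, ← hy, ← map_smul, hm, map_zero]

theorem Tors.obj₃ {l : List A} (T : Triangle (Dual.D A)) (hT : T ∈ distTriang _) (h₁ : Tors l T.obj₁)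
    (h₂ : Tors l T.obj₂) : Tors l T.obj₃ :=
  Tors.obj₂ T.rotate (rot_of_distTriang _ hT) h₂ (h₁.shift 1)

theorem Tors.obj₁ {l : List A} (T : Triangle (Dual.D A)) (hT : T ∈ distTriang _) (h₂ : Tors l T.obj₂)
    (h₃ : Tors l T.obj₃) : Tors l T.obj₁ :=
  Tors.obj₂ T.invRotate (inv_rot_of_distTriang _ hT) (h₃.shift (-1)) h₂

theorem Tors.of_isZero {l : List A} {K : Dual.D A} (h : IsZero K) : Tors l K := fun f _ i x => by
  haveI := ModuleCat.subsingleton_of_isZero ((hdA A i).map_isZero h)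
  exact ⟨0, Subsingleton.elim _ _⟩

/-- Maps into torsion objects are killed by powers. -/
def Killed (f : A) (P : Dual.D A) : Prop :=
  ∀ (C : Dual.D A), Tors [f] C → ∀ φ : P ⟶ C, ∃ n : ℕ, f ^ n • φ = 0

theorem killed_projective (f : A) (P : ModuleCat.{u} A) [Projective P] [Module.Finite A P] :
    Killed f (Dual.inD A P) := fun C hC φ => by
  obtain ⟨s, hs⟩ := (inferInstance : Module.Finite A P).fg_top
  let ψ := Groth.Agent.DComplLib.toH0 P C φ
  choose n hn using fun x => hC f (List.mem_singleton.2 rfl) 0 (ψ x)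
  refine ⟨s.sup n, (Groth.Agent.DComplLib.bijective_toH0 P C).1 ?_⟩
  show _ ≫ (hdA A 0).map (f ^ s.sup n • φ) = _ ≫ (hdA A 0).map (0 : _ ⟶ C)
  rw [hd_map_smul, Linear.comp_smul, Functor.map_zero, comp_zero]
  refine ModuleCat.hom_ext (LinearMap.ext_on hs fun x hx => ?_)
  show f ^ s.sup n • ψ x = 0
  obtain ⟨k, hk⟩ := Nat.exists_eq_add_of_le (Finset.le_sup (f := n) hx)
  rw [hk, add_comm, pow_add, mul_smul, hn, smul_zero]

theorem Killed.of_iso {f : A} {P Q : Dual.D A} (h : Killed f P) (e : P ≅ Q) : Killed f Q := fun C hC φ => by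
  obtain ⟨n, hn⟩ := h C hC (e.hom ≫ φ)
  exact ⟨n, by rwa [← Linear.comp_smul, Preadditive.IsIso.comp_left_eq_zero] at hn⟩

theorem Killed.shift {f : A} {P : Dual.D A} (h : Killed f P) (k : ℤ) : Killed f (P⟦k⟧) := fun C hC φ => by
  let S := shiftFunctor (Dual.D A) (-k)
  let e := (shiftEquiv (Dual.D A) k).unitIso.app P
  obtain ⟨n, hn⟩ := h _ (hC.shift (-k)) (e.hom ≫ S.map φ)
  refine ⟨n, S.map_injective ?_⟩
  rw [Functor.map_zero, Functor.map_smul]
  rwa [← Linear.comp_smul, Preadditive.IsIso.comp_left_eq_zero] at hn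

theorem Killed.obj₂ {f : A} (T : Triangle (Dual.D A)) (hT : T ∈ distTriang _) (h₁ : Killed f T.obj₁)
    (h₃ : Killed f T.obj₃) : Killed f T.obj₂ := fun C hC φ => by
  obtain ⟨n, hn⟩ := h₁ C hC (T.mor₁ ≫ φ)
  obtain ⟨ψ, hψ⟩ := Triangle.yoneda_exact₂ T hT (f ^ n • φ) (by rw [Linear.comp_smul]; exact hn)
  obtain ⟨m, hm⟩ := h₃ C hC ψ
  exact ⟨m + n, by rw [pow_add, mul_smul, hψ, ← Linear.comp_smul, hm, comp_zero]⟩

theorem killed_of_perf (f : A) {P : Dual.D A} (hP : Perf FProj P) : Killed f P := by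
  obtain ⟨E, ⟨⟨a, b, hab⟩, hE⟩, ⟨e⟩⟩ := hP
  refine Killed.of_iso (of_bounded_terms (P := Killed f) (fun e h => h.of_iso e)
    (fun {K} hK C _ φ => ⟨0, by rw [hK.eq_of_src φ 0, smul_zero]⟩) Killed.obj₂ hab fun i => ?_) e
  haveI := (hE i).1
  haveI : Projective (E.X i) := (IsProjective.iff_projective _).1 (hE i).2
  exact (killed_projective f (E.X i)).shift (-i)

/-- A map from a perfect object to a torsion object factors through a torsion perfect object. -/
theorem exists_tors_factor (l : List A) : ∀ (l₀ : List A) {P C : Dual.D A}, Perf FProj P → Tors l₀ P →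
    Tors l C → ∀ φ : P ⟶ C,
      ∃ (P' : Dual.D A) (α : P ⟶ P') (β : P' ⟶ C), Perf FProj P' ∧ Tors (l ++ l₀) P' ∧
        (∀ n : ℤ, AboveZero n P → AboveZero n P') ∧ α ≫ β = φ := by
  induction l with
  | nil => exact fun l₀ P C hP hP₀ _ φ => ⟨P, 𝟙 P, φ, hP, hP₀, fun _ h => h, Category.id_comp φ⟩
  | cons f l ih =>
    intro l₀ P C hP hP₀ hC φ
    obtain ⟨P', α, β, hP', hT', hA', rfl⟩ := ih l₀ hP hP₀ (fun g hg => hC g (List.mem_cons_of_mem _ hg)) φ
    obtain ⟨n, hn⟩ := killed_of_perf f hP' C (fun g hg => hC g (by rw [List.mem_singleton.1 hg]; exact List.mem_cons_self ..)) β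
    obtain ⟨Q, p, d, hQ⟩ := distinguished_cocone_triangle (f ^ n • 𝟙 P')
    have hn' : (f ^ n • 𝟙 P') ≫ β = 0 := by rw [Linear.smul_comp, Category.id_comp, hn]
    obtain ⟨γ, hγ⟩ := Triangle.yoneda_exact₂ _ hQ β hn'
    refine ⟨Q, α ≫ p, γ, Perf.obj₃ projClass_fProj _ hQ hP' hP', fun g hg => ?_, fun m hm i hi =>
      (DerivedCategory.HomologySequence.exact₃ _ hQ i (i + 1) rfl).isZero_of_both_zeros
        ((hA' m hm i hi).eq_of_src _ _) ((hA' m hm (i + 1) (by omega)).eq_of_tgt _ _),
      (Category.assoc _ _ _).trans (congrArg (α ≫ ·) hγ.symm)⟩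
    rcases List.mem_cons.1 hg with rfl | hg
    · intro i x
      let T := Triangle.mk (g ^ n • 𝟙 P') p d
      have hk : (hdA A (i + 1)).map T.mor₁ (DerivedCategory.HomologySequence.δ T i (i + 1) rfl x) = 0 :=
        congrArg (fun u : (hdA A i).obj Q ⟶ (hdA A (i + 1)).obj P' => u x)
          (DerivedCategory.HomologySequence.δ_comp T hQ i (i + 1) rfl)
      change (hdA A (i + 1)).map (g ^ n • 𝟙 P') _ = 0 at hk
      rw [hd_map_smul, CategoryTheory.Functor.map_id] at hk
      have h0 : DerivedCategory.HomologySequence.δ T i (i + 1) rfl (g ^ n • x) = 0 := by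
        rw [map_smul]
        exact hk
      obtain ⟨y, hy⟩ := (ShortComplex.moduleCat_exact_iff _).1
        (DerivedCategory.HomologySequence.exact₃ T hQ i (i + 1) rfl) _ h0
      refine ⟨n + n, ?_⟩
      change (hdA A i).map p y = _ at hy
      rw [pow_add, mul_smul, ← hy, ← map_smul]
      have hp : (hdA A i).map ((g ^ n • 𝟙 P') ≫ p) y = 0 := by
        rw [show (g ^ n • 𝟙 P') ≫ p = 0 from comp_distTriang_mor_zero₁₂ _ hQ, Functor.map_zero]
        rfl
      rw [Functor.map_comp, hd_map_smul, CategoryTheory.Functor.map_id] at hp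
      exact hp
    · exact Tors.obj₃ (l := [g]) _ hQ (fun g' hg' => by rw [List.mem_singleton.1 hg']; exact hT' g hg)
        (fun g' hg' => by rw [List.mem_singleton.1 hg']; exact hT' g hg) g (List.mem_singleton.2 rfl)

end Groth.Agent.DCohMore
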