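import Groth.Agent.DCohMore.CompactPerf
import Groth.Agent.DCohMore.HocolimPC
import Groth.Agent.FPApproxLib.Colim
import Groth.Prelude.Def_KLin

/-! Maps from perfect objects into objects supported on a zero locus are killed by powers. -/

set_option autoImplicit false
set_option linter.style.haveILetI false
set_option backward.isDefEq.respectTransparency false

universe u

open CategoryTheory Limits AlgebraicGeometry Pretriangulated ZeroObject Opposite TopologicalSpace
attribute [local instance] HasDerivedCategory.standard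

noncomputable section

namespace Groth.Agent.DCohMore

open Groth.Agent.DCohLib

theorem homologyMap_smul' {C : Type*} [Category C] [Abelian C] {R : Type*} [Semiring R] [Linear R C]
    {K L : CochainComplex C ℤ} (r : R) (φ : K ⟶ L) (i : ℤ) :
    HomologicalComplex.homologyMap (r • φ) i = r • HomologicalComplex.homologyMap φ i := by
  let S := HomologicalComplex.shortComplexFunctor C (ComplexShape.up ℤ) i
  show ShortComplex.homologyMap (S.map (r • φ)) = r • ShortComplex.homologyMap (S.map φ)
  rw [show S.map (r • φ) = r • S.map φ from ShortComplex.hom_ext _ _ rfl rfl rfl]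
  exact ShortComplex.homologyMap_smul _ _

variable {X : Scheme.{u}}

/-- Sections of a quasi-coherent module supported on a zero locus are killed by powers. -/
theorem exists_pow_kill (M : X.Modules) [Coh.IsQCoh M] (b : Γ(X, ⊤))
    (hs : CohB1.support M ⊆ (X.zeroLocus (U := ⊤) {b} : Set X)) {W : X.Opens} (hW : IsAffineOpen W) (s : Γ(M, W)) :
    ∃ k : ℕ, (X.presheaf.map (homOfLE (le_top : W ≤ ⊤)).op (b ^ k)) • s = 0 := by
  let f : Γ(X, W) := X.presheaf.map (homOfLE (le_top : W ≤ ⊤)).op b
  have h0 : M.presheaf.map (homOfLE (X.basicOpen_le f)).op s = 0 := by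
    refine TopCat.Presheaf.section_ext (⟨M.presheaf, M.isSheaf⟩ : TopCat.Sheaf Ab.{u} X.carrier) _ _ _ fun x hx => ?_
    have hx' : x ∉ CohB1.support M := fun h => by
      have h1 := hs h
      rw [Scheme.zeroLocus_def] at h1
      simp only [Set.mem_iInter, Set.mem_singleton_iff, forall_eq] at h1
      refine h1 ?_
      exact (X.basicOpen_res b (homOfLE (le_top : W ≤ ⊤)).op).le.trans inf_le_right hx
    haveI : Subsingleton (M.presheaf.stalk x) := not_not.1 hx'
    exact Subsingleton.elim _ _
  obtain ⟨n, hn⟩ := (QCohLib.locAt M hW).kill f s h0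
  refine ⟨n, ?_⟩
  rw [map_pow]
  have h := hn
  simp only [CohBase.sc, DistribSMul.toAddMonoidHom_apply] at h
  rw [← map_pow] at h
  rw [← map_pow]
  refine Eq.trans (congrArg (· • s) ?_) h
  simp [f, ← CommRingCat.comp_apply, ← X.presheaf.map_comp]

variable (A : Type u) [CommRing A] [X.Over (Spec (CommRingCat.of A))] [CompactSpace X] [QuasiSeparatedSpace X]

set_option maxHeartbeats 1000000 in
theorem exists_pow_smul_eq_zero (a : A) {E E' : DCoh.D X} (hE : DCoh.IsPerfect E) (hq : DCoh.IsQCohD E')
    (hsupp : ∀ i : ℤ, CohB1.support (DCoh.HD E' i) ⊆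
      (X.zeroLocus (U := ⊤) {Coh.toGlobal (X ↘ Spec (CommRingCat.of A)) a} : Set X))
    (α : E ⟶ E') : ∃ n : ℕ, (a ^ n) • α = 0 := by
  classical
  haveI : HasColimitsOfShape (Discrete (ULift.{u} ℕ)) (DCoh.D X) := ⟨fun F => by
    haveI := hasCoproduct_D' fun i => F.obj ⟨i⟩
    haveI : HasColimit (Discrete.functor (F.obj ∘ Discrete.mk)) := hasCoproduct_D' fun i => F.obj ⟨i⟩
    exact hasColimit_of_iso Discrete.natIsoFunctor⟩
  haveI : HasColimitsOfShape (Discrete ℕ) (DCoh.D X) :=
    hasColimitsOfShape_of_equivalence (Discrete.equivalence Equiv.ulift)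
  haveI : HasColimitsOfShape ℕ X.Modules := inferInstance
  haveI : HasExactColimitsOfShape ℕ X.Modules :=
    Groth.Agent.KFlat.hasExactColimitsOfShape_nat X.sheaf
  let Y : ℕ → DCoh.D X := fun _ => E'
  let f : ∀ n : ℕ, Y n ⟶ Y (n + 1) := fun _ => a • 𝟙 E'
  let d : (∐ Y) ⟶ ∐ Y := 𝟙 _ - DerLim.shiftMap Y f
  obtain ⟨L, g, c, hT⟩ := distinguished_cocone_triangle d
  have hL' : DerLim.IsHocolim Y f L fun n => Sigma.ι Y n ≫ g := by
    refine ⟨c, ?_⟩
    have : (Sigma.desc fun n => Sigma.ι Y n ≫ g) = g := Sigma.hom_ext _ _ fun n => by simp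
    rw [this]
    exact hT
  have hLz : IsZero L := by
    refine isZero_of_isZero_HD fun q => ?_
    let H := DerivedCategory.homologyFunctor X.Modules q
    haveI := preservesColimit_homologyFunctor (X := X) q
    obtain ⟨e, -⟩ := Groth.Agent.S1034.result H Y f L _ hL'
    refine IsZero.of_iso ?_ e.symm
    let F := Functor.ofSequence fun n => H.map (f n)
    let K := DerivedCategory.Q.objPreimage E'
    let eK : DerivedCategory.Q.obj K ≅ E' := DerivedCategory.Q.objObjPreimageIso E'
    let θ : H.obj E' ≅ K.homology q :=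
      H.mapIso eK.symm ≪≫ (DerivedCategory.homologyFunctorFactors X.Modules q).app K
    have hH : ∀ k : ℕ, H.map (a ^ k • 𝟙 E') = a ^ k • 𝟙 (H.obj E') := fun k => by
      have h1 : a ^ k • 𝟙 E' = eK.inv ≫ DerivedCategory.Q.map (a ^ k • 𝟙 K) ≫ eK.hom := by
        rw [Functor.map_smul, CategoryTheory.Functor.map_id, Linear.smul_comp, Linear.comp_smul,
          Category.id_comp, Iso.inv_hom_id]
      rw [h1, Functor.map_comp, Functor.map_comp,
        show H.map (DerivedCategory.Q.map (a ^ k • 𝟙 K)) =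
          ((DerivedCategory.homologyFunctorFactors X.Modules q).app K).hom ≫
            HomologicalComplex.homologyMap (a ^ k • 𝟙 K) q ≫
              ((DerivedCategory.homologyFunctorFactors X.Modules q).app K).inv by
          rw [← Category.assoc, Iso.eq_comp_inv]
          exact (DerivedCategory.homologyFunctorFactors X.Modules q).hom.naturality (a ^ k • 𝟙 K),
        homologyMap_smul', HomologicalComplex.homologyMap_id]
      simp only [Linear.smul_comp, Linear.comp_smul]
      congr 1
      erw [Category.id_comp, Iso.hom_inv_id, Category.id_comp, ← Functor.map_comp, Iso.inv_hom_id,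
        CategoryTheory.Functor.map_id]
    have hstep : ∀ n k : ℕ, ∀ hk : n ≤ n + k, F.map (homOfLE hk) = a ^ k • 𝟙 (H.obj E') := by
      intro n k
      induction k with
      | zero => intro hk; rw [pow_zero, one_smul]; exact (congrArg F.map (Subsingleton.elim _ (𝟙 n))).trans (F.map_id n)
      | succ k ih =>
        intro hk
        rw [show homOfLE hk = homOfLE (Nat.le_add_right n k) ≫ homOfLE (Nat.le_succ (n + k)) from Subsingleton.elim _ _,
          F.map_comp, ih, Functor.ofSequence_map_homOfLE_succ]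
        have h2 := hH 1
        rw [pow_one] at h2
        show (a ^ k • 𝟙 (H.obj E')) ≫ H.map (a • 𝟙 E') = _
        rw [h2, Linear.smul_comp, Category.id_comp, smul_smul, ← pow_succ]
    refine (IsZero.iff_id_eq_zero _).2 (colimit.hom_ext fun n => ?_)
    rw [Category.comp_id, comp_zero]
    haveI : Coh.IsQCoh (H.obj E') := hq q
    haveI : Coh.IsQCoh (F.obj n) := hq q
    refine FPApproxLib.hom_ext_opens _ _ X.affineOpens (fun W => W.1) (fun W => W.2)
      (QCohLib.iSup_affineOpens_eq_top X) fun W (s : Γ(H.obj E', W.1)) => ?_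
    obtain ⟨k, hk⟩ := exists_pow_kill (H.obj E') _ (hsupp q) W.2 s
    rw [← colimit.w F (homOfLE (Nat.le_add_right n k)), hstep]
    show (colimit.ι F (n + k)).app W.1 ((a ^ k • 𝟙 (H.obj E')).app W.1 s) = _
    rw [KLin.smul_app_apply, map_pow, Scheme.Modules.Hom.id_app]
    exact (congrArg ((colimit.ι F (n + k)).app W.1) hk).trans (map_zero _)
  haveI : IsIso d := (Triangle.isZero₃_iff_isIso₁ _ hT).1 hLz
  let π : ∀ n, (∐ Y) ⟶ Y n := fun n => sigmaProj (coproductIsCoproduct Y) n
  have hπs : ∀ n, Sigma.ι Y n ≫ π n = 𝟙 _ := fun n => inj_sigmaProj_self (coproductIsCoproduct Y) n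
  have hπn : ∀ {i j : ℕ}, j ≠ i → Sigma.ι Y j ≫ π i = 0 := fun h =>
    inj_sigmaProj_ne (coproductIsCoproduct Y) h
  let b : E ⟶ ∐ Y := α ≫ Sigma.ι Y 0 ≫ inv d
  -- components
  have hb : ∀ k, b ≫ π k = a ^ k • α := fun k => by
    induction k with
    | zero =>
      have hd0 : d ≫ π 0 = π 0 := by
        have : DerLim.shiftMap Y f ≫ π 0 = 0 := Sigma.hom_ext _ _ fun n => by
          rw [DerLim.shiftMap, Sigma.ι_desc_assoc, Category.assoc, hπn (Nat.succ_ne_zero _), comp_zero, comp_zero]
        rw [Preadditive.sub_comp, this, Category.id_comp, sub_zero]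
      rw [← hd0, pow_zero, one_smul]
      simp only [b, Category.assoc, IsIso.inv_hom_id_assoc, hπs]
      exact Category.comp_id α
    | succ k ih =>
      have hd1 : d ≫ π (k + 1) = π (k + 1) - π k ≫ f k := by
        have : DerLim.shiftMap Y f ≫ π (k + 1) = π k ≫ f k := Sigma.hom_ext _ _ fun n => by
          rw [DerLim.shiftMap, Sigma.ι_desc_assoc, Category.assoc]
          by_cases hn : n = k
          · subst hn
            rw [hπs, Category.comp_id, ← Category.assoc, hπs, Category.id_comp]
          · rw [hπn (fun h => hn (Nat.succ_injective h)), comp_zero, ← Category.assoc, hπn hn, zero_comp]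
        rw [Preadditive.sub_comp, this, Category.id_comp]
      have h2 : b ≫ d ≫ π (k + 1) = 0 := by
        simp only [b, Category.assoc, IsIso.inv_hom_id_assoc]
        rw [hπn (Nat.succ_ne_zero k).symm, comp_zero]
      rw [hd1, Preadditive.comp_sub, sub_eq_zero, ← Category.assoc, ih] at h2
      rw [h2]
      show (a ^ k • α) ≫ (a • 𝟙 E') = _
      rw [Linear.smul_comp, Linear.comp_smul, Category.comp_id, smul_smul, ← pow_succ]
  let Y' : ULift.{u} ℕ → DCoh.D X := fun n => Y n.down
  let e : (∐ Y) ⟶ ∐ Y' := Sigma.desc fun n => Sigma.ι Y' ⟨n⟩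
  obtain ⟨T, hTb⟩ := absorbs_of_isPerfect hE Y' (fun _ => hq) (b ≫ e)
  obtain ⟨n, hn⟩ : ∃ n : ℕ, (⟨n⟩ : ULift.{u} ℕ) ∉ T :=
    (Infinite.exists_notMem_finset (T.image ULift.down)).imp fun n hn h => hn (Finset.mem_image_of_mem ULift.down h)
  refine ⟨n, ?_⟩
  let π' := fun k => sigmaProj (coproductIsCoproduct Y') k
  have he : e ≫ π' ⟨n⟩ = π n := Sigma.hom_ext _ _ fun m => by
    rw [Sigma.ι_desc_assoc]
    by_cases hm : m = n
    · subst hm
      rw [hπs]
      exact inj_sigmaProj_self (coproductIsCoproduct Y') (⟨m⟩ : ULift.{u} ℕ)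
    · rw [hπn hm]
      exact inj_sigmaProj_ne (coproductIsCoproduct Y') (fun h => hm (congrArg ULift.down h))
  rw [← hb, ← he, ← Category.assoc, ← hTb, sigmaTrunc, Preadditive.comp_sum, Preadditive.sum_comp]
  refine Finset.sum_eq_zero fun k hk => ?_
  show ((b ≫ e) ≫ π' k ≫ Sigma.ι Y' k) ≫ π' ⟨n⟩ = 0
  simp only [Category.assoc]
  rw [show Sigma.ι Y' k ≫ π' ⟨n⟩ = 0 from inj_sigmaProj_ne (coproductIsCoproduct Y') (fun h => hn (h ▸ hk))]
  simp

end Groth.Agent.DCohMore
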