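import Groth.Agent.DCohMore.TwistProj
import Groth.Agent.DCohMore.GammaOrth
import Groth.Agent.AmpleEmb.SectionsGe
import Groth.Agent.AmpleLib.Pullback
import Groth.Agent.AmpleEmb.Ratio

/-!
# Twists by an ample invertible module
-/

set_option autoImplicit false
set_option linter.style.haveILetI false
set_option linter.unusedSectionVars false
set_option maxHeartbeats 1000000

universe u

open CategoryTheory CategoryTheory.Limits AlgebraicGeometry TopologicalSpace Opposite
open Groth.Agent.AmpleLib Groth.Agent.AmpleEmb Groth.Agent.ParaFLib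

attribute [local instance] HasDerivedCategory.standard

noncomputable section

namespace Groth.Agent.DCohMore.TwistFam

variable {X : Scheme.{u}}

/-- An ample module gives multiplication data for one of its powers. -/
theorem exists_mulData_of_ample {L : X.Modules} (hL : CohB1.IsAmple L) :
    ∃ (n D : ℕ) (T : ProjCoh.MulData X (Fin (n + 1))), (∀ i, IsAffineOpen (T.U i)) ∧
      (∀ d, Coh.IsQCoh (T.F d)) ∧ Nonempty (T.F 0 ≅ Coh.structureModule X) ∧
      ∀ d : ℕ, Nonempty (T.F (d : ℤ) ≅ CohB1.tensorPow L (D * d)) := by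
  classical
  obtain ⟨T, _, D, -, s, _, _, _, ha, -, -, -, -, hcov⟩ := exists_trivial_cover (𝟙 X) hL hL.1
  let P := CohB1.tensorPow L D
  have hP : PicF.IsInvertible P := isInvertible_tensorPow hL.1 D
  let n := Fintype.card T
  let e : Fin (n + 1) ≃ Option T := (Fintype.equivFinOfCardEq (Fintype.card_option (α := T))).symm
  let v : Fin (n + 1) → (Coh.structureModule X ⟶ P) := fun i => (e i).elim (DCohLib.secHom P 0) s
  have hva : ∀ i, IsAffineOpen (CohB1.genLocus P (v i)) := fun i => by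
    show IsAffineOpen (CohB1.genLocus P ((e i).elim (DCohLib.secHom P 0) s))
    rcases e i with - | x
    · rw [Option.elim_none, AmpleEmb.genLocus_zero hP]
      exact isAffineOpen_bot X
    · exact ha x
  have hvc : ∀ x, ∃ i, x ∈ CohB1.genLocus P (v i) := fun x => by
    obtain ⟨t, ht⟩ := hcov x
    refine ⟨e.symm (some t), ?_⟩
    show x ∈ CohB1.genLocus P ((e (e.symm (some t))).elim (DCohLib.secHom P 0) s)
    rw [Equiv.apply_symm_apply]
    exact ht
  have hex : ∀ i a, ∃ c : Γ(X, CohB1.genLocus P (v i)),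
      c • resT (sec (v i)) (CohB1.genLocus P (v i)) = resT (sec (v a)) (CohB1.genLocus P (v i)) := fun i a => by
    obtain ⟨c, hc⟩ := ((AmpleEmb.gen_genLocus hP (v i)) _ le_rfl).2 (resT (sec (v a)) (CohB1.genLocus P (v i)))
    refine ⟨c, Eq.trans ?_ hc⟩
    simp only [resT, res_res]
  choose t ht using hex
  let F := familyOfSections hP v hva hvc t ht
  let φ : ULift.{u} ℤ →+* Γ(X, ⊤) := (Int.castRingHom _).comp ULift.ringEquiv.toRingHom
  let g := toProj φ F
  let M := (projMul n (ULift.{u} ℤ)).pullback g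
  obtain ⟨eP⟩ := nonempty_iso_pullback_twistOne (φ := φ) F v
    (fun i => AmpleEmb.gen_genLocus hP (v i)) ht
  have hM0 : Nonempty (M.F 0 ≅ Coh.structureModule X) :=
    ⟨(Scheme.Modules.pullback g).mapIso (projMulZero n (ULift.{u} ℤ)) ≪≫ pullO g⟩
  have hU : ∀ i, IsAffineOpen (M.U i) := fun i => by
    show IsAffineOpen (g ⁻¹ᵁ Proj.basicOpen (CohB1.polyGrading n (ULift.{u} ℤ)) (MvPolynomial.X i))
    rw [preimage_basicOpen]
    exact hva i
  refine ⟨n, D, M, hU, fun d => M.isQCoh_F (DCohLib.isQCoh_of_iso' hM0.some.symm inferInstance) hU d, hM0,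
    fun d => ⟨?_⟩⟩
  exact (Scheme.Modules.pullback g).mapIso
      (eqToIso (congrArg (Twist.twistProjSpace n (ULift.{u} ℤ)) (mul_one (d : ℤ)).symm) ≪≫
        (ProjTwistLib.powIso (hasUnit_twist n (ULift.{u} ℤ) 1) d).symm) ≪≫
    pullPow g _ d ≪≫ powCongr eP.symm d ≪≫ powMul L D d

/-- Derived tensor products with isomorphic modules agree. -/
def lTensorModCongr {A B : X.Modules} (e : A ≅ B) [DCoh.HasLTensorMod A] [DCoh.HasLTensorMod B] (K : DCoh.D X) :
    (DCoh.LTensorMod A).obj K ≅ (DCoh.LTensorMod B).obj K :=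
  let P := (DCohLib.resX X).obj (DerivedCategory.Q.objPreimage K)
  (DCoh.LTensorMod A).mapIso (DCohLib.resXIso K).symm ≪≫ DCohLib.lTensorModIso A P (DCohLib.isKFlat_resX _) ≪≫
    DerivedCategory.Q.mapIso (HomologicalComplex.Hom.isoOfComponents
      (C₁ := ((DCoh.tensorRightMod A).mapHomologicalComplex (ComplexShape.up ℤ)).obj P)
      (C₂ := ((DCoh.tensorRightMod B).mapHomologicalComplex (ComplexShape.up ℤ)).obj P)
      (fun p => ((DCoh.tensorBi (X := X)).obj (P.X p)).mapIso e)
      (fun p q _ => ((((DCoh.tensorBi (X := X)).map (P.d p q))).naturality e.hom))) ≪≫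
    (DCohLib.lTensorModIso B P (DCohLib.isKFlat_resX _)).symm ≪≫ (DCoh.LTensorMod B).mapIso (DCohLib.resXIso K)

/-- Some non-negative twist by an ample module has nonzero hypercohomology. -/
theorem exists_twist_ne_zero (L : X.Modules) (hL : CohB1.IsAmple L) [DCoh.HasRΓ X]
    [∀ n : ℕ, DCoh.HasLTensorMod (CohB1.tensorPow L n)] (K : DCoh.D X) (hK : DCoh.IsQCohD K) (hK0 : ¬ IsZero K) :
    ∃ (n : ℕ) (p : ℤ), ¬ IsZero ((DerivedCategory.homologyFunctor AddCommGrpCat.{u} p).obj
      ((DCoh.RΓ X).obj ((DCoh.LTensorMod (CohB1.tensorPow L n)).obj K))) := by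
  by_contra hne
  push Not at hne
  obtain ⟨n, D, T, hU, hF, ⟨h0⟩, hd⟩ := exists_mulData_of_ample hL
  let P := (DCohLib.resX X).obj (DerivedCategory.Q.objPreimage K)
  have hz := isZero_of_orth (chartsOf T hU) (fam T P) 0 (good_fam T hU P 0)
    (fun d _ => isQCohD_fam T K hK d (hF d))
    (fun d hd0 => by
      obtain ⟨k, rfl⟩ := Int.eq_ofNat_of_zero_le hd0
      obtain ⟨e⟩ := hd k
      exact orth_of_iso ((lTensorModCongr e K).symm ≪≫ (famIso T K (k : ℤ)).symm)
        (orth_of_isZero_rgamma _ (hne (D * k)))) (le_refl 0)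
  let η₀ : DCoh.tensorRightMod (T.F 0) ≅ 𝟭 X.Modules :=
    (ModSite.tensorBi X.sheaf).flip.mapIso h0 ≪≫ ModTensor.tensorUnitRight X.sheaf
  let e : (fam T P).K 0 ≅ P :=
    HomologicalComplex.Hom.isoOfComponents (fun p => η₀.app (P.X p)) (fun p q _ => (η₀.hom.naturality (P.d p q)).symm)
  exact hK0 (hz.of_iso ((DCohLib.resXIso K).symm ≪≫ DerivedCategory.Q.mapIso e.symm))

end Groth.Agent.DCohMore.TwistFam
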