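import Groth.Agent.DCohMore.AffinePushHD
import Groth.Agent.DCohMore.AffinePushPC
import Groth.Agent.DCohMore.BCOpen
import Groth.Agent.DCohMore.RpushQC
import Groth.Agent.DCohMore.RHomQC
import Groth.Agent.CMRegLib.Cones
import Groth.Agent.TildeD.Main
import Groth.Agent.GenFree.Modules

/-!
# Twisted families of complexes with invertible coordinates

A family of complexes with multiplication maps which are isomorphisms on the members of an affine
covering is zero as soon as no twist receives a map from a shift of the structure sheaf.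
-/

set_option autoImplicit false
set_option linter.style.haveILetI false
set_option linter.unusedSectionVars false
set_option maxHeartbeats 1000000
set_option backward.isDefEq.respectTransparency false

universe u

open CategoryTheory CategoryTheory.Limits AlgebraicGeometry TopologicalSpace Opposite
open CategoryTheory.Pretriangulated
open Groth.Agent.DCohLib Groth.Agent.PullbackMod Groth.Agent.CMRegLib Groth.Agent.CohBase

attribute [local instance] HasDerivedCategory.standard

noncomputable section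

namespace Groth.Agent.DCohMore.TwistFam

variable {X : Scheme.{u}} {ι : Type}

/-- An affine covering by the loci where coordinates are invertible, with the ratios of coordinates. -/
structure Charts (X : Scheme.{u}) (ι : Type) where
  /-- The covering. -/
  U : ι → X.Opens
  affine : ∀ i, IsAffineOpen (U i)
  cover : ∀ x : X, ∃ i, x ∈ U i
  /-- The ratio of two coordinates. -/
  t : ∀ i : ι, ι → Γ(X, U i)
  t_open : ∀ i a, X.basicOpen (t i a) = U i ⊓ U a

/-- The ratio at a point. -/
abbrev Charts.c (T : Charts X ι) (i a : ι) (x : X) (hx : x ∈ T.U i) : X.presheaf.stalk x :=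
  X.presheaf.germ (T.U i) x hx (T.t i a)

/-- Conditions on a family above a degree. -/
structure Good (T : Charts X ι) (A : MFam X ι) (m : ℤ) : Prop where
  bij : ∀ i d, m < d → ∀ x ∈ T.U i, ∀ p, IsIso ((stkF x).map ((A.μ i d).f p))
  ratio : ∀ i a d, m < d → ∀ (x : X) (hx : x ∈ T.U i) p,
    (stkF x).map ((A.μ a d).f p) = T.c i a x hx • (stkF x).map ((A.μ i d).f p)

/-- No maps from shifts of the structure sheaf. -/
def Orth (E : DCoh.D X) : Prop :=
  ∀ (n : ℤ) (φ : (DCoh.inD X (Coh.structureModule X))⟦n⟧ ⟶ E), φ = 0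

theorem orth_of_isZero {E : DCoh.D X} (h : IsZero E) : Orth E := fun _ _ => h.eq_of_tgt _ _

theorem orth_of_iso {E F : DCoh.D X} (e : E ≅ F) (h : Orth E) : Orth F := fun n φ => by
  rw [← cancel_mono e.inv, h n (φ ≫ e.inv), zero_comp]

/-- The triangle of a member of the cone family. -/
abbrev tri (A : MFam X ι) (a : ι) (d : ℤ) : Triangle (DCoh.D X) :=
  DerivedCategory.Q.mapTriangle.obj (CochainComplex.mappingCone.triangle (A.μ a d))

theorem tri_mem (A : MFam X ι) (a : ι) (d : ℤ) : tri A a d ∈ distTriang (DCoh.D X) :=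
  (DerivedCategory.mem_distTriang_iff _).2 ⟨_, _, A.μ a d, ⟨Iso.refl _⟩⟩

theorem orth₂ {T : Triangle (DCoh.D X)} (hT : T ∈ distTriang _) (h₁ : Orth T.obj₁) (h₃ : Orth T.obj₃) :
    Orth T.obj₂ := fun n φ => by
  obtain ⟨g, hg⟩ := Triangle.coyoneda_exact₂ T hT φ (h₃ n _)
  rw [hg, h₁ n g, zero_comp]

theorem orth_shift {E : DCoh.D X} (h : Orth E) (k : ℤ) : Orth (E⟦k⟧) := fun n φ => by
  let e : (DCoh.inD X (Coh.structureModule X))⟦n⟧ ≅ ((DCoh.inD X (Coh.structureModule X))⟦n + -k⟧)⟦k⟧ :=
    (shiftFunctorAdd' (DCoh.D X) (n + -k) k n (by omega)).app _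
  obtain ⟨g, hg⟩ := (shiftFunctor (DCoh.D X) k).map_surjective (e.inv ≫ φ)
  rw [h _ g, Functor.map_zero] at hg
  rw [← cancel_epi e.inv, ← hg, comp_zero]

theorem orth₃ {T : Triangle (DCoh.D X)} (hT : T ∈ distTriang _) (h₁ : Orth T.obj₁) (h₂ : Orth T.obj₂) :
    Orth T.obj₃ :=
  orth₂ (T := T.rotate) (rot_of_distTriang _ hT) h₂ (orth_shift h₁ 1)

theorem orth₁ {T : Triangle (DCoh.D X)} (hT : T ∈ distTriang _) (h₂ : Orth T.obj₂) (h₃ : Orth T.obj₃) :
    Orth T.obj₁ :=
  orth₂ (T := T.invRotate) (inv_rot_of_distTriang _ hT) (orth_shift h₃ (-1)) h₂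

/-- The cone family satisfies the conditions one degree higher. -/
theorem Good.cone {T : Charts X ι} {A : MFam X ι} {m : ℤ} (h : Good T A m) (a : ι) :
    Good T (A.cone a) (m + 1) where
  bij i d hd x hx p :=
    isIso_map_coneMap_f (stkF x) _ _ _ _ (A.comm a i d) p (h.bij i (d - 1) (by omega) x hx _)
      (h.bij i d (by omega) x hx _)
  ratio i b d hd x hx j := by
    have hm : ∀ b : ι, ((A.cone a).μ b d).f j =
        (CochainComplex.mappingCone.fst (A.μ a (d - 1))).1.v j (j + 1) rfl ≫ (A.μ b (d - 1)).f (j + 1) ≫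
          (CochainComplex.mappingCone.inl (A.μ a d)).v (j + 1) j (by omega) +
        (CochainComplex.mappingCone.snd (A.μ a (d - 1))).v j j (add_zero j) ≫ (A.μ b d).f j ≫
          (CochainComplex.mappingCone.inr (A.μ a d)).f j := fun b => by
      simp [MFam.cone, CochainComplex.mappingCone.ext_from_iff _ (j + 1) j rfl, CochainComplex.mappingCone.map]
    rw [hm b, hm i]
    simp only [Functor.map_add, Functor.map_comp]
    erw [h.ratio i b (d - 1) (by omega) x hx (j + 1), h.ratio i b d (by omega) x hx j]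
    simp only [Linear.comp_smul, Linear.smul_comp, smul_add]

/-- The cohomology of the stalks of a complex. -/
abbrev stkH (x : X) (p : ℤ) : CochainComplex X.Modules ℤ ⥤ ModuleCat.{u} (X.presheaf.stalk x) :=
  stkC x ⋙ HomologicalComplex.homologyFunctor _ _ p

/-- Stalks of cohomology sheaves. -/
def stkHIso (G : CochainComplex X.Modules ℤ) (x : X) (p : ℤ) :
    (stkF x).obj (DCoh.HD (DerivedCategory.Q.obj G) p) ≅ (stkH x p).obj G :=
  (stkF x).mapIso ((DerivedCategory.homologyFunctorFactors X.Modules p).app G) ≪≫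
    (ShortComplex.mapHomologyIso (G.sc p) (stkF x)).symm

theorem isZero_Q_of_acyclic (G : CochainComplex X.Modules ℤ) (h : ∀ x, ((stkC x).obj G).Acyclic) :
    IsZero (DerivedCategory.Q.obj G) :=
  isZero_of_isZero_HD fun p => isZero_of_stalks fun x => ModuleCat.subsingleton_of_isZero
    (((HomologicalComplex.exactAt_iff_isZero_homology _ p).1 (h x p)).of_iso (stkHIso G x p))

theorem acyclic_of_isZero_Q (G : CochainComplex X.Modules ℤ) (h : IsZero (DerivedCategory.Q.obj G))
    (x : X) : ((stkC x).obj G).Acyclic := fun p =>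
  (HomologicalComplex.exactAt_iff_isZero_homology _ p).2
    (((stkF x).map_isZero ((DerivedCategory.homologyFunctor X.Modules p).map_isZero h)).of_iso
      (stkHIso G x p).symm)

/-- Multiplication by an element is bijective. -/
def Inv {R : Type u} [CommRing R] (c : R) (M : ModuleCat.{u} R) : Prop :=
  Function.Bijective fun z : M => c • z

theorem inv_iso {R : Type u} [CommRing R] {c : R} {M N : ModuleCat.{u} R} (e : M ≅ N) (h : Inv c M) :
    Inv c N := by
  have he : (fun z : N => c • z) = e.toLinearEquiv ∘ (fun z : M => c • z) ∘ e.toLinearEquiv.symm :=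
    funext fun z => by simp [map_smul]
  show Function.Bijective fun z : N => c • z
  rw [he]
  exact e.toLinearEquiv.bijective.comp (h.comp e.toLinearEquiv.symm.bijective)

theorem inv_of_isZero {R : Type u} [CommRing R] {c : R} {M : ModuleCat.{u} R} (h : IsZero M) : Inv c M :=
  haveI := ModuleCat.subsingleton_of_isZero h
  ⟨fun _ _ _ => Subsingleton.elim _ _, fun z => ⟨z, Subsingleton.elim _ _⟩⟩

/-- Five lemma for an element acting. -/
theorem inv_five {R : Type u} [CommRing R] {c : R} {A B C D E : ModuleCat.{u} R}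
    (f : A ⟶ B) (g : B ⟶ C) (δ : C ⟶ D) (h : D ⟶ E) (w₁ : f ≫ g = 0) (w₂ : g ≫ δ = 0) (w₃ : δ ≫ h = 0)
    (e₁ : (ShortComplex.mk f g w₁).Exact) (e₂ : (ShortComplex.mk g δ w₂).Exact)
    (e₃ : (ShortComplex.mk δ h w₃).Exact) (hA : Inv c A) (hB : Inv c B) (hD : Inv c D) (hE : Inv c E) :
    Inv c C := by
  rw [ShortComplex.moduleCat_exact_iff] at e₁ e₂ e₃
  refine ⟨?_, fun z => ?_⟩
  · intro y y' hy
    rw [← sub_eq_zero]
    replace hy : c • (y - y') = 0 := by rw [smul_sub]; exact sub_eq_zero.2 hy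
    have h1 : δ (y - y') = 0 := hD.1 (show c • δ (y - y') = c • (0 : D) by rw [← map_smul, hy, map_zero, smul_zero])
    obtain ⟨b, hb⟩ := e₂ _ h1
    change g b = _ at hb
    have h2 : g (c • b) = 0 := by rw [map_smul, hb, hy]
    obtain ⟨a, ha⟩ := e₁ _ h2
    change f a = _ at ha
    obtain ⟨a', rfl⟩ := hA.2 a
    have h3 : f a' = b := hB.1 (show c • f a' = c • b by rw [← map_smul]; exact ha)
    rw [← hb, ← h3]
    exact congr($(w₁) a')
  · obtain ⟨e, he⟩ := hD.2 (δ z)
    simp only at he
    have h1 : h e = 0 := hE.1 (show c • h e = c • (0 : E) by rw [← map_smul, he, smul_zero]; exact congr($(w₃) z))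
    obtain ⟨z', hz'⟩ := e₃ _ h1
    change δ z' = _ at hz'
    have h2 : δ (z - c • z') = 0 := by rw [map_sub, map_smul, hz', he, sub_self]
    obtain ⟨b, hb⟩ := e₂ _ h2
    change g b = _ at hb
    obtain ⟨b', rfl⟩ := hB.2 b
    refine ⟨g b' + z', ?_⟩
    show c • (g b' + z') = z
    rw [smul_add, ← map_smul, hb, sub_add_cancel]

/-- The ratio acts bijectively on the stalk of the cohomology of an isomorphism. -/
theorem inv_of_ratio {K L : CochainComplex X.Modules ℤ} (u v : K ⟶ L) (x : X) (c : X.presheaf.stalk x)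
    (hv : ∀ p, IsIso ((stkF x).map (v.f p)))
    (hr : ∀ p, (stkF x).map (u.f p) = c • (stkF x).map (v.f p)) (p : ℤ)
    (hu : IsIso ((stkH x p).map u)) : Inv c ((stkH x p).obj L) ∧ Inv c ((stkH x p).obj K) := by
  haveI : ∀ q, IsIso (((stkC x).map v).f q) := hv
  haveI : IsIso ((stkC x).map v) := HomologicalComplex.Hom.isIso_of_components _
  have he : (stkC x).map u = c • (stkC x).map v := HomologicalComplex.hom_ext _ _ hr
  let e : (stkH x p).obj K ≅ (stkH x p).obj L :=
    (HomologicalComplex.homologyFunctor _ _ p).mapIso (asIso ((stkC x).map v))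
  have hh : (stkH x p).map u = c • e.hom := by
    show HomologicalComplex.homologyMap ((stkC x).map u) p = _
    rw [he]
    exact ShortComplex.homologyMap_smul c
      (φ := (HomologicalComplex.shortComplexFunctor _ (ComplexShape.up ℤ) p).map ((stkC x).map v))
  haveI := hu
  have hb : Function.Bijective fun z : (stkH x p).obj K => c • e.hom z := by
    have := ConcreteCategory.bijective_of_isIso ((stkH x p).map u)
    rw [hh] at this
    exact this
  have hL : Inv c ((stkH x p).obj L) :=
    (Function.Bijective.of_comp_iff (fun z : (stkH x p).obj L => c • z) e.toLinearEquiv.bijective).1 hb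
  exact ⟨hL, inv_iso e.symm hL⟩

/-- Chart inclusions of the covering are affine morphisms. -/
theorem Charts.isAffineHom (T : Charts X ι) (k : ι) : IsAffineHom (T.affine k).fromSpec := by
  refine HasAffineProperty.of_iSup_eq_top (P := @IsAffineHom)
    (fun i : ι => (⟨T.U i, T.affine i⟩ : X.affineOpens)) ?_ fun i => ?_
  · exact top_le_iff.1 fun x _ => by
      obtain ⟨i, hi⟩ := T.cover x
      exact Opens.mem_iSup.2 ⟨i, hi⟩
  · have he : (T.affine k).fromSpec ⁻¹ᵁ T.U i = PrimeSpectrum.basicOpen (T.t k i) := by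
      rw [← (T.affine k).fromSpec_preimage_basicOpen, T.t_open, Scheme.Hom.preimage_inf,
        (T.affine k).fromSpec_preimage_self, top_inf_eq]
    show IsAffine ((T.affine k).fromSpec ⁻¹ᵁ T.U i : Scheme.{u})
    rw [he]
    exact IsAffineOpen.Spec_basicOpen _

/-- A quasi-coherent module with invertible ratio, zero on the chart, is zero. -/
theorem isZero_of_inv (T : Charts X ι) (k : ι) (N : X.Modules) [Coh.IsQCoh N]
    (hN : ∀ i (x : X) (hx : x ∈ T.U i), Inv (T.c i k x hx) ((stkF x).obj N))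
    (hk : ∀ x ∈ T.U k, Subsingleton (N.presheaf.stalk x)) : IsZero N := by
  refine isZero_of_stalks fun x => ⟨?_⟩
  suffices h : ∀ z : N.presheaf.stalk x, z = 0 from fun a b => (h a).trans (h b).symm
  intro z
  obtain ⟨i, hi⟩ := T.cover x
  obtain ⟨V₀, hx₀, s₀, rfl⟩ := TopCat.Presheaf.exists_germ_eq N.presheaf z
  obtain ⟨V, hV, hxV, hVle⟩ := exists_isAffineOpen_mem_and_subset (x := x) (U := V₀ ⊓ T.U i) ⟨hx₀, hi⟩
  have hV₀ : V ≤ V₀ := fun y hy => (hVle hy).1
  have hVi : V ≤ T.U i := fun y hy => (hVle hy).2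
  rw [← N.presheaf.germ_res_apply (homOfLE hV₀) x hxV s₀]
  generalize N.presheaf.map (homOfLE hV₀).op s₀ = s
  let f := X.presheaf.map (homOfLE hVi).op (T.t i k)
  have hf : X.basicOpen f ≤ T.U k := by
    rw [show X.basicOpen f = V ⊓ X.basicOpen (T.t i k) from X.basicOpen_res _ _, T.t_open]
    exact inf_le_right.trans inf_le_right
  have h0 : N.presheaf.map (homOfLE (X.basicOpen_le f)).op s = 0 :=
    TopCat.Presheaf.section_ext (⟨N.presheaf, N.isSheaf⟩ : TopCat.Sheaf Ab.{u} X) _ _ _
      fun y hy => (hk y (hf hy)).elim _ _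
  obtain ⟨n, hn⟩ := (QCohLib.locAt N hV).kill f s h0
  replace hn := congrArg (N.presheaf.germ V x hxV) hn
  rw [GenFree.germ_sc, map_zero, map_pow,
    show X.presheaf.germ V x hxV f = T.c i k x hi from X.presheaf.germ_res_apply _ _ _ _] at hn
  have key : ∀ (n : ℕ) (w : (stkF x).obj N), (T.c i k x hi) ^ n • w = 0 → w = 0 := by
    intro n
    induction n with
    | zero => intro w hw; simpa using hw
    | succ n ih =>
      intro w hw
      rw [pow_succ', mul_smul] at hw
      exact ih w ((hN i x hi).1 (show _ • _ = _ • (0 : (stkF x).obj N) by rw [smul_zero]; exact hw))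
  exact key n _ hn

/-- The ratio acts bijectively on stalks of a direct image from the chart. -/
theorem inv_push (T : Charts X ι) (k : ι) (M : (Spec Γ(X, T.U k)).Modules) (i : ι) (x : X)
    (hx : x ∈ T.U i) :
    Inv (T.c i k x hx) ((stkF x).obj ((Scheme.Modules.pushforward (T.affine k).fromSpec).obj M)) := by
  let j := (T.affine k).fromSpec
  let P := (Scheme.Modules.pushforward j).obj M
  have hunit : ∀ (V : X.Opens) (hV : V ≤ T.U i),
      IsUnit (j.app V (X.presheaf.map (homOfLE hV).op (T.t i k))) := fun V hV => by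
    refine RingedSpace.isUnit_of_isUnit_germ _ (j ⁻¹ᵁ V) _ fun y hy => ?_
    refine ((Spec Γ(X, T.U k)).mem_basicOpen _ y hy).1 ?_
    rw [← Scheme.preimage_basicOpen, Scheme.basicOpen_res, T.t_open]
    refine ⟨hy, hV hy, ?_⟩
    exact (T.affine k).range_fromSpec.le ⟨y, rfl⟩
  have hsc : ∀ (V : X.Opens) (hV : V ≤ T.U i) (s : Γ(P, V)),
      (show Γ(M, j ⁻¹ᵁ V) from sc (T.t i k) hV s) =
        j.app V (X.presheaf.map (homOfLE hV).op (T.t i k)) • (show Γ(M, j ⁻¹ᵁ V) from s) :=
    fun V hV s => rfl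
  refine ⟨?_, fun w => ?_⟩
  · suffices h : ∀ z : P.presheaf.stalk x, T.c i k x hx • z = 0 → z = 0 from fun a b hab =>
      sub_eq_zero.1 (h (show P.presheaf.stalk x from a - b) (by
        rw [smul_sub]; exact sub_eq_zero.2 hab))
    intro z hz
    obtain ⟨V₀, hx₀, s₀, rfl⟩ := TopCat.Presheaf.exists_germ_eq P.presheaf z
    rw [← P.presheaf.germ_res_apply (homOfLE (inf_le_left : V₀ ⊓ T.U i ≤ V₀)) x ⟨hx₀, hx⟩ s₀] at hz ⊢
    generalize P.presheaf.map (homOfLE (inf_le_left : V₀ ⊓ T.U i ≤ V₀)).op s₀ = s at hz ⊢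
    rw [← GenFree.germ_sc P (inf_le_right : V₀ ⊓ T.U i ≤ T.U i) x ⟨hx₀, hx⟩, ← map_zero (P.presheaf.germ (V₀ ⊓ T.U i) x ⟨hx₀, hx⟩).hom] at hz
    obtain ⟨V, hxV, a, b, hab⟩ := TopCat.Presheaf.germ_eq P.presheaf x _ _ _ _ hz
    rw [map_zero, show a = homOfLE a.le from rfl, map_sc] at hab
    have hs' : (show Γ(M, j ⁻¹ᵁ V) from P.presheaf.map (homOfLE a.le).op s) = 0 :=
      (IsUnit.smul_eq_zero (hunit V (a.le.trans inf_le_right))).1 ((hsc V _ _).symm.trans hab)
    have hs : P.presheaf.map (homOfLE a.le).op s = 0 := hs' 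
    rw [← P.presheaf.germ_res_apply (homOfLE a.le) x hxV s, hs, map_zero]
  · obtain ⟨V₀, hx₀, s₀, rfl⟩ := TopCat.Presheaf.exists_germ_eq P.presheaf (show P.presheaf.stalk x from w)
    let V := V₀ ⊓ T.U i
    let s : Γ(P, V) := P.presheaf.map (homOfLE (inf_le_left : V ≤ V₀)).op s₀
    obtain ⟨v, hv⟩ := hunit V inf_le_right
    let rM : Γ(M, j ⁻¹ᵁ V) := v⁻¹.val • (show Γ(M, j ⁻¹ᵁ V) from s)
    let r : Γ(P, V) := rM
    refine ⟨P.presheaf.germ V x ⟨hx₀, hx⟩ r, ?_⟩
    show T.c i k x hx • P.presheaf.germ V x ⟨hx₀, hx⟩ r = _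
    rw [← GenFree.germ_sc P (inf_le_right : V ≤ T.U i) x ⟨hx₀, hx⟩,
      ← P.presheaf.germ_res_apply (homOfLE (inf_le_left : V ≤ V₀)) x ⟨hx₀, hx⟩ s₀]
    refine congrArg _ ((hsc V inf_le_right r).trans ?_)
    show j.app V _ • rM = (show Γ(M, j ⁻¹ᵁ V) from s)
    rw [← hv]
    show v.val • v⁻¹.val • (show Γ(M, j ⁻¹ᵁ V) from s) = _
    rw [smul_smul, Units.mul_inv, one_smul]

theorem hasRpush_any {Y Z : Scheme.{u}} (f : Y ⟶ Z) : DCoh.HasRpush f :=
  Groth.Agent.KInj.hasRightDerivedFunctor (hres_modules _) _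

/-- A quasi-coherent object on an affine scheme without maps from the structure sheaf is zero. -/
theorem isZero_of_tilde_orth {R : CommRingCat.{u}} (V : DCoh.D (Spec R)) (hV : DCoh.IsQCohD V)
    [PreservesFiniteLimits (tilde.functor R)]
    (h : ∀ (n : ℤ) (φ : ((DCoh.tildeD R).obj (Dual.inD R R))⟦n⟧ ⟶ V), φ = 0) : IsZero V := by
  obtain ⟨-, -, hess⟩ := TildeD.main R
  obtain ⟨M, ⟨e⟩⟩ := (hess V).1 hV
  refine IsZero.of_iso (isZero_of_isZero_HD fun q => ?_) e.symm
  refine IsZero.of_iso ((tilde.functor R).map_isZero ?_) ((TildeD.nuT R q).app M)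
  let S := (DerivedCategory.singleFunctor (ModuleCat.{u} R) q).obj (ModuleCat.of R R)
  let s : S ≅ (Dual.inD R R)⟦-q⟧ :=
    (((DerivedCategory.singleFunctors (ModuleCat.{u} R)).shiftIso (-q) q 0 (by omega)).app (ModuleCat.of R R)).symm
  have hz : ∀ g : S ⟶ M, g = 0 := fun g => by
    refine (TildeD.map_bijective_sgl R q M).1 ?_
    show (DCoh.tildeD R).map g = (DCoh.tildeD R).map 0
    rw [Functor.map_zero]
    let a := ((DCoh.tildeD R).commShiftIso (-q)).app (Dual.inD R R)
    rw [← cancel_epi ((DCoh.tildeD R).mapIso s).inv, comp_zero, ← cancel_epi a.inv, comp_zero,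
      ← cancel_mono e.hom, zero_comp]
    simp only [Category.assoc]
    exact h _ _
  have : Subsingleton (ModuleCat.of R R ⟶ (DerivedCategory.homologyFunctor (ModuleCat.{u} R) q).obj M) := by
    refine ⟨fun a b => ?_⟩
    let c := ((DerivedCategory.singleFunctorCompHomologyFunctorIso (ModuleCat.{u} R) q).app (ModuleCat.of R R))
    obtain ⟨g, hg⟩ := (TildeD.homology_map_bijective_module R q M).2 (c.hom ≫ a)
    obtain ⟨g', hg'⟩ := (TildeD.homology_map_bijective_module R q M).2 (c.hom ≫ b)
    simp only at hg hg'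
    rw [← cancel_epi c.hom, ← hg, ← hg', hz g, hz g']
  refine (IsZero.iff_id_eq_zero _).2 (ModuleCat.hom_ext (LinearMap.ext fun z => ?_))
  have h2 := congr($(this.elim (ModuleCat.ofHom (LinearMap.toSpanSingleton R _ z)) 0) (1 : R))
  simpa using h2

/-- Vanishing on the chart from vanishing of global cohomology. -/
theorem acyclic_of_inv_orth (T : Charts X ι) (k : ι) (G : CochainComplex X.Modules ℤ)
    (hq : DCoh.IsQCohD (DerivedCategory.Q.obj G))
    (hc : ∀ i (x : X) (hx : x ∈ T.U i) p, Inv (T.c i k x hx) ((stkH x p).obj G))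
    (ho : Orth (DerivedCategory.Q.obj G)) : ∀ x ∈ T.U k, ((stkC x).obj G).Acyclic := by
  let R := Γ(X, T.U k)
  let j := (T.affine k).fromSpec
  let E : DCoh.D X := DerivedCategory.Q.obj G
  haveI : IsAffineHom j := T.isAffineHom k
  haveI : QuasiSeparated j := inferInstance
  haveI := hasRpush_any j
  haveI := hasLpull j
  let adj := (lpullRpushAdj j).ofNatIsoLeft (lpullRestrictNatIso j)
  obtain ⟨hff⟩ := BC.nonempty_fullyFaithful_rpush_open j
  haveI := hff.full
  haveI := hff.faithful
  let V : DCoh.D (Spec R) := (DCoh.restrictD j).obj E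
  have hV : DCoh.IsQCohD V := fun p => by
    haveI := hq p
    exact isQCoh_of_iso' (DCohLib.restrictHDIso j E p).symm
      (inferInstanceAs (Coh.IsQCoh ((Scheme.Modules.restrictFunctor j).obj (DCoh.HD E p))))
  obtain ⟨Z, b, c, hT⟩ := distinguished_cocone_triangle (adj.unit.app E)
  have hR : DCoh.IsQCohD ((DCoh.Rpush j).obj V) := isQCohD_rpush j V hV
  have hZ : DCoh.IsQCohD Z := isQCohD_obj₂ _ (rot_of_distTriang _ hT) hR
    (fun p => isQCoh_of_iso' (((DerivedCategory.homologyFunctor X.Modules 0).shiftIso 1 p (1 + p) rfl).app E).symm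
      (hq (1 + p)))
  have hLη : IsIso ((DCoh.restrictD j).map (adj.unit.app E)) := by
    have h := adj.left_triangle_components E
    haveI : IsIso (adj.counit.app ((DCoh.restrictD j).obj E)) := inferInstance
    haveI : IsIso ((DCoh.restrictD j).map (adj.unit.app E) ≫ adj.counit.app _) := by
      erw [h]
      exact inferInstanceAs (IsIso (𝟙 _))
    exact IsIso.of_isIso_comp_right _ (adj.counit.app ((DCoh.restrictD j).obj E))
  have hZj : IsZero ((DCoh.restrictD j).obj Z) :=
    Triangle.isZero₃_of_isIso₁ _ ((DCoh.restrictD j).map_distinguished _ hT) hLη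
  have hiE : ∀ i (x : X) (hx : x ∈ T.U i) p, Inv (T.c i k x hx) ((stkF x).obj (DCoh.HD E p)) :=
    fun i x hx p => inv_iso (stkHIso G x p).symm (hc i x hx p)
  have hiR : ∀ i (x : X) (hx : x ∈ T.U i) p,
      Inv (T.c i k x hx) ((stkF x).obj (DCoh.HD ((DCoh.Rpush j).obj V) p)) := fun i x hx p => by
    obtain ⟨e⟩ := nonempty_HD_rpush_affine j V hV p
    exact inv_iso ((stkF x).mapIso e.symm) (inv_push T k _ i x hx)
  have hZ0 : IsZero Z := isZero_of_isZero_HD fun p => by
    haveI := hZ p
    refine isZero_of_inv T k _ (fun i x hx => ?_) fun x hx => ?_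
    · have e1 := (DerivedCategory.HomologySequence.exact₂ _ hT p).map (stkF x)
      have e2 := (DerivedCategory.HomologySequence.exact₃ _ hT p (p + 1) rfl).map (stkF x)
      have e3 := (DerivedCategory.HomologySequence.exact₁ _ hT p (p + 1) rfl).map (stkF x)
      exact inv_five _ _ _ _ _ _ _ e1 e2 e3 (hiE i x hx p) (hiR i x hx p) (hiE i x hx (p + 1))
        (hiR i x hx (p + 1))
    · obtain ⟨y, rfl⟩ := (T.affine k).range_fromSpec.symm.le hx
      have h0 : IsZero ((Scheme.Modules.restrictFunctor j).obj (DCoh.HD Z p)) :=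
        ((DerivedCategory.homologyFunctor _ p).map_isZero hZj).of_iso (DCohLib.restrictHDIso j Z p).symm
      exact ((Scheme.Modules.restrictStalkNatIso j y).app (DCoh.HD Z p)).addCommGroupIsoToAddEquiv.toEquiv.subsingleton_congr.1
        (subsingleton_stalk_of_isZero h0 y)
  haveI : IsIso (adj.unit.app E) := (Triangle.isZero₃_iff_isIso₁ _ hT).1 hZ0
  haveI : PreservesFiniteLimits (tilde.functor R) := inferInstance
  obtain ⟨o⟩ := nonempty_restrictD_inD_unit j
  have hV0 : IsZero V := isZero_of_tilde_orth V hV fun n φ => by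
    let a : (DCoh.restrictD j).obj ((DCoh.inD X (Coh.structureModule X))⟦n⟧) ≅
        ((DCoh.tildeD R).obj (Dual.inD R R))⟦n⟧ :=
      ((DCoh.restrictD j).commShiftIso n).app _ ≪≫ (shiftFunctor _ n).mapIso o
    rw [← cancel_epi a.hom, comp_zero]
    apply (adj.homEquiv _ _).injective
    rw [← cancel_mono (inv (adj.unit.app E))]
    exact (ho n _).trans (ho n _).symm
  intro x hx p
  obtain ⟨y, rfl⟩ := (T.affine k).range_fromSpec.symm.le hx
  have h0 : IsZero ((Scheme.Modules.restrictFunctor j).obj (DCoh.HD E p)) :=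
    ((DerivedCategory.homologyFunctor _ p).map_isZero hV0).of_iso (DCohLib.restrictHDIso j E p).symm
  haveI := ((Scheme.Modules.restrictStalkNatIso j y).app (DCoh.HD E p)).addCommGroupIsoToAddEquiv.toEquiv.subsingleton_congr.1
        (subsingleton_stalk_of_isZero h0 y)
  haveI : Subsingleton ((stkF (j y)).obj (DCoh.HD E p)) := this
  exact (HomologicalComplex.exactAt_iff_isZero_homology _ p).2
    ((ModuleCat.isZero_of_subsingleton _).of_iso (stkHIso G (j y) p).symm)

/-- Outside the members of `S` all cohomology vanishes. -/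
def Off (T : Charts X ι) (S : Finset ι) (G : CochainComplex X.Modules ℤ) : Prop :=
  ∀ x, (∀ i ∈ S, x ∉ T.U i) → ((stkC x).obj G).Acyclic

theorem off_cone (T : Charts X ι) {A : MFam X ι} {m : ℤ} (h : Good T A m) [DecidableEq ι] {k : ι} {S : Finset ι}
    {d : ℤ} (hd : m < d) (h₁ : Off T (insert k S) (A.K (d - 1))) (h₂ : Off T (insert k S) (A.K d)) :
    Off T S ((A.cone k).K d) := fun x hx => by
  refine acyclic_stk_cone A k x d ?_
  by_cases hk : x ∈ T.U k
  · exact Or.inl fun p => h.bij k d hd x hk p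
  · have hx' : ∀ i ∈ insert k S, x ∉ T.U i := fun i hi => by
      rcases Finset.mem_insert.1 hi with rfl | hi
      exacts [hk, hx i hi]
    exact Or.inr ⟨h₁ x hx', h₂ x hx'⟩

theorem isQCohD_cone (A : MFam X ι) (a : ι) (d : ℤ) (h₁ : DCoh.IsQCohD (DerivedCategory.Q.obj (A.K (d - 1))))
    (h₂ : DCoh.IsQCohD (DerivedCategory.Q.obj (A.K d))) :
    DCoh.IsQCohD (DerivedCategory.Q.obj ((A.cone a).K d)) :=
  isQCohD_obj₂ (tri A a d).rotate (rot_of_distTriang _ (tri_mem A a d)) h₂
    fun p => isQCoh_of_iso' (((DerivedCategory.homologyFunctor X.Modules 0).shiftIso 1 p (1 + p) rfl).app _).symm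
      (h₁ (1 + p))

/-- A window of consecutive degrees without maps from the structure sheaf suffices. -/
theorem orth_of_window [DecidableEq ι] (T : Charts X ι) (S : Finset ι) :
    ∀ (A : MFam X ι), (∀ m, Good T A m) → (∀ d, Off T S (A.K d)) →
      ∀ a : ℤ, (∀ e : ℕ, e < S.card → Orth (DerivedCategory.Q.obj (A.K (a + e)))) →
        ∀ d, Orth (DerivedCategory.Q.obj (A.K d)) := by
  induction S using Finset.induction with
  | empty => exact fun A _ hoff _ _ d => orth_of_isZero (isZero_Q_of_acyclic _ fun x => hoff d x (by simp))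
  | @insert k S hk ih =>
    intro A hA hoff a hw
    rw [Finset.card_insert_of_notMem hk] at hw
    have hC := ih (A.cone k) (fun m => by have := (hA (m - 1)).cone k; rwa [sub_add_cancel] at this)
      (fun d => off_cone T (hA (d - 1)) (by omega) (hoff _) (hoff _)) (a + 1) fun e he =>
        orth₃ (tri_mem A k (a + 1 + e))
          (by
            show Orth (DerivedCategory.Q.obj (A.K (a + 1 + e - 1)))
            rw [show a + 1 + (e : ℤ) - 1 = a + e by ring]
            exact hw e (by omega))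
          (by
            show Orth (DerivedCategory.Q.obj (A.K (a + 1 + e)))
            rw [show a + 1 + (e : ℤ) = a + ((e + 1 : ℕ) : ℤ) by push_cast; ring]
            exact hw (e + 1) (by omega))
    have h0 : Orth (DerivedCategory.Q.obj (A.K a)) := by simpa using hw 0 (by omega)
    intro d
    induction d using Int.inductionOn' (b := a) with
    | zero => exact h0
    | succ j _ hj =>
      refine orth₂ (tri_mem A k (j + 1)) ?_ (hC (j + 1))
      show Orth (DerivedCategory.Q.obj (A.K (j + 1 - 1)))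
      rwa [add_sub_cancel_right]
    | pred j _ hj => exact orth₁ (tri_mem A k j) hj (hC j)

/-- Vanishing of all twists above a bound implies that the family is zero above it. -/
theorem acyclic_of_orth [DecidableEq ι] (T : Charts X ι) (S : Finset ι) :
    ∀ (A : MFam X ι) (m : ℤ), Good T A m → (∀ d, m ≤ d → DCoh.IsQCohD (DerivedCategory.Q.obj (A.K d))) →
      (∀ d, m ≤ d → Off T S (A.K d)) → (∀ d, m ≤ d → Orth (DerivedCategory.Q.obj (A.K d))) →
        ∀ d, m ≤ d → ∀ x, ((stkC x).obj (A.K d)).Acyclic := by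
  induction S using Finset.induction with
  | empty => exact fun A m _ _ hoff _ d hd x => hoff d hd x (by simp)
  | @insert k S hk ih =>
    intro A m hA hq hoff ho
    have hC := ih (A.cone k) (m + 1) (hA.cone k)
      (fun d hd => isQCohD_cone A k d (hq _ (by omega)) (hq _ (by omega)))
      (fun d hd => off_cone T hA (by omega) (hoff _ (by omega)) (hoff _ (by omega)))
      (fun d hd => orth₃ (tri_mem A k d) (ho _ (by omega)) (ho _ (by omega)))
    have hiso : ∀ d, m < d → ∀ x p, IsIso ((stkH x p).map (A.μ k d)) := fun d hd x p => by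
      have hz : IsZero (tri A k d).obj₃ := isZero_Q_of_acyclic _ (hC d (by omega))
      haveI : IsIso (DerivedCategory.Q.map (A.μ k d)) :=
        (Triangle.isZero₃_iff_isIso₁ _ (tri_mem A k d)).1 hz
      haveI : QuasiIso (A.μ k d) := (DerivedCategory.isIso_Q_map_iff_quasiIso _ _).1 inferInstance
      haveI : QuasiIso ((stkC x).map (A.μ k d)) := inferInstance
      exact inferInstanceAs (IsIso (HomologicalComplex.homologyMap ((stkC x).map (A.μ k d)) p))
    have hinv : ∀ d, m ≤ d → ∀ i (x : X) (hx : x ∈ T.U i) p,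
        Inv (T.c i k x hx) ((stkH x p).obj (A.K d)) := fun d hd i x hx p => by
      rcases hd.eq_or_lt with rfl | hd
      · have := (inv_of_ratio (A.μ k (m + 1)) (A.μ i (m + 1)) x _ (hA.bij i (m + 1) (by omega) x hx)
          (hA.ratio i k (m + 1) (by omega) x hx) p (hiso (m + 1) (by omega) x p)).2
        rwa [add_sub_cancel_right] at this
      · exact (inv_of_ratio (A.μ k d) (A.μ i d) x _ (hA.bij i d hd x hx)
          (hA.ratio i k d hd x hx) p (hiso d hd x p)).1
    refine ih A m hA hq (fun d hd x hx => ?_) ho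
    by_cases hxk : x ∈ T.U k
    · exact acyclic_of_inv_orth T k _ (hq d hd) (hinv d hd) (ho d hd) x hxk
    · refine hoff d hd x fun i hi => ?_
      rcases Finset.mem_insert.1 hi with rfl | hi
      exacts [hxk, hx i hi]

variable [Fintype ι] [DecidableEq ι]

theorem off_univ (T : Charts X ι) (G : CochainComplex X.Modules ℤ) : Off T Finset.univ G := fun x hx => by
  obtain ⟨i, hi⟩ := T.cover x
  exact absurd hi (hx i (Finset.mem_univ i))

/-- Zero above a bound. -/
theorem isZero_of_orth (T : Charts X ι) (A : MFam X ι) (m : ℤ) (hA : Good T A m)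
    (hq : ∀ d, m ≤ d → DCoh.IsQCohD (DerivedCategory.Q.obj (A.K d)))
    (ho : ∀ d, m ≤ d → Orth (DerivedCategory.Q.obj (A.K d))) {d : ℤ} (hd : m ≤ d) :
    IsZero (DerivedCategory.Q.obj (A.K d)) :=
  isZero_Q_of_acyclic _ (acyclic_of_orth T Finset.univ A m hA hq (fun _ _ => off_univ T _) ho d hd)

/-- The window of as many degrees as charts suffices. -/
theorem isZero_of_window (T : Charts X ι) (A : MFam X ι) (hA : ∀ m, Good T A m)
    (hq : ∀ d, DCoh.IsQCohD (DerivedCategory.Q.obj (A.K d))) (a : ℤ)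
    (hw : ∀ e : ℕ, e < Fintype.card ι → Orth (DerivedCategory.Q.obj (A.K (a + e)))) (d : ℤ) :
    IsZero (DerivedCategory.Q.obj (A.K d)) :=
  isZero_of_orth T A d (hA d) (fun e _ => hq e)
    (fun e _ => orth_of_window T Finset.univ A hA (fun _ => off_univ T _) a hw e) le_rfl

end Groth.Agent.DCohMore.TwistFam
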