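import Groth.Agent.DCohMore.PerfVanish
import Groth.Agent.DCohLib.DualPerf

/-!
# Uniform vanishing of high extensions out of finite locally free modules
-/

set_option autoImplicit false
set_option linter.style.haveILetI false
set_option linter.unusedSectionVars false
set_option maxHeartbeats 1000000

universe u

open CategoryTheory CategoryTheory.Limits AlgebraicGeometry TopologicalSpace
open CategoryTheory.Pretriangulated

attribute [local instance] HasDerivedCategory.standard

noncomputable section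

namespace Groth.Agent.DCohMore

open Groth.Agent.DCohLib

variable {X : Scheme.{u}}

section Base

variable (V : X.Opens) (J : CochainComplex X.Modules ℤ) [J.IsKInjective]

/-- Duals of complexes in degree zero have no cohomology in positive degrees. -/
def DegGood (E : CochainComplex (V : Scheme.{u}).Modules ℤ) : Prop :=
  (∀ i, i ≠ 0 → IsZero (E.X i)) →
    (DerivedCategory.Q.obj ((resCx V.ι).obj ((hCx ((extCx V).obj E)).obj J))).IsLE 0

theorem isLE_of_isZero {Y : Scheme.{u}} {K : DCoh.D Y} (h : IsZero K) (n : ℤ) : K.IsLE n :=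
  (DerivedCategory.isLE_iff _ _).2 fun i _ => (DerivedCategory.homologyFunctor Y.Modules i).map_isZero h

theorem degGood_freeClosed (η : unitCx X ⟶ J) (hη : QuasiIso η) : FreeClosed (DegGood V J) where
  iso {E E'} e h hE' := by
    let β := ((extCx V).mapIso e.symm)
    haveI := isIso_hMap β J
    haveI := h fun i hi => (hE' i hi).of_iso ((HomologicalComplex.eval _ _ i).mapIso e)
    exact DerivedCategory.TStructure.t.isLE_of_iso
      (DerivedCategory.Q.mapIso ((resCx V.ι).mapIso (asIso ((hMap β.hom).app J)))) 0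
  zero E hE _ := isLE_of_isZero
    (DerivedCategory.Q.map_isZero ((resCx V.ι).map_isZero (isZero_hCx ((extCx V).map_isZero (isZero_of_X hE)) J))) 0
  unit a hz := by
    obtain ⟨e⟩ := nonempty_res_hCx_extShiftUnit (V := V) η hη a
    rcases eq_or_ne a 0 with rfl | ha
    · haveI : (DerivedCategory.Q.obj (shiftUnitCx (V : Scheme.{u}) (-0))).IsLE 0 := by
        refine (DerivedCategory.isLE_iff _ _).2 fun i hi => ?_
        exact (ShortComplex.isZero_homology_of_isZero_X₂ ((shiftUnitCx (V : Scheme.{u}) (-0)).sc i)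
          (HomologicalComplex.isZero_single_obj_X (ComplexShape.up ℤ) (-0) _ i (by omega))).of_iso
            ((DerivedCategory.homologyFunctorFactors _ i).app _)
      exact DerivedCategory.TStructure.t.isLE_of_iso e.symm 0
    · refine isLE_of_isZero (DerivedCategory.Q.map_isZero ((resCx V.ι).map_isZero
        (isZero_hCx ((extCx V).map_isZero (isZero_of_X fun i => ?_)) J))) 0
      rcases eq_or_ne i a with rfl | hi
      · exact hz i ha
      · exact HomologicalComplex.isZero_single_obj_X _ _ _ _ hi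
  split S σ h1 h3 hz := by
    let S' := S.map (extCx V)
    have σ' : ∀ q, (S'.map (HomologicalComplex.eval X.Modules (ComplexShape.up ℤ) q)).Splitting :=
      fun q => (σ q).map (CxOX.extZero V.ι)
    have hz1 : ∀ i, i ≠ 0 → IsZero (S.X₁.X i) := fun i hi => by
      haveI : IsSplitMono (S.f.f i) := IsSplitMono.mk' ⟨(σ i).r, (σ i).f_r⟩
      exact IsZero.of_mono (S.f.f i) (hz i hi)
    have hz3 : ∀ i, i ≠ 0 → IsZero (S.X₃.X i) := fun i hi => by
      haveI : IsSplitEpi (S.g.f i) := IsSplitEpi.mk' ⟨(σ i).s, (σ i).s_g⟩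
      exact IsZero.of_epi (S.g.f i) (hz i hi)
    have hT := DerivedCategory.triangleOfSES_distinguished (shortExact_res (V := V) (shortExact_hSeq σ' J))
    refine (DerivedCategory.isLE_iff _ _).2 fun i hi => ?_
    exact (DerivedCategory.HomologySequence.exact₂ _ hT i).isZero_of_both_zeros
      (((DerivedCategory.isLE_iff _ 0).1 (h3 hz3) i hi).eq_of_src _ _)
      (((DerivedCategory.isLE_iff _ 0).1 (h1 hz1) i hi).eq_of_tgt _ _)

end Base

/-- The dual of a finite locally free module has no cohomology in positive degrees. -/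
theorem isLE_dual (F : X.Modules) (hF : FlatMod.IsFinLocFree F)
    (hK : DCoh.IsKFlat ((HomologicalComplex.single X.Modules (ComplexShape.up ℤ) 0).obj F))
    [DCoh.HasLTensorCx ((HomologicalComplex.single X.Modules (ComplexShape.up ℤ) 0).obj F)]
    [DCoh.HasRSheafHom ((HomologicalComplex.single X.Modules (ComplexShape.up ℤ) 0).obj F)] :
    ((DCoh.RSheafHom ((HomologicalComplex.single X.Modules (ComplexShape.up ℤ) 0).obj F)).obj
      ((DerivedCategory.singleFunctor X.Modules 0).obj (Coh.structureModule X))).IsLE 0 := by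
  let sg := HomologicalComplex.single X.Modules (ComplexShape.up ℤ) 0
  let K := sg.obj F
  obtain ⟨J, η, hJ, hη⟩ := hres_modules X (unitCx X)
  haveI := hJ
  haveI : IsIso (DerivedCategory.Q.map η) := (DerivedCategory.isIso_Q_map_iff_quasiIso (C := X.Modules) _).2 hη
  obtain ⟨e⟩ := nonempty_rSheafHom_hCx K hK J
  refine (DerivedCategory.isLE_iff _ _).2 fun i hi => IsZero.of_iso ?_
    ((DerivedCategory.homologyFunctor X.Modules i).mapIso
      ((DCoh.RSheafHom K).mapIso (unitDIso ≪≫ asIso (DerivedCategory.Q.map η)) ≪≫ e.symm))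
  refine isZero_of_stalks fun x => ?_
  have hsp : DCoh.IsStrictlyPerfect K := ⟨⟨0, 0, fun j hj => HomologicalComplex.isZero_single_obj_X _ _ _ _ (by omega)⟩,
    fun j => by
      rcases eq_or_ne j 0 with rfl | hj
      · exact isFinLocFree_iso (HomologicalComplex.singleObjXSelf (ComplexShape.up ℤ) 0 F).symm hF
      · exact isFinLocFree_of_isZero (HomologicalComplex.isZero_single_obj_X _ _ _ _ hj)⟩
  obtain ⟨V, hx, hfree⟩ := exists_open_free hsp x
  let E := (resCx V.ι).obj K
  have hEz : ∀ j, j ≠ 0 → IsZero (E.X j) := fun j hj =>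
    isZero_resCx V.ι (HomologicalComplex.isZero_single_obj_X _ _ _ _ hj)
  have hEle := (degGood_freeClosed V J η hη).of_free (E := E) (a := 0) (b := 0)
    (fun j hj => hEz j (by omega)) hfree hEz
  let φ := extAdjunct V (𝟙 E : E ⟶ (resCx V.ι).obj K)
  have hq : QuasiIso ((resCx V.ι).map φ) := by
    have e : (resCx V.ι).map φ = (extUnit V E).inv ≫ 𝟙 E := HomologicalComplex.hom_ext _ _ fun n => by
      haveI := isIso_extUnit V (E.X n)
      show (Scheme.Modules.restrictFunctor V.ι).map (((CxOX.extZeroAdj V.ι).homEquiv _ _).symm ((𝟙 E : E ⟶ (resCx V.ι).obj K).f n)) =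
        (asIso ((CxOX.extZeroAdj V.ι).unit.app (E.X n))).inv ≫ (𝟙 E : E ⟶ (resCx V.ι).obj K).f n
      refine (IsIso.eq_inv_comp _).2 ?_
      exact ((CxOX.extZeroAdj V.ι).homEquiv_unit _ _ _).symm.trans (Equiv.apply_symm_apply _ _)
    rw [e]
    infer_instance
  haveI := quasiIso_res_hMap φ (isKFlat_extCx V (isKFlat_of_strictlyPerfect (isStrictlyPerfect_restrict V.ι hsp))) hK hq J
  let y : (V : Scheme.{u}) := ⟨x, hx⟩
  have h0 : IsZero (((resCx V.ι).obj ((hCx K).obj J)).homology i) :=
    (((DerivedCategory.isLE_iff _ 0).1 hEle i hi).of_iso ((DerivedCategory.homologyFunctorFactors _ i).app _).symm).of_iso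
      (isoOfQuasiIsoAt ((resCx V.ι).map ((hMap φ).app J)) i)
  have h1 : IsZero ((Scheme.Modules.restrictFunctor V.ι).obj
      (DCoh.HD (DerivedCategory.Q.obj ((hCx K).obj J)) i)) :=
    h0.of_iso ((Scheme.Modules.restrictFunctor V.ι).mapIso ((DerivedCategory.homologyFunctorFactors _ i).app _) ≪≫
      ((((hCx K).obj J).sc i).mapHomologyIso (Scheme.Modules.restrictFunctor V.ι)).symm)
  exact ((Scheme.Modules.restrictStalkNatIso V.ι y).app _).addCommGroupIsoToAddEquiv.toEquiv.subsingleton_congr.1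
    (subsingleton_stalk_of_isZero h1 y)

/-- A uniform bound for the vanishing of maps out of finite locally free modules. -/
theorem exists_uniform_vanishing (X : Scheme.{u}) [CompactSpace X] [QuasiSeparatedSpace X] :
    ∃ d : ℤ, ∀ F : X.Modules, FlatMod.IsFinLocFree F → ∀ Z : DCoh.D X, DCoh.IsQCohD Z → Z.IsLE d →
      ∀ f : DCoh.inD X F ⟶ Z, f = 0 := by
  obtain ⟨d, hd⟩ := exists_unit_vanishing X
  refine ⟨d, fun F hF Z hZq hZ f => ?_⟩
  let K' := (HomologicalComplex.single X.Modules (ComplexShape.up ℤ) 0).obj F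
  have hsp : DCoh.IsStrictlyPerfect K' := ⟨⟨0, 0, fun j hj => HomologicalComplex.isZero_single_obj_X _ _ _ _ (by omega)⟩,
    fun j => by
      rcases eq_or_ne j 0 with rfl | hj
      · exact isFinLocFree_iso (HomologicalComplex.singleObjXSelf (ComplexShape.up ℤ) 0 F).symm hF
      · exact isFinLocFree_of_isZero (HomologicalComplex.isZero_single_obj_X _ _ _ _ hj)⟩
  have hK' : DCoh.IsKFlat K' := isKFlat_of_strictlyPerfect hsp
  have hKp : DCoh.IsPerfect (DerivedCategory.Q.obj K') := isPerfect_of_perfOn ⟨_, hsp, ⟨Iso.refl _⟩⟩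
  let eK : DerivedCategory.Q.obj K' ≅ DCoh.inD X F := ((DerivedCategory.singleFunctorIsoCompQ X.Modules 0).app F).symm
  haveI := hasRSheafHom_of_isKFlat K' hK'
  let O := (DerivedCategory.singleFunctor X.Modules 0).obj (Coh.structureModule X)
  let D₀ := (resX X).obj (DerivedCategory.Q.objPreimage ((DCoh.RSheafHom K').obj O))
  let eD : DerivedCategory.Q.obj D₀ ≅ (DCoh.RSheafHom K').obj O := resXIso _
  have hD₀ : DCoh.IsKFlat D₀ := isKFlat_resX _
  have hDp := isPerfect_iso eD.symm (isPerfect_rSheafHom_unit K' hK' hKp)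
  obtain ⟨t⟩ := nonempty_lTensor_dual K' hK' hKp D₀ hD₀ eD Z
  have hle : ((DCoh.LTensorCx D₀).obj Z).IsLE d := by
    haveI h0 : D₀.IsLE 0 := by
      rw [← DerivedCategory.isLE_Q_obj_iff]
      haveI := isLE_dual F hF hK'
      exact DerivedCategory.TStructure.t.isLE_of_iso eD.symm 0
    obtain ⟨N, c, hc, hN, hNb⟩ : ∃ (N : CochainComplex X.Modules ℤ) (c : N ⟶ D₀.truncLE 0), QuasiIso c ∧
        (∀ n, ModSite.IsFlat (O := X.sheaf) (N.X n)) ∧ ∀ n, 0 < n → IsZero (N.X n) :=
      exists_bdd_flat_resolution X.sheaf (D₀.truncLE 0) 0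
        (fun n hn => CochainComplex.isZero_of_isStrictlyLE (D₀.truncLE 0) 0 n hn)
    haveI := hc
    have hNK : DCoh.IsKFlat N := isKFlat_of_flat_bddAbove N 0 hNb fun n => (isFlat_iff _).2 (hN n)
    obtain ⟨s⟩ := nonempty_lTensor_of_qis (c ≫ D₀.ιTruncLE 0) inferInstance
    obtain ⟨P, hP, ⟨eP⟩⟩ := @DerivedCategory.exists_iso_Q_obj_of_isLE _ _ _ _ Z d hZ
    let a : (DCoh.LTensorCx D₀).obj Z ≅ DerivedCategory.Q.obj ((DCoh.tensorCx.obj P).obj N) :=
      (s.app Z).symm ≪≫ (DCoh.LTensorCx N).mapIso eP ≪≫ (lTensorQIso N hNK).app P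
    refine (DerivedCategory.isLE_iff _ _).2 fun i hi => ?_
    exact ((HomologicalComplex.exactAt_iff_isZero_homology _ _).1 (HomologicalComplex.ExactAt.of_isZero
      (isZero_tensor_X d 0 (fun k hk => P.isZero_of_isStrictlyLE d k hk) hNb i (by omega)))).of_iso
      ((DerivedCategory.homologyFunctor _ i).mapIso a ≪≫ (DerivedCategory.homologyFunctorFactors _ i).app _)
  have hqc : DCoh.IsQCohD ((DCoh.LTensorCx D₀).obj Z) :=
    TildeD.isQCohD_lTensorCx D₀ (isQCohD_of_isPerfect hDp) Z hZq
  let u : (DCoh.LTensorCx K').obj (DerivedCategory.Q.obj (unitCx X)) ≅ DCoh.inD X F :=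
    lTensorIso K' (unitCx X) isKFlat_unitCx ≪≫
      DerivedCategory.Q.mapIso (symS (unitCx X) K' ≪≫ tensorUnitCxIso.app K') ≪≫ eK
  let adj := DCoh.RSheafHomAdj K'
  have h0 : adj.homEquiv _ _ (u.hom ≫ f) = 0 := by
    rw [← cancel_mono t.inv, zero_comp]
    exact hd _ hqc hle _
  haveI : (DCoh.RSheafHom K').IsRightAdjoint := adj.isRightAdjoint
  rw [← cancel_epi u.hom, comp_zero]
  apply (adj.homEquiv _ _).injective
  rw [h0, Adjunction.homEquiv_unit, Functor.map_zero, comp_zero]

end Groth.Agent.DCohMore
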